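import Cfsg.Agent.Lib.Chev.Data.AuxB2
import Cfsg.Prelude.Def_ChevB2
/-! The table checks for type B2, evaluated by the kernel. -/

set_option autoImplicit false
set_option maxHeartbeats 0

namespace CfsgLib.Chev

open Cfsg.Lie

theorem syncB2 : checkSync chevB2 auxB2 = true := by decide +kernel

theorem rootsB2 : checkRoots chevB2 auxB2 = true := by decide +kernel

theorem chainsB2 : checkChains chevB2 auxB2 = true := by decide +kernel

theorem upB2 : checkUp chevB2 auxB2 = true := by decide +kernel

theorem addB2 : checkAdd chevB2 auxB2 = true := by decide +kernel

theorem commB2 : checkComm chevB2 auxB2 = true := by decide +kernel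

theorem refl0_B2 : checkRefl chevB2 auxB2 0 = true := by decide +kernel

theorem equiv0_B2 : checkEquiv chevB2 auxB2 0 = true := by decide +kernel

theorem nmat0_B2 : checkN chevB2 auxB2 0 = true := by decide +kernel

theorem refl1_B2 : checkRefl chevB2 auxB2 1 = true := by decide +kernel

theorem equiv1_B2 : checkEquiv chevB2 auxB2 1 = true := by decide +kernel

theorem nmat1_B2 : checkN chevB2 auxB2 1 = true := by decide +kernel

theorem allOKB2 : AllOK chevB2 auxB2 where
  sync := syncB2
  roots := rootsB2
  chains := chainsB2
  up := upB2
  add := addB2
  comm := commB2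
  refl := fun i hi => by
    change i < 2 at hi
    interval_cases i
    exact refl0_B2
    exact refl1_B2
  equiv := fun i hi => by
    change i < 2 at hi
    interval_cases i
    exact equiv0_B2
    exact equiv1_B2
  nmat := fun i hi => by
    change i < 2 at hi
    interval_cases i
    exact nmat0_B2
    exact nmat1_B2

end CfsgLib.Chev
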