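import Cfsg.Agent.Lib.Chev.Data.AuxD4
import Cfsg.Prelude.Def_ChevD4
/-! The table checks for type D4, evaluated by the kernel. -/

set_option autoImplicit false
set_option maxHeartbeats 0

namespace CfsgLib.Chev

open Cfsg.Lie

theorem syncD4 : checkSync chevD4 auxD4 = true := by decide +kernel

theorem rootsD4 : checkRoots chevD4 auxD4 = true := by decide +kernel

theorem chainsD4 : checkChains chevD4 auxD4 = true := by decide +kernel

theorem upD4 : checkUp chevD4 auxD4 = true := by decide +kernel

theorem addD4 : checkAdd chevD4 auxD4 = true := by decide +kernel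

theorem commD4 : checkComm chevD4 auxD4 = true := by decide +kernel

theorem refl0_D4 : checkRefl chevD4 auxD4 0 = true := by decide +kernel

theorem equiv0_D4 : checkEquiv chevD4 auxD4 0 = true := by decide +kernel

theorem nmat0_D4 : checkN chevD4 auxD4 0 = true := by decide +kernel

theorem refl1_D4 : checkRefl chevD4 auxD4 1 = true := by decide +kernel

theorem equiv1_D4 : checkEquiv chevD4 auxD4 1 = true := by decide +kernel

theorem nmat1_D4 : checkN chevD4 auxD4 1 = true := by decide +kernel

theorem refl2_D4 : checkRefl chevD4 auxD4 2 = true := by decide +kernel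

theorem equiv2_D4 : checkEquiv chevD4 auxD4 2 = true := by decide +kernel

theorem nmat2_D4 : checkN chevD4 auxD4 2 = true := by decide +kernel

theorem refl3_D4 : checkRefl chevD4 auxD4 3 = true := by decide +kernel

theorem equiv3_D4 : checkEquiv chevD4 auxD4 3 = true := by decide +kernel

theorem nmat3_D4 : checkN chevD4 auxD4 3 = true := by decide +kernel

theorem allOKD4 : AllOK chevD4 auxD4 where
  sync := syncD4
  roots := rootsD4
  chains := chainsD4
  up := upD4
  add := addD4
  comm := commD4
  refl := fun i hi => by
    change i < 4 at hi
    interval_cases i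
    exact refl0_D4
    exact refl1_D4
    exact refl2_D4
    exact refl3_D4
  equiv := fun i hi => by
    change i < 4 at hi
    interval_cases i
    exact equiv0_D4
    exact equiv1_D4
    exact equiv2_D4
    exact equiv3_D4
  nmat := fun i hi => by
    change i < 4 at hi
    interval_cases i
    exact nmat0_D4
    exact nmat1_D4
    exact nmat2_D4
    exact nmat3_D4

end CfsgLib.Chev
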