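import Cfsg.Agent.Lib.Chev.Data.AuxE6
import Cfsg.Prelude.Def_ChevE6
/-! The table checks for type E6, evaluated by the kernel. -/

set_option autoImplicit false
set_option maxHeartbeats 0

namespace CfsgLib.Chev

open Cfsg.Lie

theorem syncE6 : checkSync chevE6 auxE6 = true := by decide +kernel

theorem rootsE6 : checkRoots chevE6 auxE6 = true := by decide +kernel

theorem chainsE6 : checkChains chevE6 auxE6 = true := by decide +kernel

theorem upE6 : checkUp chevE6 auxE6 = true := by decide +kernel

theorem addE6 : checkAdd chevE6 auxE6 = true := by decide +kernel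

theorem commE6 : checkComm chevE6 auxE6 = true := by decide +kernel

theorem refl0_E6 : checkRefl chevE6 auxE6 0 = true := by decide +kernel

theorem equiv0_E6 : checkEquiv chevE6 auxE6 0 = true := by decide +kernel

theorem nmat0_E6 : checkN chevE6 auxE6 0 = true := by decide +kernel

theorem refl1_E6 : checkRefl chevE6 auxE6 1 = true := by decide +kernel

theorem equiv1_E6 : checkEquiv chevE6 auxE6 1 = true := by decide +kernel

theorem nmat1_E6 : checkN chevE6 auxE6 1 = true := by decide +kernel

theorem refl2_E6 : checkRefl chevE6 auxE6 2 = true := by decide +kernel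

theorem equiv2_E6 : checkEquiv chevE6 auxE6 2 = true := by decide +kernel

theorem nmat2_E6 : checkN chevE6 auxE6 2 = true := by decide +kernel

theorem refl3_E6 : checkRefl chevE6 auxE6 3 = true := by decide +kernel

theorem equiv3_E6 : checkEquiv chevE6 auxE6 3 = true := by decide +kernel

theorem nmat3_E6 : checkN chevE6 auxE6 3 = true := by decide +kernel

theorem refl4_E6 : checkRefl chevE6 auxE6 4 = true := by decide +kernel

theorem equiv4_E6 : checkEquiv chevE6 auxE6 4 = true := by decide +kernel

theorem nmat4_E6 : checkN chevE6 auxE6 4 = true := by decide +kernel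

theorem refl5_E6 : checkRefl chevE6 auxE6 5 = true := by decide +kernel

theorem equiv5_E6 : checkEquiv chevE6 auxE6 5 = true := by decide +kernel

theorem nmat5_E6 : checkN chevE6 auxE6 5 = true := by decide +kernel

theorem allOKE6 : AllOK chevE6 auxE6 where
  sync := syncE6
  roots := rootsE6
  chains := chainsE6
  up := upE6
  add := addE6
  comm := commE6
  refl := fun i hi => by
    change i < 6 at hi
    interval_cases i
    exact refl0_E6
    exact refl1_E6
    exact refl2_E6
    exact refl3_E6
    exact refl4_E6
    exact refl5_E6
  equiv := fun i hi => by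
    change i < 6 at hi
    interval_cases i
    exact equiv0_E6
    exact equiv1_E6
    exact equiv2_E6
    exact equiv3_E6
    exact equiv4_E6
    exact equiv5_E6
  nmat := fun i hi => by
    change i < 6 at hi
    interval_cases i
    exact nmat0_E6
    exact nmat1_E6
    exact nmat2_E6
    exact nmat3_E6
    exact nmat4_E6
    exact nmat5_E6

end CfsgLib.Chev
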