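import Cfsg.Agent.Lib.Chev.Data.AuxE7
import Cfsg.Prelude.Def_ChevE7
/-! The table checks for type E7, evaluated by the kernel. -/

set_option autoImplicit false
set_option maxHeartbeats 0

namespace CfsgLib.Chev

open Cfsg.Lie

theorem refl0_E7 : checkRefl chevE7 auxE7 0 = true := by decide +kernel

theorem equiv0_E7 : checkEquiv chevE7 auxE7 0 = true := by decide +kernel

theorem nmat0_E7 : checkN chevE7 auxE7 0 = true := by decide +kernel

theorem refl1_E7 : checkRefl chevE7 auxE7 1 = true := by decide +kernel

theorem equiv1_E7 : checkEquiv chevE7 auxE7 1 = true := by decide +kernel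

theorem nmat1_E7 : checkN chevE7 auxE7 1 = true := by decide +kernel

theorem refl2_E7 : checkRefl chevE7 auxE7 2 = true := by decide +kernel

theorem equiv2_E7 : checkEquiv chevE7 auxE7 2 = true := by decide +kernel

theorem nmat2_E7 : checkN chevE7 auxE7 2 = true := by decide +kernel

theorem refl3_E7 : checkRefl chevE7 auxE7 3 = true := by decide +kernel

theorem equiv3_E7 : checkEquiv chevE7 auxE7 3 = true := by decide +kernel

theorem nmat3_E7 : checkN chevE7 auxE7 3 = true := by decide +kernel

end CfsgLib.Chev
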