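import Cfsg.Agent.Lib.Chev.Data.AuxE7
import Cfsg.Prelude.Def_ChevE7
/-! The table checks for type E7, evaluated by the kernel. -/

set_option autoImplicit false
set_option maxHeartbeats 0

namespace CfsgLib.Chev

open Cfsg.Lie

theorem refl4_E7 : checkRefl chevE7 auxE7 4 = true := by decide +kernel

theorem equiv4_E7 : checkEquiv chevE7 auxE7 4 = true := by decide +kernel

theorem nmat4_E7 : checkN chevE7 auxE7 4 = true := by decide +kernel

theorem refl5_E7 : checkRefl chevE7 auxE7 5 = true := by decide +kernel

theorem equiv5_E7 : checkEquiv chevE7 auxE7 5 = true := by decide +kernel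

theorem nmat5_E7 : checkN chevE7 auxE7 5 = true := by decide +kernel

theorem refl6_E7 : checkRefl chevE7 auxE7 6 = true := by decide +kernel

theorem equiv6_E7 : checkEquiv chevE7 auxE7 6 = true := by decide +kernel

theorem nmat6_E7 : checkN chevE7 auxE7 6 = true := by decide +kernel

end CfsgLib.Chev
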