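import Cfsg.Agent.Lib.Chev.Data.CheckE7a
import Cfsg.Agent.Lib.Chev.Data.CheckE7b
import Cfsg.Agent.Lib.Chev.Data.CheckE7c
/-! The table checks for type E7, combined. -/

set_option autoImplicit false

namespace CfsgLib.Chev

open Cfsg.Lie

theorem allOKE7 : AllOK chevE7 auxE7 where
  sync := syncE7
  roots := rootsE7
  chains := chainsE7
  up := upE7
  add := addE7
  comm := commE7
  refl := fun i hi => by
    change i < 7 at hi
    interval_cases i
    exact refl0_E7
    exact refl1_E7
    exact refl2_E7
    exact refl3_E7
    exact refl4_E7
    exact refl5_E7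
    exact refl6_E7
  equiv := fun i hi => by
    change i < 7 at hi
    interval_cases i
    exact equiv0_E7
    exact equiv1_E7
    exact equiv2_E7
    exact equiv3_E7
    exact equiv4_E7
    exact equiv5_E7
    exact equiv6_E7
  nmat := fun i hi => by
    change i < 7 at hi
    interval_cases i
    exact nmat0_E7
    exact nmat1_E7
    exact nmat2_E7
    exact nmat3_E7
    exact nmat4_E7
    exact nmat5_E7
    exact nmat6_E7

end CfsgLib.Chev
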