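import Cfsg.Agent.Lib.Chev.Data.AuxE8
import Cfsg.Prelude.Def_ChevE8
/-! The table checks for type E8, evaluated by the kernel. -/

set_option autoImplicit false
set_option maxHeartbeats 0

namespace CfsgLib.Chev

open Cfsg.Lie

theorem refl6_E8 : checkRefl chevE8 auxE8 6 = true := by decide +kernel

theorem equiv6_E8 : checkEquiv chevE8 auxE8 6 = true := by decide +kernel

theorem nmat6_E8 : checkN chevE8 auxE8 6 = true := by decide +kernel

theorem refl7_E8 : checkRefl chevE8 auxE8 7 = true := by decide +kernel

theorem equiv7_E8 : checkEquiv chevE8 auxE8 7 = true := by decide +kernel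

theorem nmat7_E8 : checkN chevE8 auxE8 7 = true := by decide +kernel

end CfsgLib.Chev
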