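import Cfsg.Agent.Lib.Chev.Data.CheckE8a
import Cfsg.Agent.Lib.Chev.Data.CheckE8b
import Cfsg.Agent.Lib.Chev.Data.CheckE8c
import Cfsg.Agent.Lib.Chev.Data.CheckE8d
/-! The table checks for type E8, combined. -/

set_option autoImplicit false

namespace CfsgLib.Chev

open Cfsg.Lie

theorem allOKE8 : AllOK chevE8 auxE8 where
  sync := syncE8
  roots := rootsE8
  chains := chainsE8
  up := upE8
  add := addE8
  comm := commE8
  refl := fun i hi => by
    change i < 8 at hi
    interval_cases i
    exact refl0_E8
    exact refl1_E8
    exact refl2_E8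
    exact refl3_E8
    exact refl4_E8
    exact refl5_E8
    exact refl6_E8
    exact refl7_E8
  equiv := fun i hi => by
    change i < 8 at hi
    interval_cases i
    exact equiv0_E8
    exact equiv1_E8
    exact equiv2_E8
    exact equiv3_E8
    exact equiv4_E8
    exact equiv5_E8
    exact equiv6_E8
    exact equiv7_E8
  nmat := fun i hi => by
    change i < 8 at hi
    interval_cases i
    exact nmat0_E8
    exact nmat1_E8
    exact nmat2_E8
    exact nmat3_E8
    exact nmat4_E8
    exact nmat5_E8
    exact nmat6_E8
    exact nmat7_E8

end CfsgLib.Chev
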