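import Cfsg.Agent.Lib.Chev.Data.AuxF4
import Cfsg.Prelude.Def_ChevF4
/-! The table checks for type F4, evaluated by the kernel. -/

set_option autoImplicit false
set_option maxHeartbeats 0

namespace CfsgLib.Chev

open Cfsg.Lie

theorem syncF4 : checkSync chevF4 auxF4 = true := by decide +kernel

theorem rootsF4 : checkRoots chevF4 auxF4 = true := by decide +kernel

theorem chainsF4 : checkChains chevF4 auxF4 = true := by decide +kernel

theorem upF4 : checkUp chevF4 auxF4 = true := by decide +kernel

theorem addF4 : checkAdd chevF4 auxF4 = true := by decide +kernel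

theorem commF4 : checkComm chevF4 auxF4 = true := by decide +kernel

theorem refl0_F4 : checkRefl chevF4 auxF4 0 = true := by decide +kernel

theorem equiv0_F4 : checkEquiv chevF4 auxF4 0 = true := by decide +kernel

theorem nmat0_F4 : checkN chevF4 auxF4 0 = true := by decide +kernel

theorem refl1_F4 : checkRefl chevF4 auxF4 1 = true := by decide +kernel

theorem equiv1_F4 : checkEquiv chevF4 auxF4 1 = true := by decide +kernel

theorem nmat1_F4 : checkN chevF4 auxF4 1 = true := by decide +kernel

theorem refl2_F4 : checkRefl chevF4 auxF4 2 = true := by decide +kernel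

theorem equiv2_F4 : checkEquiv chevF4 auxF4 2 = true := by decide +kernel

theorem nmat2_F4 : checkN chevF4 auxF4 2 = true := by decide +kernel

theorem refl3_F4 : checkRefl chevF4 auxF4 3 = true := by decide +kernel

theorem equiv3_F4 : checkEquiv chevF4 auxF4 3 = true := by decide +kernel

theorem nmat3_F4 : checkN chevF4 auxF4 3 = true := by decide +kernel

theorem allOKF4 : AllOK chevF4 auxF4 where
  sync := syncF4
  roots := rootsF4
  chains := chainsF4
  up := upF4
  add := addF4
  comm := commF4
  refl := fun i hi => by
    change i < 4 at hi
    interval_cases i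
    exact refl0_F4
    exact refl1_F4
    exact refl2_F4
    exact refl3_F4
  equiv := fun i hi => by
    change i < 4 at hi
    interval_cases i
    exact equiv0_F4
    exact equiv1_F4
    exact equiv2_F4
    exact equiv3_F4
  nmat := fun i hi => by
    change i < 4 at hi
    interval_cases i
    exact nmat0_F4
    exact nmat1_F4
    exact nmat2_F4
    exact nmat3_F4

end CfsgLib.Chev
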