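import Cfsg.Agent.Lib.Chev.Data.AuxG2
import Cfsg.Prelude.Def_ChevG2
/-! The table checks for type G2, evaluated by the kernel. -/

set_option autoImplicit false
set_option maxHeartbeats 0

namespace CfsgLib.Chev

open Cfsg.Lie

theorem syncG2 : checkSync chevG2 auxG2 = true := by decide +kernel

theorem rootsG2 : checkRoots chevG2 auxG2 = true := by decide +kernel

theorem chainsG2 : checkChains chevG2 auxG2 = true := by decide +kernel

theorem upG2 : checkUp chevG2 auxG2 = true := by decide +kernel

theorem addG2 : checkAdd chevG2 auxG2 = true := by decide +kernel

theorem commG2 : checkComm chevG2 auxG2 = true := by decide +kernel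

theorem refl0_G2 : checkRefl chevG2 auxG2 0 = true := by decide +kernel

theorem equiv0_G2 : checkEquiv chevG2 auxG2 0 = true := by decide +kernel

theorem nmat0_G2 : checkN chevG2 auxG2 0 = true := by decide +kernel

theorem refl1_G2 : checkRefl chevG2 auxG2 1 = true := by decide +kernel

theorem equiv1_G2 : checkEquiv chevG2 auxG2 1 = true := by decide +kernel

theorem nmat1_G2 : checkN chevG2 auxG2 1 = true := by decide +kernel

theorem allOKG2 : AllOK chevG2 auxG2 where
  sync := syncG2
  roots := rootsG2
  chains := chainsG2
  up := upG2
  add := addG2
  comm := commG2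
  refl := fun i hi => by
    change i < 2 at hi
    interval_cases i
    exact refl0_G2
    exact refl1_G2
  equiv := fun i hi => by
    change i < 2 at hi
    interval_cases i
    exact equiv0_G2
    exact equiv1_G2
  nmat := fun i hi => by
    change i < 2 at hi
    interval_cases i
    exact nmat0_G2
    exact nmat1_G2

end CfsgLib.Chev
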