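import Cfsg.Agent.Lib.Chev.Fast
/-! Generated auxiliary tables for type B2. -/

set_option autoImplicit false
set_option maxRecDepth 100000

namespace CfsgLib.Chev

/-- table -/
noncomputable def auxB2Root : Tr (List ℤ) :=
    (.node [(-2),(-1)] (.node [(-1),(-1)] (.node [0,(-1)] (.node [2,1] .nil .nil) .nil) (.node
    [1,0] .nil .nil)) (.node [(-1),0] (.node [0,1] .nil .nil) (.node [1,1] .nil .nil)))

/-- table -/
noncomputable def auxB2Neg : Tr ℕ :=
    (.node 7 (.node 6 (.node 4 (.node 0 .nil .nil) .nil) (.node 2 .nil .nil)) (.node 5 (.node 3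
    .nil .nil) (.node 1 .nil .nil)))

/-- table -/
noncomputable def auxB2Coro : Tr (List ℤ) :=
    (.node [(-1),(-1)] (.node [(-1),(-2)] (.node [0,(-1)] (.node [1,1] .nil .nil) .nil) (.node
    [1,0] .nil .nil)) (.node [(-1),0] (.node [0,1] .nil .nil) (.node [1,2] .nil .nil)))

/-- table -/
noncomputable def auxB2Cart0 : Tr ℤ :=
    (.node (-2) (.node 0 (.node 2 (.node 2 .nil .nil) .nil) (.node 2 .nil .nil)) (.node (-2) (.node
    (-2) .nil .nil) (.node 0 .nil .nil)))

/-- table -/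
noncomputable def auxB2Refl0 : Tr ℕ :=
    (.node 3 (.node 1 (.node 0 (.node 4 .nil .nil) .nil) (.node 2 .nil .nil)) (.node 5 (.node 7
    .nil .nil) (.node 6 .nil .nil)))

/-- table -/
noncomputable def auxB2Eta0 : Tr ℤ :=
    (.node (-1) (.node (-1) (.node (-1) (.node (-1) .nil .nil) .nil) (.node (-1) .nil .nil)) (.node
    (-1) (.node (-1) .nil .nil) (.node (-1) .nil .nil)))

/-- table -/
noncomputable def auxB2Cart1 : Tr ℤ :=
    (.node 0 (.node (-1) (.node (-2) (.node 0 .nil .nil) .nil) (.node (-1) .nil .nil)) (.node 1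
    (.node 2 .nil .nil) (.node 1 .nil .nil)))

/-- table -/
noncomputable def auxB2Refl1 : Tr ℕ :=
    (.node 0 (.node 2 (.node 4 (.node 7 .nil .nil) .nil) (.node 6 .nil .nil)) (.node 1 (.node 3
    .nil .nil) (.node 5 .nil .nil)))

/-- table -/
noncomputable def auxB2Eta1 : Tr ℤ :=
    (.node 1 (.node (-1) (.node (-1) (.node 1 .nil .nil) .nil) (.node 1 .nil .nil)) (.node 1 (.node
    (-1) .nil .nil) (.node (-1) .nil .nil)))

/-- table -/
noncomputable def auxB2Chain0 : Tr (List (ℕ × ℤ)) :=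
    (.node [] (.node [] .nil (.node [(1,1)] .nil .nil)) (.node [] .nil (.node [(2,(-1))] .nil
    .nil)))

/-- table -/
noncomputable def auxB2Chain1 : Tr (List (ℕ × ℤ)) :=
    (.node [] (.node [] (.node [] (.node [(5,(-1)),(3,1)] .nil .nil) .nil) (.node [(3,(-2))] .nil
    .nil)) (.node [(0,2)] (.node [(2,1),(0,1)] .nil .nil) .nil))

/-- table -/
noncomputable def auxB2Chain2 : Tr (List (ℕ × ℤ)) :=
    (.node [] (.node [(0,(-2))] (.node [(1,1),(0,(-1))] (.node [(6,1),(4,(-1))] .nil .nil) .nil)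
    .nil) (.node [] .nil (.node [(4,(-2))] .nil .nil)))

/-- table -/
noncomputable def auxB2Chain3 : Tr (List (ℕ × ℤ)) :=
    (.node [] .nil (.node [(1,(-1))] .nil (.node [(5,1)] .nil .nil)))

/-- table -/
noncomputable def auxB2Chain4 : Tr (List (ℕ × ℤ)) :=
    (.node [] (.node [(2,(-1))] .nil (.node [(6,1)] .nil .nil)) .nil)

/-- table -/
noncomputable def auxB2Chain5 : Tr (List (ℕ × ℤ)) :=
    (.node [(1,(-1)),(3,(-1))] (.node [(3,2)] .nil .nil) (.node [] (.node [(6,(-1)),(7,(-1))] .nil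
    .nil) (.node [(7,2)] .nil .nil)))

/-- table -/
noncomputable def auxB2Chain6 : Tr (List (ℕ × ℤ)) :=
    (.node [(2,1),(4,1)] (.node [] (.node [(5,(-1)),(7,1)] .nil .nil) (.node [(7,(-2))] .nil .nil))
    (.node [(4,2)] .nil .nil))

/-- table -/
noncomputable def auxB2Chain7 : Tr (List (ℕ × ℤ)) :=
    (.node [] (.node [(5,1)] .nil .nil) (.node [(6,(-1))] .nil .nil))

/-- table -/
noncomputable def auxB2Chain : Tr (Tr (List (ℕ × ℤ))) :=
    (.node auxB2Chain0 (.node auxB2Chain1 (.node auxB2Chain3 (.node auxB2Chain7 .nil .nil) .nil)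
    (.node auxB2Chain5 .nil .nil)) (.node auxB2Chain2 (.node auxB2Chain4 .nil .nil) (.node
    auxB2Chain6 .nil .nil)))

/-- table -/
noncomputable def auxB2Up : Tr ℕ :=
    (.node 0 (.node 1 (.node 1 (.node 0 .nil .nil) .nil) (.node 0 .nil .nil)) (.node 0 (.node 0
    .nil .nil) (.node 1 .nil .nil)))

/-- table -/
noncomputable def auxB2Dist : Tr ℕ :=
    (.node 2 (.node 2 (.node 1 (.node 1 .nil .nil) .nil) (.node 0 .nil .nil)) (.node 1 (.node 0
    .nil .nil) (.node 1 .nil .nil)))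

/-- table -/
noncomputable def auxB2Stab0 : Tr ℕ :=
    (.node 2 (.node 2 (.node 2 (.node 2 .nil .nil) .nil) (.node 2 .nil .nil)) (.node 2 (.node 2
    .nil .nil) (.node 2 .nil .nil)))

/-- table -/
noncomputable def auxB2Stab1 : Tr ℕ :=
    (.node 2 (.node 2 (.node 2 (.node 2 .nil .nil) .nil) (.node 2 .nil .nil)) (.node 2 (.node 2
    .nil .nil) (.node 2 .nil .nil)))

/-- auxiliary tables for type B2 -/
noncomputable def auxB2 : Aux where
  rootT := auxB2Root
  negT := auxB2Neg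
  coroT := auxB2Coro
  cartT := [auxB2Cart0, auxB2Cart1]
  chainT := auxB2Chain
  reflT := [auxB2Refl0, auxB2Refl1]
  etaT := [auxB2Eta0, auxB2Eta1]
  upT := auxB2Up
  distT := auxB2Dist
  reps := [0, 1]
  stabT := [auxB2Stab0, auxB2Stab1]

end CfsgLib.Chev
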