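import Cfsg.Agent.Lib.Chev.Fast
/-! Generated auxiliary tables for type D4. -/

set_option autoImplicit false
set_option maxRecDepth 100000

namespace CfsgLib.Chev

/-- table -/
noncomputable def auxD4Root : Tr (List ℤ) :=
    (.node [(-1),(-2),(-1),(-1)] (.node [(-1),(-1),(-1),(-1)] (.node [(-1),(-1),0,(-1)] (.node
    [0,(-1),(-1),0] (.node [0,1,0,1] .nil .nil) (.node [1,2,1,1] .nil .nil)) (.node [0,0,0,(-1)]
    (.node [1,1,0,0] .nil .nil) .nil)) (.node [(-1),0,0,0] (.node [0,(-1),0,0] (.node [0,1,1,1]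
    .nil .nil) .nil) (.node [0,0,1,0] (.node [1,1,1,0] .nil .nil) .nil))) (.node [(-1),(-1),(-1),0]
    (.node [(-1),(-1),0,0] (.node [0,(-1),0,(-1)] (.node [0,1,1,0] .nil .nil) .nil) (.node
    [0,0,0,1] (.node [1,1,0,1] .nil .nil) .nil)) (.node [0,(-1),(-1),(-1)] (.node [0,0,(-1),0]
    (.node [1,0,0,0] .nil .nil) .nil) (.node [0,1,0,0] (.node [1,1,1,1] .nil .nil) .nil))))

/-- table -/
noncomputable def auxD4Neg : Tr ℕ :=
    (.node 23 (.node 22 (.node 20 (.node 16 (.node 8 .nil .nil) (.node 0 .nil .nil)) (.node 12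
    (.node 4 .nil .nil) .nil)) (.node 18 (.node 14 (.node 6 .nil .nil) .nil) (.node 10 (.node 2
    .nil .nil) .nil))) (.node 21 (.node 19 (.node 15 (.node 7 .nil .nil) .nil) (.node 11 (.node 3
    .nil .nil) .nil)) (.node 17 (.node 13 (.node 5 .nil .nil) .nil) (.node 9 (.node 1 .nil .nil)
    .nil))))

/-- table -/
noncomputable def auxD4Coro : Tr (List ℤ) :=
    (.node [(-1),(-2),(-1),(-1)] (.node [(-1),(-1),(-1),(-1)] (.node [(-1),(-1),0,(-1)] (.node
    [0,(-1),(-1),0] (.node [0,1,0,1] .nil .nil) (.node [1,2,1,1] .nil .nil)) (.node [0,0,0,(-1)]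
    (.node [1,1,0,0] .nil .nil) .nil)) (.node [(-1),0,0,0] (.node [0,(-1),0,0] (.node [0,1,1,1]
    .nil .nil) .nil) (.node [0,0,1,0] (.node [1,1,1,0] .nil .nil) .nil))) (.node [(-1),(-1),(-1),0]
    (.node [(-1),(-1),0,0] (.node [0,(-1),0,(-1)] (.node [0,1,1,0] .nil .nil) .nil) (.node
    [0,0,0,1] (.node [1,1,0,1] .nil .nil) .nil)) (.node [0,(-1),(-1),(-1)] (.node [0,0,(-1),0]
    (.node [1,0,0,0] .nil .nil) .nil) (.node [0,1,0,0] (.node [1,1,1,1] .nil .nil) .nil))))

/-- table -/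
noncomputable def auxD4Cart0 : Tr ℤ :=
    (.node 0 (.node (-1) (.node (-1) (.node 1 (.node (-1) .nil .nil) (.node 0 .nil .nil)) (.node 0
    (.node 1 .nil .nil) .nil)) (.node (-2) (.node 1 (.node (-1) .nil .nil) .nil) (.node 0 (.node 1
    .nil .nil) .nil))) (.node (-1) (.node (-1) (.node 1 (.node (-1) .nil .nil) .nil) (.node 0
    (.node 1 .nil .nil) .nil)) (.node 1 (.node 0 (.node 2 .nil .nil) .nil) (.node (-1) (.node 1
    .nil .nil) .nil))))

/-- table -/
noncomputable def auxD4Refl0 : Tr ℕ :=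
    (.node 0 (.node 6 (.node 8 (.node 2 (.node 20 .nil .nil) (.node 23 .nil .nil)) (.node 11 (.node
    14 .nil .nil) .nil)) (.node 18 (.node 4 (.node 22 .nil .nil) .nil) (.node 13 (.node 16 .nil
    .nil) .nil))) (.node 7 (.node 9 (.node 3 (.node 21 .nil .nil) .nil) (.node 12 (.node 15 .nil
    .nil) .nil)) (.node 1 (.node 10 (.node 5 .nil .nil) .nil) (.node 19 (.node 17 .nil .nil)
    .nil))))

/-- table -/
noncomputable def auxD4Eta0 : Tr ℤ :=
    (.node 1 (.node 1 (.node 1 (.node (-1) (.node (-1) .nil .nil) (.node 1 .nil .nil)) (.node 1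
    (.node 1 .nil .nil) .nil)) (.node (-1) (.node (-1) (.node (-1) .nil .nil) .nil) (.node 1 (.node
    1 .nil .nil) .nil))) (.node 1 (.node 1 (.node (-1) (.node (-1) .nil .nil) .nil) (.node 1 (.node
    1 .nil .nil) .nil)) (.node (-1) (.node 1 (.node (-1) .nil .nil) .nil) (.node (-1) (.node 1 .nil
    .nil) .nil))))

/-- table -/
noncomputable def auxD4Cart1 : Tr ℤ :=
    (.node (-1) (.node 1 (.node 0 (.node (-1) (.node 1 .nil .nil) (.node 1 .nil .nil)) (.node 1
    (.node 1 .nil .nil) .nil)) (.node 1 (.node (-2) (.node 0 .nil .nil) .nil) (.node (-1) (.node 0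
    .nil .nil) .nil))) (.node 0 (.node (-1) (.node (-1) (.node 1 .nil .nil) .nil) (.node (-1)
    (.node 0 .nil .nil) .nil)) (.node 0 (.node 1 (.node (-1) .nil .nil) .nil) (.node 2 (.node (-1)
    .nil .nil) .nil))))

/-- table -/
noncomputable def auxD4Refl1 : Tr ℕ :=
    (.node 1 (.node 0 (.node 3 (.node 10 (.node 12 .nil .nil) (.node 22 .nil .nil)) (.node 8 (.node
    18 .nil .nil) .nil)) (.node 4 (.node 14 (.node 17 .nil .nil) .nil) (.node 16 (.node 21 .nil
    .nil) .nil))) (.node 2 (.node 5 (.node 11 (.node 13 .nil .nil) .nil) (.node 15 (.node 20 .nil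
    .nil) .nil)) (.node 6 (.node 7 (.node 19 .nil .nil) .nil) (.node 9 (.node 23 .nil .nil)
    .nil))))

/-- table -/
noncomputable def auxD4Eta1 : Tr ℤ :=
    (.node (-1) (.node 1 (.node 1 (.node 1 (.node 1 .nil .nil) (.node (-1) .nil .nil)) (.node (-1)
    (.node (-1) .nil .nil) .nil)) (.node 1 (.node (-1) (.node 1 .nil .nil) .nil) (.node (-1) (.node
    1 .nil .nil) .nil))) (.node 1 (.node (-1) (.node 1 (.node 1 .nil .nil) .nil) (.node (-1) (.node
    1 .nil .nil) .nil)) (.node 1 (.node (-1) (.node 1 .nil .nil) .nil) (.node (-1) (.node 1 .nil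
    .nil) .nil))))

/-- table -/
noncomputable def auxD4Cart2 : Tr ℤ :=
    (.node 0 (.node (-1) (.node 1 (.node (-1) (.node (-1) .nil .nil) (.node 0 .nil .nil)) (.node 0
    (.node (-1) .nil .nil) .nil)) (.node 0 (.node 1 (.node 1 .nil .nil) .nil) (.node 2 (.node 1
    .nil .nil) .nil))) (.node (-1) (.node 1 (.node 1 (.node 1 .nil .nil) .nil) (.node 0 (.node (-1)
    .nil .nil) .nil)) (.node (-1) (.node (-2) (.node 0 .nil .nil) .nil) (.node (-1) (.node 1 .nil
    .nil) .nil))))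

/-- table -/
noncomputable def auxD4Refl2 : Tr ℕ :=
    (.node 0 (.node 3 (.node 1 (.node 9 (.node 17 .nil .nil) (.node 23 .nil .nil)) (.node 11 (.node
    21 .nil .nil) .nil)) (.node 5 (.node 7 (.node 15 .nil .nil) .nil) (.node 10 (.node 19 .nil
    .nil) .nil))) (.node 4 (.node 2 (.node 6 (.node 14 .nil .nil) .nil) (.node 12 (.node 22 .nil
    .nil) .nil)) (.node 8 (.node 13 (.node 18 .nil .nil) .nil) (.node 16 (.node 20 .nil .nil)
    .nil))))

/-- table -/
noncomputable def auxD4Eta2 : Tr ℤ :=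
    (.node 1 (.node (-1) (.node 1 (.node (-1) (.node 1 .nil .nil) (.node 1 .nil .nil)) (.node 1
    (.node 1 .nil .nil) .nil)) (.node 1 (.node 1 (.node (-1) .nil .nil) .nil) (.node (-1) (.node
    (-1) .nil .nil) .nil))) (.node (-1) (.node 1 (.node 1 (.node (-1) .nil .nil) .nil) (.node 1
    (.node 1 .nil .nil) .nil)) (.node (-1) (.node (-1) (.node 1 .nil .nil) .nil) (.node 1 (.node
    (-1) .nil .nil) .nil))))

/-- table -/
noncomputable def auxD4Cart3 : Tr ℤ :=
    (.node 0 (.node (-1) (.node (-1) (.node 1 (.node 1 .nil .nil) (.node 0 .nil .nil)) (.node (-2)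
    (.node (-1) .nil .nil) .nil)) (.node 0 (.node 1 (.node 1 .nil .nil) .nil) (.node 0 (.node (-1)
    .nil .nil) .nil))) (.node 1 (.node 1 (.node (-1) (.node (-1) .nil .nil) .nil) (.node 2 (.node 1
    .nil .nil) .nil)) (.node (-1) (.node 0 (.node 0 .nil .nil) .nil) (.node (-1) (.node 1 .nil
    .nil) .nil))))

/-- table -/
noncomputable def auxD4Refl3 : Tr ℕ :=
    (.node 0 (.node 2 (.node 4 (.node 6 (.node 14 .nil .nil) (.node 23 .nil .nil)) (.node 12 (.node
    20 .nil .nil) .nil)) (.node 5 (.node 8 (.node 16 .nil .nil) .nil) (.node 13 (.node 22 .nil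
    .nil) .nil))) (.node 1 (.node 3 (.node 9 (.node 17 .nil .nil) .nil) (.node 11 (.node 19 .nil
    .nil) .nil)) (.node 7 (.node 10 (.node 18 .nil .nil) .nil) (.node 15 (.node 21 .nil .nil)
    .nil))))

/-- table -/
noncomputable def auxD4Eta3 : Tr ℤ :=
    (.node 1 (.node (-1) (.node (-1) (.node 1 (.node (-1) .nil .nil) (.node 1 .nil .nil)) (.node
    (-1) (.node 1 .nil .nil) .nil)) (.node 1 (.node 1 (.node (-1) .nil .nil) .nil) (.node 1 (.node
    1 .nil .nil) .nil))) (.node 1 (.node 1 (.node (-1) (.node 1 .nil .nil) .nil) (.node (-1) (.node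
    (-1) .nil .nil) .nil)) (.node (-1) (.node 1 (.node 1 .nil .nil) .nil) (.node 1 (.node (-1) .nil
    .nil) .nil))))

/-- table -/
noncomputable def auxD4Chain0 : Tr (List (ℕ × ℤ)) :=
    (.node [] (.node [] (.node [] (.node [] (.node [(2,(-1))] .nil .nil) .nil) (.node [] (.node
    [(6,(-1))] .nil .nil) .nil)) (.node [] (.node [] (.node [(4,1)] .nil .nil) .nil) (.node []
    (.node [(8,1)] .nil .nil) .nil))) (.node [] (.node [] (.node [] (.node [(3,(-1))] .nil .nil)
    .nil) (.node [] (.node [(7,1)] .nil .nil) .nil)) (.node [] .nil (.node [(1,1)] (.node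
    [(9,(-1))] .nil .nil) .nil))))

/-- table -/
noncomputable def auxD4Chain1 : Tr (List (ℕ × ℤ)) :=
    (.node [] (.node [] (.node [] (.node [] .nil (.node [(14,(-1))] .nil .nil)) .nil) (.node []
    (.node [(0,1)] (.node [(5,1)] .nil .nil) .nil) (.node [(3,1)] (.node [(11,(-1))] .nil .nil)
    .nil))) (.node [] (.node [] .nil (.node [(2,1)] (.node [(10,(-1))] .nil .nil) .nil)) (.node []
    (.node [] (.node [(6,(-1))] .nil .nil) .nil) .nil)))

/-- table -/
noncomputable def auxD4Chain2 : Tr (List (ℕ × ℤ)) :=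
    (.node [] (.node [] (.node [] (.node [] .nil (.node [(15,1)] .nil .nil)) (.node [(1,1)] (.node
    [(10,(-1))] .nil .nil) .nil)) (.node [] .nil (.node [(4,1)] .nil .nil))) (.node [] (.node []
    (.node [(0,(-1))] (.node [(5,1)] .nil .nil) .nil) .nil) (.node [] (.node [] (.node [(7,(-1))]
    .nil .nil) .nil) (.node [] (.node [(12,(-1))] .nil .nil) .nil))))

/-- table -/
noncomputable def auxD4Chain3 : Tr (List (ℕ × ℤ)) :=
    (.node [] (.node [] (.node [] (.node [(0,(-1))] (.node [(5,1)] .nil .nil) (.node [(16,1)] .nil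
    .nil)) (.node [] (.node [(11,(-1))] .nil .nil) .nil)) .nil) (.node [] (.node [] .nil (.node
    [(4,1)] .nil .nil)) (.node [] (.node [(1,1)] (.node [(8,(-1))] .nil .nil) .nil) (.node []
    (.node [(13,(-1))] .nil .nil) .nil))))

/-- table -/
noncomputable def auxD4Chain4 : Tr (List (ℕ × ℤ)) :=
    (.node [] (.node [] (.node [] (.node [] .nil (.node [(17,(-1))] .nil .nil)) (.node [(3,1)] .nil
    .nil)) (.node [] .nil (.node [] (.node [(13,(-1))] .nil .nil) .nil))) (.node [] (.node [] .nil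
    (.node [] (.node [(12,(-1))] .nil .nil) .nil)) (.node [(0,1)] (.node [(2,1)] (.node [(9,(-1))]
    .nil .nil) .nil) (.node [(5,1)] .nil .nil))))

/-- table -/
noncomputable def auxD4Chain5 : Tr (List (ℕ × ℤ)) :=
    (.node [] (.node [] (.node [] (.node [(2,1)] .nil .nil) (.node [] (.node [(14,(-1))] .nil .nil)
    .nil)) (.node [] (.node [(4,1)] .nil .nil) (.node [] (.node [(16,(-1))] .nil .nil) .nil)))
    (.node [] (.node [] (.node [(3,1)] .nil .nil) (.node [] (.node [(15,(-1))] .nil .nil) .nil))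
    (.node [(1,1)] .nil (.node [] (.node [(17,(-1))] .nil .nil) .nil))))

/-- table -/
noncomputable def auxD4Chain6 : Tr (List (ℕ × ℤ)) :=
    (.node [] (.node [] (.node [] (.node [] (.node [(10,(-1))] .nil .nil) (.node [(19,1)] .nil
    .nil)) .nil) (.node [(1,(-1))] .nil (.node [(8,1)] .nil .nil))) (.node [] (.node [(0,(-1))]
    (.node [] (.node [(11,(-1))] .nil .nil) .nil) (.node [(7,1)] .nil .nil)) (.node [] .nil (.node
    [] (.node [(18,1)] .nil .nil) .nil))))

/-- table -/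
noncomputable def auxD4Chain7 : Tr (List (ℕ × ℤ)) :=
    (.node [] (.node [] (.node [(0,1)] (.node [] .nil (.node [(20,(-1))] .nil .nil)) (.node [(6,1)]
    .nil .nil)) (.node [(2,(-1))] (.node [] (.node [(12,(-1))] .nil .nil) .nil) (.node [(9,1)]
    (.node [(18,1)] .nil .nil) .nil))) (.node [] .nil (.node [] .nil (.node [(10,(-1))] .nil
    .nil))))

/-- table -/
noncomputable def auxD4Chain8 : Tr (List (ℕ × ℤ)) :=
    (.node [] (.node [] (.node [] (.node [] .nil (.node [(21,(-1))] .nil .nil)) .nil) (.node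
    [(3,(-1))] (.node [] (.node [(13,(-1))] .nil .nil) .nil) .nil)) (.node [(0,1)] (.node [] .nil
    (.node [(9,1)] (.node [(18,1)] .nil .nil) .nil)) (.node [] (.node [(6,1)] .nil .nil) (.node
    [(11,(-1))] .nil .nil))))

/-- table -/
noncomputable def auxD4Chain9 : Tr (List (ℕ × ℤ)) :=
    (.node [] (.node [(0,(-1))] (.node [] (.node [] (.node [(12,(-1))] .nil .nil) (.node [(22,1)]
    .nil .nil)) (.node [(8,1)] (.node [(18,1)] .nil .nil) .nil)) (.node [(4,(-1))] .nil .nil))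
    (.node [] (.node [] (.node [] (.node [(13,(-1))] .nil .nil) .nil) .nil) (.node [] (.node
    [(7,1)] .nil .nil) .nil)))

/-- table -/
noncomputable def auxD4Chain10 : Tr (List (ℕ × ℤ)) :=
    (.node [] (.node [] (.node [(1,(-1))] .nil .nil) (.node [] (.node [(7,(-1))] (.node [(15,1)]
    .nil .nil) .nil) (.node [] (.node [(19,1)] .nil .nil) .nil))) (.node [] (.node [(2,(-1))]
    (.node [(6,(-1))] (.node [(14,1)] .nil .nil) .nil) .nil) (.node [] .nil (.node [] (.node
    [(20,1)] .nil .nil) .nil))))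

/-- table -/
noncomputable def auxD4Chain11 : Tr (List (ℕ × ℤ)) :=
    (.node [] (.node [] (.node [] (.node [(6,(-1))] (.node [(14,1)] .nil .nil) .nil) .nil) (.node
    [] (.node [(8,(-1))] (.node [(16,1)] .nil .nil) .nil) .nil)) (.node [(1,(-1))] (.node
    [(3,(-1))] .nil (.node [] (.node [(19,1)] .nil .nil) .nil)) (.node [] .nil (.node [] (.node
    [(21,1)] .nil .nil) .nil))))

/-- table -/
noncomputable def auxD4Chain12 : Tr (List (ℕ × ℤ)) :=
    (.node [] (.node [(2,(-1))] (.node [(4,(-1))] .nil (.node [] (.node [(20,1)] .nil .nil) .nil))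
    (.node [] .nil (.node [] (.node [(22,1)] .nil .nil) .nil))) (.node [] (.node [] (.node
    [(9,(-1))] (.node [(17,1)] .nil .nil) .nil) .nil) (.node [(7,(-1))] .nil (.node [(15,1)] .nil
    .nil))))

/-- table -/
noncomputable def auxD4Chain13 : Tr (List (ℕ × ℤ)) :=
    (.node [] (.node [(3,(-1))] (.node [] (.node [(9,(-1))] (.node [(17,1)] .nil .nil) .nil) (.node
    [] (.node [(21,1)] .nil .nil) .nil)) .nil) (.node [(4,(-1))] (.node [] .nil (.node [] (.node
    [(22,1)] .nil .nil) .nil)) (.node [(8,(-1))] .nil (.node [(16,1)] .nil .nil))))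

/-- table -/
noncomputable def auxD4Chain14 : Tr (List (ℕ × ℤ)) :=
    (.node [(1,(-1))] (.node [] (.node [] (.node [(10,1)] .nil .nil) .nil) (.node [] .nil (.node
    [(16,(-1))] .nil .nil))) (.node [] (.node [(5,(-1))] (.node [(11,1)] .nil .nil) (.node
    [(15,(-1))] .nil .nil)) (.node [] (.node [] (.node [(19,1)] .nil .nil) .nil) (.node [] (.node
    [(23,1)] .nil .nil) .nil))))

/-- table -/
noncomputable def auxD4Chain15 : Tr (List (ℕ × ℤ)) :=
    (.node [(2,1)] (.node [] (.node [(5,(-1))] .nil (.node [(14,(-1))] .nil .nil)) (.node [] (.node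
    [(12,1)] .nil .nil) (.node [(17,(-1))] (.node [(23,(-1))] .nil .nil) .nil))) (.node [] .nil
    (.node [(10,1)] (.node [] (.node [(20,1)] .nil .nil) .nil) .nil)))

/-- table -/
noncomputable def auxD4Chain16 : Tr (List (ℕ × ℤ)) :=
    (.node [(3,1)] (.node [] .nil (.node [] (.node [(13,1)] .nil .nil) .nil)) (.node [(5,(-1))]
    (.node [] .nil (.node [(17,(-1))] (.node [(23,(-1))] .nil .nil) .nil)) (.node [(11,1)] (.node
    [(14,(-1))] (.node [(21,1)] .nil .nil) .nil) .nil)))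

/-- table -/
noncomputable def auxD4Chain17 : Tr (List (ℕ × ℤ)) :=
    (.node [(4,(-1))] (.node [(5,(-1))] (.node [] (.node [(12,1)] .nil .nil) (.node [(16,(-1))]
    (.node [(23,1)] .nil .nil) .nil)) .nil) (.node [] (.node [] (.node [(13,1)] .nil .nil) .nil)
    (.node [] (.node [(15,(-1))] (.node [(22,1)] .nil .nil) .nil) .nil)))

/-- table -/
noncomputable def auxD4Chain18 : Tr (List (ℕ × ℤ)) :=
    (.node [] (.node [(6,1)] (.node [(8,1)] (.node [] (.node [(20,(-1))] .nil .nil) .nil) .nil)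
    (.node [] (.node [] (.node [(22,(-1))] .nil .nil) .nil) .nil)) (.node [(7,1)] (.node [(9,1)]
    (.node [] (.node [(21,(-1))] .nil .nil) .nil) .nil) (.node [] .nil (.node [(19,(-1))] .nil
    .nil))))

/-- table -/
noncomputable def auxD4Chain19 : Tr (List (ℕ × ℤ)) :=
    (.node [(6,1)] (.node [] (.node [(11,1)] .nil .nil) (.node [(14,1)] (.node [(18,(-1))] (.node
    [(23,(-1))] .nil .nil) .nil) (.node [(21,(-1))] .nil .nil))) (.node [(10,1)] (.node [] .nil
    (.node [(20,(-1))] .nil .nil)) .nil))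

/-- table -/
noncomputable def auxD4Chain20 : Tr (List (ℕ × ℤ)) :=
    (.node [(7,(-1))] (.node [(10,1)] (.node [] .nil (.node [(19,(-1))] .nil .nil)) (.node [(15,1)]
    .nil (.node [(22,(-1))] .nil .nil))) (.node [] (.node [(12,1)] (.node [(18,(-1))] (.node
    [(23,1)] .nil .nil) .nil) .nil) .nil))

/-- table -/
noncomputable def auxD4Chain21 : Tr (List (ℕ × ℤ)) :=
    (.node [(8,(-1))] (.node [(11,1)] (.node [] (.node [(18,(-1))] (.node [(23,1)] .nil .nil) .nil)
    .nil) (.node [(16,1)] .nil .nil)) (.node [] (.node [(13,1)] .nil (.node [(22,(-1))] .nil .nil))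
    (.node [] (.node [(19,(-1))] .nil .nil) .nil)))

/-- table -/
noncomputable def auxD4Chain22 : Tr (List (ℕ × ℤ)) :=
    (.node [(9,1)] (.node [] (.node [(13,1)] .nil (.node [(21,(-1))] .nil .nil)) (.node [(17,1)]
    .nil .nil)) (.node [(12,1)] .nil (.node [(18,(-1))] (.node [(20,(-1))] .nil .nil) (.node
    [(23,(-1))] .nil .nil))))

/-- table -/
noncomputable def auxD4Chain23 : Tr (List (ℕ × ℤ)) :=
    (.node [] (.node [(14,1)] (.node [(16,(-1))] (.node [(20,1)] .nil .nil) .nil) (.node [] (.node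
    [(22,(-1))] .nil .nil) .nil)) (.node [(15,(-1))] (.node [(17,1)] (.node [(21,1)] .nil .nil)
    .nil) (.node [(19,(-1))] .nil .nil)))

/-- table -/
noncomputable def auxD4Chain : Tr (Tr (List (ℕ × ℤ))) :=
    (.node auxD4Chain0 (.node auxD4Chain1 (.node auxD4Chain3 (.node auxD4Chain7 (.node auxD4Chain15
    .nil .nil) (.node auxD4Chain23 .nil .nil)) (.node auxD4Chain11 (.node auxD4Chain19 .nil .nil)
    .nil)) (.node auxD4Chain5 (.node auxD4Chain9 (.node auxD4Chain17 .nil .nil) .nil) (.node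
    auxD4Chain13 (.node auxD4Chain21 .nil .nil) .nil))) (.node auxD4Chain2 (.node auxD4Chain4
    (.node auxD4Chain8 (.node auxD4Chain16 .nil .nil) .nil) (.node auxD4Chain12 (.node auxD4Chain20
    .nil .nil) .nil)) (.node auxD4Chain6 (.node auxD4Chain10 (.node auxD4Chain18 .nil .nil) .nil)
    (.node auxD4Chain14 (.node auxD4Chain22 .nil .nil) .nil))))

/-- table -/
noncomputable def auxD4Up : Tr ℕ :=
    (.node 1 (.node 3 (.node 3 (.node 2 (.node 3 .nil .nil) (.node 1 .nil .nil)) (.node 1 (.node 1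
    .nil .nil) .nil)) (.node 0 (.node 0 (.node 3 .nil .nil) .nil) (.node 1 (.node 2 .nil .nil)
    .nil))) (.node 2 (.node 1 (.node 3 (.node 2 .nil .nil) .nil) (.node 1 (.node 3 .nil .nil)
    .nil)) (.node 3 (.node 1 (.node 0 .nil .nil) .nil) (.node 0 (.node 3 .nil .nil) .nil))))

/-- table -/
noncomputable def auxD4Dist : Tr ℕ :=
    (.node 5 (.node 4 (.node 3 (.node 4 (.node 3 .nil .nil) (.node 4 .nil .nil)) (.node 5 (.node 1
    .nil .nil) .nil)) (.node 1 (.node 3 (.node 4 .nil .nil) .nil) (.node 4 (.node 2 .nil .nil)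
    .nil))) (.node 3 (.node 2 (.node 4 (.node 3 .nil .nil) .nil) (.node 4 (.node 2 .nil .nil)
    .nil)) (.node 5 (.node 5 (.node 0 .nil .nil) .nil) (.node 2 (.node 3 .nil .nil) .nil))))

/-- table -/
noncomputable def auxD4Stab0 : Tr ℕ :=
    (.node 4 (.node 4 (.node 2 (.node 3 (.node 3 .nil .nil) (.node 4 .nil .nil)) (.node 4 (.node 4
    .nil .nil) .nil)) (.node 4 (.node 2 (.node 2 .nil .nil) .nil) (.node 2 (.node 2 .nil .nil)
    .nil))) (.node 3 (.node 2 (.node 2 (.node 2 .nil .nil) .nil) (.node 3 (.node 3 .nil .nil)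
    .nil)) (.node 4 (.node 4 (.node 4 .nil .nil) .nil) (.node 4 (.node 2 .nil .nil) .nil))))

/-- auxiliary tables for type D4 -/
noncomputable def auxD4 : Aux where
  rootT := auxD4Root
  negT := auxD4Neg
  coroT := auxD4Coro
  cartT := [auxD4Cart0, auxD4Cart1, auxD4Cart2, auxD4Cart3]
  chainT := auxD4Chain
  reflT := [auxD4Refl0, auxD4Refl1, auxD4Refl2, auxD4Refl3]
  etaT := [auxD4Eta0, auxD4Eta1, auxD4Eta2, auxD4Eta3]
  upT := auxD4Up
  distT := auxD4Dist
  reps := [0]
  stabT := [auxD4Stab0]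

end CfsgLib.Chev
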