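import Cfsg.Agent.Lib.Chev.Data.WeylD4
import Cfsg.Agent.Lib.Chev.Data.AuxD4
import Cfsg.Prelude.Def_ChevD4

set_option autoImplicit false
set_option maxRecDepth 100000

namespace CfsgLib.Chev

open Cfsg.Lie

theorem weylOKD4 : checkWeyl chevD4 auxD4 weylD4 = true := by decide +kernel

end CfsgLib.Chev
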