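import Cfsg.Agent.Lib.Chev.Fast
/-! Generated auxiliary tables for type E6. -/

set_option autoImplicit false
set_option maxRecDepth 100000

namespace CfsgLib.Chev

/-- table -/
noncomputable def auxE6Root : Tr (List ℤ) :=
    (.node [(-1),(-2),(-2),(-3),(-2),(-1)] (.node [(-1),(-1),(-2),(-3),(-2),(-1)] (.node
    [(-1),(-1),(-2),(-2),(-1),(-1)] (.node [(-1),(-1),(-1),(-2),(-1),0] (.node [(-1),0,0,0,0,0]
    (.node [0,0,0,(-1),(-1),0] (.node [1,1,1,1,1,1] .nil .nil) .nil) (.node [0,1,0,1,0,0] .nil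
    .nil)) (.node [0,(-1),0,(-1),(-1),0] (.node [0,0,0,1,0,0] (.node [1,2,2,3,2,1] .nil .nil) .nil)
    (.node [0,1,1,2,2,1] .nil .nil))) (.node [(-1),0,(-1),(-1),(-1),(-1)] (.node
    [0,(-1),(-1),(-1),(-1),(-1)] (.node [0,0,0,0,0,(-1)] (.node [1,1,2,2,1,0] .nil .nil) .nil)
    (.node [0,1,1,1,1,0] .nil .nil)) (.node [0,0,(-1),(-1),(-1),0] (.node [0,0,1,1,0,0] .nil .nil)
    (.node [1,0,1,1,1,0] .nil .nil)))) (.node [(-1),(-1),(-1),(-2),(-2),(-1)] (.node
    [(-1),(-1),(-1),(-1),(-1),0] (.node [0,(-1),(-1),(-2),(-1),(-1)] (.node [0,0,0,0,(-1),(-1)]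
    (.node [1,1,1,2,1,1] .nil .nil) .nil) (.node [0,1,0,1,1,1] .nil .nil)) (.node [0,(-1),0,0,0,0]
    (.node [0,0,0,1,1,1] .nil .nil) (.node [1,0,1,0,0,0] .nil .nil))) (.node [(-1),0,(-1),(-1),0,0]
    (.node [0,(-1),(-1),(-1),0,0] (.node [0,0,0,0,1,0] (.node [1,1,2,2,2,1] .nil .nil) .nil) (.node
    [0,1,1,2,1,0] .nil .nil)) (.node [0,0,(-1),0,0,0] (.node [0,0,1,1,1,1] .nil .nil) (.node
    [1,1,1,1,0,0] .nil .nil))))) (.node [(-1),(-1),(-2),(-2),(-2),(-1)] (.node
    [(-1),(-1),(-2),(-2),(-1),0] (.node [(-1),(-1),(-1),(-1),(-1),(-1)] (.node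
    [0,(-1),(-1),(-2),(-2),(-1)] (.node [0,0,0,(-1),0,0] (.node [1,1,1,2,1,0] .nil .nil) .nil)
    (.node [0,1,0,1,1,0] .nil .nil)) (.node [0,(-1),0,(-1),0,0] (.node [0,0,0,1,1,0] .nil .nil)
    (.node [1,0,0,0,0,0] .nil .nil))) (.node [(-1),0,(-1),(-1),(-1),0] (.node
    [0,(-1),(-1),(-1),(-1),0] (.node [0,0,0,0,0,1] (.node [1,1,2,2,1,1] .nil .nil) .nil) (.node
    [0,1,1,1,1,1] .nil .nil)) (.node [0,0,(-1),(-1),0,0] (.node [0,0,1,1,1,0] .nil .nil) (.node
    [1,0,1,1,1,1] .nil .nil)))) (.node [(-1),(-1),(-1),(-2),(-1),(-1)] (.node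
    [(-1),(-1),(-1),(-1),0,0] (.node [0,(-1),(-1),(-2),(-1),0] (.node [0,0,0,0,(-1),0] (.node
    [1,1,1,2,2,1] .nil .nil) .nil) (.node [0,1,1,1,0,0] .nil .nil)) (.node
    [0,0,(-1),(-1),(-1),(-1)] (.node [0,0,1,0,0,0] .nil .nil) (.node [1,0,1,1,0,0] .nil .nil)))
    (.node [(-1),0,(-1),0,0,0] (.node [0,(-1),0,(-1),(-1),(-1)] (.node [0,0,0,0,1,1] (.node
    [1,1,2,3,2,1] .nil .nil) .nil) (.node [0,1,1,2,1,1] .nil .nil)) (.node [0,0,0,(-1),(-1),(-1)]
    (.node [0,1,0,0,0,0] .nil .nil) (.node [1,1,1,1,1,0] .nil .nil))))))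

/-- table -/
noncomputable def auxE6Neg : Tr ℕ :=
    (.node 71 (.node 70 (.node 68 (.node 64 (.node 56 (.node 40 (.node 8 .nil .nil) .nil) (.node 24
    .nil .nil)) (.node 48 (.node 32 (.node 0 .nil .nil) .nil) (.node 16 .nil .nil))) (.node 60
    (.node 52 (.node 36 (.node 4 .nil .nil) .nil) (.node 20 .nil .nil)) (.node 44 (.node 28 .nil
    .nil) (.node 12 .nil .nil)))) (.node 66 (.node 62 (.node 54 (.node 38 (.node 6 .nil .nil) .nil)
    (.node 22 .nil .nil)) (.node 46 (.node 30 .nil .nil) (.node 14 .nil .nil))) (.node 58 (.node 50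
    (.node 34 (.node 2 .nil .nil) .nil) (.node 18 .nil .nil)) (.node 42 (.node 26 .nil .nil) (.node
    10 .nil .nil))))) (.node 69 (.node 67 (.node 63 (.node 55 (.node 39 (.node 7 .nil .nil) .nil)
    (.node 23 .nil .nil)) (.node 47 (.node 31 .nil .nil) (.node 15 .nil .nil))) (.node 59 (.node 51
    (.node 35 (.node 3 .nil .nil) .nil) (.node 19 .nil .nil)) (.node 43 (.node 27 .nil .nil) (.node
    11 .nil .nil)))) (.node 65 (.node 61 (.node 53 (.node 37 (.node 5 .nil .nil) .nil) (.node 21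
    .nil .nil)) (.node 45 (.node 29 .nil .nil) (.node 13 .nil .nil))) (.node 57 (.node 49 (.node 33
    (.node 1 .nil .nil) .nil) (.node 17 .nil .nil)) (.node 41 (.node 25 .nil .nil) (.node 9 .nil
    .nil))))))

/-- table -/
noncomputable def auxE6Coro : Tr (List ℤ) :=
    (.node [(-1),(-2),(-2),(-3),(-2),(-1)] (.node [(-1),(-1),(-2),(-3),(-2),(-1)] (.node
    [(-1),(-1),(-2),(-2),(-1),(-1)] (.node [(-1),(-1),(-1),(-2),(-1),0] (.node [(-1),0,0,0,0,0]
    (.node [0,0,0,(-1),(-1),0] (.node [1,1,1,1,1,1] .nil .nil) .nil) (.node [0,1,0,1,0,0] .nil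
    .nil)) (.node [0,(-1),0,(-1),(-1),0] (.node [0,0,0,1,0,0] (.node [1,2,2,3,2,1] .nil .nil) .nil)
    (.node [0,1,1,2,2,1] .nil .nil))) (.node [(-1),0,(-1),(-1),(-1),(-1)] (.node
    [0,(-1),(-1),(-1),(-1),(-1)] (.node [0,0,0,0,0,(-1)] (.node [1,1,2,2,1,0] .nil .nil) .nil)
    (.node [0,1,1,1,1,0] .nil .nil)) (.node [0,0,(-1),(-1),(-1),0] (.node [0,0,1,1,0,0] .nil .nil)
    (.node [1,0,1,1,1,0] .nil .nil)))) (.node [(-1),(-1),(-1),(-2),(-2),(-1)] (.node
    [(-1),(-1),(-1),(-1),(-1),0] (.node [0,(-1),(-1),(-2),(-1),(-1)] (.node [0,0,0,0,(-1),(-1)]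
    (.node [1,1,1,2,1,1] .nil .nil) .nil) (.node [0,1,0,1,1,1] .nil .nil)) (.node [0,(-1),0,0,0,0]
    (.node [0,0,0,1,1,1] .nil .nil) (.node [1,0,1,0,0,0] .nil .nil))) (.node [(-1),0,(-1),(-1),0,0]
    (.node [0,(-1),(-1),(-1),0,0] (.node [0,0,0,0,1,0] (.node [1,1,2,2,2,1] .nil .nil) .nil) (.node
    [0,1,1,2,1,0] .nil .nil)) (.node [0,0,(-1),0,0,0] (.node [0,0,1,1,1,1] .nil .nil) (.node
    [1,1,1,1,0,0] .nil .nil))))) (.node [(-1),(-1),(-2),(-2),(-2),(-1)] (.node
    [(-1),(-1),(-2),(-2),(-1),0] (.node [(-1),(-1),(-1),(-1),(-1),(-1)] (.node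
    [0,(-1),(-1),(-2),(-2),(-1)] (.node [0,0,0,(-1),0,0] (.node [1,1,1,2,1,0] .nil .nil) .nil)
    (.node [0,1,0,1,1,0] .nil .nil)) (.node [0,(-1),0,(-1),0,0] (.node [0,0,0,1,1,0] .nil .nil)
    (.node [1,0,0,0,0,0] .nil .nil))) (.node [(-1),0,(-1),(-1),(-1),0] (.node
    [0,(-1),(-1),(-1),(-1),0] (.node [0,0,0,0,0,1] (.node [1,1,2,2,1,1] .nil .nil) .nil) (.node
    [0,1,1,1,1,1] .nil .nil)) (.node [0,0,(-1),(-1),0,0] (.node [0,0,1,1,1,0] .nil .nil) (.node
    [1,0,1,1,1,1] .nil .nil)))) (.node [(-1),(-1),(-1),(-2),(-1),(-1)] (.node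
    [(-1),(-1),(-1),(-1),0,0] (.node [0,(-1),(-1),(-2),(-1),0] (.node [0,0,0,0,(-1),0] (.node
    [1,1,1,2,2,1] .nil .nil) .nil) (.node [0,1,1,1,0,0] .nil .nil)) (.node
    [0,0,(-1),(-1),(-1),(-1)] (.node [0,0,1,0,0,0] .nil .nil) (.node [1,0,1,1,0,0] .nil .nil)))
    (.node [(-1),0,(-1),0,0,0] (.node [0,(-1),0,(-1),(-1),(-1)] (.node [0,0,0,0,1,1] (.node
    [1,1,2,3,2,1] .nil .nil) .nil) (.node [0,1,1,2,1,1] .nil .nil)) (.node [0,0,0,(-1),(-1),(-1)]
    (.node [0,1,0,0,0,0] .nil .nil) (.node [1,1,1,1,1,0] .nil .nil))))))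

/-- table -/
noncomputable def auxE6Cart0 : Tr ℤ :=
    (.node 0 (.node 0 (.node 0 (.node (-1) (.node (-2) (.node 0 (.node 1 .nil .nil) .nil) (.node 0
    .nil .nil)) (.node 0 (.node 0 (.node 0 .nil .nil) .nil) (.node (-1) .nil .nil))) (.node (-1)
    (.node 1 (.node 0 (.node 0 .nil .nil) .nil) (.node (-1) .nil .nil)) (.node 1 (.node (-1) .nil
    .nil) (.node 1 .nil .nil)))) (.node (-1) (.node (-1) (.node 1 (.node 0 (.node 1 .nil .nil)
    .nil) (.node 0 .nil .nil)) (.node 0 (.node 0 .nil .nil) (.node 1 .nil .nil))) (.node (-1)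
    (.node 1 (.node 0 (.node 0 .nil .nil) .nil) (.node (-1) .nil .nil)) (.node 1 (.node (-1) .nil
    .nil) (.node 1 .nil .nil))))) (.node 0 (.node 0 (.node (-1) (.node 1 (.node 0 (.node 1 .nil
    .nil) .nil) (.node 0 .nil .nil)) (.node 0 (.node 0 .nil .nil) (.node 2 .nil .nil))) (.node (-1)
    (.node 1 (.node 0 (.node 0 .nil .nil) .nil) (.node (-1) .nil .nil)) (.node 1 (.node (-1) .nil
    .nil) (.node 1 .nil .nil)))) (.node (-1) (.node (-1) (.node 1 (.node 0 (.node 1 .nil .nil)
    .nil) (.node (-1) .nil .nil)) (.node 1 (.node (-1) .nil .nil) (.node 1 .nil .nil))) (.node (-1)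
    (.node 0 (.node 0 (.node 0 .nil .nil) .nil) (.node (-1) .nil .nil)) (.node 0 (.node 0 .nil
    .nil) (.node 1 .nil .nil))))))

/-- table -/
noncomputable def auxE6Refl0 : Tr ℕ :=
    (.node 0 (.node 1 (.node 3 (.node 18 (.node 56 (.node 31 (.node 52 .nil .nil) .nil) (.node 47
    .nil .nil)) (.node 23 (.node 39 (.node 71 .nil .nil) .nil) (.node 66 .nil .nil))) (.node 26
    (.node 8 (.node 35 (.node 67 .nil .nil) .nil) (.node 62 .nil .nil)) (.node 12 (.node 58 .nil
    .nil) (.node 44 .nil .nil)))) (.node 16 (.node 20 (.node 6 (.node 33 (.node 54 .nil .nil) .nil)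
    (.node 49 .nil .nil)) (.node 25 (.node 41 .nil .nil) (.node 42 .nil .nil))) (.node 28 (.node 10
    (.node 37 (.node 69 .nil .nil) .nil) (.node 64 .nil .nil)) (.node 14 (.node 60 .nil .nil)
    (.node 50 .nil .nil))))) (.node 2 (.node 4 (.node 19 (.node 5 (.node 32 (.node 53 .nil .nil)
    .nil) (.node 48 .nil .nil)) (.node 24 (.node 40 .nil .nil) (.node 15 .nil .nil))) (.node 27
    (.node 9 (.node 36 (.node 68 .nil .nil) .nil) (.node 63 .nil .nil)) (.node 13 (.node 59 .nil
    .nil) (.node 45 .nil .nil)))) (.node 17 (.node 21 (.node 7 (.node 34 (.node 55 .nil .nil) .nil)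
    (.node 61 .nil .nil)) (.node 11 (.node 57 .nil .nil) (.node 43 .nil .nil))) (.node 29 (.node 22
    (.node 38 (.node 70 .nil .nil) .nil) (.node 65 .nil .nil)) (.node 30 (.node 46 .nil .nil)
    (.node 51 .nil .nil))))))

/-- table -/
noncomputable def auxE6Eta0 : Tr ℤ :=
    (.node 1 (.node 1 (.node 1 (.node 1 (.node (-1) (.node 1 (.node 1 .nil .nil) .nil) (.node 1
    .nil .nil)) (.node 1 (.node 1 (.node 1 .nil .nil) .nil) (.node (-1) .nil .nil))) (.node 1
    (.node (-1) (.node 1 (.node 1 .nil .nil) .nil) (.node (-1) .nil .nil)) (.node (-1) (.node (-1)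
    .nil .nil) (.node 1 .nil .nil)))) (.node 1 (.node 1 (.node (-1) (.node 1 (.node 1 .nil .nil)
    .nil) (.node 1 .nil .nil)) (.node 1 (.node 1 .nil .nil) (.node 1 .nil .nil))) (.node 1 (.node
    (-1) (.node 1 (.node 1 .nil .nil) .nil) (.node (-1) .nil .nil)) (.node (-1) (.node (-1) .nil
    .nil) (.node 1 .nil .nil))))) (.node 1 (.node 1 (.node 1 (.node (-1) (.node 1 (.node 1 .nil
    .nil) .nil) (.node 1 .nil .nil)) (.node 1 (.node 1 .nil .nil) (.node (-1) .nil .nil))) (.node 1
    (.node (-1) (.node 1 (.node 1 .nil .nil) .nil) (.node (-1) .nil .nil)) (.node (-1) (.node (-1)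
    .nil .nil) (.node 1 .nil .nil)))) (.node 1 (.node 1 (.node (-1) (.node 1 (.node 1 .nil .nil)
    .nil) (.node (-1) .nil .nil)) (.node (-1) (.node (-1) .nil .nil) (.node 1 .nil .nil))) (.node 1
    (.node 1 (.node 1 (.node 1 .nil .nil) .nil) (.node (-1) .nil .nil)) (.node 1 (.node 1 .nil
    .nil) (.node 1 .nil .nil))))))

/-- table -/
noncomputable def auxE6Cart1 : Tr ℤ :=
    (.node (-1) (.node 1 (.node 0 (.node 0 (.node 0 (.node 1 (.node 1 .nil .nil) .nil) (.node 1
    .nil .nil)) (.node (-1) (.node (-1) (.node 1 .nil .nil) .nil) (.node 0 .nil .nil))) (.node 1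
    (.node (-1) (.node 0 (.node 0 .nil .nil) .nil) (.node 1 .nil .nil)) (.node 1 (.node (-1) .nil
    .nil) (.node (-1) .nil .nil)))) (.node 0 (.node (-1) (.node 0 (.node 0 (.node 0 .nil .nil)
    .nil) (.node 1 .nil .nil)) (.node (-2) (.node (-1) .nil .nil) (.node 0 .nil .nil))) (.node 1
    (.node (-1) (.node 0 (.node 0 .nil .nil) .nil) (.node 0 .nil .nil)) (.node 0 (.node (-1) .nil
    .nil) (.node 1 .nil .nil))))) (.node 0 (.node 0 (.node (-1) (.node 0 (.node 1 (.node 0 .nil
    .nil) .nil) (.node 1 .nil .nil)) (.node (-1) (.node (-1) .nil .nil) (.node 0 .nil .nil)))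
    (.node 1 (.node (-1) (.node 0 (.node 0 .nil .nil) .nil) (.node 1 .nil .nil)) (.node 1 (.node
    (-1) .nil .nil) (.node (-1) .nil .nil)))) (.node 0 (.node (-1) (.node 0 (.node 0 (.node 0 .nil
    .nil) .nil) (.node 1 .nil .nil)) (.node 1 (.node 0 .nil .nil) (.node (-1) .nil .nil))) (.node 0
    (.node (-1) (.node 0 (.node (-1) .nil .nil) .nil) (.node 0 .nil .nil)) (.node 1 (.node 2 .nil
    .nil) (.node 1 .nil .nil))))))

/-- table -/
noncomputable def auxE6Refl1 : Tr ℕ :=
    (.node 1 (.node 0 (.node 3 (.node 7 (.node 15 (.node 23 (.node 60 .nil .nil) .nil) (.node 39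
    .nil .nil)) (.node 31 (.node 47 (.node 70 .nil .nil) .nil) (.node 55 .nil .nil))) (.node 8
    (.node 26 (.node 35 (.node 67 .nil .nil) .nil) (.node 44 .nil .nil)) (.node 20 (.node 50 .nil
    .nil) (.node 62 .nil .nil)))) (.node 5 (.node 12 (.node 17 (.node 33 (.node 65 .nil .nil) .nil)
    (.node 41 .nil .nil)) (.node 46 (.node 49 .nil .nil) (.node 57 .nil .nil))) (.node 10 (.node 28
    (.node 37 (.node 69 .nil .nil) .nil) (.node 53 .nil .nil)) (.node 29 (.node 52 .nil .nil)
    (.node 58 .nil .nil))))) (.node 2 (.node 4 (.node 11 (.node 16 (.node 24 (.node 64 .nil .nil)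
    .nil) (.node 40 .nil .nil)) (.node 32 (.node 48 .nil .nil) (.node 56 .nil .nil))) (.node 9
    (.node 27 (.node 36 (.node 68 .nil .nil) .nil) (.node 45 .nil .nil)) (.node 21 (.node 51 .nil
    .nil) (.node 63 .nil .nil)))) (.node 6 (.node 13 (.node 18 (.node 34 (.node 66 .nil .nil) .nil)
    (.node 43 .nil .nil)) (.node 19 (.node 42 .nil .nil) (.node 61 .nil .nil))) (.node 14 (.node 30
    (.node 38 (.node 71 .nil .nil) .nil) (.node 54 .nil .nil)) (.node 22 (.node 25 .nil .nil)
    (.node 59 .nil .nil))))))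

/-- table -/
noncomputable def auxE6Eta1 : Tr ℤ :=
    (.node (-1) (.node 1 (.node 1 (.node 1 (.node 1 (.node (-1) (.node (-1) .nil .nil) .nil) (.node
    1 .nil .nil)) (.node 1 (.node (-1) (.node (-1) .nil .nil) .nil) (.node 1 .nil .nil))) (.node 1
    (.node (-1) (.node 1 (.node 1 .nil .nil) .nil) (.node (-1) .nil .nil)) (.node 1 (.node 1 .nil
    .nil) (.node 1 .nil .nil)))) (.node 1 (.node (-1) (.node 1 (.node 1 (.node 1 .nil .nil) .nil)
    (.node 1 .nil .nil)) (.node (-1) (.node (-1) .nil .nil) (.node 1 .nil .nil))) (.node 1 (.node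
    (-1) (.node 1 (.node 1 .nil .nil) .nil) (.node 1 .nil .nil)) (.node 1 (.node 1 .nil .nil)
    (.node (-1) .nil .nil))))) (.node 1 (.node 1 (.node (-1) (.node 1 (.node (-1) (.node 1 .nil
    .nil) .nil) (.node 1 .nil .nil)) (.node 1 (.node (-1) .nil .nil) (.node 1 .nil .nil))) (.node 1
    (.node (-1) (.node 1 (.node 1 .nil .nil) .nil) (.node (-1) .nil .nil)) (.node 1 (.node 1 .nil
    .nil) (.node 1 .nil .nil)))) (.node 1 (.node (-1) (.node 1 (.node 1 (.node 1 .nil .nil) .nil)
    (.node (-1) .nil .nil)) (.node 1 (.node 1 .nil .nil) (.node 1 .nil .nil))) (.node 1 (.node 1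
    (.node 1 (.node 1 .nil .nil) .nil) (.node 1 .nil .nil)) (.node (-1) (.node (-1) .nil .nil)
    (.node (-1) .nil .nil))))))

/-- table -/
noncomputable def auxE6Cart2 : Tr ℤ :=
    (.node 0 (.node 0 (.node (-1) (.node 1 (.node 1 (.node 1 (.node 0 .nil .nil) .nil) (.node (-1)
    .nil .nil)) (.node 1 (.node (-1) (.node 0 .nil .nil) .nil) (.node 0 .nil .nil))) (.node 0
    (.node (-1) (.node 0 (.node 1 .nil .nil) .nil) (.node 1 .nil .nil)) (.node (-1) (.node 1 .nil
    .nil) (.node 0 .nil .nil)))) (.node 1 (.node 0 (.node 0 (.node 0 (.node (-1) .nil .nil) .nil)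
    (.node (-1) .nil .nil)) (.node 0 (.node (-1) .nil .nil) (.node 1 .nil .nil))) (.node 0 (.node
    (-1) (.node 0 (.node 1 .nil .nil) .nil) (.node 0 .nil .nil)) (.node (-2) (.node 1 .nil .nil)
    (.node 0 .nil .nil))))) (.node (-1) (.node (-1) (.node 0 (.node 0 (.node 1 (.node (-1) .nil
    .nil) .nil) (.node (-1) .nil .nil)) (.node 1 (.node (-1) .nil .nil) (.node (-1) .nil .nil)))
    (.node 0 (.node (-1) (.node 0 (.node 1 .nil .nil) .nil) (.node 1 .nil .nil)) (.node (-1) (.node
    1 .nil .nil) (.node 0 .nil .nil)))) (.node 1 (.node 0 (.node 0 (.node 0 (.node (-1) .nil .nil)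
    .nil) (.node 1 .nil .nil)) (.node (-1) (.node 2 .nil .nil) (.node 0 .nil .nil))) (.node (-1)
    (.node 1 (.node 0 (.node 0 .nil .nil) .nil) (.node 0 .nil .nil)) (.node 1 (.node 0 .nil .nil)
    (.node 0 .nil .nil))))))

/-- table -/
noncomputable def auxE6Refl2 : Tr ℕ :=
    (.node 0 (.node 1 (.node 6 (.node 4 (.node 14 (.node 27 (.node 63 .nil .nil) .nil) (.node 50
    .nil .nil)) (.node 20 (.node 43 (.node 71 .nil .nil) .nil) (.node 55 .nil .nil))) (.node 11
    (.node 22 (.node 35 (.node 64 .nil .nil) .nil) (.node 48 .nil .nil)) (.node 31 (.node 39 .nil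
    .nil) (.node 59 .nil .nil)))) (.node 2 (.node 9 (.node 17 (.node 33 (.node 68 .nil .nil) .nil)
    (.node 52 .nil .nil)) (.node 25 (.node 45 .nil .nil) (.node 56 .nil .nil))) (.node 13 (.node 24
    (.node 37 (.node 66 .nil .nil) .nil) (.node 53 .nil .nil)) (.node 42 (.node 41 .nil .nil)
    (.node 61 .nil .nil))))) (.node 5 (.node 7 (.node 8 (.node 16 (.node 28 (.node 67 .nil .nil)
    .nil) (.node 51 .nil .nil)) (.node 21 (.node 44 .nil .nil) (.node 57 .nil .nil))) (.node 12
    (.node 23 (.node 36 (.node 65 .nil .nil) .nil) (.node 49 .nil .nil)) (.node 32 (.node 40 .nil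
    .nil) (.node 60 .nil .nil)))) (.node 3 (.node 10 (.node 18 (.node 34 (.node 69 .nil .nil) .nil)
    (.node 47 .nil .nil)) (.node 30 (.node 29 .nil .nil) (.node 58 .nil .nil))) (.node 15 (.node 19
    (.node 38 (.node 70 .nil .nil) .nil) (.node 54 .nil .nil)) (.node 26 (.node 46 .nil .nil)
    (.node 62 .nil .nil))))))

/-- table -/
noncomputable def auxE6Eta2 : Tr ℤ :=
    (.node 1 (.node 1 (.node (-1) (.node 1 (.node 1 (.node (-1) (.node 1 .nil .nil) .nil) (.node 1
    .nil .nil)) (.node 1 (.node (-1) (.node 1 .nil .nil) .nil) (.node 1 .nil .nil))) (.node 1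
    (.node (-1) (.node 1 (.node (-1) .nil .nil) .nil) (.node (-1) .nil .nil)) (.node 1 (.node 1
    .nil .nil) (.node 1 .nil .nil)))) (.node 1 (.node 1 (.node 1 (.node 1 (.node 1 .nil .nil) .nil)
    (.node 1 .nil .nil)) (.node 1 (.node (-1) .nil .nil) (.node (-1) .nil .nil))) (.node 1 (.node
    (-1) (.node 1 (.node (-1) .nil .nil) .nil) (.node 1 .nil .nil)) (.node (-1) (.node 1 .nil .nil)
    (.node 1 .nil .nil))))) (.node (-1) (.node (-1) (.node 1 (.node 1 (.node (-1) (.node 1 .nil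
    .nil) .nil) (.node 1 .nil .nil)) (.node 1 (.node (-1) .nil .nil) (.node 1 .nil .nil))) (.node 1
    (.node (-1) (.node 1 (.node (-1) .nil .nil) .nil) (.node (-1) .nil .nil)) (.node 1 (.node 1
    .nil .nil) (.node 1 .nil .nil)))) (.node 1 (.node 1 (.node 1 (.node 1 (.node 1 .nil .nil) .nil)
    (.node (-1) .nil .nil)) (.node 1 (.node (-1) .nil .nil) (.node 1 .nil .nil))) (.node (-1)
    (.node 1 (.node 1 (.node 1 .nil .nil) .nil) (.node 1 .nil .nil)) (.node (-1) (.node 1 .nil
    .nil) (.node 1 .nil .nil))))))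

/-- table -/
noncomputable def auxE6Cart3 : Tr ℤ :=
    (.node 0 (.node (-1) (.node 0 (.node (-1) (.node 0 (.node (-1) (.node (-1) .nil .nil) .nil)
    (.node 1 .nil .nil)) (.node 0 (.node 2 (.node 0 .nil .nil) .nil) (.node 0 .nil .nil))) (.node 0
    (.node 1 (.node 0 (.node 0 .nil .nil) .nil) (.node (-1) .nil .nil)) (.node 0 (.node 1 .nil
    .nil) (.node 0 .nil .nil)))) (.node 0 (.node 1 (.node (-1) (.node 1 (.node 1 .nil .nil) .nil)
    (.node 0 .nil .nil)) (.node 1 (.node 1 .nil .nil) (.node (-1) .nil .nil))) (.node (-1) (.node 0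
    (.node (-1) (.node (-1) .nil .nil) .nil) (.node 1 .nil .nil)) (.node 1 (.node 0 .nil .nil)
    (.node 0 .nil .nil))))) (.node 1 (.node 0 (.node 1 (.node 0 (.node (-2) (.node 1 .nil .nil)
    .nil) (.node 0 .nil .nil)) (.node (-1) (.node 1 .nil .nil) (.node 0 .nil .nil))) (.node 0
    (.node 1 (.node 0 (.node 0 .nil .nil) .nil) (.node (-1) .nil .nil)) (.node (-1) (.node 0 .nil
    .nil) (.node 0 .nil .nil)))) (.node (-1) (.node 0 (.node (-1) (.node 1 (.node 0 .nil .nil)
    .nil) (.node 0 .nil .nil)) (.node 0 (.node (-1) .nil .nil) (.node 1 .nil .nil))) (.node 1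
    (.node 0 (.node (-1) (.node 1 .nil .nil) .nil) (.node 1 .nil .nil)) (.node (-1) (.node (-1)
    .nil .nil) (.node (-1) .nil .nil))))))

/-- table -/
noncomputable def auxE6Refl3 : Tr ℕ :=
    (.node 0 (.node 2 (.node 3 (.node 9 (.node 15 (.node 34 (.node 65 .nil .nil) .nil) (.node 46
    .nil .nil)) (.node 23 (.node 32 (.node 71 .nil .nil) .nil) (.node 55 .nil .nil))) (.node 11
    (.node 17 (.node 35 (.node 67 .nil .nil) .nil) (.node 53 .nil .nil)) (.node 27 (.node 42 .nil
    .nil) (.node 59 .nil .nil)))) (.node 5 (.node 7 (.node 19 (.node 30 (.node 63 .nil .nil) .nil)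
    (.node 49 .nil .nil)) (.node 24 (.node 38 .nil .nil) (.node 58 .nil .nil))) (.node 14 (.node 21
    (.node 40 (.node 70 .nil .nil) .nil) (.node 51 .nil .nil)) (.node 28 (.node 45 .nil .nil)
    (.node 61 .nil .nil))))) (.node 1 (.node 4 (.node 6 (.node 16 (.node 39 (.node 62 .nil .nil)
    .nil) (.node 48 .nil .nil)) (.node 25 (.node 37 .nil .nil) (.node 56 .nil .nil))) (.node 12
    (.node 18 (.node 36 (.node 68 .nil .nil) .nil) (.node 54 .nil .nil)) (.node 29 (.node 44 .nil
    .nil) (.node 60 .nil .nil)))) (.node 8 (.node 10 (.node 20 (.node 31 (.node 66 .nil .nil) .nil)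
    (.node 50 .nil .nil)) (.node 26 (.node 43 .nil .nil) (.node 57 .nil .nil))) (.node 13 (.node 22
    (.node 41 (.node 69 .nil .nil) .nil) (.node 52 .nil .nil)) (.node 33 (.node 47 .nil .nil)
    (.node 64 .nil .nil))))))

/-- table -/
noncomputable def auxE6Eta3 : Tr ℤ :=
    (.node 1 (.node (-1) (.node 1 (.node (-1) (.node 1 (.node 1 (.node 1 .nil .nil) .nil) (.node
    (-1) .nil .nil)) (.node 1 (.node (-1) (.node 1 .nil .nil) .nil) (.node 1 .nil .nil))) (.node 1
    (.node 1 (.node 1 (.node 1 .nil .nil) .nil) (.node 1 .nil .nil)) (.node 1 (.node (-1) .nil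
    .nil) (.node 1 .nil .nil)))) (.node 1 (.node 1 (.node (-1) (.node (-1) (.node (-1) .nil .nil)
    .nil) (.node 1 .nil .nil)) (.node 1 (.node 1 .nil .nil) (.node 1 .nil .nil))) (.node (-1)
    (.node 1 (.node (-1) (.node 1 .nil .nil) .nil) (.node (-1) .nil .nil)) (.node 1 (.node 1 .nil
    .nil) (.node 1 .nil .nil))))) (.node 1 (.node 1 (.node 1 (.node 1 (.node (-1) (.node (-1) .nil
    .nil) .nil) (.node 1 .nil .nil)) (.node (-1) (.node 1 .nil .nil) (.node 1 .nil .nil))) (.node 1
    (.node 1 (.node 1 (.node 1 .nil .nil) .nil) (.node 1 .nil .nil)) (.node (-1) (.node 1 .nil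
    .nil) (.node 1 .nil .nil)))) (.node (-1) (.node 1 (.node (-1) (.node (-1) (.node 1 .nil .nil)
    .nil) (.node 1 .nil .nil)) (.node 1 (.node 1 .nil .nil) (.node (-1) .nil .nil))) (.node 1
    (.node 1 (.node (-1) (.node (-1) .nil .nil) .nil) (.node (-1) .nil .nil)) (.node 1 (.node 1
    .nil .nil) (.node 1 .nil .nil))))))

/-- table -/
noncomputable def auxE6Cart4 : Tr ℤ :=
    (.node 0 (.node 0 (.node 1 (.node 0 (.node 0 (.node (-1) (.node 0 .nil .nil) .nil) (.node (-1)
    .nil .nil)) (.node (-1) (.node (-1) (.node 0 .nil .nil) .nil) (.node 1 .nil .nil))) (.node 0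
    (.node 0 (.node 1 (.node 0 .nil .nil) .nil) (.node 1 .nil .nil)) (.node (-1) (.node (-1) .nil
    .nil) (.node 1 .nil .nil)))) (.node (-1) (.node (-1) (.node 1 (.node (-1) (.node (-1) .nil
    .nil) .nil) (.node 0 .nil .nil)) (.node 0 (.node 0 .nil .nil) (.node 0 .nil .nil))) (.node 1
    (.node 1 (.node 2 (.node 1 .nil .nil) .nil) (.node 0 .nil .nil)) (.node 0 (.node 0 .nil .nil)
    (.node (-1) .nil .nil))))) (.node (-1) (.node 0 (.node 0 (.node (-1) (.node 1 (.node 0 .nil
    .nil) .nil) (.node 1 .nil .nil)) (.node 1 (.node 1 .nil .nil) (.node 0 .nil .nil))) (.node (-1)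
    (.node (-1) (.node (-1) (.node (-1) .nil .nil) .nil) (.node 0 .nil .nil)) (.node 1 (.node 1
    .nil .nil) (.node 0 .nil .nil)))) (.node 1 (.node 1 (.node 0 (.node (-2) (.node 1 .nil .nil)
    .nil) (.node (-1) .nil .nil)) (.node 0 (.node 0 .nil .nil) (.node (-1) .nil .nil))) (.node 0
    (.node 0 (.node 1 (.node 0 .nil .nil) .nil) (.node (-1) .nil .nil)) (.node 0 (.node 0 .nil
    .nil) (.node 1 .nil .nil))))))

/-- table -/
noncomputable def auxE6Refl4 : Tr ℕ :=
    (.node 0 (.node 1 (.node 2 (.node 7 (.node 15 (.node 32 (.node 63 .nil .nil) .nil) (.node 48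
    .nil .nil)) (.node 24 (.node 40 (.node 71 .nil .nil) .nil) (.node 54 .nil .nil))) (.node 11
    (.node 19 (.node 33 (.node 67 .nil .nil) .nil) (.node 50 .nil .nil)) (.node 28 (.node 44 .nil
    .nil) (.node 58 .nil .nil)))) (.node 6 (.node 10 (.node 16 (.node 35 (.node 66 .nil .nil) .nil)
    (.node 49 .nil .nil)) (.node 25 (.node 41 .nil .nil) (.node 57 .nil .nil))) (.node 12 (.node 20
    (.node 34 (.node 68 .nil .nil) .nil) (.node 53 .nil .nil)) (.node 29 (.node 45 .nil .nil)
    (.node 62 .nil .nil))))) (.node 3 (.node 4 (.node 8 (.node 17 (.node 31 (.node 64 .nil .nil)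
    .nil) (.node 47 .nil .nil)) (.node 23 (.node 39 .nil .nil) (.node 56 .nil .nil))) (.node 13
    (.node 21 (.node 38 (.node 69 .nil .nil) .nil) (.node 52 .nil .nil)) (.node 27 (.node 43 .nil
    .nil) (.node 60 .nil .nil)))) (.node 5 (.node 9 (.node 18 (.node 37 (.node 65 .nil .nil) .nil)
    (.node 51 .nil .nil)) (.node 26 (.node 42 .nil .nil) (.node 59 .nil .nil))) (.node 14 (.node 22
    (.node 36 (.node 70 .nil .nil) .nil) (.node 55 .nil .nil)) (.node 30 (.node 46 .nil .nil)
    (.node 61 .nil .nil))))))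

/-- table -/
noncomputable def auxE6Eta4 : Tr ℤ :=
    (.node 1 (.node 1 (.node 1 (.node 1 (.node 1 (.node (-1) (.node 1 .nil .nil) .nil) (.node 1
    .nil .nil)) (.node (-1) (.node 1 (.node 1 .nil .nil) .nil) (.node (-1) .nil .nil))) (.node 1
    (.node 1 (.node (-1) (.node 1 .nil .nil) .nil) (.node (-1) .nil .nil)) (.node (-1) (.node 1
    .nil .nil) (.node (-1) .nil .nil)))) (.node (-1) (.node (-1) (.node 1 (.node 1 (.node 1 .nil
    .nil) .nil) (.node 1 .nil .nil)) (.node 1 (.node 1 .nil .nil) (.node 1 .nil .nil))) (.node 1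
    (.node 1 (.node (-1) (.node (-1) .nil .nil) .nil) (.node 1 .nil .nil)) (.node 1 (.node 1 .nil
    .nil) (.node 1 .nil .nil))))) (.node (-1) (.node 1 (.node 1 (.node (-1) (.node 1 (.node 1 .nil
    .nil) .nil) (.node (-1) .nil .nil)) (.node 1 (.node (-1) .nil .nil) (.node 1 .nil .nil)))
    (.node (-1) (.node (-1) (.node (-1) (.node 1 .nil .nil) .nil) (.node 1 .nil .nil)) (.node 1
    (.node (-1) .nil .nil) (.node 1 .nil .nil)))) (.node 1 (.node 1 (.node 1 (.node (-1) (.node
    (-1) .nil .nil) .nil) (.node 1 .nil .nil)) (.node 1 (.node 1 .nil .nil) (.node 1 .nil .nil)))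
    (.node 1 (.node 1 (.node 1 (.node 1 .nil .nil) .nil) (.node 1 .nil .nil)) (.node 1 (.node 1
    .nil .nil) (.node (-1) .nil .nil))))))

/-- table -/
noncomputable def auxE6Cart5 : Tr ℤ :=
    (.node 0 (.node 0 (.node (-1) (.node 1 (.node 0 (.node 1 (.node 1 .nil .nil) .nil) (.node 0
    .nil .nil)) (.node 1 (.node 0 (.node 0 .nil .nil) .nil) (.node 0 .nil .nil))) (.node (-1)
    (.node (-1) (.node (-2) (.node (-1) .nil .nil) .nil) (.node (-1) .nil .nil)) (.node 1 (.node 0
    .nil .nil) (.node (-1) .nil .nil)))) (.node 0 (.node 1 (.node (-1) (.node (-1) (.node 1 .nil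
    .nil) .nil) (.node 1 .nil .nil)) (.node 0 (.node 1 .nil .nil) (.node 0 .nil .nil))) (.node 0
    (.node 0 (.node (-1) (.node 0 .nil .nil) .nil) (.node (-1) .nil .nil)) (.node 0 (.node 1 .nil
    .nil) (.node 0 .nil .nil))))) (.node 0 (.node 1 (.node (-1) (.node 0 (.node 0 (.node (-1) .nil
    .nil) .nil) (.node (-1) .nil .nil)) (.node 0 (.node (-1) .nil .nil) (.node 0 .nil .nil)))
    (.node 1 (.node 1 (.node 2 (.node 1 .nil .nil) .nil) (.node 1 .nil .nil)) (.node 0 (.node (-1)
    .nil .nil) (.node 1 .nil .nil)))) (.node (-1) (.node 0 (.node 1 (.node 1 (.node 0 .nil .nil)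
    .nil) (.node 0 .nil .nil)) (.node (-1) (.node 0 .nil .nil) (.node 0 .nil .nil))) (.node 0
    (.node (-1) (.node 1 (.node 0 .nil .nil) .nil) (.node 1 .nil .nil)) (.node (-1) (.node 0 .nil
    .nil) (.node (-1) .nil .nil))))))

/-- table -/
noncomputable def auxE6Refl5 : Tr ℕ :=
    (.node 0 (.node 1 (.node 4 (.node 6 (.node 15 (.node 30 (.node 62 .nil .nil) .nil) (.node 47
    .nil .nil)) (.node 22 (.node 39 (.node 71 .nil .nil) .nil) (.node 55 .nil .nil))) (.node 12
    (.node 20 (.node 36 (.node 68 .nil .nil) .nil) (.node 52 .nil .nil)) (.node 26 (.node 43 .nil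
    .nil) (.node 60 .nil .nil)))) (.node 5 (.node 8 (.node 18 (.node 34 (.node 64 .nil .nil) .nil)
    (.node 48 .nil .nil)) (.node 25 (.node 40 .nil .nil) (.node 57 .nil .nil))) (.node 13 (.node 21
    (.node 38 (.node 69 .nil .nil) .nil) (.node 54 .nil .nil)) (.node 29 (.node 44 .nil .nil)
    (.node 61 .nil .nil))))) (.node 2 (.node 3 (.node 9 (.node 16 (.node 32 (.node 65 .nil .nil)
    .nil) (.node 49 .nil .nil)) (.node 24 (.node 41 .nil .nil) (.node 56 .nil .nil))) (.node 11
    (.node 19 (.node 35 (.node 67 .nil .nil) .nil) (.node 51 .nil .nil)) (.node 28 (.node 45 .nil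
    .nil) (.node 59 .nil .nil)))) (.node 7 (.node 10 (.node 17 (.node 33 (.node 66 .nil .nil) .nil)
    (.node 50 .nil .nil)) (.node 27 (.node 42 .nil .nil) (.node 58 .nil .nil))) (.node 14 (.node 23
    (.node 37 (.node 70 .nil .nil) .nil) (.node 53 .nil .nil)) (.node 31 (.node 46 .nil .nil)
    (.node 63 .nil .nil))))))

/-- table -/
noncomputable def auxE6Eta5 : Tr ℤ :=
    (.node 1 (.node 1 (.node (-1) (.node 1 (.node 1 (.node 1 (.node (-1) .nil .nil) .nil) (.node 1
    .nil .nil)) (.node 1 (.node 1 (.node 1 .nil .nil) .nil) (.node 1 .nil .nil))) (.node (-1)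
    (.node (-1) (.node (-1) (.node 1 .nil .nil) .nil) (.node 1 .nil .nil)) (.node 1 (.node 1 .nil
    .nil) (.node 1 .nil .nil)))) (.node 1 (.node 1 (.node (-1) (.node (-1) (.node (-1) .nil .nil)
    .nil) (.node (-1) .nil .nil)) (.node 1 (.node (-1) .nil .nil) (.node 1 .nil .nil))) (.node 1
    (.node 1 (.node 1 (.node 1 .nil .nil) .nil) (.node 1 .nil .nil)) (.node 1 (.node (-1) .nil
    .nil) (.node 1 .nil .nil))))) (.node 1 (.node 1 (.node (-1) (.node 1 (.node 1 (.node 1 .nil
    .nil) .nil) (.node 1 .nil .nil)) (.node 1 (.node 1 .nil .nil) (.node 1 .nil .nil))) (.node 1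
    (.node 1 (.node (-1) (.node (-1) .nil .nil) .nil) (.node (-1) .nil .nil)) (.node 1 (.node 1
    .nil .nil) (.node (-1) .nil .nil)))) (.node (-1) (.node 1 (.node 1 (.node 1 (.node 1 .nil .nil)
    .nil) (.node 1 .nil .nil)) (.node (-1) (.node 1 .nil .nil) (.node 1 .nil .nil))) (.node 1
    (.node (-1) (.node (-1) (.node 1 .nil .nil) .nil) (.node (-1) .nil .nil)) (.node (-1) (.node 1
    .nil .nil) (.node 1 .nil .nil))))))

/-- table -/
noncomputable def auxE6Chain0 : Tr (List (ℕ × ℤ)) :=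
    (.node [] (.node [] (.node [] (.node [] (.node [] (.node [] (.node [(18,(-1))] .nil .nil) .nil)
    (.node [(2,(-1))] .nil .nil)) (.node [] .nil (.node [(10,1)] .nil .nil))) (.node [] (.node []
    (.node [] (.node [(22,1)] .nil .nil) .nil) (.node [(6,(-1))] .nil .nil)) .nil)) (.node []
    (.node [] (.node [] (.node [] (.node [(20,1)] .nil .nil) .nil) (.node [(4,(-1))] .nil .nil))
    .nil) (.node [] (.node [] (.node [] (.node [(24,1)] .nil .nil) .nil) (.node [(8,1)] .nil .nil))
    (.node [] .nil (.node [(16,(-1))] .nil .nil))))) (.node [] (.node [] (.node [] (.node [] (.node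
    [] (.node [(19,(-1))] .nil .nil) .nil) (.node [(3,1)] .nil .nil)) .nil) (.node [] (.node []
    (.node [] (.node [(23,(-1))] .nil .nil) .nil) (.node [(7,1)] .nil .nil)) .nil)) (.node []
    (.node [] (.node [] (.node [] (.node [(21,(-1))] .nil .nil) .nil) (.node [(5,1)] .nil .nil))
    .nil) (.node [] (.node [] (.node [] (.node [(25,(-1))] .nil .nil) .nil) (.node [(9,(-1))] .nil
    .nil)) (.node [] (.node [(1,1)] .nil .nil) (.node [(17,1)] .nil .nil))))))

/-- table -/
noncomputable def auxE6Chain1 : Tr (List (ℕ × ℤ)) :=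
    (.node [] (.node [] (.node [] (.node [] .nil (.node [] (.node [(2,1)] (.node [(46,(-1))] .nil
    .nil) .nil) (.node [(13,1)] .nil .nil))) (.node [] (.node [] (.node [] (.node [(30,(-1))] .nil
    .nil) .nil) .nil) (.node [] (.node [(5,1)] .nil .nil) (.node [(17,1)] .nil .nil)))) (.node []
    (.node [] (.node [] (.node [] (.node [(27,1)] .nil .nil) .nil) .nil) (.node [(0,1)] (.node
    [(4,1)] .nil .nil) .nil)) (.node [] (.node [] (.node [] (.node [(32,(-1))] .nil .nil) .nil)
    (.node [(11,1)] .nil .nil)) (.node [] (.node [(7,1)] .nil .nil) .nil)))) (.node [] (.node []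
    (.node [] (.node [] (.node [] (.node [(26,(-1))] .nil .nil) .nil) .nil) (.node [] (.node
    [(3,(-1))] .nil .nil) .nil)) (.node [] (.node [] (.node [] (.node [(31,1)] .nil .nil) .nil)
    .nil) (.node [] (.node [(6,(-1))] .nil .nil) (.node [(18,(-1))] .nil .nil)))) (.node [] (.node
    [] (.node [] (.node [] (.node [(28,(-1))] .nil .nil) .nil) .nil) (.node [] .nil (.node
    [(16,(-1))] .nil .nil))) (.node [] (.node [] .nil (.node [(12,(-1))] .nil .nil)) .nil))))

/-- table -/
noncomputable def auxE6Chain2 : Tr (List (ℕ × ℤ)) :=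
    (.node [] (.node [] (.node [] (.node [] (.node [] (.node [] (.node [(27,1)] .nil .nil) .nil)
    .nil) (.node [] (.node [] (.node [(47,1)] .nil .nil) .nil) (.node [(14,1)] .nil .nil))) (.node
    [] (.node [] (.node [] (.node [(33,1)] .nil .nil) .nil) (.node [(11,1)] .nil .nil)) (.node []
    .nil (.node [(19,1)] .nil .nil)))) (.node [] (.node [] .nil (.node [] .nil (.node [(16,(-1))]
    .nil .nil))) (.node [] (.node [] (.node [(3,1)] .nil .nil) .nil) (.node [] (.node [(9,1)] .nil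
    .nil) .nil)))) (.node [] (.node [] (.node [] (.node [] (.node [(1,1)] .nil .nil) .nil) (.node
    [(0,(-1))] .nil .nil)) (.node [] (.node [] (.node [] (.node [(34,(-1))] .nil .nil) .nil) (.node
    [(12,(-1))] .nil .nil)) (.node [] (.node [(8,(-1))] .nil .nil) (.node [(20,(-1))] .nil .nil))))
    (.node [] (.node [] (.node [] (.node [] (.node [(29,(-1))] .nil .nil) .nil) .nil) (.node []
    (.node [(5,1)] .nil .nil) .nil)) (.node [] (.node [] (.node [(4,(-1))] (.node [(39,(-1))] .nil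
    .nil) .nil) .nil) (.node [] .nil (.node [(26,(-1))] .nil .nil))))))

/-- table -/
noncomputable def auxE6Chain3 : Tr (List (ℕ × ℤ)) :=
    (.node [] (.node [] (.node [] (.node [] (.node [] (.node [(1,(-1))] (.node [(28,1)] .nil .nil)
    .nil) .nil) (.node [(0,1)] (.node [] (.node [(48,(-1))] .nil .nil) .nil) .nil)) (.node []
    (.node [] (.node [] (.node [(35,(-1))] .nil .nil) .nil) .nil) (.node [] (.node [(8,(-1))] .nil
    .nil) .nil))) (.node [] (.node [] (.node [] (.node [] (.node [(29,(-1))] .nil .nil) .nil) .nil)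
    (.node [] .nil (.node [(17,(-1))] .nil .nil))) (.node [] (.node [] (.node [] (.node [(37,(-1))]
    .nil .nil) .nil) .nil) (.node [] (.node [(10,1)] .nil .nil) (.node [(26,(-1))] .nil .nil)))))
    (.node [] (.node [] .nil (.node [] (.node [] (.node [(4,1)] .nil .nil) (.node [(13,(-1))] .nil
    .nil)) (.node [] .nil (.node [(21,(-1))] .nil .nil)))) (.node [] (.node [] (.node [] (.node
    [(2,1)] .nil .nil) (.node [(11,1)] .nil .nil)) (.node [] (.node [(6,1)] .nil .nil) (.node
    [(19,1)] .nil .nil))) (.node [] (.node [] (.node [] (.node [(40,1)] .nil .nil) .nil) (.node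
    [(14,1)] .nil .nil)) .nil))))

/-- table -/
noncomputable def auxE6Chain4 : Tr (List (ℕ × ℤ)) :=
    (.node [] (.node [] (.node [] (.node [] .nil (.node [] (.node [] (.node [(49,1)] .nil .nil)
    .nil) .nil)) (.node [] (.node [] (.node [(3,1)] .nil .nil) (.node [(13,(-1))] .nil .nil))
    (.node [] (.node [(9,(-1))] .nil .nil) (.node [(21,(-1))] .nil .nil)))) (.node [] (.node []
    (.node [] (.node [(2,(-1))] .nil .nil) .nil) (.node [] .nil (.node [(18,(-1))] .nil .nil)))
    (.node [] (.node [] (.node [] (.node [(38,1)] .nil .nil) .nil) (.node [(14,1)] .nil .nil))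
    (.node [] .nil (.node [(27,(-1))] .nil .nil))))) (.node [] (.node [] (.node [] (.node [] (.node
    [] (.node [(29,(-1))] .nil .nil) .nil) .nil) .nil) (.node [] (.node [] (.node [] (.node
    [(36,(-1))] .nil .nil) .nil) .nil) (.node [] (.node [(10,1)] .nil .nil) .nil))) (.node []
    (.node [] (.node [] .nil (.node [(12,1)] .nil .nil)) (.node [] (.node [(7,1)] .nil .nil) (.node
    [(20,1)] .nil .nil))) (.node [] (.node [(0,(-1))] (.node [] (.node [(41,(-1))] .nil .nil) .nil)
    .nil) (.node [(1,1)] .nil (.node [(28,1)] .nil .nil))))))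

/-- table -/
noncomputable def auxE6Chain5 : Tr (List (ℕ × ℤ)) :=
    (.node [] (.node [] (.node [] (.node [] (.node [] (.node [] (.node [(31,(-1))] .nil .nil) .nil)
    .nil) (.node [] (.node [] (.node [(50,(-1))] .nil .nil) .nil) (.node [(15,1)] .nil .nil)))
    (.node [] .nil (.node [] .nil (.node [(22,1)] .nil .nil)))) (.node [] (.node [] (.node []
    (.node [] (.node [(34,(-1))] .nil .nil) .nil) (.node [(12,(-1))] .nil .nil)) (.node [] (.node
    [(9,(-1))] .nil .nil) .nil)) (.node [] (.node [(0,1)] (.node [(6,1)] (.node [(42,(-1))] .nil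
    .nil) .nil) .nil) (.node [(2,1)] .nil .nil)))) (.node [] (.node [] (.node [] (.node [] (.node
    [] (.node [(33,1)] .nil .nil) .nil) (.node [(11,1)] .nil .nil)) (.node [] (.node [(8,1)] .nil
    .nil) (.node [(16,(-1))] .nil .nil))) (.node [] .nil (.node [(1,1)] .nil (.node [(23,(-1))]
    .nil .nil)))) (.node [] .nil (.node [] (.node [] (.node [(7,(-1))] (.node [(43,(-1))] .nil
    .nil) .nil) .nil) (.node [] .nil (.node [(30,1)] .nil .nil))))))

/-- table -/
noncomputable def auxE6Chain6 : Tr (List (ℕ × ℤ)) :=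
    (.node [] (.node [] (.node [] (.node [] (.node [] (.node [] (.node [(32,(-1))] .nil .nil) .nil)
    (.node [(11,1)] .nil .nil)) (.node [] (.node [(8,1)] (.node [(51,1)] .nil .nil) .nil) .nil))
    (.node [] .nil (.node [(1,(-1))] .nil .nil))) (.node [] (.node [] (.node [] .nil (.node
    [(13,(-1))] .nil .nil)) (.node [] (.node [(10,(-1))] .nil .nil) .nil)) (.node [] .nil (.node
    [(3,1)] .nil (.node [(30,1)] .nil .nil))))) (.node [] (.node [] (.node [] (.node [] (.node []
    (.node [(35,(-1))] .nil .nil) .nil) .nil) (.node [] .nil (.node [(17,(-1))] .nil .nil))) (.node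
    [] (.node [(0,(-1))] (.node [(7,1)] (.node [(42,(-1))] .nil .nil) .nil) .nil) (.node [] .nil
    (.node [(24,(-1))] .nil .nil)))) (.node [] (.node [] (.node [] (.node [(5,1)] (.node
    [(37,(-1))] .nil .nil) .nil) .nil) (.node [] .nil (.node [(22,1)] .nil .nil))) (.node [] (.node
    [] (.node [] (.node [(44,1)] .nil .nil) .nil) (.node [(15,1)] .nil .nil)) .nil))))

/-- table -/
noncomputable def auxE6Chain7 : Tr (List (ℕ × ℤ)) :=
    (.node [] (.node [] (.node [] (.node [] (.node [] .nil (.node [(12,1)] .nil .nil)) (.node []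
    (.node [(9,1)] (.node [(52,(-1))] .nil .nil) .nil) .nil)) (.node [] (.node [(0,1)] (.node
    [(6,1)] (.node [(42,(-1))] .nil .nil) .nil) .nil) (.node [] .nil (.node [(24,(-1))] .nil
    .nil)))) (.node [] (.node [] (.node [] (.node [(5,(-1))] (.node [(36,(-1))] .nil .nil) .nil)
    .nil) .nil) (.node [] (.node [] .nil (.node [(15,1)] .nil .nil)) (.node [(4,1)] .nil (.node
    [(31,1)] .nil .nil))))) (.node [] (.node [] (.node [] (.node [] .nil (.node [(13,(-1))] .nil
    .nil)) (.node [] (.node [(10,(-1))] .nil .nil) (.node [(18,(-1))] .nil .nil))) .nil) (.node []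
    (.node [] (.node [] (.node [] (.node [(38,1)] .nil .nil) .nil) .nil) (.node [(1,1)] .nil (.node
    [(23,1)] .nil .nil))) (.node [] (.node [] (.node [] (.node [(45,(-1))] .nil .nil) .nil) .nil)
    (.node [] .nil (.node [(32,(-1))] .nil .nil))))))

/-- table -/
noncomputable def auxE6Chain8 : Tr (List (ℕ × ℤ)) :=
    (.node [] (.node [] (.node [] (.node [] (.node [] (.node [(5,1)] .nil .nil) .nil) (.node []
    (.node [] (.node [(53,(-1))] .nil .nil) .nil) .nil)) (.node [] .nil (.node [(2,(-1))] .nil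
    .nil))) (.node [] (.node [] (.node [] (.node [] (.node [(39,(-1))] .nil .nil) .nil) (.node
    [(14,(-1))] .nil .nil)) (.node [] .nil (.node [(22,1)] .nil .nil))) (.node [] (.node [] (.node
    [] (.node [(44,1)] .nil .nil) .nil) .nil) (.node [] .nil (.node [(33,(-1))] .nil .nil)))))
    (.node [] (.node [] (.node [] (.node [] (.node [(6,1)] .nil .nil) .nil) (.node [] .nil (.node
    [(19,(-1))] .nil .nil))) (.node [] (.node [] (.node [(9,1)] (.node [(43,1)] .nil .nil) .nil)
    (.node [(15,1)] .nil .nil)) (.node [(3,(-1))] .nil (.node [(25,(-1))] .nil .nil)))) (.node []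
    (.node [] (.node [(0,1)] (.node [] (.node [(40,(-1))] .nil .nil) .nil) .nil) .nil) (.node []
    (.node [] (.node [(10,1)] .nil .nil) .nil) (.node [] (.node [(11,1)] .nil .nil) (.node
    [(35,(-1))] .nil .nil))))))

/-- table -/
noncomputable def auxE6Chain9 : Tr (List (ℕ × ℤ)) :=
    (.node [] (.node [] (.node [] (.node [] (.node [] (.node [] (.node [(36,(-1))] .nil .nil) .nil)
    .nil) (.node [] (.node [] (.node [(54,1)] .nil .nil) .nil) .nil)) (.node [] (.node [] (.node
    [(8,1)] (.node [(43,1)] .nil .nil) .nil) (.node [(15,1)] .nil .nil)) (.node [] .nil (.node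
    [(25,(-1))] .nil .nil)))) (.node [] (.node [] (.node [(0,(-1))] .nil .nil) (.node [] .nil
    (.node [(23,1)] .nil .nil))) (.node [] (.node [] (.node [(10,1)] (.node [(45,(-1))] .nil .nil)
    .nil) .nil) (.node [] .nil (.node [(34,(-1))] .nil .nil))))) (.node [] (.node [] (.node []
    (.node [] (.node [(7,1)] (.node [(39,(-1))] .nil .nil) .nil) (.node [(14,(-1))] .nil .nil))
    (.node [] .nil (.node [(20,(-1))] .nil .nil))) (.node [] .nil (.node [(4,(-1))] .nil .nil)))
    (.node [] (.node [] (.node [] (.node [] (.node [(41,1)] .nil .nil) .nil) .nil) (.node [(2,1)]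
    .nil .nil)) (.node [] .nil (.node [(5,(-1))] (.node [(12,1)] .nil .nil) .nil)))))

/-- table -/
noncomputable def auxE6Chain10 : Tr (List (ℕ × ℤ)) :=
    (.node [] (.node [] (.node [] (.node [] (.node [] (.node [(7,(-1))] (.node [(38,(-1))] .nil
    .nil) .nil) (.node [(14,(-1))] .nil .nil)) (.node [] (.node [] (.node [(55,(-1))] .nil .nil)
    .nil) .nil)) (.node [] (.node [] (.node [] (.node [(44,(-1))] .nil .nil) .nil) .nil) (.node
    [(4,1)] .nil .nil))) (.node [] (.node [] (.node [] (.node [(8,1)] (.node [(41,1)] .nil .nil)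
    .nil) .nil) (.node [] .nil (.node [(24,1)] .nil .nil))) .nil)) (.node [] (.node [] (.node []
    (.node [(0,1)] (.node [] (.node [(40,1)] .nil .nil) .nil) .nil) (.node [] .nil (.node
    [(21,(-1))] .nil .nil))) (.node [] (.node [] (.node [] (.node [(45,(-1))] .nil .nil) .nil)
    .nil) .nil)) (.node [] (.node [] (.node [] (.node [(9,1)] .nil .nil) (.node [(15,1)] .nil
    .nil)) (.node [(3,1)] .nil (.node [(25,(-1))] .nil .nil))) (.node [] .nil (.node [(6,(-1))]
    (.node [(13,1)] .nil .nil) (.node [(37,(-1))] .nil .nil))))))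

/-- table -/
noncomputable def auxE6Chain11 : Tr (List (ℕ × ℤ)) :=
    (.node [] (.node [] (.node [] (.node [] (.node [] (.node [] (.node [(46,(-1))] .nil .nil) .nil)
    .nil) (.node [(5,1)] .nil .nil)) (.node [] .nil (.node [] .nil (.node [(35,(-1))] .nil .nil))))
    (.node [] (.node [] (.node [] (.node [] (.node [(47,(-1))] .nil .nil) .nil) .nil) (.node
    [(8,1)] (.node [(14,1)] .nil .nil) (.node [(30,(-1))] .nil .nil))) (.node [] (.node [(3,1)]
    (.node [] (.node [(51,(-1))] .nil .nil) .nil) .nil) (.node [] (.node [(15,1)] .nil .nil)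
    .nil)))) (.node [] (.node [] (.node [] .nil (.node [(6,1)] .nil (.node [(26,(-1))] .nil .nil)))
    (.node [] (.node [(2,1)] (.node [(12,1)] (.node [(50,(-1))] .nil .nil) .nil) .nil) .nil))
    (.node [] (.node [] (.node [(1,1)] (.node [] (.node [(48,(-1))] .nil .nil) .nil) .nil) (.node
    [] .nil (.node [(33,(-1))] .nil .nil))) (.node [] (.node [] (.node [(13,1)] (.node [(53,(-1))]
    .nil .nil) .nil) .nil) .nil))))

/-- table -/
noncomputable def auxE6Chain12 : Tr (List (ℕ × ℤ)) :=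
    (.node [] (.node [] (.node [] .nil (.node [] (.node [(2,(-1))] (.node [(11,1)] (.node
    [(50,(-1))] .nil .nil) .nil) .nil) .nil)) (.node [] (.node [] (.node [(1,(-1))] .nil .nil)
    (.node [(9,1)] .nil (.node [(31,(-1))] .nil .nil))) (.node [] (.node [(4,1)] (.node [(13,1)]
    (.node [(52,1)] .nil .nil) .nil) .nil) .nil))) (.node [] (.node [] (.node [] (.node [] (.node
    [] (.node [(47,(-1))] .nil .nil) .nil) .nil) (.node [(7,1)] (.node [(14,1)] .nil .nil) (.node
    [(27,(-1))] .nil .nil))) (.node [] .nil (.node [] (.node [(15,1)] .nil .nil) (.node [(36,(-1))]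
    .nil .nil)))) (.node [] (.node [] (.node [] (.node [] (.node [(49,1)] .nil .nil) .nil) .nil)
    (.node [] .nil (.node [(34,(-1))] .nil .nil))) (.node [] (.node [(5,(-1))] (.node [] (.node
    [(54,1)] .nil .nil) .nil) .nil) (.node [] .nil (.node [(46,(-1))] .nil .nil))))))

/-- table -/
noncomputable def auxE6Chain13 : Tr (List (ℕ × ℤ)) :=
    (.node [] (.node [] (.node [] (.node [] .nil (.node [(7,(-1))] (.node [(14,1)] .nil .nil)
    .nil)) (.node [] (.node [(3,(-1))] (.node [] (.node [(51,1)] .nil .nil) .nil) .nil) (.node []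
    (.node [(15,1)] .nil .nil) (.node [(37,(-1))] .nil .nil)))) (.node [] (.node [] (.node []
    (.node [(11,1)] (.node [(49,1)] .nil .nil) .nil) .nil) (.node [(10,1)] .nil (.node [(32,(-1))]
    .nil .nil))) (.node [] .nil (.node [] .nil (.node [(46,(-1))] .nil .nil))))) (.node [] (.node
    [] (.node [] (.node [(1,1)] (.node [] (.node [(48,1)] .nil .nil) .nil) .nil) (.node [] .nil
    (.node [(28,(-1))] .nil .nil))) (.node [] (.node [(4,(-1))] (.node [] (.node [(52,1)] .nil
    .nil) .nil) .nil) (.node [] .nil (.node [(38,(-1))] .nil .nil)))) (.node [] (.node [] (.node []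
    (.node [(12,1)] .nil .nil) .nil) .nil) (.node [] (.node [(6,(-1))] (.node [] (.node [(55,(-1))]
    .nil .nil) .nil) .nil) .nil))))

/-- table -/
noncomputable def auxE6Chain14 : Tr (List (ℕ × ℤ)) :=
    (.node [] (.node [] (.node [] (.node [] (.node [] (.node [(12,1)] (.node [(49,1)] .nil .nil)
    .nil) .nil) (.node [(9,(-1))] .nil .nil)) (.node [] (.node [] (.node [] (.node [(53,(-1))] .nil
    .nil) .nil) .nil) (.node [] .nil (.node [(40,(-1))] .nil .nil)))) (.node [] (.node [] (.node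
    [(3,1)] .nil .nil) .nil) (.node [] (.node [] (.node [] (.node [(55,(-1))] .nil .nil) .nil)
    .nil) (.node [] .nil (.node [(47,1)] .nil .nil))))) (.node [] (.node [] (.node [] (.node
    [(2,1)] (.node [(13,1)] .nil .nil) .nil) (.node [(10,(-1))] .nil (.node [(29,(-1))] .nil
    .nil))) (.node [] (.node [] (.node [] (.node [(54,(-1))] .nil .nil) .nil) .nil) (.node [] .nil
    (.node [(41,(-1))] .nil .nil)))) (.node [] (.node [] (.node [(4,1)] .nil .nil) (.node [] (.node
    [(15,1)] .nil .nil) (.node [(39,(-1))] .nil .nil))) (.node [] (.node [(8,(-1))] .nil .nil)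
    (.node [(11,1)] .nil (.node [(48,1)] .nil .nil))))))

/-- table -/
noncomputable def auxE6Chain15 : Tr (List (ℕ × ℤ)) :=
    (.node [] (.node [] (.node [] (.node [] (.node [] (.node [] (.node [(52,(-1))] .nil .nil) .nil)
    .nil) .nil) (.node [] (.node [(8,1)] .nil .nil) (.node [(12,1)] .nil (.node [(44,(-1))] .nil
    .nil)))) (.node [] (.node [] (.node [(6,1)] (.node [] (.node [(54,(-1))] .nil .nil) .nil) .nil)
    (.node [] .nil (.node [(42,(-1))] .nil .nil))) (.node [] (.node [(10,1)] .nil .nil) (.node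
    [(14,1)] .nil (.node [(50,(-1))] .nil .nil))))) (.node [] (.node [] (.node [] (.node [(5,1)]
    (.node [] (.node [(53,(-1))] .nil .nil) .nil) .nil) .nil) (.node [] (.node [(9,1)] .nil .nil)
    (.node [(13,1)] .nil (.node [(45,(-1))] .nil .nil)))) (.node [] (.node [] (.node [(7,1)] (.node
    [] (.node [(55,(-1))] .nil .nil) .nil) .nil) (.node [(11,1)] .nil (.node [(43,(-1))] .nil
    .nil))) (.node [] .nil (.node [] .nil (.node [(51,(-1))] .nil .nil))))))

/-- table -/
noncomputable def auxE6Chain16 : Tr (List (ℕ × ℤ)) :=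
    (.node [] (.node [] (.node [] (.node [] (.node [(5,(-1))] .nil .nil) (.node [] (.node [] (.node
    [(61,1)] .nil .nil) .nil) .nil)) (.node [] (.node [] .nil (.node [(30,1)] .nil .nil)) .nil))
    (.node [] (.node [] (.node [] .nil (.node [(27,(-1))] .nil .nil)) (.node [] (.node [(20,(-1))]
    .nil .nil) .nil)) (.node [(1,(-1))] (.node [] (.node [(17,1)] (.node [(57,1)] .nil .nil) .nil)
    (.node [(33,1)] .nil .nil)) (.node [] (.node [(23,(-1))] .nil .nil) .nil)))) (.node [] (.node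
    [] (.node [] (.node [] .nil (.node [(26,1)] .nil .nil)) (.node [] (.node [(19,1)] .nil .nil)
    .nil)) (.node [] (.node [] .nil (.node [(31,(-1))] .nil .nil)) (.node [] (.node [(22,1)] .nil
    .nil) .nil))) (.node [] (.node [(0,(-1))] (.node [] (.node [] (.node [(56,1)] .nil .nil) .nil)
    .nil) .nil) (.node [(2,(-1))] (.node [] (.node [(18,(-1))] (.node [(58,1)] .nil .nil) .nil)
    (.node [(34,(-1))] .nil .nil)) .nil))))

/-- table -/
noncomputable def auxE6Chain17 : Tr (List (ℕ × ℤ)) :=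
    (.node [] (.node [] (.node [] (.node [] (.node [(6,(-1))] .nil (.node [(26,1)] .nil .nil))
    (.node [] (.node [(19,1)] (.node [(62,(-1))] .nil .nil) .nil) (.node [(37,(-1))] .nil .nil)))
    (.node [] .nil (.node [] (.node [(22,1)] .nil .nil) .nil))) (.node [] (.node [(0,1)] (.node []
    (.node [] (.node [(56,1)] .nil .nil) .nil) (.node [(28,(-1))] .nil .nil)) (.node [] (.node
    [(21,(-1))] .nil .nil) .nil)) (.node [] (.node [] .nil (.node [(35,(-1))] .nil .nil)) (.node []
    (.node [(24,(-1))] .nil .nil) .nil)))) (.node [] (.node [] .nil (.node [(1,1)] (.node [] (.node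
    [(18,1)] (.node [(57,1)] .nil .nil) .nil) (.node [(32,(-1))] .nil .nil)) .nil)) (.node []
    (.node [] (.node [] (.node [(16,1)] .nil .nil) (.node [(30,1)] .nil .nil)) .nil) (.node
    [(3,(-1))] (.node [] (.node [] (.node [(59,(-1))] .nil .nil) .nil) .nil) .nil))))

/-- table -/
noncomputable def auxE6Chain18 : Tr (List (ℕ × ℤ)) :=
    (.node [] (.node [] (.node [] (.node [] (.node [(7,(-1))] .nil (.node [(27,1)] .nil .nil))
    (.node [] (.node [(20,1)] (.node [(63,1)] .nil .nil) .nil) (.node [(38,1)] .nil .nil))) (.node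
    [(1,(-1))] (.node [] (.node [(17,1)] (.node [(57,1)] .nil .nil) .nil) (.node [(32,(-1))] .nil
    .nil)) (.node [] (.node [(23,1)] .nil .nil) .nil))) (.node [] (.node [] (.node [] (.node
    [(16,(-1))] .nil .nil) .nil) .nil) .nil)) (.node [] (.node [] (.node [(0,(-1))] (.node []
    (.node [] (.node [(56,1)] .nil .nil) .nil) (.node [(28,(-1))] .nil .nil)) (.node [] (.node
    [(21,(-1))] .nil .nil) .nil)) (.node [] .nil (.node [] (.node [(24,(-1))] .nil .nil) .nil)))
    (.node [] (.node [] (.node [] .nil (.node [(31,1)] .nil .nil)) .nil) (.node [(4,(-1))] (.node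
    [] (.node [] (.node [(60,1)] .nil .nil) .nil) (.node [(36,(-1))] .nil .nil)) .nil))))

/-- table -/
noncomputable def auxE6Chain19 : Tr (List (ℕ × ℤ)) :=
    (.node [] (.node [] (.node [] (.node [(0,(-1))] (.node [(8,(-1))] (.node [(16,1)] (.node
    [(56,1)] .nil .nil) .nil) .nil) (.node [] (.node [] (.node [(64,1)] .nil .nil) .nil) (.node
    [(40,(-1))] .nil .nil))) (.node [] (.node [] .nil (.node [(35,(-1))] .nil .nil)) .nil)) (.node
    [] (.node [] (.node [] .nil (.node [(29,(-1))] .nil .nil)) .nil) (.node [(3,1)] (.node []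
    (.node [] (.node [(59,(-1))] .nil .nil) .nil) .nil) (.node [] (.node [(25,(-1))] .nil .nil)
    .nil)))) (.node [] (.node [] (.node [] (.node [] (.node [(17,1)] .nil .nil) .nil) .nil) (.node
    [(2,1)] (.node [] (.node [(20,1)] (.node [(58,(-1))] .nil .nil) .nil) .nil) .nil)) (.node []
    (.node [] (.node [] .nil (.node [(33,(-1))] .nil .nil)) (.node [] (.node [(22,1)] .nil .nil)
    .nil)) (.node [] (.node [] (.node [(21,1)] .nil .nil) (.node [(39,(-1))] .nil .nil)) (.node []
    (.node [(26,1)] .nil .nil) .nil)))))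

/-- table -/
noncomputable def auxE6Chain20 : Tr (List (ℕ × ℤ)) :=
    (.node [] (.node [] (.node [] (.node [] (.node [(9,(-1))] .nil .nil) (.node [] (.node [] (.node
    [(65,(-1))] .nil .nil) .nil) (.node [(41,1)] .nil .nil))) (.node [(2,(-1))] (.node [] (.node
    [(19,1)] (.node [(58,(-1))] .nil .nil) .nil) .nil) .nil)) (.node [] .nil (.node [(4,1)] (.node
    [] (.node [(21,1)] (.node [(60,1)] .nil .nil) .nil) (.node [(39,(-1))] .nil .nil)) .nil)))
    (.node [] (.node [] (.node [] (.node [] (.node [(18,1)] .nil .nil) (.node [(29,(-1))] .nil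
    .nil)) .nil) (.node [] (.node [] .nil (.node [(36,(-1))] .nil .nil)) (.node [] (.node
    [(25,(-1))] .nil .nil) .nil))) (.node [(0,1)] (.node [] (.node [] .nil (.node [(34,(-1))] .nil
    .nil)) (.node [] (.node [(23,1)] .nil .nil) .nil)) (.node [] .nil (.node [(16,(-1))] (.node
    [(27,1)] .nil .nil) (.node [(56,1)] .nil .nil))))))

/-- table -/
noncomputable def auxE6Chain21 : Tr (List (ℕ × ℤ)) :=
    (.node [] (.node [] (.node [] (.node [] (.node [(10,(-1))] (.node [(18,(-1))] .nil .nil) (.node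
    [(29,(-1))] .nil .nil)) (.node [] (.node [] (.node [(66,1)] .nil .nil) .nil) .nil)) (.node
    [(3,(-1))] (.node [] (.node [] (.node [(59,1)] .nil .nil) .nil) (.node [(37,(-1))] .nil .nil))
    (.node [] (.node [(25,(-1))] .nil .nil) .nil))) (.node [(0,(-1))] (.node [] (.node [] (.node
    [(19,1)] .nil .nil) .nil) .nil) (.node [] (.node [] .nil (.node [(40,1)] .nil .nil)) (.node []
    .nil (.node [(56,1)] .nil .nil))))) (.node [] (.node [] .nil (.node [(4,(-1))] (.node [] (.node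
    [] (.node [(60,1)] .nil .nil) .nil) (.node [(38,(-1))] .nil .nil)) .nil)) (.node [] (.node []
    (.node [] (.node [(20,1)] .nil .nil) .nil) (.node [] (.node [(24,1)] .nil .nil) .nil)) (.node
    [] (.node [] .nil (.node [(41,1)] .nil .nil)) (.node [(17,(-1))] (.node [(28,1)] .nil .nil)
    .nil)))))

/-- table -/
noncomputable def auxE6Chain22 : Tr (List (ℕ × ℤ)) :=
    (.node [] (.node [] (.node [] (.node [] (.node [] (.node [] (.node [(57,(-1))] .nil .nil) .nil)
    (.node [(33,(-1))] .nil .nil)) (.node [] (.node [] (.node [(67,(-1))] .nil .nil) .nil) (.node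
    [(44,(-1))] .nil .nil))) (.node [] .nil (.node [(16,1)] .nil .nil))) (.node [] (.node [] (.node
    [] (.node [] (.node [(58,(-1))] .nil .nil) .nil) .nil) (.node [] (.node [(25,1)] .nil .nil)
    .nil)) (.node [(6,1)] .nil (.node [(19,1)] .nil .nil)))) (.node [] (.node [(0,1)] (.node []
    (.node [] .nil (.node [(35,(-1))] .nil .nil)) .nil) (.node [(5,1)] (.node [] (.node [(23,1)]
    .nil .nil) (.node [(42,(-1))] .nil .nil)) (.node [(17,1)] .nil .nil))) (.node [] (.node []
    (.node [] (.node [] (.node [(59,(-1))] .nil .nil) .nil) .nil) .nil) (.node [(8,1)] (.node []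
    (.node [(24,1)] .nil .nil) (.node [(43,(-1))] .nil .nil)) (.node [] (.node [(30,(-1))] .nil
    .nil) .nil)))))

/-- table -/
noncomputable def auxE6Chain23 : Tr (List (ℕ × ℤ)) :=
    (.node [] (.node [] (.node [(0,(-1))] (.node [] (.node [] .nil (.node [(34,(-1))] .nil .nil))
    (.node [] (.node [] (.node [(68,1)] .nil .nil) .nil) (.node [(45,1)] .nil .nil))) (.node
    [(5,(-1))] (.node [] (.node [(22,1)] .nil .nil) (.node [(42,(-1))] .nil .nil)) .nil)) (.node []
    (.node [] (.node [] .nil (.node [(36,(-1))] .nil .nil)) .nil) (.node [(7,1)] (.node [] (.node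
    [(24,1)] .nil .nil) (.node [(43,(-1))] .nil .nil)) (.node [(20,1)] .nil .nil)))) (.node []
    (.node [] (.node [] (.node [] (.node [] (.node [(58,(-1))] .nil .nil) .nil) .nil) (.node []
    (.node [(25,1)] .nil .nil) .nil)) (.node [] .nil (.node [(18,1)] .nil .nil))) (.node [] (.node
    [] (.node [] (.node [] (.node [(60,1)] .nil .nil) .nil) .nil) (.node [(16,(-1))] .nil .nil))
    (.node [(9,1)] .nil (.node [] (.node [(31,(-1))] .nil .nil) (.node [(57,(-1))] .nil .nil))))))

/-- table -/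
noncomputable def auxE6Chain24 : Tr (List (ℕ × ℤ)) :=
    (.node [] (.node [] (.node [] (.node [] .nil (.node [] (.node [(25,1)] (.node [(69,(-1))] .nil
    .nil) .nil) .nil)) (.node [(6,(-1))] .nil (.node [(18,(-1))] .nil .nil))) (.node [] (.node []
    (.node [] (.node [(22,1)] (.node [(60,1)] .nil .nil) .nil) (.node [(38,(-1))] .nil .nil)) .nil)
    (.node [] (.node [] .nil (.node [(44,1)] .nil .nil)) (.node [(21,1)] .nil (.node [(57,(-1))]
    .nil .nil))))) (.node [(0,1)] (.node [] (.node [] (.node [] (.node [] (.node [(59,1)] .nil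
    .nil) .nil) (.node [(37,(-1))] .nil .nil)) .nil) (.node [(7,(-1))] .nil .nil)) (.node [] (.node
    [] (.node [] (.node [(23,1)] .nil .nil) (.node [(42,(-1))] .nil .nil)) (.node [(17,(-1))] .nil
    .nil)) (.node [(10,1)] (.node [] .nil (.node [(45,1)] .nil .nil)) (.node [] (.node [(32,(-1))]
    .nil .nil) .nil)))))

/-- table -/
noncomputable def auxE6Chain25 : Tr (List (ℕ × ℤ)) :=
    (.node [] (.node [(0,(-1))] (.node [] (.node [] (.node [] (.node [(23,1)] (.node [(60,1)] .nil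
    .nil) .nil) (.node [(39,(-1))] .nil .nil)) (.node [] (.node [] (.node [(70,1)] .nil .nil) .nil)
    .nil)) (.node [(8,(-1))] (.node [] .nil (.node [(44,1)] .nil .nil)) (.node [(20,(-1))] .nil
    .nil))) (.node [] (.node [] (.node [] .nil (.node [(41,(-1))] .nil .nil)) .nil) (.node
    [(10,(-1))] .nil (.node [] .nil (.node [(58,1)] .nil .nil))))) (.node [] (.node [] (.node []
    (.node [] (.node [(24,1)] .nil .nil) (.node [(40,(-1))] .nil .nil)) .nil) (.node [(9,(-1))]
    (.node [] .nil (.node [(45,1)] .nil .nil)) (.node [(21,(-1))] .nil .nil))) (.node [] (.node []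
    (.node [] .nil (.node [(43,1)] .nil .nil)) (.node [(19,(-1))] .nil .nil)) (.node [] .nil (.node
    [(22,1)] .nil (.node [(59,1)] .nil .nil))))))

/-- table -/
noncomputable def auxE6Chain26 : Tr (List (ℕ × ℤ)) :=
    (.node [] (.node [] (.node [] (.node [(1,(-1))] (.node [(11,(-1))] .nil .nil) (.node [(16,1)]
    .nil (.node [(48,(-1))] .nil .nil))) (.node [] .nil (.node [] (.node [(33,(-1))] .nil .nil)
    .nil))) (.node [] (.node [(2,(-1))] .nil (.node [(19,1)] (.node [(29,1)] .nil .nil) .nil))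
    (.node [] (.node [] (.node [] (.node [(62,1)] .nil .nil) .nil) .nil) .nil))) (.node [] (.node
    [] (.node [] .nil (.node [(17,1)] .nil .nil)) (.node [] (.node [] (.node [(27,1)] (.node
    [(61,1)] .nil .nil) .nil) (.node [(46,(-1))] .nil .nil)) (.node [] (.node [(35,(-1))] .nil
    .nil) (.node [(56,1)] .nil .nil)))) (.node [] (.node [(3,(-1))] .nil (.node [] (.node
    [(30,(-1))] .nil .nil) .nil)) (.node [] (.node [] (.node [(28,1)] (.node [(64,1)] .nil .nil)
    .nil) (.node [(47,(-1))] .nil .nil)) .nil))))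

/-- table -/
noncomputable def auxE6Chain27 : Tr (List (ℕ × ℤ)) :=
    (.node [] (.node [] (.node [] (.node [] (.node [(12,(-1))] .nil .nil) (.node [] .nil (.node
    [(49,1)] .nil .nil))) (.node [] (.node [] (.node [(26,1)] (.node [(61,1)] .nil .nil) .nil)
    (.node [(46,(-1))] .nil .nil)) (.node [] (.node [(34,(-1))] .nil .nil) (.node [(56,1)] .nil
    .nil)))) (.node [] (.node [] .nil (.node [(20,1)] .nil .nil)) (.node [] (.node [] (.node
    [(28,1)] (.node [(63,(-1))] .nil .nil) .nil) (.node [(47,(-1))] .nil .nil)) (.node [] (.node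
    [(36,(-1))] .nil .nil) .nil)))) (.node [] (.node [] (.node [(2,1)] .nil (.node [(18,1)] (.node
    [(29,1)] .nil .nil) .nil)) .nil) (.node [(1,1)] (.node [(4,(-1))] .nil (.node [] (.node
    [(31,(-1))] .nil .nil) .nil)) (.node [] (.node [(16,(-1))] (.node [] (.node [(65,(-1))] .nil
    .nil) .nil) .nil) .nil))))

/-- table -/
noncomputable def auxE6Chain28 : Tr (List (ℕ × ℤ)) :=
    (.node [] (.node [] (.node [] (.node [] (.node [(13,(-1))] .nil .nil) (.node [(18,(-1))] (.node
    [(29,1)] .nil .nil) .nil)) (.node [] (.node [] (.node [] (.node [(62,(-1))] .nil .nil) .nil)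
    .nil) .nil)) (.node [(1,(-1))] (.node [(4,1)] (.node [] (.node [(26,1)] .nil .nil) .nil) (.node
    [(21,1)] .nil .nil)) (.node [] (.node [] .nil (.node [(48,1)] .nil .nil)) (.node [] (.node
    [(38,(-1))] .nil .nil) .nil)))) (.node [] (.node [] (.node [(3,1)] .nil .nil) (.node [] (.node
    [] (.node [] (.node [(63,(-1))] .nil .nil) .nil) .nil) (.node [] (.node [(37,(-1))] .nil .nil)
    .nil))) (.node [] (.node [] (.node [] (.node [(27,1)] .nil .nil) (.node [(46,(-1))] .nil .nil))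
    (.node [] (.node [(32,(-1))] .nil .nil) (.node [(56,1)] .nil .nil))) (.node [] (.node
    [(17,(-1))] (.node [] (.node [(66,1)] .nil .nil) .nil) (.node [(49,1)] .nil .nil)) .nil))))

/-- table -/
noncomputable def auxE6Chain29 : Tr (List (ℕ × ℤ)) :=
    (.node [] (.node [] (.node [] (.node [(4,(-1))] (.node [(14,(-1))] (.node [(27,1)] .nil .nil)
    .nil) (.node [(20,(-1))] .nil .nil)) (.node [] (.node [] (.node [] (.node [(64,1)] .nil .nil)
    .nil) (.node [(48,1)] .nil .nil)) (.node [] (.node [(39,(-1))] .nil .nil) .nil))) (.node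
    [(2,(-1))] (.node [] .nil (.node [] .nil (.node [(56,1)] .nil .nil))) (.node [] (.node []
    (.node [] (.node [(66,1)] .nil .nil) .nil) .nil) (.node [] (.node [(41,(-1))] .nil .nil)
    .nil)))) (.node [] (.node [] (.node [] (.node [] (.node [(28,1)] .nil .nil) .nil) (.node
    [(21,(-1))] .nil .nil)) (.node [] (.node [] (.node [] (.node [(65,1)] .nil .nil) .nil) (.node
    [(49,1)] .nil .nil)) (.node [] (.node [(40,(-1))] .nil .nil) .nil))) (.node [(3,(-1))] (.node
    [] (.node [] .nil (.node [(47,1)] .nil .nil)) .nil) (.node [] (.node [(19,(-1))] .nil .nil)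
    (.node [(26,1)] .nil .nil)))))

/-- table -/
noncomputable def auxE6Chain30 : Tr (List (ℕ × ℤ)) :=
    (.node [] (.node [] (.node [] (.node [] .nil (.node [] (.node [(33,(-1))] .nil .nil) (.node
    [(51,(-1))] .nil .nil))) .nil) (.node [] (.node [(5,1)] (.node [] (.node [] (.node [(61,(-1))]
    .nil .nil) .nil) (.node [(46,1)] .nil .nil)) (.node [(22,(-1))] .nil .nil)) (.node [] (.node
    [(17,1)] .nil .nil) (.node [(26,(-1))] (.node [(42,1)] .nil .nil) .nil)))) (.node [] (.node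
    [(1,(-1))] (.node [] .nil (.node [] (.node [(35,(-1))] .nil .nil) .nil)) (.node [] (.node
    [(16,1)] (.node [(31,1)] .nil .nil) .nil) (.node [] .nil (.node [(57,1)] .nil .nil)))) (.node
    [] (.node [(6,1)] (.node [] (.node [] (.node [(62,(-1))] .nil .nil) .nil) .nil) .nil) (.node
    [(11,(-1))] (.node [] (.node [(32,1)] (.node [(67,1)] .nil .nil) .nil) (.node [(50,(-1))] .nil
    .nil)) .nil))))

/-- table -/
noncomputable def auxE6Chain31 : Tr (List (ℕ × ℤ)) :=
    (.node [] (.node [] (.node [(1,1)] (.node [] .nil (.node [] (.node [(34,(-1))] .nil .nil)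
    (.node [(52,1)] .nil .nil))) (.node [] (.node [(16,(-1))] (.node [(30,1)] .nil .nil) .nil)
    (.node [] .nil (.node [(57,1)] .nil .nil)))) (.node [] (.node [] .nil (.node [(23,(-1))] (.node
    [(36,(-1))] .nil .nil) .nil)) (.node [] (.node [(18,1)] (.node [(32,1)] .nil .nil) (.node
    [(50,(-1))] .nil .nil)) (.node [(27,(-1))] .nil .nil)))) (.node [] (.node [] (.node [(5,(-1))]
    (.node [] (.node [] (.node [(61,(-1))] .nil .nil) .nil) (.node [(46,1)] .nil .nil)) .nil)
    (.node [] .nil (.node [] (.node [(42,1)] .nil .nil) .nil))) (.node [] (.node [(7,1)] (.node []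
    (.node [] (.node [(63,1)] .nil .nil) .nil) .nil) .nil) (.node [(12,(-1))] (.node [] (.node []
    (.node [(68,(-1))] .nil .nil) .nil) .nil) .nil))))

/-- table -/
noncomputable def auxE6Chain32 : Tr (List (ℕ × ℤ)) :=
    (.node [] (.node [] (.node [] (.node [] (.node [] .nil (.node [(46,1)] .nil .nil)) .nil) (.node
    [] (.node [(17,(-1))] .nil .nil) (.node [] (.node [(42,1)] .nil .nil) .nil))) (.node [] (.node
    [(7,(-1))] (.node [] (.node [(30,1)] (.node [(63,1)] .nil .nil) .nil) .nil) (.node [(24,(-1))]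
    (.node [(38,(-1))] .nil .nil) .nil)) (.node [] (.node [] .nil (.node [(51,1)] .nil .nil))
    (.node [(28,(-1))] .nil .nil)))) (.node [(1,(-1))] (.node [] (.node [(6,(-1))] (.node [] (.node
    [] (.node [(62,1)] .nil .nil) .nil) .nil) (.node [] (.node [(37,(-1))] .nil .nil) .nil)) (.node
    [] (.node [(18,(-1))] .nil .nil) .nil)) (.node [] (.node [] (.node [] (.node [(31,1)] .nil
    .nil) .nil) (.node [] .nil (.node [(57,1)] .nil .nil))) (.node [(13,(-1))] (.node [] (.node []
    (.node [(69,1)] .nil .nil) .nil) (.node [(52,1)] .nil .nil)) .nil))))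

/-- table -/
noncomputable def auxE6Chain33 : Tr (List (ℕ × ℤ)) :=
    (.node [] (.node [] (.node [] (.node [(5,1)] (.node [] (.node [] (.node [(61,1)] .nil .nil)
    .nil) .nil) (.node [] .nil (.node [(53,(-1))] .nil .nil))) .nil) (.node [] (.node [] (.node []
    .nil (.node [(47,1)] .nil .nil)) (.node [] (.node [(39,1)] .nil .nil) .nil)) (.node [(11,(-1))]
    (.node [(19,(-1))] (.node [(35,(-1))] (.node [(67,(-1))] .nil .nil) .nil) .nil) (.node []
    (.node [(43,1)] .nil .nil) .nil)))) (.node [] (.node [(2,1)] (.node [] (.node [] (.node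
    [(30,(-1))] .nil .nil) .nil) (.node [(22,(-1))] .nil .nil)) (.node [] (.node [] (.node [(34,1)]
    .nil .nil) (.node [(50,1)] .nil .nil)) (.node [(26,(-1))] .nil (.node [(58,1)] .nil .nil))))
    (.node [] (.node [(8,(-1))] (.node [(16,1)] (.node [] (.node [(64,(-1))] .nil .nil) .nil) .nil)
    .nil) .nil)))

/-- table -/
noncomputable def auxE6Chain34 : Tr (List (ℕ × ℤ)) :=
    (.node [] (.node [] (.node [(2,(-1))] (.node [] .nil (.node [] .nil (.node [(54,1)] .nil
    .nil))) (.node [] (.node [] (.node [(33,1)] .nil .nil) (.node [(50,1)] .nil .nil)) (.node []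
    .nil (.node [(58,1)] .nil .nil)))) (.node [] (.node [] (.node [(16,(-1))] .nil .nil) .nil)
    (.node [(12,(-1))] (.node [(20,(-1))] (.node [] (.node [(68,1)] .nil .nil) .nil) .nil) .nil)))
    (.node [] (.node [] (.node [] (.node [] (.node [(31,(-1))] .nil .nil) (.node [(47,1)] .nil
    .nil)) (.node [(23,(-1))] (.node [(39,1)] .nil .nil) .nil)) (.node [] .nil (.node [(27,(-1))]
    (.node [(43,1)] .nil .nil) .nil))) (.node [(5,(-1))] (.node [(9,(-1))] (.node [] (.node []
    (.node [(65,1)] .nil .nil) .nil) .nil) .nil) (.node [] (.node [] (.node [(36,(-1))] .nil .nil)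
    .nil) (.node [] .nil (.node [(61,1)] .nil .nil))))))

/-- table -/
noncomputable def auxE6Chain35 : Tr (List (ℕ × ℤ)) :=
    (.node [] (.node [] (.node [] (.node [(6,(-1))] (.node [] (.node [(30,(-1))] (.node [(62,1)]
    .nil .nil) .nil) .nil) (.node [(22,(-1))] .nil .nil)) (.node [] .nil (.node [(26,(-1))] .nil
    .nil))) (.node [] (.node [(8,(-1))] (.node [] (.node [] (.node [(64,1)] .nil .nil) .nil) (.node
    [(48,1)] .nil .nil)) (.node [] (.node [(40,1)] .nil .nil) .nil)) (.node [] .nil (.node []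
    (.node [(44,1)] .nil .nil) .nil)))) (.node [] (.node [(3,(-1))] .nil (.node [(11,(-1))] (.node
    [(19,(-1))] (.node [] (.node [(67,1)] .nil .nil) .nil) (.node [(51,1)] .nil .nil)) (.node []
    .nil (.node [(59,1)] .nil .nil)))) (.node [] (.node [] (.node [(17,(-1))] (.node [(33,(-1))]
    .nil .nil) .nil) .nil) (.node [] (.node [] (.node [(37,1)] .nil .nil) (.node [(53,1)] .nil
    .nil)) .nil))))

/-- table -/
noncomputable def auxE6Chain36 : Tr (List (ℕ × ℤ)) :=
    (.node [] (.node [] (.node [(4,(-1))] .nil (.node [(12,(-1))] (.node [(20,(-1))] (.node []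
    (.node [(68,1)] .nil .nil) .nil) (.node [(52,1)] .nil .nil)) (.node [] .nil (.node [(60,1)]
    .nil .nil)))) (.node [] (.node [] (.node [(18,(-1))] (.node [(34,(-1))] .nil .nil) .nil) .nil)
    (.node [] (.node [] (.node [(38,1)] .nil .nil) (.node [(54,1)] .nil .nil)) .nil))) (.node []
    (.node [] (.node [(9,(-1))] (.node [] (.node [] (.node [(65,1)] .nil .nil) .nil) (.node
    [(49,1)] .nil .nil)) (.node [] (.node [(41,1)] .nil .nil) .nil)) (.node [] .nil (.node []
    (.node [(45,1)] .nil .nil) .nil))) (.node [(7,(-1))] (.node [] .nil (.node [(27,(-1))] .nil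
    .nil)) (.node [] (.node [(23,(-1))] .nil .nil) (.node [(31,(-1))] .nil (.node [(63,1)] .nil
    .nil))))))

/-- table -/
noncomputable def auxE6Chain37 : Tr (List (ℕ × ℤ)) :=
    (.node [] (.node [] (.node [] (.node [] (.node [] (.node [(32,(-1))] .nil .nil) (.node [(48,1)]
    .nil .nil)) (.node [(24,(-1))] (.node [(40,1)] .nil .nil) .nil)) (.node [] .nil (.node
    [(28,(-1))] (.node [(44,1)] .nil .nil) .nil))) (.node [(6,(-1))] (.node [(10,(-1))] (.node []
    (.node [(35,1)] (.node [(66,1)] .nil .nil) .nil) .nil) .nil) (.node [] .nil (.node [] .nil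
    (.node [(62,1)] .nil .nil))))) (.node [(3,(-1))] (.node [] (.node [] (.node [(17,(-1))] .nil
    .nil) .nil) (.node [(13,(-1))] (.node [(21,(-1))] (.node [(38,(-1))] (.node [(69,1)] .nil .nil)
    .nil) .nil) .nil)) (.node [] (.node [] (.node [] .nil (.node [(51,1)] .nil .nil)) (.node []
    .nil (.node [(59,1)] .nil .nil))) (.node [] (.node [] .nil (.node [(55,1)] .nil .nil)) .nil))))

/-- table -/
noncomputable def auxE6Chain38 : Tr (List (ℕ × ℤ)) :=
    (.node [] (.node [] (.node [] (.node [] (.node [] .nil (.node [(49,1)] .nil .nil)) (.node []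
    (.node [(41,1)] .nil .nil) .nil)) (.node [(13,(-1))] (.node [(21,(-1))] (.node [(37,(-1))]
    (.node [(69,(-1))] .nil .nil) .nil) .nil) (.node [] (.node [(45,1)] .nil .nil) .nil))) (.node
    [(7,1)] .nil (.node [] (.node [] .nil (.node [(55,(-1))] .nil .nil)) (.node [] .nil (.node
    [(63,1)] .nil .nil))))) (.node [(4,1)] (.node [] (.node [(10,(-1))] (.node [(18,1)] (.node []
    (.node [(66,(-1))] .nil .nil) .nil) .nil) .nil) .nil) (.node [] (.node [] (.node [] (.node
    [(36,1)] .nil .nil) (.node [(52,1)] .nil .nil)) (.node [(28,(-1))] .nil (.node [(60,1)] .nil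
    .nil))) (.node [] (.node [(24,(-1))] .nil .nil) (.node [(32,(-1))] .nil .nil)))))

/-- table -/
noncomputable def auxE6Chain39 : Tr (List (ℕ × ℤ)) :=
    (.node [] (.node [(2,(-1))] (.node [] (.node [(9,(-1))] (.node [] (.node [(34,1)] (.node
    [(65,1)] .nil .nil) .nil) .nil) .nil) (.node [] (.node [] .nil (.node [(53,1)] .nil .nil))
    .nil)) (.node [] (.node [] (.node [(19,(-1))] .nil .nil) (.node [] .nil (.node [(58,1)] .nil
    .nil))) (.node [(14,(-1))] (.node [] (.node [(40,(-1))] (.node [(70,1)] .nil .nil) .nil) .nil)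
    .nil))) (.node [] (.node [] (.node [] .nil (.node [(25,(-1))] .nil .nil)) (.node [] (.node []
    .nil (.node [(54,1)] .nil .nil)) (.node [(29,(-1))] .nil .nil))) (.node [(8,(-1))] (.node []
    (.node [(20,(-1))] .nil .nil) (.node [] (.node [(43,1)] .nil .nil) .nil)) (.node [] (.node []
    (.node [(41,(-1))] .nil .nil) .nil) (.node [(33,1)] (.node [(47,1)] .nil .nil) (.node [(64,1)]
    .nil .nil))))))

/-- table -/
noncomputable def auxE6Chain40 : Tr (List (ℕ × ℤ)) :=
    (.node [] (.node [(3,1)] (.node [] (.node [(10,1)] (.node [] (.node [] (.node [(66,1)] .nil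
    .nil) .nil) .nil) (.node [(25,(-1))] .nil .nil)) (.node [] .nil (.node [(29,(-1))] .nil .nil)))
    (.node [(8,(-1))] (.node [] .nil (.node [] .nil (.node [(59,1)] .nil .nil))) (.node [] .nil
    (.node [] .nil (.node [(64,(-1))] .nil .nil))))) (.node [] (.node [] (.node [] (.node
    [(19,(-1))] (.node [(37,1)] .nil .nil) .nil) .nil) (.node [(14,(-1))] (.node [] (.node
    [(41,(-1))] (.node [(70,(-1))] .nil .nil) .nil) (.node [(55,1)] .nil .nil)) .nil)) (.node []
    (.node [] (.node [(21,1)] (.node [(39,(-1))] .nil .nil) (.node [(53,(-1))] .nil .nil)) (.node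
    [] (.node [(44,1)] .nil .nil) .nil)) (.node [] .nil (.node [(35,1)] (.node [(48,1)] .nil .nil)
    .nil)))))

/-- table -/
noncomputable def auxE6Chain41 : Tr (List (ℕ × ℤ)) :=
    (.node [] (.node [(4,(-1))] (.node [] (.node [] (.node [] (.node [(36,1)] .nil .nil) .nil)
    .nil) (.node [(14,(-1))] (.node [] (.node [(40,(-1))] (.node [(70,1)] .nil .nil) .nil) (.node
    [(55,(-1))] .nil .nil)) .nil)) (.node [(9,1)] (.node [] (.node [(21,1)] (.node [(39,(-1))] .nil
    .nil) .nil) (.node [] .nil (.node [(60,1)] .nil .nil))) (.node [] .nil (.node [] .nil (.node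
    [(65,(-1))] .nil .nil))))) (.node [] (.node [] (.node [] (.node [(20,1)] (.node [(38,1)] .nil
    .nil) .nil) .nil) .nil) (.node [(10,1)] (.node [] (.node [] .nil (.node [(54,(-1))] .nil .nil))
    (.node [(29,(-1))] (.node [(45,1)] .nil .nil) .nil)) (.node [] (.node [(25,(-1))] .nil .nil)
    (.node [] (.node [(49,1)] .nil .nil) (.node [(66,(-1))] .nil .nil))))))

/-- table -/
noncomputable def auxE6Chain42 : Tr (List (ℕ × ℤ)) :=
    (.node [] (.node [] (.node [(6,(-1))] (.node [] (.node [] .nil (.node [(50,1)] .nil .nil))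
    (.node [] (.node [(43,(-1))] .nil .nil) .nil)) (.node [] (.node [(22,(-1))] .nil .nil) (.node
    [(31,1)] .nil .nil))) (.node [] (.node [] (.node [] (.node [] (.node [(68,1)] .nil .nil) .nil)
    (.node [(52,1)] .nil .nil)) (.node [] (.node [(45,(-1))] .nil .nil) .nil)) (.node [] (.node
    [(24,(-1))] .nil .nil) .nil))) (.node [(5,(-1))] (.node [(7,(-1))] (.node [] (.node [] (.node
    [] (.node [(67,1)] .nil .nil) .nil) (.node [(51,1)] .nil .nil)) (.node [] (.node [(44,(-1))]
    .nil .nil) (.node [(57,1)] .nil .nil))) (.node [] (.node [(23,(-1))] .nil .nil) (.node [(32,1)]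
    .nil .nil))) (.node [] (.node [] (.node [] (.node [] (.node [(69,1)] .nil .nil) .nil) .nil)
    (.node [(30,1)] .nil .nil)) (.node [(15,(-1))] .nil .nil))))

/-- table -/
noncomputable def auxE6Chain43 : Tr (List (ℕ × ℤ)) :=
    (.node [] (.node [(5,(-1))] (.node [(8,1)] (.node [] (.node [] (.node [] (.node [(68,(-1))]
    .nil .nil) .nil) .nil) .nil) (.node [] .nil (.node [(34,1)] .nil .nil))) (.node [] (.node []
    (.node [(22,(-1))] .nil (.node [(54,1)] .nil .nil)) .nil) (.node [(15,(-1))] (.node [(25,1)]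
    (.node [(44,(-1))] .nil .nil) .nil) (.node [(39,1)] .nil .nil)))) (.node [] (.node [(9,1)]
    (.node [] (.node [] (.node [(42,(-1))] .nil .nil) (.node [(53,1)] .nil .nil)) (.node [] .nil
    (.node [(58,1)] .nil .nil))) .nil) (.node [] (.node [] (.node [(23,(-1))] (.node [] (.node
    [(70,1)] .nil .nil) .nil) .nil) (.node [(33,1)] .nil .nil)) (.node [] (.node [] (.node
    [(45,(-1))] .nil .nil) .nil) (.node [] (.node [(50,(-1))] .nil .nil) (.node [(67,(-1))] .nil
    .nil))))))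

/-- table -/
noncomputable def auxE6Chain44 : Tr (List (ℕ × ℤ)) :=
    (.node [] (.node [(6,1)] (.node [] (.node [] (.node [] (.node [(42,(-1))] (.node [(69,(-1))]
    .nil .nil) .nil) (.node [(53,(-1))] .nil .nil)) .nil) .nil) (.node [] (.node [] (.node []
    (.node [] (.node [(70,(-1))] .nil .nil) .nil) (.node [(55,1)] .nil .nil)) .nil) (.node [] .nil
    (.node [(40,1)] .nil (.node [(67,1)] .nil .nil))))) (.node [(8,1)] (.node [(10,(-1))] (.node []
    (.node [(22,(-1))] .nil .nil) (.node [] .nil (.node [(59,1)] .nil .nil))) (.node [(15,(-1))]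
    (.node [(25,1)] (.node [(45,(-1))] .nil .nil) .nil) (.node [(37,1)] .nil .nil))) (.node []
    (.node [] (.node [(24,1)] (.node [(43,(-1))] .nil .nil) .nil) (.node [(35,1)] .nil .nil))
    (.node [] .nil (.node [] (.node [(51,(-1))] .nil .nil) .nil)))))

/-- table -/
noncomputable def auxE6Chain45 : Tr (List (ℕ × ℤ)) :=
    (.node [] (.node [(7,(-1))] (.node [(10,(-1))] (.node [] (.node [] .nil (.node [(54,(-1))] .nil
    .nil)) .nil) (.node [(15,(-1))] (.node [(25,1)] (.node [(44,(-1))] .nil .nil) .nil) (.node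
    [(36,1)] .nil .nil))) (.node [] (.node [] (.node [(24,1)] (.node [(43,(-1))] .nil .nil) .nil)
    .nil) (.node [] .nil (.node [(41,1)] .nil (.node [(68,1)] .nil .nil))))) (.node [(9,(-1))]
    (.node [] (.node [] (.node [(23,1)] (.node [] (.node [(70,1)] .nil .nil) .nil) (.node
    [(55,(-1))] .nil .nil)) (.node [] .nil (.node [(60,1)] .nil .nil))) (.node [] .nil (.node
    [(38,1)] .nil .nil))) (.node [] .nil (.node [] .nil (.node [(42,(-1))] (.node [(52,(-1))] .nil
    .nil) (.node [(69,1)] .nil .nil))))))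

/-- table -/
noncomputable def auxE6Chain46 : Tr (List (ℕ × ℤ)) :=
    (.node [(1,(-1))] (.node [] (.node [] (.node [] .nil (.node [(31,1)] (.node [(47,(-1))] .nil
    .nil) .nil)) (.node [] (.node [(26,(-1))] .nil .nil) (.node [] (.node [(50,1)] .nil .nil)
    (.node [(62,1)] .nil .nil)))) (.node [] (.node [(12,(-1))] .nil (.node [] (.node [(49,(-1))]
    .nil .nil) .nil)) (.node [] (.node [(28,(-1))] .nil .nil) (.node [] (.node [(52,1)] .nil .nil)
    .nil)))) (.node [] (.node [] (.node [(11,(-1))] .nil (.node [(32,1)] (.node [(48,(-1))] .nil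
    .nil) .nil)) (.node [] (.node [(27,(-1))] .nil .nil) (.node [] (.node [(51,1)] .nil .nil)
    (.node [(63,1)] .nil .nil)))) (.node [] (.node [(13,(-1))] .nil (.node [] .nil (.node [(61,1)]
    .nil .nil))) (.node [] (.node [(30,1)] (.node [] (.node [(71,1)] .nil .nil) .nil) .nil)
    .nil))))

/-- table -/
noncomputable def auxE6Chain47 : Tr (List (ℕ × ℤ)) :=
    (.node [(2,1)] (.node [] (.node [] (.node [(12,(-1))] .nil (.node [(34,1)] .nil .nil)) (.node
    [] .nil (.node [] .nil (.node [(64,1)] .nil .nil)))) (.node [] (.node [] (.node [(26,(-1))]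
    .nil .nil) (.node [(39,1)] .nil (.node [(61,(-1))] .nil .nil))) (.node [] (.node [(29,1)]
    (.node [(48,(-1))] (.node [(71,(-1))] .nil .nil) .nil) .nil) (.node [] (.node [(54,1)] .nil
    .nil) .nil)))) (.node [] (.node [] (.node [] (.node [] (.node [(46,(-1))] .nil .nil) .nil)
    .nil) (.node [] .nil (.node [] (.node [(53,1)] .nil .nil) (.node [(65,1)] .nil .nil)))) (.node
    [(11,(-1))] (.node [(14,1)] (.node [(27,(-1))] .nil .nil) (.node [] (.node [(50,(-1))] .nil
    .nil) .nil)) (.node [] (.node [(33,1)] (.node [(49,(-1))] .nil .nil) .nil) .nil))))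

/-- table -/
noncomputable def auxE6Chain48 : Tr (List (ℕ × ℤ)) :=
    (.node [(3,(-1))] (.node [] (.node [] (.node [(13,1)] (.node [] (.node [(46,(-1))] .nil .nil)
    .nil) .nil) (.node [] .nil (.node [] (.node [(53,(-1))] .nil .nil) .nil))) (.node [(11,(-1))]
    (.node [(14,1)] .nil (.node [(40,1)] .nil (.node [(62,(-1))] .nil .nil))) (.node [] .nil (.node
    [] (.node [(55,1)] .nil .nil) .nil)))) (.node [] (.node [] (.node [] (.node [(26,(-1))] .nil
    .nil) (.node [(37,1)] .nil .nil)) (.node [] (.node [(29,1)] (.node [(49,(-1))] (.node [(71,1)]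
    .nil .nil) .nil) .nil) (.node [] .nil (.node [(66,1)] .nil .nil)))) (.node [] (.node [] (.node
    [(28,1)] (.node [(47,(-1))] .nil .nil) .nil) (.node [] (.node [(51,(-1))] .nil .nil) (.node
    [(64,(-1))] .nil .nil))) (.node [] (.node [(35,1)] .nil .nil) .nil))))

/-- table -/
noncomputable def auxE6Chain49 : Tr (List (ℕ × ℤ)) :=
    (.node [(4,1)] (.node [] (.node [] (.node [] .nil (.node [(36,1)] .nil .nil)) (.node [] (.node
    [(29,1)] (.node [(48,(-1))] (.node [(71,(-1))] .nil .nil) .nil) .nil) (.node [] (.node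
    [(54,(-1))] .nil .nil) (.node [(66,(-1))] .nil .nil)))) (.node [(12,1)] (.node [] (.node
    [(28,1)] (.node [(47,(-1))] .nil .nil) .nil) (.node [(41,1)] .nil (.node [(63,(-1))] .nil
    .nil))) .nil)) (.node [] (.node [] (.node [(14,1)] (.node [(27,1)] .nil .nil) (.node [(38,1)]
    .nil .nil)) (.node [] .nil (.node [] (.node [(55,(-1))] .nil .nil) .nil))) (.node [(13,1)]
    (.node [] .nil (.node [] (.node [(52,(-1))] .nil .nil) (.node [(65,(-1))] .nil .nil))) (.node
    [] .nil (.node [(46,(-1))] .nil .nil)))))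

/-- table -/
noncomputable def auxE6Chain50 : Tr (List (ℕ × ℤ)) :=
    (.node [(5,(-1))] (.node [] (.node [(11,(-1))] .nil (.node [] (.node [(33,1)] .nil .nil) (.node
    [] .nil (.node [(67,1)] .nil .nil)))) (.node [] (.node [] (.node [(30,(-1))] .nil .nil) (.node
    [(43,(-1))] (.node [(54,1)] .nil .nil) .nil)) (.node [] (.node [] (.node [(51,(-1))] .nil .nil)
    .nil) (.node [(47,(-1))] .nil .nil)))) (.node [] (.node [(12,(-1))] (.node [] .nil (.node
    [(42,1)] (.node [(53,1)] .nil .nil) (.node [(61,1)] .nil .nil))) (.node [] (.node [(34,1)] .nil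
    .nil) (.node [(46,1)] .nil (.node [(68,1)] .nil .nil)))) (.node [] (.node [(15,(-1))] (.node
    [(31,(-1))] (.node [] (.node [(71,1)] .nil .nil) .nil) .nil) .nil) (.node [] (.node [] (.node
    [(52,(-1))] .nil .nil) .nil) .nil))))

/-- table -/
noncomputable def auxE6Chain51 : Tr (List (ℕ × ℤ)) :=
    (.node [(6,1)] (.node [] (.node [] (.node [] .nil (.node [(42,1)] (.node [(53,(-1))] .nil .nil)
    .nil)) (.node [] (.node [(35,1)] .nil .nil) (.node [(46,1)] .nil .nil))) (.node [] (.node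
    [(15,(-1))] (.node [] (.node [] (.node [(71,(-1))] .nil .nil) .nil) .nil) (.node [(44,(-1))]
    (.node [(55,1)] .nil .nil) .nil)) (.node [] (.node [(37,1)] .nil .nil) (.node [(48,(-1))] .nil
    .nil)))) (.node [(11,(-1))] (.node [(13,1)] (.node [] (.node [(30,(-1))] .nil .nil) (.node []
    .nil (.node [(62,1)] .nil .nil))) (.node [] (.node [] (.node [(52,(-1))] .nil .nil) .nil)
    (.node [] .nil (.node [(69,1)] .nil .nil)))) (.node [] (.node [] (.node [(32,1)] (.node
    [(50,(-1))] .nil .nil) .nil) (.node [] .nil (.node [(67,(-1))] .nil .nil))) .nil)))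

/-- table -/
noncomputable def auxE6Chain52 : Tr (List (ℕ × ℤ)) :=
    (.node [(7,(-1))] (.node [] (.node [(13,1)] (.node [] .nil (.node [] (.node [(54,(-1))] .nil
    .nil) .nil)) (.node [] (.node [] (.node [(51,(-1))] .nil .nil) .nil) (.node [] .nil (.node
    [(69,(-1))] .nil .nil)))) (.node [] (.node [] (.node [(32,1)] (.node [(50,(-1))] .nil .nil)
    .nil) (.node [(45,(-1))] .nil .nil)) (.node [] (.node [(38,1)] .nil .nil) (.node [(49,(-1))]
    .nil .nil)))) (.node [(12,1)] (.node [] (.node [(15,(-1))] (.node [(31,1)] (.node [] (.node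
    [(71,1)] .nil .nil) .nil) .nil) (.node [] (.node [(55,(-1))] .nil .nil) (.node [(63,1)] .nil
    .nil))) (.node [] (.node [(36,1)] .nil .nil) .nil)) (.node [] (.node [] .nil (.node [(46,1)]
    .nil (.node [(68,(-1))] .nil .nil))) (.node [] (.node [(42,1)] .nil .nil) .nil))))

/-- table -/
noncomputable def auxE6Chain53 : Tr (List (ℕ × ℤ)) :=
    (.node [(8,(-1))] (.node [(11,(-1))] (.node [] (.node [(15,(-1))] (.node [] (.node [(50,1)]
    (.node [(71,1)] .nil .nil) .nil) .nil) (.node [(43,1)] .nil .nil)) (.node [] .nil (.node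
    [(47,1)] .nil .nil))) (.node [] (.node [] (.node [(35,1)] .nil .nil) (.node [] .nil (.node
    [(67,1)] .nil .nil))) (.node [] (.node [(40,(-1))] .nil .nil) .nil))) (.node [] (.node
    [(14,(-1))] (.node [] (.node [(33,(-1))] (.node [(51,(-1))] .nil .nil) .nil) (.node [(44,(-1))]
    .nil (.node [(64,1)] .nil .nil))) (.node [] (.node [(39,1)] (.node [(54,(-1))] .nil .nil) .nil)
    (.node [(48,(-1))] .nil (.node [(70,1)] .nil .nil)))) (.node [] .nil (.node [] (.node [] (.node
    [(55,1)] .nil .nil) .nil) .nil))))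

/-- table -/
noncomputable def auxE6Chain54 : Tr (List (ℕ × ℤ)) :=
    (.node [(9,1)] (.node [(12,1)] (.node [(14,(-1))] .nil (.node [] (.node [(39,1)] (.node
    [(53,(-1))] .nil .nil) .nil) (.node [] .nil (.node [(70,(-1))] .nil .nil)))) (.node [] (.node
    [] .nil (.node [] .nil (.node [(68,1)] .nil .nil))) (.node [] (.node [(41,(-1))] (.node
    [(55,(-1))] .nil .nil) .nil) .nil))) (.node [] (.node [] (.node [] (.node [(34,1)] (.node
    [(52,(-1))] .nil .nil) .nil) (.node [(45,(-1))] .nil (.node [(65,1)] .nil .nil))) (.node []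
    .nil (.node [(49,(-1))] .nil .nil))) (.node [(15,(-1))] (.node [] (.node [(36,1)] .nil .nil)
    (.node [(47,1)] .nil .nil)) (.node [] (.node [(43,1)] .nil .nil) (.node [(50,1)] .nil (.node
    [(71,(-1))] .nil .nil))))))

/-- table -/
noncomputable def auxE6Chain55 : Tr (List (ℕ × ℤ)) :=
    (.node [(10,(-1))] (.node [(13,(-1))] (.node [] (.node [] (.node [] (.node [(52,(-1))] .nil
    .nil) .nil) (.node [(45,(-1))] .nil .nil)) (.node [] (.node [(40,1)] .nil .nil) (.node
    [(49,(-1))] .nil .nil))) (.node [(15,(-1))] (.node [] (.node [(37,1)] (.node [(53,1)] .nil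
    .nil) .nil) (.node [] .nil (.node [(69,1)] .nil .nil))) (.node [] .nil (.node [] .nil (.node
    [(71,1)] .nil .nil))))) (.node [(14,(-1))] (.node [] (.node [] .nil (.node [] .nil (.node
    [(66,1)] .nil .nil))) (.node [] (.node [(41,(-1))] .nil .nil) .nil)) (.node [] (.node [] (.node
    [(38,(-1))] (.node [(54,(-1))] .nil .nil) .nil) (.node [(48,1)] .nil (.node [(70,1)] .nil
    .nil))) (.node [] (.node [(44,1)] .nil .nil) (.node [(51,1)] .nil .nil)))))

/-- table -/
noncomputable def auxE6Chain56 : Tr (List (ℕ × ℤ)) :=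
    (.node [] (.node [] (.node [] (.node [(18,1)] .nil (.node [] .nil (.node [(66,(-1))] .nil
    .nil))) (.node [(26,1)] (.node [] .nil (.node [(62,(-1))] .nil .nil)) (.node [] (.node
    [(58,(-1))] .nil .nil) .nil))) (.node [(16,1)] (.node [(20,1)] .nil .nil) (.node [(28,1)]
    (.node [] .nil (.node [(64,(-1))] .nil .nil)) (.node [] (.node [(60,(-1))] .nil .nil) .nil))))
    (.node [] (.node [] (.node [(19,1)] .nil .nil) (.node [(27,1)] (.node [] .nil (.node
    [(63,(-1))] .nil .nil)) (.node [] (.node [(59,(-1))] .nil .nil) .nil))) (.node [(17,1)] (.node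
    [(21,1)] (.node [] .nil (.node [(61,(-1))] .nil .nil)) (.node [] (.node [(57,(-1))] .nil .nil)
    .nil)) (.node [(29,1)] (.node [] .nil (.node [(65,(-1))] .nil .nil)) .nil))))

/-- table -/
noncomputable def auxE6Chain57 : Tr (List (ℕ × ℤ)) :=
    (.node [] (.node [] (.node [(17,1)] (.node [] (.node [(42,1)] .nil (.node [(61,1)] .nil .nil))
    (.node [] (.node [(58,(-1))] .nil .nil) (.node [(69,(-1))] .nil .nil))) (.node [(30,1)] .nil
    .nil)) (.node [] (.node [(23,(-1))] (.node [] .nil (.node [(63,1)] .nil .nil)) (.node [] (.node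
    [(60,(-1))] .nil .nil) .nil)) (.node [(32,1)] (.node [] .nil (.node [(67,(-1))] .nil .nil))
    (.node [(56,(-1))] .nil .nil)))) (.node [(16,1)] (.node [(18,1)] (.node [(22,(-1))] (.node []
    .nil (.node [(62,1)] .nil .nil)) (.node [] (.node [(59,(-1))] .nil .nil) .nil)) (.node [(31,1)]
    .nil .nil)) (.node [] (.node [(24,(-1))] .nil .nil) (.node [] (.node [] .nil (.node [(68,(-1))]
    .nil .nil)) .nil))))

/-- table -/
noncomputable def auxE6Chain58 : Tr (List (ℕ × ℤ)) :=
    (.node [] (.node [(16,1)] (.node [(19,(-1))] (.node [(23,(-1))] (.node [(43,1)] .nil .nil)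
    (.node [] .nil (.node [(70,(-1))] .nil .nil))) (.node [(33,1)] (.node [] .nil (.node [(67,1)]
    .nil .nil)) .nil)) (.node [] (.node [] (.node [] .nil (.node [(65,1)] .nil .nil)) .nil) (.node
    [] (.node [] (.node [(59,(-1))] .nil .nil) .nil) .nil))) (.node [] (.node [(20,(-1))] (.node []
    (.node [] (.node [(57,(-1))] .nil .nil) (.node [(64,1)] .nil .nil)) .nil) (.node [(34,1)]
    (.node [] .nil (.node [(68,1)] .nil .nil)) (.node [(56,(-1))] .nil .nil))) (.node [(22,(-1))]
    (.node [(25,1)] .nil .nil) (.node [(39,1)] (.node [] (.node [(60,(-1))] .nil .nil) .nil) (.node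
    [] (.node [(61,(-1))] .nil .nil) .nil)))))

/-- table -/
noncomputable def auxE6Chain59 : Tr (List (ℕ × ℤ)) :=
    (.node [] (.node [(17,(-1))] (.node [] (.node [(24,1)] (.node [(44,1)] (.node [(57,(-1))] .nil
    .nil) (.node [(64,(-1))] .nil .nil)) .nil) (.node [(35,1)] .nil (.node [(56,(-1))] .nil .nil)))
    (.node [(22,(-1))] (.node [(25,1)] (.node [] .nil (.node [(66,1)] .nil .nil)) .nil) (.node
    [(37,1)] .nil .nil))) (.node [(19,(-1))] (.node [(21,1)] .nil (.node [] (.node [] (.node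
    [(60,(-1))] .nil .nil) (.node [(69,1)] .nil .nil)) .nil)) (.node [] (.node [] (.node [] (.node
    [(58,(-1))] .nil .nil) (.node [(67,(-1))] .nil .nil)) .nil) (.node [(40,1)] (.node [] .nil
    (.node [(70,1)] .nil .nil)) (.node [] (.node [(62,(-1))] .nil .nil) .nil)))))

/-- table -/
noncomputable def auxE6Chain60 : Tr (List (ℕ × ℤ)) :=
    (.node [] (.node [(18,1)] (.node [(21,1)] (.node [] (.node [(45,1)] .nil (.node [(65,(-1))]
    .nil .nil)) .nil) (.node [] (.node [] (.node [(59,(-1))] .nil .nil) (.node [(69,(-1))] .nil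
    .nil)) .nil)) (.node [(23,1)] (.node [] (.node [] (.node [(58,(-1))] .nil .nil) .nil) .nil)
    (.node [(38,1)] (.node [] .nil (.node [(70,(-1))] .nil .nil)) .nil))) (.node [(20,1)] (.node []
    (.node [(25,1)] (.node [] .nil (.node [(66,(-1))] .nil .nil)) .nil) (.node [(36,1)] .nil .nil))
    (.node [(24,1)] (.node [] (.node [] .nil (.node [(68,(-1))] .nil .nil)) (.node [(56,(-1))] .nil
    .nil)) (.node [(41,1)] .nil (.node [(57,(-1))] (.node [(63,(-1))] .nil .nil) .nil)))))

/-- table -/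
noncomputable def auxE6Chain61 : Tr (List (ℕ × ℤ)) :=
    (.node [(16,1)] (.node [] (.node [(26,1)] (.node [(31,(-1))] (.node [(50,1)] .nil .nil) (.node
    [] .nil (.node [(71,(-1))] .nil .nil))) .nil) (.node [] (.node [(34,1)] .nil (.node [(58,(-1))]
    (.node [(65,1)] .nil .nil) .nil)) (.node [(46,1)] (.node [(56,(-1))] (.node [(62,(-1))] .nil
    .nil) .nil) (.node [] (.node [(68,(-1))] .nil .nil) .nil)))) (.node [] (.node [(27,1)] (.node
    [(33,1)] .nil (.node [(57,1)] (.node [(64,1)] .nil .nil) .nil)) (.node [] .nil (.node [] (.node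
    [(67,(-1))] .nil .nil) .nil))) (.node [(30,(-1))] .nil (.node [(47,(-1))] (.node [] (.node
    [(63,(-1))] .nil .nil) .nil) .nil))))

/-- table -/
noncomputable def auxE6Chain62 : Tr (List (ℕ × ℤ)) :=
    (.node [(17,(-1))] (.node [] (.node [] (.node [(32,1)] (.node [(51,1)] .nil .nil) (.node
    [(57,1)] (.node [(64,(-1))] .nil .nil) .nil)) (.node [] .nil (.node [] (.node [(67,1)] .nil
    .nil) .nil))) (.node [(30,(-1))] (.node [] .nil (.node [(59,(-1))] (.node [(66,1)] .nil .nil)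
    .nil)) (.node [] .nil (.node [] (.node [(69,(-1))] .nil .nil) .nil)))) (.node [(26,1)] (.node
    [(28,(-1))] (.node [(35,1)] .nil .nil) (.node [(46,1)] (.node [(56,(-1))] (.node [(63,(-1))]
    .nil .nil) .nil) .nil)) (.node [] (.node [(37,1)] (.node [] (.node [(61,(-1))] .nil .nil) .nil)
    .nil) (.node [(48,(-1))] (.node [] .nil (.node [(71,1)] .nil .nil)) .nil))))

/-- table -/
noncomputable def auxE6Chain63 : Tr (List (ℕ × ℤ)) :=
    (.node [(18,1)] (.node [] (.node [(28,(-1))] (.node [] (.node [(52,1)] .nil .nil) (.node []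
    (.node [(65,(-1))] .nil .nil) .nil)) (.node [(46,1)] (.node [(56,(-1))] (.node [(62,(-1))] .nil
    .nil) .nil) (.node [] (.node [(68,1)] .nil .nil) .nil))) (.node [(31,1)] (.node [(36,1)] (.node
    [] (.node [(61,(-1))] .nil .nil) .nil) (.node [(60,(-1))] .nil .nil)) (.node [] (.node [] .nil
    (.node [(71,(-1))] .nil .nil)) .nil))) (.node [(27,(-1))] (.node [] (.node [] .nil (.node []
    (.node [(66,(-1))] .nil .nil) .nil)) (.node [] .nil (.node [] (.node [(69,1)] .nil .nil)
    .nil))) (.node [(32,1)] (.node [(38,1)] .nil .nil) (.node [(49,(-1))] (.node [(57,1)] .nil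
    .nil) .nil))))

/-- table -/
noncomputable def auxE6Chain64 : Tr (List (ℕ × ℤ)) :=
    (.node [(19,1)] (.node [(26,1)] (.node [] (.node [] (.node [(53,1)] (.node [(61,1)] .nil .nil)
    .nil) (.node [(58,1)] .nil .nil)) .nil) (.node [(33,(-1))] (.node [(39,1)] .nil .nil) (.node
    [(48,(-1))] .nil (.node [] (.node [(70,(-1))] .nil .nil) .nil)))) (.node [] (.node [(29,1)]
    (.node [] (.node [] (.node [(62,(-1))] .nil .nil) .nil) (.node [(59,(-1))] .nil .nil)) (.node
    [(47,1)] (.node [] (.node [(65,(-1))] .nil .nil) (.node [(71,(-1))] .nil .nil)) .nil)) (.node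
    [(35,1)] (.node [(40,(-1))] (.node [(56,(-1))] .nil .nil) (.node [] (.node [(67,(-1))] .nil
    .nil) .nil)) (.node [] (.node [] (.node [(66,1)] .nil .nil) .nil) .nil))))

/-- table -/
noncomputable def auxE6Chain65 : Tr (List (ℕ × ℤ)) :=
    (.node [(20,(-1))] (.node [(27,(-1))] (.node [(29,1)] (.node [(36,1)] (.node [(54,1)] .nil
    .nil) .nil) (.node [(47,1)] (.node [] (.node [(64,(-1))] .nil .nil) (.node [(71,1)] .nil .nil))
    .nil)) (.node [(34,1)] (.node [] (.node [(56,(-1))] .nil .nil) .nil) (.node [(49,(-1))] (.node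
    [] (.node [(66,(-1))] .nil .nil) .nil) .nil))) (.node [] (.node [] (.node [(39,1)] (.node []
    (.node [(63,(-1))] .nil .nil) .nil) (.node [(60,(-1))] .nil .nil)) (.node [] .nil (.node []
    (.node [(70,1)] .nil .nil) .nil))) (.node [] (.node [(41,(-1))] .nil (.node [] (.node
    [(68,(-1))] .nil .nil) .nil)) (.node [] (.node [(58,1)] .nil .nil) (.node [(61,1)] .nil
    .nil)))))

/-- table -/
noncomputable def auxE6Chain66 : Tr (List (ℕ × ℤ)) :=
    (.node [(21,1)] (.node [(28,1)] (.node [] (.node [(38,(-1))] (.node [(55,1)] (.node [(63,(-1))]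
    .nil .nil) .nil) (.node [(60,(-1))] .nil .nil)) (.node [(48,1)] .nil (.node [] (.node
    [(70,(-1))] .nil .nil) .nil))) (.node [] (.node [(41,(-1))] (.node [] (.node [(64,1)] .nil
    .nil) .nil) .nil) .nil)) (.node [(29,1)] (.node [] (.node [(40,1)] (.node [(56,(-1))] .nil
    .nil) .nil) (.node [(49,(-1))] .nil .nil)) (.node [(37,1)] (.node [] (.node [] (.node
    [(65,(-1))] .nil .nil) (.node [(71,(-1))] .nil .nil)) (.node [] (.node [(69,(-1))] .nil .nil)
    .nil)) (.node [] (.node [(59,1)] .nil .nil) (.node [(62,1)] .nil .nil)))))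

/-- table -/
noncomputable def auxE6Chain67 : Tr (List (ℕ × ℤ)) :=
    (.node [(22,(-1))] (.node [(30,1)] (.node [(35,1)] (.node [(42,1)] .nil .nil) (.node [] .nil
    (.node [(61,(-1))] .nil .nil))) (.node [] (.node [(43,(-1))] (.node [] .nil (.node [(71,1)]
    .nil .nil)) (.node [] (.node [(70,(-1))] .nil .nil) .nil)) (.node [(51,(-1))] (.node
    [(59,(-1))] .nil .nil) (.node [(64,(-1))] .nil .nil)))) (.node [(33,(-1))] (.node [] .nil
    (.node [(50,1)] (.node [(58,1)] (.node [(68,(-1))] .nil .nil) .nil) (.node [(62,1)] .nil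
    .nil))) (.node [] (.node [(44,1)] (.node [(57,(-1))] .nil .nil) .nil) (.node [(53,1)] (.node []
    (.node [(69,1)] .nil .nil) .nil) .nil))))

/-- table -/
noncomputable def auxE6Chain68 : Tr (List (ℕ × ℤ)) :=
    (.node [(23,1)] (.node [(31,(-1))] (.node [] .nil (.node [(50,1)] (.node [(58,1)] (.node
    [(67,(-1))] .nil .nil) .nil) .nil)) (.node [] (.node [] (.node [(57,(-1))] .nil .nil) .nil)
    (.node [(52,(-1))] (.node [(60,(-1))] (.node [(69,(-1))] .nil .nil) .nil) (.node [(65,(-1))]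
    .nil .nil)))) (.node [(34,1)] (.node [(36,1)] (.node [(43,(-1))] (.node [] .nil (.node
    [(71,(-1))] .nil .nil)) (.node [] (.node [(70,1)] .nil .nil) .nil)) (.node [] .nil (.node
    [(63,1)] .nil .nil))) (.node [(42,1)] (.node [(45,1)] .nil (.node [(61,(-1))] .nil .nil))
    (.node [(54,1)] .nil .nil))))

/-- table -/
noncomputable def auxE6Chain69 : Tr (List (ℕ × ℤ)) :=
    (.node [(24,(-1))] (.node [(32,1)] (.node [(37,1)] (.node [] (.node [] .nil (.node [(71,1)]
    .nil .nil)) (.node [] (.node [(70,(-1))] .nil .nil) .nil)) (.node [(51,1)] (.node [(59,1)] .nil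
    .nil) (.node [(63,1)] .nil .nil))) (.node [(42,1)] (.node [(45,1)] (.node [] (.node [(67,1)]
    .nil .nil) .nil) .nil) (.node [] .nil (.node [(66,(-1))] .nil .nil)))) (.node [] (.node
    [(38,(-1))] (.node [(44,(-1))] (.node [(57,(-1))] .nil .nil) .nil) (.node [(52,(-1))] (.node
    [(60,(-1))] .nil .nil) .nil)) (.node [] (.node [] (.node [] (.node [(68,(-1))] .nil .nil) .nil)
    (.node [(62,(-1))] .nil .nil)) (.node [(55,1)] .nil .nil))))

/-- table -/
noncomputable def auxE6Chain70 : Tr (List (ℕ × ℤ)) :=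
    (.node [(25,1)] (.node [] (.node [(40,(-1))] (.node [(45,1)] (.node [] (.node [(68,1)] .nil
    .nil) .nil) .nil) (.node [(53,1)] .nil (.node [(65,1)] .nil .nil))) (.node [(43,1)] (.node []
    (.node [(59,1)] .nil .nil) .nil) (.node [(55,1)] .nil .nil))) (.node [(39,1)] (.node [(41,1)]
    (.node [] (.node [(58,(-1))] (.node [(69,(-1))] .nil .nil) .nil) .nil) (.node [(54,(-1))] .nil
    (.node [(66,(-1))] .nil .nil))) (.node [(44,(-1))] (.node [] (.node [(60,(-1))] .nil .nil)
    (.node [(64,(-1))] .nil .nil)) (.node [] .nil (.node [(67,(-1))] (.node [(71,(-1))] .nil .nil)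
    .nil)))))

/-- table -/
noncomputable def auxE6Chain71 : Tr (List (ℕ × ℤ)) :=
    (.node [] (.node [(46,1)] (.node [(48,1)] (.node [(52,1)] .nil (.node [(68,(-1))] .nil .nil))
    (.node [] (.node [(64,(-1))] .nil .nil) .nil)) (.node [(50,1)] (.node [(54,(-1))] (.node
    [(62,1)] .nil .nil) (.node [(70,(-1))] .nil .nil)) (.node [] (.node [(66,(-1))] .nil .nil)
    .nil))) (.node [(47,(-1))] (.node [(49,(-1))] (.node [(53,1)] (.node [(61,(-1))] .nil .nil)
    (.node [(69,1)] .nil .nil)) (.node [] (.node [(65,1)] .nil .nil) .nil)) (.node [(51,(-1))]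
    (.node [(55,1)] (.node [(63,(-1))] .nil .nil) .nil) (.node [] (.node [(67,1)] .nil .nil)
    .nil))))

/-- table -/
noncomputable def auxE6Chain : Tr (Tr (List (ℕ × ℤ))) :=
    (.node auxE6Chain0 (.node auxE6Chain1 (.node auxE6Chain3 (.node auxE6Chain7 (.node auxE6Chain15
    (.node auxE6Chain31 (.node auxE6Chain63 .nil .nil) .nil) (.node auxE6Chain47 .nil .nil)) (.node
    auxE6Chain23 (.node auxE6Chain39 (.node auxE6Chain71 .nil .nil) .nil) (.node auxE6Chain55 .nil
    .nil))) (.node auxE6Chain11 (.node auxE6Chain19 (.node auxE6Chain35 (.node auxE6Chain67 .nil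
    .nil) .nil) (.node auxE6Chain51 .nil .nil)) (.node auxE6Chain27 (.node auxE6Chain43 .nil .nil)
    (.node auxE6Chain59 .nil .nil)))) (.node auxE6Chain5 (.node auxE6Chain9 (.node auxE6Chain17
    (.node auxE6Chain33 (.node auxE6Chain65 .nil .nil) .nil) (.node auxE6Chain49 .nil .nil)) (.node
    auxE6Chain25 (.node auxE6Chain41 .nil .nil) (.node auxE6Chain57 .nil .nil))) (.node
    auxE6Chain13 (.node auxE6Chain21 (.node auxE6Chain37 (.node auxE6Chain69 .nil .nil) .nil)
    (.node auxE6Chain53 .nil .nil)) (.node auxE6Chain29 (.node auxE6Chain45 .nil .nil) (.node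
    auxE6Chain61 .nil .nil))))) (.node auxE6Chain2 (.node auxE6Chain4 (.node auxE6Chain8 (.node
    auxE6Chain16 (.node auxE6Chain32 (.node auxE6Chain64 .nil .nil) .nil) (.node auxE6Chain48 .nil
    .nil)) (.node auxE6Chain24 (.node auxE6Chain40 .nil .nil) (.node auxE6Chain56 .nil .nil)))
    (.node auxE6Chain12 (.node auxE6Chain20 (.node auxE6Chain36 (.node auxE6Chain68 .nil .nil)
    .nil) (.node auxE6Chain52 .nil .nil)) (.node auxE6Chain28 (.node auxE6Chain44 .nil .nil) (.node
    auxE6Chain60 .nil .nil)))) (.node auxE6Chain6 (.node auxE6Chain10 (.node auxE6Chain18 (.node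
    auxE6Chain34 (.node auxE6Chain66 .nil .nil) .nil) (.node auxE6Chain50 .nil .nil)) (.node
    auxE6Chain26 (.node auxE6Chain42 .nil .nil) (.node auxE6Chain58 .nil .nil))) (.node
    auxE6Chain14 (.node auxE6Chain22 (.node auxE6Chain38 (.node auxE6Chain70 .nil .nil) .nil)
    (.node auxE6Chain54 .nil .nil)) (.node auxE6Chain30 (.node auxE6Chain46 .nil .nil) (.node
    auxE6Chain62 .nil .nil))))))

/-- table -/
noncomputable def auxE6Up : Tr ℕ :=
    (.node 1 (.node 3 (.node 5 (.node 3 (.node 0 (.node 4 (.node 5 .nil .nil) .nil) (.node 2 .nil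
    .nil)) (.node 4 (.node 2 (.node 1 .nil .nil) .nil) (.node 4 .nil .nil))) (.node 5 (.node 5
    (.node 4 (.node 2 .nil .nil) .nil) (.node 4 .nil .nil)) (.node 4 (.node 3 .nil .nil) (.node 4
    .nil .nil)))) (.node 4 (.node 4 (.node 5 (.node 5 (.node 5 .nil .nil) .nil) (.node 5 .nil
    .nil)) (.node 3 (.node 5 .nil .nil) (.node 2 .nil .nil))) (.node 3 (.node 1 (.node 3 (.node 4
    .nil .nil) .nil) (.node 3 .nil .nil)) (.node 0 (.node 5 .nil .nil) (.node 1 .nil .nil)))))
    (.node 4 (.node 2 (.node 5 (.node 4 (.node 2 (.node 3 .nil .nil) .nil) (.node 4 .nil .nil))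
    (.node 2 (.node 4 .nil .nil) (.node 0 .nil .nil))) (.node 4 (.node 4 (.node 4 (.node 5 .nil
    .nil) .nil) (.node 5 .nil .nil)) (.node 3 (.node 4 .nil .nil) (.node 5 .nil .nil)))) (.node 5
    (.node 1 (.node 3 (.node 3 (.node 4 .nil .nil) .nil) (.node 1 .nil .nil)) (.node 5 (.node 0
    .nil .nil) (.node 3 .nil .nil))) (.node 2 (.node 5 (.node 5 (.node 3 .nil .nil) .nil) (.node 5
    .nil .nil)) (.node 5 (.node 3 .nil .nil) (.node 4 .nil .nil))))))

/-- table -/
noncomputable def auxE6Dist : Tr ℕ :=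
    (.node 11 (.node 10 (.node 8 (.node 6 (.node 1 (.node 6 (.node 5 .nil .nil) .nil) (.node 5 .nil
    .nil)) (.node 7 (.node 4 (.node 10 .nil .nil) .nil) (.node 8 .nil .nil))) (.node 5 (.node 7
    (.node 9 (.node 6 .nil .nil) .nil) (.node 5 .nil .nil)) (.node 5 (.node 3 .nil .nil) (.node 3
    .nil .nil)))) (.node 8 (.node 5 (.node 8 (.node 8 (.node 6 .nil .nil) .nil) (.node 7 .nil
    .nil)) (.node 7 (.node 6 .nil .nil) (.node 1 .nil .nil))) (.node 3 (.node 5 (.node 6 (.node 8
    .nil .nil) .nil) (.node 6 .nil .nil)) (.node 3 (.node 5 .nil .nil) (.node 3 .nil .nil)))))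
    (.node 9 (.node 7 (.node 6 (.node 9 (.node 5 (.node 5 .nil .nil) .nil) (.node 6 .nil .nil))
    (.node 6 (.node 5 .nil .nil) (.node 0 .nil .nil))) (.node 4 (.node 6 (.node 8 (.node 7 .nil
    .nil) .nil) (.node 6 .nil .nil)) (.node 4 (.node 4 .nil .nil) (.node 4 .nil .nil)))) (.node 7
    (.node 4 (.node 7 (.node 7 (.node 7 .nil .nil) .nil) (.node 4 .nil .nil)) (.node 6 (.node 2
    .nil .nil) (.node 2 .nil .nil))) (.node 2 (.node 8 (.node 7 (.node 9 .nil .nil) .nil) (.node 7
    .nil .nil)) (.node 7 (.node 6 .nil .nil) (.node 4 .nil .nil))))))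

/-- table -/
noncomputable def auxE6Stab0 : Tr ℕ :=
    (.node 6 (.node 1 (.node 4 (.node 5 (.node 6 (.node 1 (.node 1 .nil .nil) .nil) (.node 1 .nil
    .nil)) (.node 5 (.node 3 (.node 1 .nil .nil) .nil) (.node 4 .nil .nil))) (.node 1 (.node 3
    (.node 4 (.node 6 .nil .nil) .nil) (.node 1 .nil .nil)) (.node 1 (.node 3 .nil .nil) (.node 4
    .nil .nil)))) (.node 6 (.node 3 (.node 4 (.node 3 (.node 3 .nil .nil) .nil) (.node 1 .nil
    .nil)) (.node 3 (.node 3 .nil .nil) (.node 6 .nil .nil))) (.node 1 (.node 4 (.node 4 (.node 4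
    .nil .nil) .nil) (.node 3 .nil .nil)) (.node 3 (.node 5 .nil .nil) (.node 1 .nil .nil)))))
    (.node 3 (.node 5 (.node 3 (.node 6 (.node 1 (.node 3 .nil .nil) .nil) (.node 1 .nil .nil))
    (.node 4 (.node 3 .nil .nil) (.node 6 .nil .nil))) (.node 1 (.node 3 (.node 5 (.node 5 .nil
    .nil) .nil) (.node 1 .nil .nil)) (.node 1 (.node 4 .nil .nil) (.node 5 .nil .nil)))) (.node 4
    (.node 4 (.node 5 (.node 3 (.node 4 .nil .nil) .nil) (.node 1 .nil .nil)) (.node 1 (.node 6
    .nil .nil) (.node 3 .nil .nil))) (.node 3 (.node 6 (.node 4 (.node 3 .nil .nil) .nil) (.node 3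
    .nil .nil)) (.node 1 (.node 1 .nil .nil) (.node 1 .nil .nil))))))

/-- auxiliary tables for type E6 -/
noncomputable def auxE6 : Aux where
  rootT := auxE6Root
  negT := auxE6Neg
  coroT := auxE6Coro
  cartT := [auxE6Cart0, auxE6Cart1, auxE6Cart2, auxE6Cart3, auxE6Cart4, auxE6Cart5]
  chainT := auxE6Chain
  reflT := [auxE6Refl0, auxE6Refl1, auxE6Refl2, auxE6Refl3, auxE6Refl4, auxE6Refl5]
  etaT := [auxE6Eta0, auxE6Eta1, auxE6Eta2, auxE6Eta3, auxE6Eta4, auxE6Eta5]
  upT := auxE6Up
  distT := auxE6Dist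
  reps := [0]
  stabT := [auxE6Stab0]

end CfsgLib.Chev
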