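import Cfsg.Agent.Lib.Chev.Fast
/-! Generated auxiliary tables for type E7. -/

set_option autoImplicit false
set_option maxRecDepth 100000

namespace CfsgLib.Chev

/-- table -/
noncomputable def auxE7Root : Tr (List ℤ) :=
    (.node [(-2),(-2),(-3),(-4),(-3),(-2),(-1)] (.node [(-1),(-2),(-3),(-4),(-3),(-2),(-1)] (.node
    [(-1),(-2),(-2),(-3),(-3),(-2),(-1)] (.node [(-1),(-1),(-2),(-3),(-3),(-2),(-1)] (.node
    [(-1),(-1),(-2),(-2),(-1),(-1),0] (.node [(-1),0,(-1),0,0,0,0] (.node [0,0,0,0,0,0,1] .nil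
    .nil) (.node [1,0,1,1,0,0,0] .nil .nil)) (.node [0,(-1),0,0,0,0,0] (.node [0,1,0,1,0,0,0] .nil
    .nil) (.node [1,1,2,2,1,1,1] .nil .nil))) (.node [(-1),(-1),(-1),(-1),(-1),(-1),(-1)] (.node
    [0,(-1),(-1),(-1),(-1),(-1),(-1)] (.node [0,0,0,1,1,1,0] .nil .nil) (.node [1,1,1,2,1,0,0] .nil
    .nil)) (.node [0,0,0,(-1),(-1),0,0] (.node [0,1,1,2,1,0,0] .nil .nil) (.node [1,2,2,3,2,1,0]
    .nil .nil)))) (.node [(-1),(-1),(-2),(-2),(-2),(-2),(-1)] (.node
    [(-1),(-1),(-1),(-2),(-2),(-1),0] (.node [0,(-1),(-1),(-2),(-2),(-1),0] (.node [0,0,0,0,1,1,0]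
    .nil .nil) (.node [1,1,1,1,0,0,0] .nil .nil)) (.node [0,0,(-1),(-1),0,0,0] (.node
    [0,1,1,1,0,0,0] .nil .nil) (.node [1,1,2,3,2,1,0] .nil .nil))) (.node
    [(-1),0,(-1),(-1),(-1),(-1),(-1)] (.node [0,(-1),0,(-1),(-1),(-1),(-1)] (.node [0,0,1,1,1,0,0]
    .nil .nil) (.node [1,1,1,2,2,1,1] .nil .nil)) (.node [0,0,0,0,(-1),0,0] (.node [0,1,1,2,2,1,1]
    .nil .nil) (.node [1,2,2,4,3,2,1] .nil .nil))))) (.node [(-1),(-2),(-2),(-3),(-2),(-1),(-1)]
    (.node [(-1),(-1),(-2),(-3),(-2),(-1),(-1)] (.node [(-1),(-1),(-1),(-2),(-2),(-2),(-1)] (.node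
    [0,(-1),(-1),(-2),(-2),(-2),(-1)] (.node [0,0,0,0,0,1,1] .nil .nil) (.node [1,0,1,1,1,1,0] .nil
    .nil)) (.node [0,0,(-1),(-1),(-1),(-1),0] (.node [0,1,0,1,1,1,0] .nil .nil) (.node
    [1,1,2,2,2,1,1] .nil .nil))) (.node [(-1),(-1),(-1),(-1),(-1),0,0] (.node
    [0,(-1),(-1),(-1),(-1),0,0] (.node [0,0,1,0,0,0,0] .nil .nil) (.node [1,1,1,2,1,1,1] .nil
    .nil)) (.node [0,0,0,0,(-1),(-1),(-1)] (.node [0,1,1,2,1,1,1] .nil .nil) (.node [1,2,2,3,2,2,1]
    .nil .nil)))) (.node [(-1),(-1),(-2),(-2),(-2),(-1),0] (.node [(-1),(-1),(-1),(-2),(-1),(-1),0]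
    (.node [0,(-1),(-1),(-2),(-1),(-1),0] (.node [0,0,0,1,0,0,0] .nil .nil) (.node [1,1,1,1,1,1,0]
    .nil .nil)) (.node [0,0,0,(-1),(-1),(-1),(-1)] (.node [0,1,1,1,1,1,0] .nil .nil) (.node
    [1,1,2,3,2,2,1] .nil .nil))) (.node [(-1),0,(-1),(-1),(-1),0,0] (.node [0,(-1),0,(-1),(-1),0,0]
    (.node [0,0,1,1,1,1,1] .nil .nil) (.node [1,1,2,2,1,0,0] .nil .nil)) (.node [0,0,0,0,0,(-1),0]
    (.node [1,0,0,0,0,0,0] .nil .nil) (.node [2,2,3,4,3,2,1] .nil .nil)))))) (.node
    [(-1),(-2),(-2),(-4),(-3),(-2),(-1)] (.node [(-1),(-2),(-2),(-3),(-2),(-2),(-1)] (.node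
    [(-1),(-1),(-2),(-3),(-2),(-2),(-1)] (.node [(-1),(-1),(-2),(-2),(-1),0,0] (.node
    [(-1),0,0,0,0,0,0] (.node [0,0,0,0,0,1,0] .nil .nil) (.node [1,0,1,1,1,0,0] .nil .nil)) (.node
    [0,0,(-1),(-1),(-1),(-1),(-1)] (.node [0,1,0,1,1,0,0] .nil .nil) (.node [1,1,2,2,2,1,0] .nil
    .nil))) (.node [(-1),(-1),(-1),(-1),(-1),(-1),0] (.node [0,(-1),(-1),(-1),(-1),(-1),0] (.node
    [0,0,0,1,1,1,1] .nil .nil) (.node [1,1,1,2,1,1,0] .nil .nil)) (.node [0,0,0,(-1),0,0,0] (.node
    [0,1,1,2,1,1,0] .nil .nil) (.node [1,2,2,3,2,1,1] .nil .nil)))) (.node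
    [(-1),(-1),(-2),(-2),(-2),(-1),(-1)] (.node [(-1),(-1),(-1),(-2),(-1),(-1),(-1)] (.node
    [0,(-1),(-1),(-2),(-1),(-1),(-1)] (.node [0,0,0,0,1,1,1] .nil .nil) (.node [1,1,1,1,1,0,0] .nil
    .nil)) (.node [0,0,(-1),0,0,0,0] (.node [0,1,1,1,1,0,0] .nil .nil) (.node [1,1,2,3,2,1,1] .nil
    .nil))) (.node [(-1),0,(-1),(-1),(-1),(-1),0] (.node [0,(-1),0,(-1),(-1),(-1),0] (.node
    [0,0,1,1,1,1,0] .nil .nil) (.node [1,1,1,2,2,2,1] .nil .nil)) (.node [0,0,0,0,0,(-1),(-1)]
    (.node [0,1,1,2,2,2,1] .nil .nil) (.node [1,2,3,4,3,2,1] .nil .nil))))) (.node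
    [(-1),(-2),(-2),(-3),(-2),(-1),0] (.node [(-1),(-1),(-2),(-3),(-2),(-1),0] (.node
    [(-1),(-1),(-1),(-2),(-2),(-1),(-1)] (.node [0,(-1),(-1),(-2),(-2),(-1),(-1)] (.node
    [0,0,0,0,1,0,0] .nil .nil) (.node [1,0,1,1,1,1,1] .nil .nil)) (.node [0,0,(-1),(-1),(-1),0,0]
    (.node [0,1,0,1,1,1,1] .nil .nil) (.node [1,1,2,2,2,2,1] .nil .nil))) (.node
    [(-1),(-1),(-1),(-1),0,0,0] (.node [0,(-1),(-1),(-1),0,0,0] (.node [0,0,1,1,0,0,0] .nil .nil)
    (.node [1,1,1,2,2,1,0] .nil .nil)) (.node [0,0,0,0,(-1),(-1),0] (.node [0,1,1,2,2,1,0] .nil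
    .nil) (.node [1,2,2,3,3,2,1] .nil .nil)))) (.node [(-1),(-1),(-2),(-2),(-1),(-1),(-1)] (.node
    [(-1),(-1),(-1),(-2),(-1),0,0] (.node [0,(-1),(-1),(-2),(-1),0,0] (.node [0,0,0,1,1,0,0] .nil
    .nil) (.node [1,1,1,1,1,1,1] .nil .nil)) (.node [0,0,0,(-1),(-1),(-1),0] (.node [0,1,1,1,1,1,1]
    .nil .nil) (.node [1,1,2,3,3,2,1] .nil .nil))) (.node [(-1),0,(-1),(-1),0,0,0] (.node
    [0,(-1),0,(-1),0,0,0] (.node [0,1,0,0,0,0,0] .nil .nil) (.node [1,1,2,2,1,1,0] .nil .nil))
    (.node [0,0,0,0,0,0,(-1)] (.node [1,0,1,0,0,0,0] .nil .nil) .nil))))))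

/-- table -/
noncomputable def auxE7Neg : Tr ℕ :=
    (.node 125 (.node 124 (.node 122 (.node 118 (.node 110 (.node 94 (.node 62 .nil .nil) (.node 30
    .nil .nil)) (.node 78 (.node 46 .nil .nil) (.node 14 .nil .nil))) (.node 102 (.node 86 (.node
    54 .nil .nil) (.node 22 .nil .nil)) (.node 70 (.node 38 .nil .nil) (.node 6 .nil .nil))))
    (.node 114 (.node 106 (.node 90 (.node 58 .nil .nil) (.node 26 .nil .nil)) (.node 74 (.node 42
    .nil .nil) (.node 10 .nil .nil))) (.node 98 (.node 82 (.node 50 .nil .nil) (.node 18 .nil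
    .nil)) (.node 66 (.node 34 .nil .nil) (.node 2 .nil .nil))))) (.node 120 (.node 116 (.node 108
    (.node 92 (.node 60 .nil .nil) (.node 28 .nil .nil)) (.node 76 (.node 44 .nil .nil) (.node 12
    .nil .nil))) (.node 100 (.node 84 (.node 52 .nil .nil) (.node 20 .nil .nil)) (.node 68 (.node
    36 .nil .nil) (.node 4 .nil .nil)))) (.node 112 (.node 104 (.node 88 (.node 56 .nil .nil)
    (.node 24 .nil .nil)) (.node 72 (.node 40 .nil .nil) (.node 8 .nil .nil))) (.node 96 (.node 80
    (.node 48 .nil .nil) (.node 16 .nil .nil)) (.node 64 (.node 32 .nil .nil) (.node 0 .nil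
    .nil)))))) (.node 123 (.node 121 (.node 117 (.node 109 (.node 93 (.node 61 .nil .nil) (.node 29
    .nil .nil)) (.node 77 (.node 45 .nil .nil) (.node 13 .nil .nil))) (.node 101 (.node 85 (.node
    53 .nil .nil) (.node 21 .nil .nil)) (.node 69 (.node 37 .nil .nil) (.node 5 .nil .nil))))
    (.node 113 (.node 105 (.node 89 (.node 57 .nil .nil) (.node 25 .nil .nil)) (.node 73 (.node 41
    .nil .nil) (.node 9 .nil .nil))) (.node 97 (.node 81 (.node 49 .nil .nil) (.node 17 .nil .nil))
    (.node 65 (.node 33 .nil .nil) (.node 1 .nil .nil))))) (.node 119 (.node 115 (.node 107 (.node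
    91 (.node 59 .nil .nil) (.node 27 .nil .nil)) (.node 75 (.node 43 .nil .nil) (.node 11 .nil
    .nil))) (.node 99 (.node 83 (.node 51 .nil .nil) (.node 19 .nil .nil)) (.node 67 (.node 35 .nil
    .nil) (.node 3 .nil .nil)))) (.node 111 (.node 103 (.node 87 (.node 55 .nil .nil) (.node 23
    .nil .nil)) (.node 71 (.node 39 .nil .nil) (.node 7 .nil .nil))) (.node 95 (.node 79 (.node 47
    .nil .nil) (.node 15 .nil .nil)) (.node 63 (.node 31 .nil .nil) .nil))))))

/-- table -/
noncomputable def auxE7Coro : Tr (List ℤ) :=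
    (.node [(-2),(-2),(-3),(-4),(-3),(-2),(-1)] (.node [(-1),(-2),(-3),(-4),(-3),(-2),(-1)] (.node
    [(-1),(-2),(-2),(-3),(-3),(-2),(-1)] (.node [(-1),(-1),(-2),(-3),(-3),(-2),(-1)] (.node
    [(-1),(-1),(-2),(-2),(-1),(-1),0] (.node [(-1),0,(-1),0,0,0,0] (.node [0,0,0,0,0,0,1] .nil
    .nil) (.node [1,0,1,1,0,0,0] .nil .nil)) (.node [0,(-1),0,0,0,0,0] (.node [0,1,0,1,0,0,0] .nil
    .nil) (.node [1,1,2,2,1,1,1] .nil .nil))) (.node [(-1),(-1),(-1),(-1),(-1),(-1),(-1)] (.node
    [0,(-1),(-1),(-1),(-1),(-1),(-1)] (.node [0,0,0,1,1,1,0] .nil .nil) (.node [1,1,1,2,1,0,0] .nil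
    .nil)) (.node [0,0,0,(-1),(-1),0,0] (.node [0,1,1,2,1,0,0] .nil .nil) (.node [1,2,2,3,2,1,0]
    .nil .nil)))) (.node [(-1),(-1),(-2),(-2),(-2),(-2),(-1)] (.node
    [(-1),(-1),(-1),(-2),(-2),(-1),0] (.node [0,(-1),(-1),(-2),(-2),(-1),0] (.node [0,0,0,0,1,1,0]
    .nil .nil) (.node [1,1,1,1,0,0,0] .nil .nil)) (.node [0,0,(-1),(-1),0,0,0] (.node
    [0,1,1,1,0,0,0] .nil .nil) (.node [1,1,2,3,2,1,0] .nil .nil))) (.node
    [(-1),0,(-1),(-1),(-1),(-1),(-1)] (.node [0,(-1),0,(-1),(-1),(-1),(-1)] (.node [0,0,1,1,1,0,0]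
    .nil .nil) (.node [1,1,1,2,2,1,1] .nil .nil)) (.node [0,0,0,0,(-1),0,0] (.node [0,1,1,2,2,1,1]
    .nil .nil) (.node [1,2,2,4,3,2,1] .nil .nil))))) (.node [(-1),(-2),(-2),(-3),(-2),(-1),(-1)]
    (.node [(-1),(-1),(-2),(-3),(-2),(-1),(-1)] (.node [(-1),(-1),(-1),(-2),(-2),(-2),(-1)] (.node
    [0,(-1),(-1),(-2),(-2),(-2),(-1)] (.node [0,0,0,0,0,1,1] .nil .nil) (.node [1,0,1,1,1,1,0] .nil
    .nil)) (.node [0,0,(-1),(-1),(-1),(-1),0] (.node [0,1,0,1,1,1,0] .nil .nil) (.node
    [1,1,2,2,2,1,1] .nil .nil))) (.node [(-1),(-1),(-1),(-1),(-1),0,0] (.node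
    [0,(-1),(-1),(-1),(-1),0,0] (.node [0,0,1,0,0,0,0] .nil .nil) (.node [1,1,1,2,1,1,1] .nil
    .nil)) (.node [0,0,0,0,(-1),(-1),(-1)] (.node [0,1,1,2,1,1,1] .nil .nil) (.node [1,2,2,3,2,2,1]
    .nil .nil)))) (.node [(-1),(-1),(-2),(-2),(-2),(-1),0] (.node [(-1),(-1),(-1),(-2),(-1),(-1),0]
    (.node [0,(-1),(-1),(-2),(-1),(-1),0] (.node [0,0,0,1,0,0,0] .nil .nil) (.node [1,1,1,1,1,1,0]
    .nil .nil)) (.node [0,0,0,(-1),(-1),(-1),(-1)] (.node [0,1,1,1,1,1,0] .nil .nil) (.node
    [1,1,2,3,2,2,1] .nil .nil))) (.node [(-1),0,(-1),(-1),(-1),0,0] (.node [0,(-1),0,(-1),(-1),0,0]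
    (.node [0,0,1,1,1,1,1] .nil .nil) (.node [1,1,2,2,1,0,0] .nil .nil)) (.node [0,0,0,0,0,(-1),0]
    (.node [1,0,0,0,0,0,0] .nil .nil) (.node [2,2,3,4,3,2,1] .nil .nil)))))) (.node
    [(-1),(-2),(-2),(-4),(-3),(-2),(-1)] (.node [(-1),(-2),(-2),(-3),(-2),(-2),(-1)] (.node
    [(-1),(-1),(-2),(-3),(-2),(-2),(-1)] (.node [(-1),(-1),(-2),(-2),(-1),0,0] (.node
    [(-1),0,0,0,0,0,0] (.node [0,0,0,0,0,1,0] .nil .nil) (.node [1,0,1,1,1,0,0] .nil .nil)) (.node
    [0,0,(-1),(-1),(-1),(-1),(-1)] (.node [0,1,0,1,1,0,0] .nil .nil) (.node [1,1,2,2,2,1,0] .nil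
    .nil))) (.node [(-1),(-1),(-1),(-1),(-1),(-1),0] (.node [0,(-1),(-1),(-1),(-1),(-1),0] (.node
    [0,0,0,1,1,1,1] .nil .nil) (.node [1,1,1,2,1,1,0] .nil .nil)) (.node [0,0,0,(-1),0,0,0] (.node
    [0,1,1,2,1,1,0] .nil .nil) (.node [1,2,2,3,2,1,1] .nil .nil)))) (.node
    [(-1),(-1),(-2),(-2),(-2),(-1),(-1)] (.node [(-1),(-1),(-1),(-2),(-1),(-1),(-1)] (.node
    [0,(-1),(-1),(-2),(-1),(-1),(-1)] (.node [0,0,0,0,1,1,1] .nil .nil) (.node [1,1,1,1,1,0,0] .nil
    .nil)) (.node [0,0,(-1),0,0,0,0] (.node [0,1,1,1,1,0,0] .nil .nil) (.node [1,1,2,3,2,1,1] .nil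
    .nil))) (.node [(-1),0,(-1),(-1),(-1),(-1),0] (.node [0,(-1),0,(-1),(-1),(-1),0] (.node
    [0,0,1,1,1,1,0] .nil .nil) (.node [1,1,1,2,2,2,1] .nil .nil)) (.node [0,0,0,0,0,(-1),(-1)]
    (.node [0,1,1,2,2,2,1] .nil .nil) (.node [1,2,3,4,3,2,1] .nil .nil))))) (.node
    [(-1),(-2),(-2),(-3),(-2),(-1),0] (.node [(-1),(-1),(-2),(-3),(-2),(-1),0] (.node
    [(-1),(-1),(-1),(-2),(-2),(-1),(-1)] (.node [0,(-1),(-1),(-2),(-2),(-1),(-1)] (.node
    [0,0,0,0,1,0,0] .nil .nil) (.node [1,0,1,1,1,1,1] .nil .nil)) (.node [0,0,(-1),(-1),(-1),0,0]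
    (.node [0,1,0,1,1,1,1] .nil .nil) (.node [1,1,2,2,2,2,1] .nil .nil))) (.node
    [(-1),(-1),(-1),(-1),0,0,0] (.node [0,(-1),(-1),(-1),0,0,0] (.node [0,0,1,1,0,0,0] .nil .nil)
    (.node [1,1,1,2,2,1,0] .nil .nil)) (.node [0,0,0,0,(-1),(-1),0] (.node [0,1,1,2,2,1,0] .nil
    .nil) (.node [1,2,2,3,3,2,1] .nil .nil)))) (.node [(-1),(-1),(-2),(-2),(-1),(-1),(-1)] (.node
    [(-1),(-1),(-1),(-2),(-1),0,0] (.node [0,(-1),(-1),(-2),(-1),0,0] (.node [0,0,0,1,1,0,0] .nil
    .nil) (.node [1,1,1,1,1,1,1] .nil .nil)) (.node [0,0,0,(-1),(-1),(-1),0] (.node [0,1,1,1,1,1,1]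
    .nil .nil) (.node [1,1,2,3,3,2,1] .nil .nil))) (.node [(-1),0,(-1),(-1),0,0,0] (.node
    [0,(-1),0,(-1),0,0,0] (.node [0,1,0,0,0,0,0] .nil .nil) (.node [1,1,2,2,1,1,0] .nil .nil))
    (.node [0,0,0,0,0,0,(-1)] (.node [1,0,1,0,0,0,0] .nil .nil) .nil))))))

/-- table -/
noncomputable def auxE7Cart0 : Tr ℤ :=
    (.node (-1) (.node 1 (.node 0 (.node 0 (.node 0 (.node (-1) (.node 0 .nil .nil) (.node 1 .nil
    .nil)) (.node 0 (.node 0 .nil .nil) (.node 0 .nil .nil))) (.node (-1) (.node 1 (.node 0 .nil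
    .nil) (.node 1 .nil .nil)) (.node 0 (.node (-1) .nil .nil) (.node 0 .nil .nil)))) (.node 0
    (.node (-1) (.node 1 (.node 0 .nil .nil) (.node 1 .nil .nil)) (.node 1 (.node (-1) .nil .nil)
    (.node 0 .nil .nil))) (.node (-1) (.node 0 (.node (-1) .nil .nil) (.node 1 .nil .nil)) (.node 0
    (.node (-1) .nil .nil) (.node 0 .nil .nil))))) (.node 0 (.node 0 (.node (-1) (.node 1 (.node 0
    .nil .nil) (.node 1 .nil .nil)) (.node 1 (.node 0 .nil .nil) (.node 0 .nil .nil))) (.node (-1)
    (.node 1 (.node (-1) .nil .nil) (.node 1 .nil .nil)) (.node 0 (.node (-1) .nil .nil) (.node 0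
    .nil .nil)))) (.node 0 (.node (-1) (.node 1 (.node 0 .nil .nil) (.node 1 .nil .nil)) (.node 0
    (.node (-1) .nil .nil) (.node 0 .nil .nil))) (.node (-1) (.node 0 (.node (-1) .nil .nil) (.node
    0 .nil .nil)) (.node 0 (.node 2 .nil .nil) (.node 1 .nil .nil)))))) (.node 0 (.node 0 (.node 0
    (.node 0 (.node (-2) (.node 0 .nil .nil) (.node 1 .nil .nil)) (.node 1 (.node 0 .nil .nil)
    (.node 0 .nil .nil))) (.node (-1) (.node 1 (.node 0 .nil .nil) (.node 1 .nil .nil)) (.node 0
    (.node (-1) .nil .nil) (.node 0 .nil .nil)))) (.node 0 (.node (-1) (.node 1 (.node 0 .nil .nil)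
    (.node 1 .nil .nil)) (.node 1 (.node (-1) .nil .nil) (.node 0 .nil .nil))) (.node (-1) (.node 0
    (.node (-1) .nil .nil) (.node 1 .nil .nil)) (.node 0 (.node (-1) .nil .nil) (.node (-1) .nil
    .nil))))) (.node 0 (.node 0 (.node (-1) (.node 1 (.node 0 .nil .nil) (.node 1 .nil .nil))
    (.node 1 (.node 0 .nil .nil) (.node 0 .nil .nil))) (.node (-1) (.node 1 (.node (-1) .nil .nil)
    (.node 1 .nil .nil)) (.node 0 (.node (-1) .nil .nil) (.node 0 .nil .nil)))) (.node 0 (.node
    (-1) (.node 1 (.node 0 .nil .nil) (.node 1 .nil .nil)) (.node 0 (.node (-1) .nil .nil) (.node 0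
    .nil .nil))) (.node (-1) (.node 0 (.node 0 .nil .nil) (.node 0 .nil .nil)) (.node 0 (.node 1
    .nil .nil) .nil))))))

/-- table -/
noncomputable def auxE7Refl0 : Tr ℕ :=
    (.node 1 (.node 0 (.node 3 (.node 7 (.node 15 (.node 52 (.node 63 .nil .nil) (.node 74 .nil
    .nil)) (.node 47 (.node 79 .nil .nil) (.node 111 .nil .nil))) (.node 39 (.node 23 (.node 71
    .nil .nil) (.node 87 .nil .nil)) (.node 55 (.node 103 .nil .nil) (.node 119 .nil .nil))))
    (.node 11 (.node 35 (.node 19 (.node 67 .nil .nil) (.node 83 .nil .nil)) (.node 30 (.node 99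
    .nil .nil) (.node 115 .nil .nil))) (.node 48 (.node 43 (.node 96 .nil .nil) (.node 91 .nil
    .nil)) (.node 59 (.node 107 .nil .nil) (.node 123 .nil .nil))))) (.node 5 (.node 9 (.node 33
    (.node 17 (.node 65 .nil .nil) (.node 76 .nil .nil)) (.node 28 (.node 81 .nil .nil) (.node 113
    .nil .nil))) (.node 41 (.node 25 (.node 94 .nil .nil) (.node 89 .nil .nil)) (.node 57 (.node
    105 .nil .nil) (.node 121 .nil .nil)))) (.node 13 (.node 37 (.node 21 (.node 69 .nil .nil)
    (.node 85 .nil .nil)) (.node 53 (.node 101 .nil .nil) (.node 117 .nil .nil))) (.node 50 (.node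
    45 (.node 98 .nil .nil) (.node 109 .nil .nil)) (.node 61 (.node 32 .nil .nil) (.node 124 .nil
    .nil)))))) (.node 2 (.node 4 (.node 8 (.node 16 (.node 93 (.node 64 .nil .nil) (.node 75 .nil
    .nil)) (.node 27 (.node 80 .nil .nil) (.node 112 .nil .nil))) (.node 40 (.node 24 (.node 72
    .nil .nil) (.node 88 .nil .nil)) (.node 56 (.node 104 .nil .nil) (.node 120 .nil .nil))))
    (.node 12 (.node 36 (.node 20 (.node 68 .nil .nil) (.node 84 .nil .nil)) (.node 31 (.node 100
    .nil .nil) (.node 116 .nil .nil))) (.node 49 (.node 44 (.node 97 .nil .nil) (.node 92 .nil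
    .nil)) (.node 60 (.node 108 .nil .nil) (.node 125 .nil .nil))))) (.node 6 (.node 10 (.node 34
    (.node 18 (.node 66 .nil .nil) (.node 77 .nil .nil)) (.node 29 (.node 82 .nil .nil) (.node 114
    .nil .nil))) (.node 42 (.node 26 (.node 95 .nil .nil) (.node 90 .nil .nil)) (.node 58 (.node
    106 .nil .nil) (.node 122 .nil .nil)))) (.node 14 (.node 38 (.node 22 (.node 70 .nil .nil)
    (.node 86 .nil .nil)) (.node 54 (.node 102 .nil .nil) (.node 118 .nil .nil))) (.node 51 (.node
    46 (.node 78 .nil .nil) (.node 110 .nil .nil)) (.node 62 (.node 73 .nil .nil) .nil))))))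

/-- table -/
noncomputable def auxE7Eta0 : Tr ℤ :=
    (.node (-1) (.node 1 (.node 1 (.node 1 (.node 1 (.node 1 (.node 1 .nil .nil) (.node 1 .nil
    .nil)) (.node 1 (.node 1 .nil .nil) (.node 1 .nil .nil))) (.node 1 (.node (-1) (.node 1 .nil
    .nil) (.node 1 .nil .nil)) (.node 1 (.node (-1) .nil .nil) (.node 1 .nil .nil)))) (.node 1
    (.node 1 (.node (-1) (.node 1 .nil .nil) (.node 1 .nil .nil)) (.node (-1) (.node (-1) .nil
    .nil) (.node 1 .nil .nil))) (.node 1 (.node 1 (.node (-1) .nil .nil) (.node 1 .nil .nil))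
    (.node 1 (.node (-1) .nil .nil) (.node 1 .nil .nil))))) (.node 1 (.node 1 (.node 1 (.node (-1)
    (.node 1 .nil .nil) (.node 1 .nil .nil)) (.node (-1) (.node 1 .nil .nil) (.node 1 .nil .nil)))
    (.node 1 (.node (-1) (.node (-1) .nil .nil) (.node 1 .nil .nil)) (.node 1 (.node (-1) .nil
    .nil) (.node 1 .nil .nil)))) (.node 1 (.node 1 (.node (-1) (.node 1 .nil .nil) (.node 1 .nil
    .nil)) (.node 1 (.node (-1) .nil .nil) (.node 1 .nil .nil))) (.node 1 (.node 1 (.node (-1) .nil
    .nil) (.node 1 .nil .nil)) (.node 1 (.node (-1) .nil .nil) (.node (-1) .nil .nil)))))) (.node 1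
    (.node 1 (.node 1 (.node 1 (.node (-1) (.node 1 .nil .nil) (.node 1 .nil .nil)) (.node (-1)
    (.node 1 .nil .nil) (.node 1 .nil .nil))) (.node 1 (.node (-1) (.node 1 .nil .nil) (.node 1
    .nil .nil)) (.node 1 (.node (-1) .nil .nil) (.node 1 .nil .nil)))) (.node 1 (.node 1 (.node
    (-1) (.node 1 .nil .nil) (.node 1 .nil .nil)) (.node (-1) (.node (-1) .nil .nil) (.node 1 .nil
    .nil))) (.node 1 (.node 1 (.node (-1) .nil .nil) (.node 1 .nil .nil)) (.node 1 (.node (-1) .nil
    .nil) (.node 1 .nil .nil))))) (.node 1 (.node 1 (.node 1 (.node (-1) (.node 1 .nil .nil) (.node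
    1 .nil .nil)) (.node (-1) (.node 1 .nil .nil) (.node 1 .nil .nil))) (.node 1 (.node (-1) (.node
    (-1) .nil .nil) (.node 1 .nil .nil)) (.node 1 (.node (-1) .nil .nil) (.node 1 .nil .nil))))
    (.node 1 (.node 1 (.node (-1) (.node 1 .nil .nil) (.node 1 .nil .nil)) (.node 1 (.node (-1)
    .nil .nil) (.node 1 .nil .nil))) (.node 1 (.node 1 (.node 1 .nil .nil) (.node 1 .nil .nil))
    (.node 1 (.node 1 .nil .nil) .nil))))))

/-- table -/
noncomputable def auxE7Cart1 : Tr ℤ :=
    (.node 0 (.node 0 (.node (-1) (.node 1 (.node 0 (.node 0 (.node 0 .nil .nil) (.node (-1) .nil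
    .nil)) (.node (-2) (.node 1 .nil .nil) (.node 0 .nil .nil))) (.node (-1) (.node (-1) (.node
    (-1) .nil .nil) (.node 0 .nil .nil)) (.node 1 (.node 0 .nil .nil) (.node 1 .nil .nil)))) (.node
    0 (.node 0 (.node 0 (.node 0 .nil .nil) (.node 1 .nil .nil)) (.node 1 (.node 1 .nil .nil)
    (.node (-1) .nil .nil))) (.node 1 (.node (-1) (.node (-1) .nil .nil) (.node 0 .nil .nil))
    (.node 0 (.node 0 .nil .nil) (.node 0 .nil .nil))))) (.node (-1) (.node 1 (.node 0 (.node 0
    (.node 0 .nil .nil) (.node (-1) .nil .nil)) (.node 1 (.node 1 .nil .nil) (.node 0 .nil .nil)))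
    (.node (-1) (.node (-1) (.node 0 .nil .nil) (.node 0 .nil .nil)) (.node 0 (.node 0 .nil .nil)
    (.node 1 .nil .nil)))) (.node 0 (.node 0 (.node 0 (.node (-1) .nil .nil) (.node 1 .nil .nil))
    (.node 1 (.node 1 .nil .nil) (.node (-1) .nil .nil))) (.node 1 (.node (-1) (.node (-1) .nil
    .nil) (.node 0 .nil .nil)) (.node 0 (.node 0 .nil .nil) (.node 0 .nil .nil)))))) (.node 0
    (.node (-1) (.node 1 (.node 0 (.node 0 (.node 0 .nil .nil) (.node (-1) .nil .nil)) (.node 1
    (.node 1 .nil .nil) (.node 0 .nil .nil))) (.node (-1) (.node (-1) (.node (-1) .nil .nil) (.node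
    0 .nil .nil)) (.node 1 (.node 0 .nil .nil) (.node 1 .nil .nil)))) (.node 0 (.node 0 (.node 0
    (.node 0 .nil .nil) (.node 1 .nil .nil)) (.node 0 (.node 1 .nil .nil) (.node (-1) .nil .nil)))
    (.node 1 (.node (-1) (.node (-1) .nil .nil) (.node 0 .nil .nil)) (.node 0 (.node 0 .nil .nil)
    (.node 0 .nil .nil))))) (.node (-1) (.node 1 (.node 0 (.node 0 (.node 0 .nil .nil) (.node (-1)
    .nil .nil)) (.node 1 (.node 1 .nil .nil) (.node 0 .nil .nil))) (.node (-1) (.node (-1) (.node
    (-1) .nil .nil) (.node 0 .nil .nil)) (.node 0 (.node 0 .nil .nil) (.node 1 .nil .nil)))) (.node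
    0 (.node 0 (.node 0 (.node (-1) .nil .nil) (.node 1 .nil .nil)) (.node 1 (.node 1 .nil .nil)
    (.node (-1) .nil .nil))) (.node 1 (.node (-1) (.node 2 .nil .nil) (.node 0 .nil .nil)) (.node 0
    (.node 0 .nil .nil) .nil))))))

/-- table -/
noncomputable def auxE7Refl1 : Tr ℕ :=
    (.node 0 (.node 1 (.node 7 (.node 3 (.node 15 (.node 31 (.node 63 .nil .nil) (.node 99 .nil
    .nil)) (.node 78 (.node 69 .nil .nil) (.node 111 .nil .nil))) (.node 27 (.node 48 (.node 81
    .nil .nil) (.node 103 .nil .nil)) (.node 45 (.node 87 .nil .nil) (.node 115 .nil .nil))))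
    (.node 11 (.node 19 (.node 35 (.node 67 .nil .nil) (.node 95 .nil .nil)) (.node 42 (.node 74
    .nil .nil) (.node 119 .nil .nil))) (.node 23 (.node 53 (.node 84 .nil .nil) (.node 107 .nil
    .nil)) (.node 59 (.node 91 .nil .nil) (.node 123 .nil .nil))))) (.node 9 (.node 5 (.node 17
    (.node 33 (.node 65 .nil .nil) (.node 101 .nil .nil)) (.node 40 (.node 71 .nil .nil) (.node 113
    .nil .nil))) (.node 29 (.node 50 (.node 73 .nil .nil) (.node 105 .nil .nil)) (.node 57 (.node
    89 .nil .nil) (.node 117 .nil .nil)))) (.node 13 (.node 21 (.node 37 (.node 79 .nil .nil)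
    (.node 97 .nil .nil)) (.node 43 (.node 76 .nil .nil) (.node 121 .nil .nil))) (.node 25 (.node
    55 (.node 86 .nil .nil) (.node 109 .nil .nil)) (.node 61 (.node 93 .nil .nil) (.node 125 .nil
    .nil)))))) (.node 2 (.node 8 (.node 4 (.node 16 (.node 32 (.node 64 .nil .nil) (.node 100 .nil
    .nil)) (.node 39 (.node 70 .nil .nil) (.node 112 .nil .nil))) (.node 28 (.node 49 (.node 82
    .nil .nil) (.node 104 .nil .nil)) (.node 46 (.node 88 .nil .nil) (.node 116 .nil .nil))))
    (.node 12 (.node 20 (.node 36 (.node 68 .nil .nil) (.node 96 .nil .nil)) (.node 52 (.node 75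
    .nil .nil) (.node 120 .nil .nil))) (.node 24 (.node 54 (.node 85 .nil .nil) (.node 108 .nil
    .nil)) (.node 60 (.node 92 .nil .nil) (.node 124 .nil .nil))))) (.node 10 (.node 6 (.node 18
    (.node 34 (.node 66 .nil .nil) (.node 102 .nil .nil)) (.node 41 (.node 72 .nil .nil) (.node 114
    .nil .nil))) (.node 30 (.node 51 (.node 83 .nil .nil) (.node 106 .nil .nil)) (.node 58 (.node
    90 .nil .nil) (.node 118 .nil .nil)))) (.node 14 (.node 22 (.node 38 (.node 80 .nil .nil)
    (.node 98 .nil .nil)) (.node 44 (.node 77 .nil .nil) (.node 122 .nil .nil))) (.node 26 (.node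
    56 (.node 47 .nil .nil) (.node 110 .nil .nil)) (.node 62 (.node 94 .nil .nil) .nil))))))

/-- table -/
noncomputable def auxE7Eta1 : Tr ℤ :=
    (.node 1 (.node 1 (.node (-1) (.node 1 (.node 1 (.node 1 (.node 1 .nil .nil) (.node 1 .nil
    .nil)) (.node (-1) (.node 1 .nil .nil) (.node 1 .nil .nil))) (.node (-1) (.node (-1) (.node
    (-1) .nil .nil) (.node 1 .nil .nil)) (.node (-1) (.node 1 .nil .nil) (.node (-1) .nil .nil))))
    (.node 1 (.node 1 (.node 1 (.node 1 .nil .nil) (.node (-1) .nil .nil)) (.node 1 (.node (-1)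
    .nil .nil) (.node 1 .nil .nil))) (.node 1 (.node 1 (.node 1 .nil .nil) (.node 1 .nil .nil))
    (.node 1 (.node 1 .nil .nil) (.node 1 .nil .nil))))) (.node (-1) (.node 1 (.node 1 (.node 1
    (.node 1 .nil .nil) (.node 1 .nil .nil)) (.node 1 (.node 1 .nil .nil) (.node 1 .nil .nil)))
    (.node (-1) (.node (-1) (.node 1 .nil .nil) (.node 1 .nil .nil)) (.node 1 (.node 1 .nil .nil)
    (.node (-1) .nil .nil)))) (.node 1 (.node 1 (.node 1 (.node (-1) .nil .nil) (.node (-1) .nil
    .nil)) (.node (-1) (.node (-1) .nil .nil) (.node 1 .nil .nil))) (.node 1 (.node 1 (.node 1 .nil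
    .nil) (.node 1 .nil .nil)) (.node 1 (.node 1 .nil .nil) (.node 1 .nil .nil)))))) (.node 1
    (.node (-1) (.node 1 (.node 1 (.node 1 (.node 1 .nil .nil) (.node 1 .nil .nil)) (.node 1 (.node
    1 .nil .nil) (.node 1 .nil .nil))) (.node (-1) (.node (-1) (.node (-1) .nil .nil) (.node 1 .nil
    .nil)) (.node (-1) (.node 1 .nil .nil) (.node (-1) .nil .nil)))) (.node 1 (.node 1 (.node 1
    (.node 1 .nil .nil) (.node (-1) .nil .nil)) (.node 1 (.node (-1) .nil .nil) (.node 1 .nil
    .nil))) (.node 1 (.node 1 (.node 1 .nil .nil) (.node 1 .nil .nil)) (.node 1 (.node 1 .nil .nil)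
    (.node 1 .nil .nil))))) (.node (-1) (.node 1 (.node 1 (.node 1 (.node 1 .nil .nil) (.node 1
    .nil .nil)) (.node 1 (.node 1 .nil .nil) (.node 1 .nil .nil))) (.node (-1) (.node (-1) (.node 1
    .nil .nil) (.node 1 .nil .nil)) (.node 1 (.node 1 .nil .nil) (.node (-1) .nil .nil)))) (.node 1
    (.node 1 (.node 1 (.node (-1) .nil .nil) (.node (-1) .nil .nil)) (.node (-1) (.node (-1) .nil
    .nil) (.node 1 .nil .nil))) (.node 1 (.node 1 (.node (-1) .nil .nil) (.node 1 .nil .nil))
    (.node 1 (.node 1 .nil .nil) .nil))))))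

/-- table -/
noncomputable def auxE7Cart2 : Tr ℤ :=
    (.node 0 (.node (-1) (.node 0 (.node 0 (.node (-1) (.node (-1) (.node 0 .nil .nil) (.node 0
    .nil .nil)) (.node 0 (.node (-1) .nil .nil) (.node 1 .nil .nil))) (.node 0 (.node (-1) (.node
    (-1) .nil .nil) (.node (-1) .nil .nil)) (.node 1 (.node 0 .nil .nil) (.node 0 .nil .nil))))
    (.node (-1) (.node 1 (.node 0 (.node 0 .nil .nil) (.node 0 .nil .nil)) (.node (-1) (.node 1
    .nil .nil) (.node 0 .nil .nil))) (.node 0 (.node 1 (.node 1 .nil .nil) (.node (-1) .nil .nil))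
    (.node 0 (.node 0 .nil .nil) (.node (-1) .nil .nil))))) (.node 0 (.node 0 (.node 1 (.node 0
    (.node 0 .nil .nil) (.node 0 .nil .nil)) (.node (-1) (.node (-1) .nil .nil) (.node 1 .nil
    .nil))) (.node 0 (.node (-1) (.node 2 .nil .nil) (.node (-1) .nil .nil)) (.node 0 (.node 0 .nil
    .nil) (.node 0 .nil .nil)))) (.node (-1) (.node 1 (.node 0 (.node (-1) .nil .nil) (.node 0 .nil
    .nil)) (.node 1 (.node 1 .nil .nil) (.node 0 .nil .nil))) (.node 0 (.node 1 (.node 1 .nil .nil)
    (.node 1 .nil .nil)) (.node 0 (.node (-1) .nil .nil) (.node 0 .nil .nil)))))) (.node 1 (.node 0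
    (.node 0 (.node (-1) (.node 1 (.node 0 .nil .nil) (.node 0 .nil .nil)) (.node (-1) (.node (-1)
    .nil .nil) (.node 1 .nil .nil))) (.node 0 (.node (-1) (.node (-1) .nil .nil) (.node (-1) .nil
    .nil)) (.node 1 (.node 0 .nil .nil) (.node 0 .nil .nil)))) (.node (-1) (.node 1 (.node 0 (.node
    0 .nil .nil) (.node 0 .nil .nil)) (.node (-2) (.node 1 .nil .nil) (.node 0 .nil .nil))) (.node
    0 (.node 1 (.node 1 .nil .nil) (.node (-1) .nil .nil)) (.node 0 (.node 0 .nil .nil) (.node 1
    .nil .nil))))) (.node 0 (.node 0 (.node 1 (.node 0 (.node 0 .nil .nil) (.node 0 .nil .nil))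
    (.node (-1) (.node (-1) .nil .nil) (.node 1 .nil .nil))) (.node 0 (.node (-1) (.node 1 .nil
    .nil) (.node (-1) .nil .nil)) (.node 0 (.node 0 .nil .nil) (.node 0 .nil .nil)))) (.node (-1)
    (.node 1 (.node 0 (.node (-1) .nil .nil) (.node 0 .nil .nil)) (.node 1 (.node 1 .nil .nil)
    (.node 0 .nil .nil))) (.node 0 (.node 1 (.node 0 .nil .nil) (.node 1 .nil .nil)) (.node 0
    (.node 1 .nil .nil) .nil))))))

/-- table -/
noncomputable def auxE7Refl2 : Tr ℕ :=
    (.node 0 (.node 2 (.node 3 (.node 7 (.node 21 (.node 32 (.node 63 .nil .nil) (.node 95 .nil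
    .nil)) (.node 47 (.node 83 .nil .nil) (.node 105 .nil .nil))) (.node 23 (.node 43 (.node 76
    .nil .nil) (.node 109 .nil .nil)) (.node 50 (.node 87 .nil .nil) (.node 119 .nil .nil))))
    (.node 17 (.node 13 (.node 35 (.node 67 .nil .nil) (.node 99 .nil .nil)) (.node 56 (.node 79
    .nil .nil) (.node 115 .nil .nil))) (.node 27 (.node 39 (.node 70 .nil .nil) (.node 113 .nil
    .nil)) (.node 59 (.node 91 .nil .nil) (.node 124 .nil .nil))))) (.node 5 (.node 9 (.node 11
    (.node 33 (.node 65 .nil .nil) (.node 97 .nil .nil)) (.node 54 (.node 85 .nil .nil) (.node 107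
    .nil .nil))) (.node 25 (.node 45 (.node 52 .nil .nil) (.node 111 .nil .nil)) (.node 57 (.node
    89 .nil .nil) (.node 121 .nil .nil)))) (.node 19 (.node 15 (.node 37 (.node 74 .nil .nil)
    (.node 101 .nil .nil)) (.node 48 (.node 81 .nil .nil) (.node 117 .nil .nil))) (.node 29 (.node
    41 (.node 72 .nil .nil) (.node 103 .nil .nil)) (.node 61 (.node 94 .nil .nil) (.node 125 .nil
    .nil)))))) (.node 1 (.node 4 (.node 8 (.node 22 (.node 31 (.node 64 .nil .nil) (.node 96 .nil
    .nil)) (.node 53 (.node 84 .nil .nil) (.node 106 .nil .nil))) (.node 24 (.node 44 (.node 77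
    .nil .nil) (.node 110 .nil .nil)) (.node 51 (.node 88 .nil .nil) (.node 120 .nil .nil))))
    (.node 18 (.node 14 (.node 36 (.node 68 .nil .nil) (.node 100 .nil .nil)) (.node 73 (.node 80
    .nil .nil) (.node 116 .nil .nil))) (.node 28 (.node 40 (.node 71 .nil .nil) (.node 114 .nil
    .nil)) (.node 60 (.node 92 .nil .nil) (.node 123 .nil .nil))))) (.node 6 (.node 10 (.node 12
    (.node 34 (.node 66 .nil .nil) (.node 98 .nil .nil)) (.node 55 (.node 86 .nil .nil) (.node 108
    .nil .nil))) (.node 26 (.node 46 (.node 69 .nil .nil) (.node 112 .nil .nil)) (.node 58 (.node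
    90 .nil .nil) (.node 122 .nil .nil)))) (.node 20 (.node 16 (.node 38 (.node 75 .nil .nil)
    (.node 102 .nil .nil)) (.node 49 (.node 82 .nil .nil) (.node 118 .nil .nil))) (.node 30 (.node
    42 (.node 78 .nil .nil) (.node 104 .nil .nil)) (.node 62 (.node 93 .nil .nil) .nil))))))

/-- table -/
noncomputable def auxE7Eta2 : Tr ℤ :=
    (.node 1 (.node (-1) (.node 1 (.node 1 (.node (-1) (.node (-1) (.node 1 .nil .nil) (.node 1
    .nil .nil)) (.node 1 (.node 1 .nil .nil) (.node (-1) .nil .nil))) (.node 1 (.node (-1) (.node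
    (-1) .nil .nil) (.node 1 .nil .nil)) (.node (-1) (.node 1 .nil .nil) (.node 1 .nil .nil))))
    (.node (-1) (.node 1 (.node 1 (.node 1 .nil .nil) (.node 1 .nil .nil)) (.node 1 (.node (-1)
    .nil .nil) (.node 1 .nil .nil))) (.node 1 (.node 1 (.node 1 .nil .nil) (.node 1 .nil .nil))
    (.node 1 (.node 1 .nil .nil) (.node 1 .nil .nil))))) (.node 1 (.node 1 (.node 1 (.node 1 (.node
    1 .nil .nil) (.node 1 .nil .nil)) (.node 1 (.node 1 .nil .nil) (.node (-1) .nil .nil))) (.node
    1 (.node (-1) (.node (-1) .nil .nil) (.node 1 .nil .nil)) (.node 1 (.node 1 .nil .nil) (.node 1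
    .nil .nil)))) (.node (-1) (.node 1 (.node 1 (.node (-1) .nil .nil) (.node 1 .nil .nil)) (.node
    (-1) (.node (-1) .nil .nil) (.node 1 .nil .nil))) (.node 1 (.node 1 (.node 1 .nil .nil) (.node
    (-1) .nil .nil)) (.node 1 (.node 1 .nil .nil) (.node 1 .nil .nil)))))) (.node 1 (.node 1 (.node
    1 (.node (-1) (.node 1 (.node 1 .nil .nil) (.node 1 .nil .nil)) (.node 1 (.node 1 .nil .nil)
    (.node (-1) .nil .nil))) (.node 1 (.node (-1) (.node (-1) .nil .nil) (.node 1 .nil .nil))
    (.node (-1) (.node 1 .nil .nil) (.node 1 .nil .nil)))) (.node (-1) (.node 1 (.node 1 (.node 1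
    .nil .nil) (.node 1 .nil .nil)) (.node (-1) (.node (-1) .nil .nil) (.node 1 .nil .nil))) (.node
    1 (.node 1 (.node 1 .nil .nil) (.node 1 .nil .nil)) (.node 1 (.node 1 .nil .nil) (.node (-1)
    .nil .nil))))) (.node 1 (.node 1 (.node 1 (.node 1 (.node 1 .nil .nil) (.node 1 .nil .nil))
    (.node 1 (.node 1 .nil .nil) (.node (-1) .nil .nil))) (.node 1 (.node (-1) (.node 1 .nil .nil)
    (.node 1 .nil .nil)) (.node 1 (.node 1 .nil .nil) (.node 1 .nil .nil)))) (.node (-1) (.node 1
    (.node 1 (.node (-1) .nil .nil) (.node 1 .nil .nil)) (.node (-1) (.node (-1) .nil .nil) (.node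
    1 .nil .nil))) (.node 1 (.node 1 (.node 1 .nil .nil) (.node (-1) .nil .nil)) (.node 1 (.node
    (-1) .nil .nil) .nil))))))

/-- table -/
noncomputable def auxE7Cart3 : Tr ℤ :=
    (.node 0 (.node 0 (.node 1 (.node 0 (.node 0 (.node 1 (.node 0 .nil .nil) (.node 1 .nil .nil))
    (.node 1 (.node 1 .nil .nil) (.node 0 .nil .nil))) (.node 1 (.node 1 (.node 1 .nil .nil) (.node
    1 .nil .nil)) (.node (-1) (.node 1 .nil .nil) (.node 0 .nil .nil)))) (.node 1 (.node 0 (.node 0
    (.node (-1) .nil .nil) (.node 0 .nil .nil)) (.node (-1) (.node 0 .nil .nil) (.node 1 .nil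
    .nil))) (.node 0 (.node 0 (.node 0 .nil .nil) (.node 0 .nil .nil)) (.node 1 (.node 0 .nil .nil)
    (.node 1 .nil .nil))))) (.node 0 (.node (-1) (.node 0 (.node 0 (.node 0 .nil .nil) (.node 0
    .nil .nil)) (.node 0 (.node 0 .nil .nil) (.node (-1) .nil .nil))) (.node 1 (.node 1 (.node (-1)
    .nil .nil) (.node 1 .nil .nil)) (.node 1 (.node 1 .nil .nil) (.node 0 .nil .nil)))) (.node 1
    (.node (-1) (.node (-1) (.node 2 .nil .nil) (.node (-1) .nil .nil)) (.node (-1) (.node (-1)
    .nil .nil) (.node 1 .nil .nil))) (.node 0 (.node 0 (.node 0 .nil .nil) (.node 0 .nil .nil))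
    (.node 0 (.node 0 .nil .nil) (.node 0 .nil .nil)))))) (.node (-1) (.node 0 (.node (-1) (.node 0
    (.node 0 (.node 0 .nil .nil) (.node 0 .nil .nil)) (.node 0 (.node 0 .nil .nil) (.node (-1) .nil
    .nil))) (.node 1 (.node 1 (.node 1 .nil .nil) (.node 1 .nil .nil)) (.node (-2) (.node 1 .nil
    .nil) (.node 0 .nil .nil)))) (.node 1 (.node (-1) (.node (-1) (.node (-1) .nil .nil) (.node
    (-1) .nil .nil)) (.node 1 (.node (-1) .nil .nil) (.node 1 .nil .nil))) (.node 0 (.node 0 (.node
    0 .nil .nil) (.node 0 .nil .nil)) (.node 0 (.node 0 .nil .nil) (.node 0 .nil .nil))))) (.node 0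
    (.node (-1) (.node 0 (.node 0 (.node (-1) .nil .nil) (.node 0 .nil .nil)) (.node 0 (.node 0
    .nil .nil) (.node (-1) .nil .nil))) (.node 0 (.node 0 (.node 1 .nil .nil) (.node 0 .nil .nil))
    (.node 1 (.node 0 .nil .nil) (.node (-1) .nil .nil)))) (.node 0 (.node (-1) (.node (-1) (.node
    1 .nil .nil) (.node (-1) .nil .nil)) (.node (-1) (.node (-1) .nil .nil) (.node 0 .nil .nil)))
    (.node (-1) (.node (-1) (.node (-1) .nil .nil) (.node 0 .nil .nil)) (.node 0 (.node (-1) .nil
    .nil) .nil))))))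

/-- table -/
noncomputable def auxE7Refl3 : Tr ℕ :=
    (.node 0 (.node 1 (.node 2 (.node 7 (.node 15 (.node 30 (.node 63 .nil .nil) (.node 94 .nil
    .nil)) (.node 46 (.node 78 .nil .nil) (.node 111 .nil .nil))) (.node 20 (.node 36 (.node 67
    .nil .nil) (.node 100 .nil .nil)) (.node 59 (.node 84 .nil .nil) (.node 119 .nil .nil))))
    (.node 8 (.node 19 (.node 35 (.node 71 .nil .nil) (.node 99 .nil .nil)) (.node 52 (.node 83
    .nil .nil) (.node 112 .nil .nil))) (.node 27 (.node 43 (.node 75 .nil .nil) (.node 107 .nil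
    .nil)) (.node 55 (.node 91 .nil .nil) (.node 122 .nil .nil))))) (.node 5 (.node 12 (.node 17
    (.node 33 (.node 65 .nil .nil) (.node 97 .nil .nil)) (.node 49 (.node 81 .nil .nil) (.node 116
    .nil .nil))) (.node 22 (.node 38 (.node 74 .nil .nil) (.node 102 .nil .nil)) (.node 53 (.node
    86 .nil .nil) (.node 121 .nil .nil)))) (.node 10 (.node 24 (.node 40 (.node 56 .nil .nil)
    (.node 104 .nil .nil)) (.node 57 (.node 88 .nil .nil) (.node 114 .nil .nil))) (.node 29 (.node
    45 (.node 77 .nil .nil) (.node 109 .nil .nil)) (.node 61 (.node 93 .nil .nil) (.node 125 .nil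
    .nil)))))) (.node 3 (.node 4 (.node 11 (.node 16 (.node 32 (.node 64 .nil .nil) (.node 96 .nil
    .nil)) (.node 48 (.node 80 .nil .nil) (.node 115 .nil .nil))) (.node 21 (.node 37 (.node 68
    .nil .nil) (.node 101 .nil .nil)) (.node 69 (.node 85 .nil .nil) (.node 120 .nil .nil))))
    (.node 9 (.node 23 (.node 39 (.node 72 .nil .nil) (.node 103 .nil .nil)) (.node 51 (.node 87
    .nil .nil) (.node 113 .nil .nil))) (.node 28 (.node 44 (.node 76 .nil .nil) (.node 108 .nil
    .nil)) (.node 60 (.node 92 .nil .nil) (.node 124 .nil .nil))))) (.node 6 (.node 13 (.node 18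
    (.node 34 (.node 70 .nil .nil) (.node 98 .nil .nil)) (.node 50 (.node 82 .nil .nil) (.node 117
    .nil .nil))) (.node 26 (.node 42 (.node 73 .nil .nil) (.node 106 .nil .nil)) (.node 54 (.node
    90 .nil .nil) (.node 123 .nil .nil)))) (.node 14 (.node 25 (.node 41 (.node 66 .nil .nil)
    (.node 105 .nil .nil)) (.node 58 (.node 89 .nil .nil) (.node 118 .nil .nil))) (.node 31 (.node
    47 (.node 79 .nil .nil) (.node 110 .nil .nil)) (.node 62 (.node 95 .nil .nil) .nil))))))

/-- table -/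
noncomputable def auxE7Eta3 : Tr ℤ :=
    (.node 1 (.node 1 (.node 1 (.node 1 (.node 1 (.node 1 (.node 1 .nil .nil) (.node (-1) .nil
    .nil)) (.node 1 (.node (-1) .nil .nil) (.node 1 .nil .nil))) (.node 1 (.node 1 (.node 1 .nil
    .nil) (.node (-1) .nil .nil)) (.node 1 (.node (-1) .nil .nil) (.node 1 .nil .nil)))) (.node 1
    (.node 1 (.node 1 (.node (-1) .nil .nil) (.node 1 .nil .nil)) (.node (-1) (.node 1 .nil .nil)
    (.node (-1) .nil .nil))) (.node 1 (.node 1 (.node 1 .nil .nil) (.node 1 .nil .nil)) (.node (-1)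
    (.node 1 .nil .nil) (.node (-1) .nil .nil))))) (.node 1 (.node (-1) (.node 1 (.node 1 (.node 1
    .nil .nil) (.node 1 .nil .nil)) (.node 1 (.node 1 .nil .nil) (.node 1 .nil .nil))) (.node 1
    (.node 1 (.node 1 .nil .nil) (.node (-1) .nil .nil)) (.node (-1) (.node (-1) .nil .nil) (.node
    1 .nil .nil)))) (.node 1 (.node (-1) (.node (-1) (.node (-1) .nil .nil) (.node 1 .nil .nil))
    (.node 1 (.node 1 .nil .nil) (.node (-1) .nil .nil))) (.node 1 (.node 1 (.node 1 .nil .nil)
    (.node 1 .nil .nil)) (.node 1 (.node 1 .nil .nil) (.node 1 .nil .nil)))))) (.node (-1) (.node 1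
    (.node (-1) (.node 1 (.node 1 (.node 1 .nil .nil) (.node 1 .nil .nil)) (.node 1 (.node 1 .nil
    .nil) (.node 1 .nil .nil))) (.node 1 (.node 1 (.node 1 .nil .nil) (.node (-1) .nil .nil))
    (.node (-1) (.node (-1) .nil .nil) (.node 1 .nil .nil)))) (.node 1 (.node (-1) (.node (-1)
    (.node (-1) .nil .nil) (.node 1 .nil .nil)) (.node 1 (.node 1 .nil .nil) (.node (-1) .nil
    .nil))) (.node 1 (.node 1 (.node 1 .nil .nil) (.node 1 .nil .nil)) (.node 1 (.node 1 .nil .nil)
    (.node 1 .nil .nil))))) (.node 1 (.node (-1) (.node 1 (.node 1 (.node (-1) .nil .nil) (.node 1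
    .nil .nil)) (.node 1 (.node 1 .nil .nil) (.node 1 .nil .nil))) (.node 1 (.node 1 (.node (-1)
    .nil .nil) (.node 1 .nil .nil)) (.node (-1) (.node 1 .nil .nil) (.node 1 .nil .nil)))) (.node 1
    (.node (-1) (.node (-1) (.node 1 .nil .nil) (.node 1 .nil .nil)) (.node 1 (.node 1 .nil .nil)
    (.node 1 .nil .nil))) (.node (-1) (.node (-1) (.node 1 .nil .nil) (.node 1 .nil .nil)) (.node 1
    (.node 1 .nil .nil) .nil))))))

/-- table -/
noncomputable def auxE7Cart4 : Tr ℤ :=
    (.node 0 (.node 0 (.node (-1) (.node (-1) (.node 1 (.node 0 (.node 0 .nil .nil) (.node (-1)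
    .nil .nil)) (.node 0 (.node (-1) .nil .nil) (.node (-1) .nil .nil))) (.node 0 (.node 0 (.node 0
    .nil .nil) (.node 0 .nil .nil)) (.node (-1) (.node 0 .nil .nil) (.node 0 .nil .nil)))) (.node 0
    (.node (-1) (.node (-1) (.node 1 .nil .nil) (.node (-1) .nil .nil)) (.node 1 (.node (-1) .nil
    .nil) (.node 0 .nil .nil))) (.node 0 (.node 0 (.node 1 .nil .nil) (.node 1 .nil .nil)) (.node
    (-2) (.node 1 .nil .nil) (.node 0 .nil .nil))))) (.node 0 (.node 0 (.node 0 (.node 0 (.node
    (-1) .nil .nil) (.node 0 .nil .nil)) (.node 0 (.node 0 .nil .nil) (.node 1 .nil .nil))) (.node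
    (-1) (.node (-1) (.node 0 .nil .nil) (.node (-1) .nil .nil)) (.node (-1) (.node (-1) .nil .nil)
    (.node (-1) .nil .nil)))) (.node (-1) (.node 1 (.node 1 (.node (-1) .nil .nil) (.node 0 .nil
    .nil)) (.node 0 (.node 0 .nil .nil) (.node (-1) .nil .nil))) (.node (-1) (.node (-1) (.node 0
    .nil .nil) (.node 0 .nil .nil)) (.node 1 (.node 0 .nil .nil) (.node 0 .nil .nil)))))) (.node 0
    (.node 1 (.node 1 (.node 0 (.node 0 (.node (-1) .nil .nil) (.node 1 .nil .nil)) (.node 0 (.node
    1 .nil .nil) (.node 1 .nil .nil))) (.node 0 (.node 0 (.node 0 .nil .nil) (.node (-1) .nil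
    .nil)) (.node 1 (.node (-1) .nil .nil) (.node 0 .nil .nil)))) (.node (-1) (.node 1 (.node 1
    (.node 1 .nil .nil) (.node 1 .nil .nil)) (.node 0 (.node 1 .nil .nil) (.node 0 .nil .nil)))
    (.node 0 (.node 0 (.node 0 .nil .nil) (.node 0 .nil .nil)) (.node 1 (.node 0 .nil .nil) (.node
    0 .nil .nil))))) (.node 0 (.node 0 (.node (-1) (.node (-1) (.node 2 .nil .nil) (.node 0 .nil
    .nil)) (.node (-1) (.node 0 .nil .nil) (.node 0 .nil .nil))) (.node 1 (.node 1 (.node (-1) .nil
    .nil) (.node 1 .nil .nil)) (.node (-1) (.node 1 .nil .nil) (.node 1 .nil .nil)))) (.node 1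
    (.node 0 (.node 0 (.node 1 .nil .nil) (.node 0 .nil .nil)) (.node 0 (.node 0 .nil .nil) (.node
    1 .nil .nil))) (.node 1 (.node 1 (.node 0 .nil .nil) (.node (-1) .nil .nil)) (.node 0 (.node 0
    .nil .nil) .nil))))))

/-- table -/
noncomputable def auxE7Refl4 : Tr ℕ :=
    (.node 0 (.node 1 (.node 4 (.node 8 (.node 13 (.node 31 (.node 63 .nil .nil) (.node 96 .nil
    .nil)) (.node 47 (.node 80 .nil .nil) (.node 113 .nil .nil))) (.node 23 (.node 39 (.node 71
    .nil .nil) (.node 103 .nil .nil)) (.node 56 (.node 87 .nil .nil) (.node 119 .nil .nil))))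
    (.node 11 (.node 21 (.node 37 (.node 64 .nil .nil) (.node 100 .nil .nil)) (.node 50 (.node 84
    .nil .nil) (.node 115 .nil .nil))) (.node 27 (.node 43 (.node 74 .nil .nil) (.node 105 .nil
    .nil)) (.node 66 (.node 89 .nil .nil) (.node 123 .nil .nil))))) (.node 5 (.node 9 (.node 17
    (.node 33 (.node 68 .nil .nil) (.node 97 .nil .nil)) (.node 49 (.node 81 .nil .nil) (.node 111
    .nil .nil))) (.node 26 (.node 42 (.node 73 .nil .nil) (.node 107 .nil .nil)) (.node 60 (.node
    91 .nil .nil) (.node 122 .nil .nil)))) (.node 15 (.node 19 (.node 35 (.node 70 .nil .nil)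
    (.node 101 .nil .nil)) (.node 53 (.node 85 .nil .nil) (.node 118 .nil .nil))) (.node 30 (.node
    46 (.node 77 .nil .nil) (.node 109 .nil .nil)) (.node 58 (.node 93 .nil .nil) (.node 125 .nil
    .nil)))))) (.node 2 (.node 3 (.node 7 (.node 16 (.node 32 (.node 67 .nil .nil) (.node 95 .nil
    .nil)) (.node 48 (.node 79 .nil .nil) (.node 110 .nil .nil))) (.node 24 (.node 40 (.node 72
    .nil .nil) (.node 106 .nil .nil)) (.node 55 (.node 90 .nil .nil) (.node 120 .nil .nil))))
    (.node 14 (.node 18 (.node 34 (.node 65 .nil .nil) (.node 99 .nil .nil)) (.node 52 (.node 83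
    .nil .nil) (.node 116 .nil .nil))) (.node 28 (.node 44 (.node 76 .nil .nil) (.node 108 .nil
    .nil)) (.node 57 (.node 92 .nil .nil) (.node 124 .nil .nil))))) (.node 6 (.node 10 (.node 20
    (.node 36 (.node 59 .nil .nil) (.node 98 .nil .nil)) (.node 51 (.node 82 .nil .nil) (.node 114
    .nil .nil))) (.node 25 (.node 41 (.node 75 .nil .nil) (.node 104 .nil .nil)) (.node 61 (.node
    88 .nil .nil) (.node 121 .nil .nil)))) (.node 12 (.node 22 (.node 38 (.node 69 .nil .nil)
    (.node 102 .nil .nil)) (.node 54 (.node 86 .nil .nil) (.node 117 .nil .nil))) (.node 29 (.node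
    45 (.node 78 .nil .nil) (.node 112 .nil .nil)) (.node 62 (.node 94 .nil .nil) .nil))))))

/-- table -/
noncomputable def auxE7Eta4 : Tr ℤ :=
    (.node 1 (.node 1 (.node (-1) (.node (-1) (.node 1 (.node 1 (.node 1 .nil .nil) (.node 1 .nil
    .nil)) (.node 1 (.node 1 .nil .nil) (.node 1 .nil .nil))) (.node 1 (.node 1 (.node 1 .nil .nil)
    (.node 1 .nil .nil)) (.node (-1) (.node 1 .nil .nil) (.node 1 .nil .nil)))) (.node 1 (.node
    (-1) (.node (-1) (.node 1 .nil .nil) (.node 1 .nil .nil)) (.node 1 (.node 1 .nil .nil) (.node 1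
    .nil .nil))) (.node 1 (.node 1 (.node (-1) .nil .nil) (.node (-1) .nil .nil)) (.node (-1)
    (.node (-1) .nil .nil) (.node 1 .nil .nil))))) (.node 1 (.node 1 (.node 1 (.node 1 (.node (-1)
    .nil .nil) (.node 1 .nil .nil)) (.node 1 (.node 1 .nil .nil) (.node (-1) .nil .nil))) (.node
    (-1) (.node (-1) (.node 1 .nil .nil) (.node 1 .nil .nil)) (.node 1 (.node 1 .nil .nil) (.node 1
    .nil .nil)))) (.node (-1) (.node 1 (.node 1 (.node 1 .nil .nil) (.node 1 .nil .nil)) (.node 1
    (.node 1 .nil .nil) (.node 1 .nil .nil))) (.node (-1) (.node (-1) (.node 1 .nil .nil) (.node 1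
    .nil .nil)) (.node (-1) (.node 1 .nil .nil) (.node 1 .nil .nil)))))) (.node 1 (.node 1 (.node 1
    (.node 1 (.node 1 (.node (-1) .nil .nil) (.node (-1) .nil .nil)) (.node 1 (.node (-1) .nil
    .nil) (.node (-1) .nil .nil))) (.node 1 (.node 1 (.node 1 .nil .nil) (.node 1 .nil .nil))
    (.node 1 (.node 1 .nil .nil) (.node 1 .nil .nil)))) (.node (-1) (.node 1 (.node 1 (.node 1 .nil
    .nil) (.node (-1) .nil .nil)) (.node 1 (.node (-1) .nil .nil) (.node 1 .nil .nil))) (.node 1
    (.node 1 (.node 1 .nil .nil) (.node 1 .nil .nil)) (.node (-1) (.node 1 .nil .nil) (.node 1 .nil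
    .nil))))) (.node 1 (.node 1 (.node (-1) (.node (-1) (.node (-1) .nil .nil) (.node 1 .nil .nil))
    (.node (-1) (.node 1 .nil .nil) (.node 1 .nil .nil))) (.node 1 (.node 1 (.node 1 .nil .nil)
    (.node (-1) .nil .nil)) (.node 1 (.node (-1) .nil .nil) (.node (-1) .nil .nil)))) (.node 1
    (.node 1 (.node 1 (.node (-1) .nil .nil) (.node 1 .nil .nil)) (.node 1 (.node 1 .nil .nil)
    (.node (-1) .nil .nil))) (.node 1 (.node 1 (.node 1 .nil .nil) (.node 1 .nil .nil)) (.node 1
    (.node 1 .nil .nil) .nil))))))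

/-- table -/
noncomputable def auxE7Cart5 : Tr ℤ :=
    (.node 0 (.node 0 (.node 0 (.node 0 (.node (-1) (.node 0 (.node (-1) .nil .nil) (.node 0 .nil
    .nil)) (.node 0 (.node 0 .nil .nil) (.node 0 .nil .nil))) (.node 0 (.node 0 (.node 1 .nil .nil)
    (.node (-1) .nil .nil)) (.node 1 (.node (-1) .nil .nil) (.node 0 .nil .nil)))) (.node (-1)
    (.node 0 (.node 0 (.node 1 .nil .nil) (.node 0 .nil .nil)) (.node 0 (.node 0 .nil .nil) (.node
    0 .nil .nil))) (.node 0 (.node 0 (.node (-1) .nil .nil) (.node (-1) .nil .nil)) (.node 1 (.node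
    (-1) .nil .nil) (.node 0 .nil .nil))))) (.node 1 (.node 1 (.node (-1) (.node (-1) (.node 1 .nil
    .nil) (.node 1 .nil .nil)) (.node (-1) (.node 1 .nil .nil) (.node (-1) .nil .nil))) (.node 1
    (.node 1 (.node 0 .nil .nil) (.node 0 .nil .nil)) (.node 0 (.node 0 .nil .nil) (.node 1 .nil
    .nil)))) (.node 0 (.node (-1) (.node (-1) (.node 0 .nil .nil) (.node 1 .nil .nil)) (.node 0
    (.node 1 .nil .nil) (.node 1 .nil .nil))) (.node 1 (.node 1 (.node 0 .nil .nil) (.node (-1)
    .nil .nil)) (.node (-2) (.node 0 .nil .nil) (.node 0 .nil .nil)))))) (.node 0 (.node (-1)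
    (.node (-1) (.node 1 (.node 0 (.node 2 .nil .nil) (.node (-1) .nil .nil)) (.node 0 (.node (-1)
    .nil .nil) (.node 0 .nil .nil))) (.node (-1) (.node (-1) (.node 0 .nil .nil) (.node 1 .nil
    .nil)) (.node 0 (.node 1 .nil .nil) (.node (-1) .nil .nil)))) (.node 1 (.node 0 (.node 0 (.node
    0 .nil .nil) (.node (-1) .nil .nil)) (.node 0 (.node (-1) .nil .nil) (.node (-1) .nil .nil)))
    (.node (-1) (.node (-1) (.node 1 .nil .nil) (.node 1 .nil .nil)) (.node (-1) (.node 1 .nil
    .nil) (.node 0 .nil .nil))))) (.node 0 (.node 0 (.node 1 (.node 1 (.node (-1) .nil .nil) (.node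
    0 .nil .nil)) (.node 1 (.node 0 .nil .nil) (.node 1 .nil .nil))) (.node 0 (.node 0 (.node 0
    .nil .nil) (.node 0 .nil .nil)) (.node (-1) (.node 0 .nil .nil) (.node 0 .nil .nil)))) (.node 0
    (.node 1 (.node 1 (.node (-1) .nil .nil) (.node 0 .nil .nil)) (.node (-1) (.node 0 .nil .nil)
    (.node 0 .nil .nil))) (.node 0 (.node 0 (.node 0 .nil .nil) (.node 1 .nil .nil)) (.node 1
    (.node 0 .nil .nil) .nil))))))

/-- table -/
noncomputable def auxE7Refl5 : Tr ℕ :=
    (.node 0 (.node 1 (.node 3 (.node 7 (.node 16 (.node 31 (.node 65 .nil .nil) (.node 95 .nil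
    .nil)) (.node 47 (.node 79 .nil .nil) (.node 111 .nil .nil))) (.node 23 (.node 39 (.node 70
    .nil .nil) (.node 104 .nil .nil)) (.node 54 (.node 88 .nil .nil) (.node 119 .nil .nil))))
    (.node 12 (.node 19 (.node 35 (.node 66 .nil .nil) (.node 99 .nil .nil)) (.node 51 (.node 83
    .nil .nil) (.node 115 .nil .nil))) (.node 27 (.node 43 (.node 76 .nil .nil) (.node 108 .nil
    .nil)) (.node 58 (.node 92 .nil .nil) (.node 123 .nil .nil))))) (.node 4 (.node 8 (.node 18
    (.node 34 (.node 63 .nil .nil) (.node 96 .nil .nil)) (.node 50 (.node 80 .nil .nil) (.node 114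
    .nil .nil))) (.node 24 (.node 40 (.node 73 .nil .nil) (.node 105 .nil .nil)) (.node 57 (.node
    89 .nil .nil) (.node 120 .nil .nil)))) (.node 13 (.node 22 (.node 38 (.node 69 .nil .nil)
    (.node 100 .nil .nil)) (.node 53 (.node 84 .nil .nil) (.node 116 .nil .nil))) (.node 28 (.node
    44 (.node 77 .nil .nil) (.node 110 .nil .nil)) (.node 64 (.node 93 .nil .nil) (.node 125 .nil
    .nil)))))) (.node 2 (.node 5 (.node 9 (.node 15 (.node 32 (.node 61 .nil .nil) (.node 97 .nil
    .nil)) (.node 48 (.node 81 .nil .nil) (.node 112 .nil .nil))) (.node 25 (.node 41 (.node 72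
    .nil .nil) (.node 103 .nil .nil)) (.node 56 (.node 87 .nil .nil) (.node 121 .nil .nil))))
    (.node 11 (.node 20 (.node 36 (.node 68 .nil .nil) (.node 101 .nil .nil)) (.node 52 (.node 85
    .nil .nil) (.node 117 .nil .nil))) (.node 29 (.node 45 (.node 75 .nil .nil) (.node 107 .nil
    .nil)) (.node 62 (.node 91 .nil .nil) (.node 124 .nil .nil))))) (.node 6 (.node 10 (.node 17
    (.node 33 (.node 67 .nil .nil) (.node 98 .nil .nil)) (.node 49 (.node 82 .nil .nil) (.node 113
    .nil .nil))) (.node 26 (.node 42 (.node 74 .nil .nil) (.node 106 .nil .nil)) (.node 59 (.node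
    90 .nil .nil) (.node 122 .nil .nil)))) (.node 14 (.node 21 (.node 37 (.node 71 .nil .nil)
    (.node 102 .nil .nil)) (.node 55 (.node 86 .nil .nil) (.node 118 .nil .nil))) (.node 30 (.node
    46 (.node 78 .nil .nil) (.node 109 .nil .nil)) (.node 60 (.node 94 .nil .nil) .nil))))))

/-- table -/
noncomputable def auxE7Eta5 : Tr ℤ :=
    (.node 1 (.node 1 (.node 1 (.node 1 (.node (-1) (.node 1 (.node (-1) .nil .nil) (.node 1 .nil
    .nil)) (.node 1 (.node 1 .nil .nil) (.node 1 .nil .nil))) (.node 1 (.node 1 (.node (-1) .nil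
    .nil) (.node 1 .nil .nil)) (.node 1 (.node 1 .nil .nil) (.node 1 .nil .nil)))) (.node (-1)
    (.node 1 (.node 1 (.node (-1) .nil .nil) (.node 1 .nil .nil)) (.node 1 (.node 1 .nil .nil)
    (.node 1 .nil .nil))) (.node 1 (.node 1 (.node 1 .nil .nil) (.node 1 .nil .nil)) (.node 1
    (.node 1 .nil .nil) (.node 1 .nil .nil))))) (.node 1 (.node 1 (.node (-1) (.node (-1) (.node 1
    .nil .nil) (.node (-1) .nil .nil)) (.node (-1) (.node (-1) .nil .nil) (.node 1 .nil .nil)))
    (.node 1 (.node 1 (.node 1 .nil .nil) (.node 1 .nil .nil)) (.node 1 (.node 1 .nil .nil) (.node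
    (-1) .nil .nil)))) (.node 1 (.node (-1) (.node (-1) (.node 1 .nil .nil) (.node (-1) .nil .nil))
    (.node 1 (.node (-1) .nil .nil) (.node (-1) .nil .nil))) (.node 1 (.node 1 (.node 1 .nil .nil)
    (.node 1 .nil .nil)) (.node (-1) (.node 1 .nil .nil) (.node 1 .nil .nil)))))) (.node 1 (.node
    (-1) (.node (-1) (.node 1 (.node 1 (.node (-1) .nil .nil) (.node 1 .nil .nil)) (.node 1 (.node
    1 .nil .nil) (.node 1 .nil .nil))) (.node (-1) (.node (-1) (.node 1 .nil .nil) (.node (-1) .nil
    .nil)) (.node 1 (.node (-1) .nil .nil) (.node 1 .nil .nil)))) (.node 1 (.node 1 (.node 1 (.node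
    1 .nil .nil) (.node 1 .nil .nil)) (.node 1 (.node 1 .nil .nil) (.node 1 .nil .nil))) (.node
    (-1) (.node (-1) (.node (-1) .nil .nil) (.node (-1) .nil .nil)) (.node 1 (.node (-1) .nil .nil)
    (.node 1 .nil .nil))))) (.node 1 (.node 1 (.node 1 (.node 1 (.node 1 .nil .nil) (.node 1 .nil
    .nil)) (.node 1 (.node 1 .nil .nil) (.node (-1) .nil .nil))) (.node 1 (.node 1 (.node 1 .nil
    .nil) (.node 1 .nil .nil)) (.node (-1) (.node 1 .nil .nil) (.node 1 .nil .nil)))) (.node 1
    (.node 1 (.node 1 (.node 1 .nil .nil) (.node 1 .nil .nil)) (.node (-1) (.node 1 .nil .nil)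
    (.node 1 .nil .nil))) (.node 1 (.node 1 (.node 1 .nil .nil) (.node (-1) .nil .nil)) (.node (-1)
    (.node 1 .nil .nil) .nil))))))

/-- table -/
noncomputable def auxE7Cart6 : Tr ℤ :=
    (.node 0 (.node 0 (.node 0 (.node 0 (.node 1 (.node 0 (.node 2 .nil .nil) (.node 0 .nil .nil))
    (.node 0 (.node 0 .nil .nil) (.node 1 .nil .nil))) (.node (-1) (.node (-1) (.node (-1) .nil
    .nil) (.node 0 .nil .nil)) (.node 0 (.node 0 .nil .nil) (.node (-1) .nil .nil)))) (.node 0
    (.node 1 (.node 1 (.node (-1) .nil .nil) (.node 0 .nil .nil)) (.node 0 (.node 0 .nil .nil)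
    (.node (-1) .nil .nil))) (.node (-1) (.node (-1) (.node 0 .nil .nil) (.node 1 .nil .nil))
    (.node 0 (.node 1 .nil .nil) (.node 0 .nil .nil))))) (.node (-1) (.node (-1) (.node 0 (.node 0
    (.node 1 .nil .nil) (.node (-1) .nil .nil)) (.node 1 (.node (-1) .nil .nil) (.node 1 .nil
    .nil))) (.node 0 (.node 0 (.node 0 .nil .nil) (.node 1 .nil .nil)) (.node (-1) (.node 1 .nil
    .nil) (.node 0 .nil .nil)))) (.node 1 (.node 1 (.node 1 (.node 0 .nil .nil) (.node (-1) .nil
    .nil)) (.node (-1) (.node (-1) .nil .nil) (.node 0 .nil .nil))) (.node 0 (.node 0 (.node 1 .nil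
    .nil) (.node 0 .nil .nil)) (.node 1 (.node 0 .nil .nil) (.node 0 .nil .nil)))))) (.node 0
    (.node 0 (.node 0 (.node 0 (.node 0 (.node (-1) .nil .nil) (.node 0 .nil .nil)) (.node (-1)
    (.node 0 .nil .nil) (.node (-1) .nil .nil))) (.node 1 (.node 1 (.node 1 .nil .nil) (.node (-1)
    .nil .nil)) (.node 0 (.node (-1) .nil .nil) (.node 1 .nil .nil)))) (.node (-1) (.node (-1)
    (.node (-1) (.node 1 .nil .nil) (.node 0 .nil .nil)) (.node 0 (.node 0 .nil .nil) (.node 1 .nil
    .nil))) (.node 1 (.node 1 (.node (-1) .nil .nil) (.node 0 .nil .nil)) (.node (-1) (.node 0 .nil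
    .nil) (.node 0 .nil .nil))))) (.node 1 (.node 1 (.node (-1) (.node (-1) (.node 0 .nil .nil)
    (.node 1 .nil .nil)) (.node 0 (.node 1 .nil .nil) (.node 0 .nil .nil))) (.node 0 (.node 0
    (.node 0 .nil .nil) (.node (-1) .nil .nil)) (.node 1 (.node (-1) .nil .nil) (.node 0 .nil
    .nil)))) (.node (-1) (.node 0 (.node 0 (.node 0 .nil .nil) (.node 1 .nil .nil)) (.node 1 (.node
    1 .nil .nil) (.node 0 .nil .nil))) (.node 0 (.node 0 (.node 0 .nil .nil) (.node (-1) .nil
    .nil)) (.node (-2) (.node 0 .nil .nil) .nil))))))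

/-- table -/
noncomputable def auxE7Refl6 : Tr ℕ :=
    (.node 0 (.node 1 (.node 3 (.node 7 (.node 14 (.node 31 (.node 62 .nil .nil) (.node 95 .nil
    .nil)) (.node 47 (.node 79 .nil .nil) (.node 110 .nil .nil))) (.node 24 (.node 40 (.node 72
    .nil .nil) (.node 103 .nil .nil)) (.node 55 (.node 87 .nil .nil) (.node 120 .nil .nil))))
    (.node 11 (.node 18 (.node 34 (.node 68 .nil .nil) (.node 99 .nil .nil)) (.node 51 (.node 83
    .nil .nil) (.node 116 .nil .nil))) (.node 28 (.node 44 (.node 75 .nil .nil) (.node 106 .nil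
    .nil)) (.node 59 (.node 90 .nil .nil) (.node 123 .nil .nil))))) (.node 6 (.node 10 (.node 17
    (.node 33 (.node 64 .nil .nil) (.node 98 .nil .nil)) (.node 48 (.node 82 .nil .nil) (.node 112
    .nil .nil))) (.node 25 (.node 41 (.node 73 .nil .nil) (.node 104 .nil .nil)) (.node 58 (.node
    88 .nil .nil) (.node 121 .nil .nil)))) (.node 12 (.node 20 (.node 36 (.node 69 .nil .nil)
    (.node 102 .nil .nil)) (.node 54 (.node 86 .nil .nil) (.node 117 .nil .nil))) (.node 29 (.node
    45 (.node 76 .nil .nil) (.node 109 .nil .nil)) (.node 60 (.node 93 .nil .nil) (.node 125 .nil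
    .nil)))))) (.node 2 (.node 4 (.node 8 (.node 16 (.node 32 (.node 65 .nil .nil) (.node 96 .nil
    .nil)) (.node 49 (.node 80 .nil .nil) (.node 113 .nil .nil))) (.node 23 (.node 39 (.node 71
    .nil .nil) (.node 105 .nil .nil)) (.node 56 (.node 89 .nil .nil) (.node 119 .nil .nil))))
    (.node 13 (.node 21 (.node 37 (.node 67 .nil .nil) (.node 100 .nil .nil)) (.node 52 (.node 84
    .nil .nil) (.node 115 .nil .nil))) (.node 27 (.node 43 (.node 77 .nil .nil) (.node 108 .nil
    .nil)) (.node 61 (.node 92 .nil .nil) (.node 124 .nil .nil))))) (.node 5 (.node 9 (.node 19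
    (.node 35 (.node 66 .nil .nil) (.node 97 .nil .nil)) (.node 50 (.node 81 .nil .nil) (.node 114
    .nil .nil))) (.node 26 (.node 42 (.node 74 .nil .nil) (.node 107 .nil .nil)) (.node 57 (.node
    91 .nil .nil) (.node 122 .nil .nil)))) (.node 15 (.node 22 (.node 38 (.node 70 .nil .nil)
    (.node 101 .nil .nil)) (.node 53 (.node 85 .nil .nil) (.node 118 .nil .nil))) (.node 30 (.node
    46 (.node 78 .nil .nil) (.node 111 .nil .nil)) (.node 63 (.node 94 .nil .nil) .nil))))))

/-- table -/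
noncomputable def auxE7Eta6 : Tr ℤ :=
    (.node 1 (.node 1 (.node 1 (.node 1 (.node 1 (.node 1 (.node (-1) .nil .nil) (.node 1 .nil
    .nil)) (.node 1 (.node 1 .nil .nil) (.node (-1) .nil .nil))) (.node (-1) (.node (-1) (.node 1
    .nil .nil) (.node 1 .nil .nil)) (.node 1 (.node 1 .nil .nil) (.node 1 .nil .nil)))) (.node 1
    (.node 1 (.node 1 (.node 1 .nil .nil) (.node 1 .nil .nil)) (.node 1 (.node 1 .nil .nil) (.node
    1 .nil .nil))) (.node (-1) (.node (-1) (.node 1 .nil .nil) (.node (-1) .nil .nil)) (.node 1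
    (.node (-1) .nil .nil) (.node 1 .nil .nil))))) (.node (-1) (.node (-1) (.node 1 (.node 1 (.node
    (-1) .nil .nil) (.node 1 .nil .nil)) (.node 1 (.node 1 .nil .nil) (.node (-1) .nil .nil)))
    (.node 1 (.node 1 (.node 1 .nil .nil) (.node (-1) .nil .nil)) (.node (-1) (.node (-1) .nil
    .nil) (.node 1 .nil .nil)))) (.node 1 (.node 1 (.node 1 (.node 1 .nil .nil) (.node 1 .nil
    .nil)) (.node (-1) (.node 1 .nil .nil) (.node 1 .nil .nil))) (.node 1 (.node 1 (.node (-1) .nil
    .nil) (.node 1 .nil .nil)) (.node 1 (.node 1 .nil .nil) (.node 1 .nil .nil)))))) (.node 1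
    (.node 1 (.node 1 (.node 1 (.node 1 (.node 1 .nil .nil) (.node 1 .nil .nil)) (.node (-1) (.node
    1 .nil .nil) (.node 1 .nil .nil))) (.node 1 (.node 1 (.node (-1) .nil .nil) (.node 1 .nil
    .nil)) (.node 1 (.node 1 .nil .nil) (.node (-1) .nil .nil)))) (.node (-1) (.node (-1) (.node
    (-1) (.node (-1) .nil .nil) (.node 1 .nil .nil)) (.node 1 (.node 1 .nil .nil) (.node (-1) .nil
    .nil))) (.node 1 (.node 1 (.node 1 .nil .nil) (.node 1 .nil .nil)) (.node (-1) (.node 1 .nil
    .nil) (.node 1 .nil .nil))))) (.node 1 (.node 1 (.node (-1) (.node (-1) (.node 1 .nil .nil)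
    (.node (-1) .nil .nil)) (.node 1 (.node (-1) .nil .nil) (.node 1 .nil .nil))) (.node 1 (.node 1
    (.node 1 .nil .nil) (.node 1 .nil .nil)) (.node 1 (.node 1 .nil .nil) (.node 1 .nil .nil))))
    (.node (-1) (.node 1 (.node 1 (.node 1 .nil .nil) (.node (-1) .nil .nil)) (.node 1 (.node (-1)
    .nil .nil) (.node 1 .nil .nil))) (.node 1 (.node 1 (.node 1 .nil .nil) (.node 1 .nil .nil))
    (.node (-1) (.node 1 .nil .nil) .nil))))))

/-- table -/
noncomputable def auxE7Chain0 : Tr (List (ℕ × ℤ)) :=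
    (.node [] (.node [] (.node [] (.node [] (.node [] (.node [] .nil (.node [(3,1)] .nil .nil))
    (.node [] .nil (.node [(19,1)] .nil .nil))) (.node [] (.node [] .nil (.node [(11,(-1))] .nil
    .nil)) (.node [] .nil (.node [(27,1)] .nil .nil)))) (.node [] (.node [] (.node [] .nil (.node
    [(7,(-1))] .nil .nil)) (.node [] .nil (.node [(23,(-1))] .nil .nil))) (.node [] (.node [] .nil
    (.node [(15,1)] .nil .nil)) (.node [] .nil (.node [(31,1)] .nil .nil))))) (.node [] (.node []
    (.node [] (.node [] .nil (.node [(5,1)] .nil .nil)) (.node [] .nil (.node [(21,(-1))] .nil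
    .nil))) (.node [] (.node [] .nil (.node [(13,(-1))] .nil .nil)) (.node [] .nil (.node [(29,1)]
    .nil .nil)))) (.node [] (.node [] (.node [] .nil (.node [(9,(-1))] .nil .nil)) (.node [] .nil
    (.node [(25,(-1))] .nil .nil))) (.node [] (.node [] .nil (.node [(17,1)] .nil .nil)) (.node []
    (.node [(1,1)] .nil .nil) .nil))))) (.node [] (.node [] (.node [] (.node [] (.node [] .nil
    (.node [(4,(-1))] .nil .nil)) (.node [] .nil (.node [(20,1)] .nil .nil))) (.node [] (.node []
    .nil (.node [(12,1)] .nil .nil)) (.node [] .nil (.node [(28,(-1))] .nil .nil)))) (.node []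
    (.node [] (.node [] .nil (.node [(8,1)] .nil .nil)) (.node [] .nil (.node [(24,1)] .nil .nil)))
    (.node [] (.node [] .nil (.node [(16,(-1))] .nil .nil)) (.node [] .nil (.node [(32,(-1))] .nil
    .nil))))) (.node [] (.node [] (.node [] (.node [] .nil (.node [(6,(-1))] .nil .nil)) (.node []
    .nil (.node [(22,1)] .nil .nil))) (.node [] (.node [] .nil (.node [(14,(-1))] .nil .nil))
    (.node [] .nil (.node [(30,(-1))] .nil .nil)))) (.node [] (.node [] (.node [] .nil (.node
    [(10,1)] .nil .nil)) (.node [] .nil (.node [(26,1)] .nil .nil))) (.node [] (.node [] .nil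
    (.node [(18,(-1))] .nil .nil)) (.node [] (.node [(2,(-1))] .nil .nil) .nil))))))

/-- table -/
noncomputable def auxE7Chain1 : Tr (List (ℕ × ℤ)) :=
    (.node [] (.node [] (.node [] (.node [] (.node [] .nil (.node [] .nil (.node [(35,(-1))] .nil
    .nil))) (.node [] .nil (.node [] (.node [(11,1)] .nil .nil) (.node [(48,(-1))] .nil .nil))))
    (.node [] (.node [] .nil (.node [] (.node [(7,1)] .nil .nil) (.node [(39,1)] .nil .nil)))
    (.node [] (.node [] (.node [(4,1)] .nil .nil) .nil) (.node [] (.node [(15,(-1))] .nil .nil)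
    (.node [(52,(-1))] .nil .nil))))) (.node [] (.node [] (.node [] .nil (.node [] .nil (.node
    [(37,1)] .nil .nil))) (.node [] (.node [] (.node [(2,1)] .nil .nil) .nil) (.node [] (.node
    [(13,1)] .nil .nil) (.node [(50,(-1))] .nil .nil)))) (.node [] (.node [] .nil (.node [] (.node
    [(9,1)] .nil .nil) (.node [(41,1)] .nil .nil))) (.node [] (.node [] (.node [(6,1)] .nil .nil)
    (.node [(33,(-1))] .nil .nil)) (.node [] .nil (.node [(93,(-1))] .nil .nil)))))) (.node []
    (.node [] (.node [] (.node [] (.node [(0,1)] .nil .nil) (.node [] .nil (.node [(36,(-1))] .nil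
    .nil))) (.node [] .nil (.node [] (.node [(12,(-1))] .nil .nil) (.node [(49,1)] .nil .nil))))
    (.node [] (.node [] .nil (.node [] (.node [(8,(-1))] .nil .nil) (.node [(40,(-1))] .nil .nil)))
    (.node [] (.node [] (.node [(5,(-1))] .nil .nil) .nil) (.node [] (.node [(16,1)] .nil .nil)
    .nil)))) (.node [] (.node [] (.node [] .nil (.node [] .nil (.node [(38,(-1))] .nil .nil)))
    (.node [] (.node [] (.node [(3,(-1))] .nil .nil) .nil) (.node [] (.node [(14,1)] .nil .nil)
    (.node [(51,1)] .nil .nil)))) (.node [] (.node [] .nil (.node [] (.node [(10,(-1))] .nil .nil)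
    (.node [(42,(-1))] .nil .nil))) (.node [] (.node [] .nil (.node [(34,1)] .nil .nil)) .nil)))))

/-- table -/
noncomputable def auxE7Chain2 : Tr (List (ℕ × ℤ)) :=
    (.node [] (.node [] (.node [] (.node [] (.node [] (.node [(0,(-1))] .nil .nil) (.node [] (.node
    [(7,1)] .nil .nil) .nil)) (.node [] (.node [] (.node [(5,1)] .nil .nil) (.node [(33,(-1))] .nil
    .nil)) (.node [] (.node [(17,1)] .nil .nil) (.node [(53,1)] .nil .nil)))) (.node [] (.node []
    .nil (.node [] .nil (.node [(43,1)] .nil .nil))) (.node [] (.node [] .nil (.node [(37,1)] .nil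
    .nil)) (.node [] (.node [(21,(-1))] .nil .nil) .nil)))) (.node [] (.node [] (.node [] .nil
    (.node [] (.node [(9,1)] .nil .nil) .nil)) (.node [] (.node [] .nil (.node [(35,(-1))] .nil
    .nil)) (.node [] (.node [(19,1)] .nil .nil) (.node [(55,1)] .nil .nil)))) (.node [] (.node []
    (.node [] (.node [(3,1)] .nil .nil) .nil) (.node [] .nil (.node [(45,1)] .nil .nil))) (.node []
    .nil (.node [] .nil (.node [(94,1)] .nil .nil)))))) (.node [] (.node [] (.node [] (.node []
    .nil (.node [] (.node [(8,(-1))] .nil .nil) .nil)) (.node [] (.node [] (.node [(6,(-1))] .nil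
    .nil) (.node [(34,1)] .nil .nil)) (.node [] (.node [(18,(-1))] .nil .nil) (.node [(54,(-1))]
    .nil .nil)))) (.node [] (.node [] .nil (.node [(1,1)] .nil (.node [(44,(-1))] .nil .nil)))
    (.node [] (.node [] .nil (.node [(38,(-1))] .nil .nil)) (.node [] (.node [(22,1)] .nil .nil)
    (.node [(73,(-1))] .nil .nil))))) (.node [] (.node [] (.node [] .nil (.node [] (.node
    [(10,(-1))] .nil .nil) .nil)) (.node [] (.node [] .nil (.node [(36,(-1))] .nil .nil)) (.node []
    (.node [(20,1)] .nil .nil) (.node [(56,(-1))] .nil .nil)))) (.node [] (.node [] (.node []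
    (.node [(4,(-1))] .nil .nil) .nil) (.node [] .nil (.node [(46,(-1))] .nil .nil))) .nil))))

/-- table -/
noncomputable def auxE7Chain3 : Tr (List (ℕ × ℤ)) :=
    (.node [] (.node [] (.node [] (.node [] .nil (.node [] .nil (.node [] .nil (.node [(57,(-1))]
    .nil .nil)))) (.node [] (.node [] (.node [] (.node [(5,(-1))] .nil .nil) .nil) (.node
    [(1,(-1))] .nil .nil)) (.node [] (.node [] .nil (.node [(40,1)] .nil .nil)) (.node [] (.node
    [(24,(-1))] .nil .nil) (.node [(69,(-1))] .nil .nil))))) (.node [] (.node [] (.node [] .nil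
    (.node [] (.node [(12,1)] .nil .nil) (.node [(44,(-1))] .nil .nil))) (.node [] .nil (.node []
    .nil (.node [(59,(-1))] .nil .nil)))) (.node [] (.node [] (.node [] .nil (.node [(34,1)] .nil
    .nil)) (.node [] (.node [(18,(-1))] .nil .nil) .nil)) (.node [] .nil (.node [] .nil (.node
    [(95,(-1))] .nil .nil)))))) (.node [] (.node [] (.node [] (.node [] .nil (.node [] (.node
    [(11,(-1))] .nil .nil) (.node [(43,1)] .nil .nil))) (.node [] .nil (.node [(2,1)] .nil (.node
    [(58,1)] .nil .nil)))) (.node [] (.node [] (.node [] (.node [(6,1)] .nil .nil) (.node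
    [(33,(-1))] .nil .nil)) (.node [] (.node [(17,1)] .nil .nil) .nil)) (.node [] (.node [] .nil
    (.node [(41,(-1))] .nil .nil)) (.node [] (.node [(25,1)] .nil .nil) (.node [(74,1)] .nil
    .nil))))) (.node [] (.node [] (.node [] (.node [] (.node [(4,1)] .nil .nil) .nil) (.node []
    (.node [(13,(-1))] .nil .nil) (.node [(45,1)] .nil .nil))) (.node [] (.node [] .nil (.node
    [(39,(-1))] .nil .nil)) (.node [] (.node [(23,1)] .nil .nil) .nil))) (.node [] (.node [] (.node
    [] .nil (.node [(35,(-1))] .nil .nil)) (.node [] (.node [(19,1)] .nil .nil) (.node [(47,(-1))]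
    .nil .nil))) (.node [(0,1)] (.node [] (.node [(7,1)] .nil .nil) .nil) .nil)))))

/-- table -/
noncomputable def auxE7Chain4 : Tr (List (ℕ × ℤ)) :=
    (.node [] (.node [] (.node [] (.node [] (.node [] .nil (.node [] (.node [(11,(-1))] .nil .nil)
    (.node [(44,(-1))] .nil .nil))) (.node [] .nil (.node [(2,(-1))] .nil (.node [(60,1)] .nil
    .nil)))) (.node [] (.node [] (.node [] .nil (.node [(33,(-1))] .nil .nil)) (.node [] (.node
    [(17,1)] .nil .nil) .nil)) (.node [] .nil (.node [(3,1)] .nil (.node [(70,1)] .nil .nil)))))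
    (.node [] (.node [] (.node [] (.node [] (.node [(6,(-1))] .nil .nil) .nil) (.node [] (.node
    [(14,1)] .nil .nil) .nil)) (.node [] (.node [] .nil (.node [(40,1)] .nil .nil)) (.node []
    (.node [(24,(-1))] .nil .nil) .nil))) (.node [] (.node [] (.node [] .nil (.node [(36,1)] .nil
    .nil)) (.node [] (.node [(20,(-1))] .nil .nil) (.node [(47,(-1))] .nil .nil))) (.node
    [(0,(-1))] .nil (.node [] .nil (.node [(96,1)] .nil .nil)))))) (.node [] (.node [] (.node []
    (.node [] (.node [] (.node [(5,1)] .nil .nil) .nil) .nil) (.node [] (.node [] .nil (.node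
    [(39,(-1))] .nil .nil)) (.node [] (.node [(23,1)] .nil .nil) (.node [(61,(-1))] .nil .nil))))
    (.node [] .nil (.node [] (.node [] .nil (.node [(42,(-1))] .nil .nil)) (.node [] (.node
    [(26,1)] .nil .nil) (.node [(75,(-1))] .nil .nil))))) (.node [] (.node [] (.node [] .nil (.node
    [(1,1)] (.node [(15,(-1))] .nil .nil) (.node [(46,1)] .nil .nil))) (.node [] .nil (.node []
    .nil (.node [(66,(-1))] .nil .nil)))) (.node [] (.node [] (.node [] .nil (.node [(37,(-1))]
    .nil .nil)) (.node [] (.node [(21,1)] .nil .nil) .nil)) (.node [] (.node [] (.node [(8,1)] .nil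
    .nil) (.node [(43,1)] .nil .nil)) .nil)))))

/-- table -/
noncomputable def auxE7Chain5 : Tr (List (ℕ × ℤ)) :=
    (.node [] (.node [] (.node [] (.node [] (.node [] (.node [] (.node [(6,1)] .nil .nil) .nil)
    (.node [] (.node [(12,(-1))] .nil .nil) (.node [(45,(-1))] .nil .nil))) (.node [] (.node []
    .nil (.node [(39,(-1))] .nil .nil)) (.node [] (.node [(23,1)] .nil .nil) (.node [(62,(-1))]
    .nil .nil)))) (.node [] (.node [] (.node [] .nil (.node [(34,(-1))] .nil .nil)) (.node []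
    (.node [(18,1)] .nil .nil) .nil)) (.node [] (.node [] .nil (.node [(42,(-1))] .nil .nil))
    (.node [] (.node [(26,1)] .nil .nil) (.node [(71,(-1))] .nil .nil))))) (.node [] (.node []
    (.node [] .nil (.node [(1,(-1))] .nil (.node [(46,1)] .nil .nil))) (.node [] (.node [] .nil
    (.node [(41,1)] .nil .nil)) (.node [] (.node [(25,(-1))] .nil .nil) (.node [(64,(-1))] .nil
    .nil)))) (.node [] .nil (.node [] (.node [] .nil (.node [(43,1)] .nil .nil)) (.node [(4,1)]
    .nil (.node [(97,(-1))] .nil .nil)))))) (.node [] (.node [] (.node [] (.node [] .nil (.node []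
    (.node [(14,1)] .nil .nil) .nil)) .nil) (.node [] (.node [] (.node [] .nil (.node [(36,1)] .nil
    .nil)) (.node [] (.node [(20,(-1))] .nil .nil) (.node [(47,(-1))] .nil .nil))) (.node [(0,1)]
    .nil (.node [] .nil (.node [(76,1)] .nil .nil))))) (.node [] (.node [] (.node [] .nil (.node []
    (.node [(16,(-1))] .nil .nil) .nil)) (.node [] .nil (.node [(3,(-1))] .nil (.node [(67,1)] .nil
    .nil)))) (.node [] (.node [] (.node [] .nil (.node [(38,(-1))] .nil .nil)) (.node [(2,1)]
    (.node [(22,1)] .nil .nil) .nil)) (.node [] (.node [] (.node [(9,1)] .nil .nil) .nil) .nil)))))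

/-- table -/
noncomputable def auxE7Chain6 : Tr (List (ℕ × ℤ)) :=
    (.node [] (.node [] (.node [] (.node [] (.node [] .nil (.node [] (.node [(13,(-1))] .nil .nil)
    .nil)) (.node [] (.node [] .nil (.node [(40,(-1))] .nil .nil)) (.node [] (.node [(24,1)] .nil
    .nil) .nil))) (.node [] (.node [] (.node [] .nil (.node [(35,(-1))] .nil .nil)) (.node []
    (.node [(19,1)] .nil .nil) (.node [(47,(-1))] .nil .nil))) (.node [(0,(-1))] .nil (.node []
    .nil (.node [(72,1)] .nil .nil))))) (.node [] (.node [] (.node [] .nil (.node [] (.node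
    [(16,(-1))] .nil .nil) .nil)) (.node [] .nil (.node [(3,1)] .nil (.node [(65,1)] .nil .nil))))
    (.node [] (.node [] (.node [] .nil (.node [(38,(-1))] .nil .nil)) (.node [(2,(-1))] (.node
    [(22,1)] .nil .nil) .nil)) (.node [] (.node [] .nil (.node [(44,1)] .nil .nil)) (.node [] .nil
    (.node [(98,1)] .nil .nil)))))) (.node [] (.node [] (.node [] (.node [] .nil (.node [(1,1)]
    (.node [(15,1)] .nil .nil) (.node [(46,1)] .nil .nil))) (.node [] (.node [] .nil (.node
    [(41,1)] .nil .nil)) (.node [] (.node [(25,(-1))] .nil .nil) (.node [(63,(-1))] .nil .nil))))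
    (.node [] (.node [] (.node [] .nil (.node [(37,1)] .nil .nil)) (.node [] (.node [(21,(-1))]
    .nil .nil) .nil)) (.node [] .nil (.node [(4,(-1))] .nil (.node [(77,(-1))] .nil .nil)))))
    (.node [] (.node [] .nil (.node [] (.node [] .nil (.node [(42,(-1))] .nil .nil)) (.node []
    (.node [(26,1)] .nil .nil) (.node [(68,(-1))] .nil .nil)))) (.node [] .nil (.node [] (.node []
    (.node [(10,1)] .nil .nil) (.node [(45,(-1))] .nil .nil)) (.node [(5,1)] .nil .nil))))))

/-- table -/
noncomputable def auxE7Chain7 : Tr (List (ℕ × ℤ)) :=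
    (.node [] (.node [] (.node [] (.node [] (.node [] .nil (.node [(3,1)] .nil .nil)) (.node []
    (.node [] (.node [(12,(-1))] .nil .nil) .nil) .nil)) (.node [] (.node [] (.node [] (.node
    [(9,(-1))] .nil .nil) .nil) (.node [] .nil (.node [(57,(-1))] .nil .nil))) (.node [] (.node []
    (.node [(17,1)] .nil .nil) (.node [(49,1)] .nil .nil)) (.node [] (.node [(28,(-1))] .nil .nil)
    (.node [(79,(-1))] .nil .nil))))) (.node [] (.node [] (.node [] (.node [] .nil (.node [(34,1)]
    .nil .nil)) (.node [] .nil (.node [(54,1)] .nil .nil))) .nil) (.node [] (.node [] .nil (.node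
    [] .nil (.node [(59,(-1))] .nil .nil))) (.node [] (.node [] (.node [(19,1)] .nil .nil) .nil)
    (.node [] .nil (.node [(99,1)] .nil .nil)))))) (.node [] (.node [] (.node [] (.node [] (.node
    [] .nil (.node [(33,(-1))] .nil .nil)) (.node [] .nil (.node [(53,(-1))] .nil .nil))) (.node []
    (.node [] (.node [(13,1)] .nil .nil) .nil) .nil)) (.node [] (.node [] (.node [] (.node [(10,1)]
    .nil .nil) .nil) (.node [] .nil (.node [(58,1)] .nil .nil))) (.node [] (.node [] (.node
    [(18,(-1))] .nil .nil) (.node [(50,(-1))] .nil .nil)) (.node [] (.node [(29,1)] .nil .nil)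
    (.node [(83,(-1))] .nil .nil))))) (.node [] (.node [] (.node [] (.node [] (.node [(8,1)] .nil
    .nil) (.node [(35,(-1))] .nil .nil)) (.node [] .nil (.node [(55,(-1))] .nil .nil))) (.node
    [(0,(-1))] (.node [(1,1)] .nil (.node [(48,(-1))] .nil .nil)) (.node [] (.node [(27,1)] .nil
    .nil) (.node [(78,(-1))] .nil .nil)))) (.node [] (.node [] (.node [] (.node [(11,1)] .nil .nil)
    .nil) .nil) (.node [] (.node [(2,1)] .nil .nil) .nil)))))

/-- table -/
noncomputable def auxE7Chain8 : Tr (List (ℕ × ℤ)) :=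
    (.node [] (.node [] (.node [] (.node [] (.node [] (.node [] .nil (.node [(33,(-1))] .nil .nil))
    (.node [(4,1)] .nil (.node [(54,1)] .nil .nil))) (.node [] (.node [] (.node [(14,(-1))] .nil
    .nil) .nil) .nil)) (.node [] (.node [] .nil (.node [] .nil (.node [(60,1)] .nil .nil))) (.node
    [] .nil (.node [(7,1)] .nil (.node [(80,1)] .nil .nil))))) (.node [] (.node [] (.node [] (.node
    [] (.node [(10,(-1))] .nil .nil) (.node [(36,1)] .nil .nil)) .nil) (.node [(0,1)] (.node
    [(1,(-1))] .nil (.node [(49,1)] .nil .nil)) (.node [] (.node [(28,(-1))] .nil .nil) (.node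
    [(78,(-1))] .nil .nil)))) (.node [] (.node [] (.node [] (.node [(11,1)] .nil .nil) .nil) .nil)
    (.node [] (.node [(2,(-1))] (.node [(21,1)] .nil .nil) .nil) (.node [] .nil (.node [(100,(-1))]
    .nil .nil)))))) (.node [] (.node [] (.node [] (.node [] (.node [] (.node [(9,1)] .nil .nil)
    .nil) .nil) (.node [] (.node [] (.node [(15,1)] .nil .nil) (.node [(48,(-1))] .nil .nil))
    (.node [] (.node [(27,1)] .nil .nil) .nil))) (.node [] (.node [] .nil (.node [] .nil (.node
    [(61,(-1))] .nil .nil))) (.node [] (.node [] (.node [(20,(-1))] .nil .nil) (.node [(51,(-1))]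
    .nil .nil)) (.node [] (.node [(30,1)] .nil .nil) (.node [(84,1)] .nil .nil))))) (.node []
    (.node [] (.node [] (.node [] .nil (.node [(37,(-1))] .nil .nil)) (.node [] .nil (.node
    [(56,(-1))] .nil .nil))) (.node [] (.node [] (.node [(17,1)] .nil .nil) .nil) .nil)) (.node []
    (.node [] .nil (.node [] .nil (.node [(66,(-1))] .nil .nil))) (.node [] (.node [] .nil (.node
    [(53,(-1))] .nil .nil)) .nil)))))

/-- table -/
noncomputable def auxE7Chain9 : Tr (List (ℕ × ℤ)) :=
    (.node [] (.node [] (.node [] (.node [] (.node [] (.node [] (.node [(10,1)] .nil .nil) (.node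
    [(34,(-1))] .nil .nil)) (.node [(5,1)] .nil (.node [(55,1)] .nil .nil))) (.node [] (.node []
    .nil (.node [(48,(-1))] .nil .nil)) (.node [] (.node [(27,1)] .nil .nil) .nil))) (.node []
    (.node [] .nil (.node [] .nil (.node [(62,(-1))] .nil .nil))) (.node [] (.node [] (.node
    [(20,(-1))] .nil .nil) (.node [(51,(-1))] .nil .nil)) (.node [] (.node [(30,1)] .nil .nil)
    (.node [(81,(-1))] .nil .nil))))) (.node [] (.node [] (.node [] .nil (.node [] .nil (.node
    [(56,(-1))] .nil .nil))) (.node [] (.node [] .nil (.node [(50,1)] .nil .nil)) (.node [] (.node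
    [(29,(-1))] .nil .nil) .nil))) (.node [] (.node [] (.node [] (.node [(12,1)] .nil .nil) .nil)
    (.node [] .nil (.node [(64,(-1))] .nil .nil))) (.node [] (.node [] (.node [(22,1)] .nil .nil)
    (.node [(53,(-1))] .nil .nil)) (.node [(8,1)] .nil (.node [(101,1)] .nil .nil)))))) (.node []
    (.node [] (.node [] (.node [] (.node [] .nil (.node [(36,1)] .nil .nil)) .nil) (.node
    [(0,(-1))] (.node [(1,1)] (.node [(16,1)] .nil .nil) .nil) (.node [] .nil (.node [(78,(-1))]
    .nil .nil)))) (.node [] .nil (.node [] (.node [(2,1)] .nil .nil) (.node [] .nil (.node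
    [(85,(-1))] .nil .nil))))) (.node [] (.node [] (.node [] (.node [] .nil (.node [(38,(-1))] .nil
    .nil)) .nil) (.node [] (.node [] (.node [(18,1)] .nil .nil) .nil) (.node [(7,(-1))] .nil
    .nil))) (.node [] (.node [] (.node [] (.node [(14,(-1))] .nil .nil) .nil) (.node [] .nil (.node
    [(67,1)] .nil .nil))) .nil))))

/-- table -/
noncomputable def auxE7Chain10 : Tr (List (ℕ × ℤ)) :=
    (.node [] (.node [] (.node [] (.node [] (.node [] (.node [] .nil (.node [(35,(-1))] .nil .nil))
    (.node [(6,1)] .nil .nil)) (.node [(0,1)] (.node [(1,(-1))] (.node [(16,1)] .nil .nil) (.node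
    [(49,(-1))] .nil .nil)) (.node [] (.node [(28,1)] .nil .nil) (.node [(78,(-1))] .nil .nil))))
    (.node [] .nil (.node [] (.node [(2,(-1))] (.node [(21,(-1))] .nil .nil) .nil) (.node [] .nil
    (.node [(82,1)] .nil .nil))))) (.node [] (.node [] (.node [] (.node [] .nil (.node [(38,(-1))]
    .nil .nil)) .nil) (.node [] .nil (.node [(7,1)] .nil .nil))) (.node [] (.node [] (.node []
    (.node [(13,1)] .nil .nil) .nil) (.node [] .nil (.node [(65,1)] .nil .nil))) (.node [] (.node
    [] .nil (.node [(54,(-1))] .nil .nil)) (.node [] .nil (.node [(102,(-1))] .nil .nil))))))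
    (.node [] (.node [] (.node [] (.node [] (.node [] .nil (.node [(37,1)] .nil .nil)) (.node []
    .nil (.node [(56,(-1))] .nil .nil))) (.node [] (.node [] .nil (.node [(50,1)] .nil .nil))
    (.node [] (.node [(29,(-1))] .nil .nil) .nil))) (.node [] (.node [] .nil (.node [] .nil (.node
    [(63,(-1))] .nil .nil))) (.node [] (.node [] (.node [(22,1)] .nil .nil) .nil) (.node [(8,(-1))]
    .nil (.node [(86,1)] .nil .nil))))) (.node [] (.node [] .nil (.node [] (.node [] (.node
    [(19,1)] .nil .nil) (.node [(51,(-1))] .nil .nil)) (.node [] (.node [(30,1)] .nil .nil) .nil)))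
    (.node [] (.node [] (.node [] (.node [(15,(-1))] .nil .nil) .nil) (.node [] .nil (.node
    [(68,(-1))] .nil .nil))) (.node [] (.node [] .nil (.node [(55,1)] .nil .nil)) (.node [(9,1)]
    .nil .nil))))))

/-- table -/
noncomputable def auxE7Chain11 : Tr (List (ℕ × ℤ)) :=
    (.node [] (.node [] (.node [] (.node [] (.node [] .nil (.node [] .nil (.node [(58,(-1))] .nil
    .nil))) (.node [] .nil (.node [(7,1)] .nil .nil))) (.node [] (.node [] (.node [] (.node
    [(14,1)] .nil .nil) .nil) .nil) .nil)) (.node [] (.node [] (.node [] (.node [] (.node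
    [(13,(-1))] .nil .nil) (.node [(39,1)] .nil .nil)) (.node [] .nil (.node [(61,(-1))] .nil
    .nil))) (.node [] (.node [] (.node [(17,1)] .nil .nil) .nil) (.node [] .nil (.node [(79,1)]
    .nil .nil)))) (.node [] (.node [] (.node [] .nil (.node [(48,(-1))] .nil .nil)) (.node []
    (.node [(27,1)] .nil .nil) (.node [(69,(-1))] .nil .nil))) (.node [] (.node [(3,(-1))] (.node
    [(24,1)] .nil .nil) .nil) (.node [] .nil (.node [(103,1)] .nil .nil)))))) (.node [] (.node []
    (.node [] (.node [] (.node [] (.node [(12,1)] .nil .nil) .nil) (.node [] .nil (.node [(60,1)]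
    .nil .nil))) (.node [] .nil (.node [(8,1)] .nil .nil))) (.node [] (.node [] (.node [] (.node
    [(15,(-1))] .nil .nil) .nil) .nil) (.node [] (.node [] (.node [(23,(-1))] .nil .nil) (.node
    [(52,(-1))] .nil .nil)) (.node [] (.node [(31,1)] .nil .nil) (.node [(87,(-1))] .nil .nil)))))
    (.node [] (.node [] (.node [] (.node [] .nil (.node [(40,(-1))] .nil .nil)) .nil) (.node []
    .nil (.node [] .nil (.node [(80,1)] .nil .nil)))) (.node [] (.node [(0,(-1))] (.node [(1,1)]
    .nil (.node [(49,1)] .nil .nil)) (.node [] (.node [(28,(-1))] .nil .nil) (.node [(70,(-1))]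
    .nil .nil))) (.node [] (.node [(4,(-1))] .nil (.node [(57,1)] .nil .nil)) (.node [] (.node
    [(33,(-1))] .nil .nil) .nil))))))

/-- table -/
noncomputable def auxE7Chain12 : Tr (List (ℕ × ℤ)) :=
    (.node [] (.node [] (.node [] (.node [] (.node [] (.node [] (.node [(13,1)] .nil .nil) .nil)
    (.node [] .nil (.node [(59,(-1))] .nil .nil))) .nil) (.node [] .nil (.node [] (.node [] (.node
    [(23,(-1))] .nil .nil) (.node [(52,(-1))] .nil .nil)) (.node [] (.node [(31,1)] .nil .nil)
    .nil)))) (.node [] (.node [] .nil (.node [] (.node [] (.node [(18,1)] .nil .nil) .nil) .nil))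
    (.node [] (.node [(0,1)] (.node [(1,(-1))] .nil .nil) .nil) (.node [] (.node [] (.node [(25,1)]
    .nil .nil) (.node [(57,1)] .nil .nil)) (.node [(11,1)] .nil (.node [(104,(-1))] .nil .nil))))))
    (.node [] (.node [] (.node [] (.node [] (.node [] .nil (.node [(39,1)] .nil .nil)) (.node []
    .nil (.node [(62,(-1))] .nil .nil))) (.node [] .nil (.node [(9,1)] .nil (.node [(79,1)] .nil
    .nil)))) (.node [] (.node [] (.node [] (.node [(16,(-1))] .nil .nil) (.node [(48,(-1))] .nil
    .nil)) (.node [] (.node [(27,1)] .nil .nil) (.node [(69,(-1))] .nil .nil))) (.node [] (.node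
    [(3,1)] .nil .nil) (.node [] .nil (.node [(88,1)] .nil .nil))))) (.node [] (.node [] (.node []
    (.node [] (.node [(14,1)] .nil .nil) (.node [(41,(-1))] .nil .nil)) (.node [] .nil (.node
    [(64,(-1))] .nil .nil))) (.node [] .nil (.node [] .nil (.node [(81,(-1))] .nil .nil)))) (.node
    [] (.node [] (.node [] .nil (.node [(50,1)] .nil .nil)) (.node [(7,(-1))] (.node [(29,(-1))]
    .nil .nil) (.node [(71,1)] .nil .nil))) (.node [] (.node [(5,(-1))] .nil .nil) (.node [] (.node
    [(34,(-1))] .nil .nil) .nil))))))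

/-- table -/
noncomputable def auxE7Chain13 : Tr (List (ℕ × ℤ)) :=
    (.node [] (.node [] (.node [] (.node [] .nil (.node [] .nil (.node [] .nil (.node [(79,1)] .nil
    .nil)))) (.node [] (.node [] (.node [] (.node [(16,(-1))] .nil .nil) .nil) (.node [] .nil
    (.node [(69,(-1))] .nil .nil))) (.node [] (.node [(3,(-1))] (.node [(24,(-1))] .nil .nil) .nil)
    .nil))) (.node [] (.node [] (.node [] (.node [] .nil (.node [(41,(-1))] .nil .nil)) (.node []
    .nil (.node [(63,(-1))] .nil .nil))) (.node [] (.node [] (.node [(19,1)] .nil .nil) .nil)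
    .nil)) (.node [] (.node [] (.node [] .nil (.node [(50,1)] .nil .nil)) (.node [(7,1)] (.node
    [(29,(-1))] .nil .nil) .nil)) (.node [] (.node [] .nil (.node [(58,1)] .nil .nil)) (.node []
    .nil (.node [(105,1)] .nil .nil)))))) (.node [] (.node [] (.node [] (.node [] (.node [] .nil
    (.node [(40,1)] .nil .nil)) .nil) (.node [] .nil (.node [(10,1)] .nil .nil))) (.node [] (.node
    [(0,(-1))] (.node [(1,1)] .nil (.node [(49,(-1))] .nil .nil)) (.node [] (.node [(28,1)] .nil
    .nil) .nil)) (.node [] (.node [] (.node [(25,1)] .nil .nil) .nil) (.node [(11,(-1))] .nil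
    (.node [(89,(-1))] .nil .nil))))) (.node [] (.node [] (.node [] (.node [] (.node [(15,1)] .nil
    .nil) .nil) (.node [] .nil (.node [(65,1)] .nil .nil))) (.node [] (.node [] .nil (.node
    [(52,(-1))] .nil .nil)) (.node [] (.node [(31,1)] .nil .nil) (.node [(82,1)] .nil .nil))))
    (.node [] (.node [] .nil (.node [] .nil (.node [(72,(-1))] .nil .nil))) (.node [] (.node
    [(6,(-1))] .nil (.node [(59,(-1))] .nil .nil)) (.node [(12,1)] (.node [(35,(-1))] .nil .nil)
    .nil))))))

/-- table -/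
noncomputable def auxE7Chain14 : Tr (List (ℕ × ℤ)) :=
    (.node [] (.node [] (.node [] (.node [] (.node [] (.node [] (.node [(15,1)] .nil .nil) (.node
    [(39,1)] .nil .nil)) .nil) (.node [] .nil (.node [(9,(-1))] .nil .nil))) (.node [] (.node
    [(0,(-1))] (.node [(1,1)] .nil (.node [(48,(-1))] .nil .nil)) (.node [] (.node [(27,1)] .nil
    .nil) .nil)) (.node [] .nil (.node [(12,1)] .nil .nil)))) (.node [] (.node [] (.node [] (.node
    [] (.node [(16,1)] .nil .nil) .nil) (.node [] .nil (.node [(66,(-1))] .nil .nil))) (.node []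
    (.node [] (.node [(20,1)] .nil .nil) (.node [(52,(-1))] .nil .nil)) (.node [] (.node [(31,1)]
    .nil .nil) (.node [(81,(-1))] .nil .nil)))) (.node [] (.node [] .nil (.node [] .nil (.node
    [(71,1)] .nil .nil))) (.node [] (.node [(5,1)] (.node [(26,1)] .nil .nil) (.node [(60,(-1))]
    .nil .nil)) (.node [] .nil (.node [(106,1)] .nil .nil)))))) (.node [] (.node [] (.node [] .nil
    (.node [] .nil (.node [] .nil (.node [(80,(-1))] .nil .nil)))) (.node [] (.node [] .nil (.node
    [] .nil (.node [(70,1)] .nil .nil))) (.node [] (.node [(4,1)] .nil .nil) (.node [] .nil (.node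
    [(90,(-1))] .nil .nil))))) (.node [] (.node [] (.node [] (.node [] .nil (.node [(42,(-1))] .nil
    .nil)) (.node [] .nil (.node [(67,(-1))] .nil .nil))) (.node [] (.node [] (.node [(23,(-1))]
    .nil .nil) .nil) (.node [(11,1)] .nil .nil))) (.node [] (.node [] (.node [] .nil (.node
    [(51,1)] .nil .nil)) (.node [(8,(-1))] (.node [(30,(-1))] .nil .nil) .nil)) (.node [] (.node []
    .nil (.node [(62,(-1))] .nil .nil)) (.node [] (.node [(36,(-1))] .nil .nil) .nil))))))

/-- table -/
noncomputable def auxE7Chain15 : Tr (List (ℕ × ℤ)) :=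
    (.node [] (.node [] (.node [] (.node [] (.node [] (.node [] .nil (.node [(40,1)] .nil .nil))
    (.node [] .nil (.node [(63,(-1))] .nil .nil))) (.node [] .nil (.node [(10,(-1))] .nil (.node
    [(80,(-1))] .nil .nil)))) (.node [] (.node [] (.node [] .nil (.node [(49,(-1))] .nil .nil))
    (.node [] (.node [(28,1)] .nil .nil) (.node [(70,1)] .nil .nil))) (.node [] (.node [(4,(-1))]
    .nil .nil) (.node [(13,1)] .nil .nil)))) (.node [] (.node [] (.node [] (.node [] .nil (.node
    [(42,(-1))] .nil .nil)) .nil) (.node [] (.node [] (.node [(21,1)] .nil .nil) .nil) (.node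
    [(11,(-1))] .nil (.node [(82,1)] .nil .nil)))) (.node [] (.node [] (.node [] .nil (.node
    [(51,1)] .nil .nil)) (.node [(8,1)] (.node [(30,(-1))] .nil .nil) (.node [(72,(-1))] .nil
    .nil))) (.node [] (.node [(6,1)] .nil (.node [(61,(-1))] .nil .nil)) (.node [] .nil (.node
    [(107,(-1))] .nil .nil)))))) (.node [] (.node [] (.node [] (.node [] (.node [] (.node [(16,1)]
    .nil .nil) .nil) (.node [] .nil (.node [(66,(-1))] .nil .nil))) (.node [] (.node [] .nil (.node
    [(52,(-1))] .nil .nil)) (.node [] (.node [(31,1)] .nil .nil) .nil))) (.node [] .nil (.node []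
    (.node [] (.node [(26,1)] .nil .nil) .nil) (.node [] .nil (.node [(91,1)] .nil .nil))))) (.node
    [] (.node [] (.node [(0,1)] (.node [(1,(-1))] .nil .nil) (.node [] .nil (.node [(68,1)] .nil
    .nil))) (.node [] (.node [] (.node [(24,(-1))] .nil .nil) .nil) .nil)) (.node [] .nil (.node []
    .nil (.node [(14,1)] (.node [(37,(-1))] .nil .nil) .nil))))))

/-- table -/
noncomputable def auxE7Chain16 : Tr (List (ℕ × ℤ)) :=
    (.node [] (.node [] (.node [] (.node [] (.node [] (.node [] .nil (.node [(41,1)] .nil .nil))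
    (.node [] .nil (.node [(65,(-1))] .nil .nil))) (.node [] (.node [] .nil (.node [(52,(-1))] .nil
    .nil)) (.node [] (.node [(31,1)] .nil .nil) (.node [(81,1)] .nil .nil)))) (.node [] (.node []
    (.node [] .nil (.node [(50,(-1))] .nil .nil)) (.node [] (.node [(29,1)] .nil .nil) (.node
    [(71,(-1))] .nil .nil))) (.node [] (.node [(5,(-1))] (.node [(26,1)] .nil .nil) .nil) .nil)))
    (.node [] (.node [] (.node [(0,(-1))] (.node [(1,1)] .nil .nil) (.node [] .nil (.node [(68,1)]
    .nil .nil))) (.node [] (.node [] (.node [(22,1)] .nil .nil) .nil) (.node [(12,(-1))] .nil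
    .nil))) (.node [] (.node [] .nil (.node [(9,1)] .nil .nil)) (.node [] .nil (.node [(15,1)] .nil
    (.node [(108,1)] .nil .nil)))))) (.node [] (.node [] (.node [] (.node [] (.node [] .nil (.node
    [(42,(-1))] .nil .nil)) (.node [] .nil (.node [(67,1)] .nil .nil))) (.node [] .nil (.node []
    .nil (.node [(82,1)] .nil .nil)))) (.node [] (.node [] (.node [] .nil (.node [(51,1)] .nil
    .nil)) (.node [] (.node [(30,(-1))] .nil .nil) (.node [(72,(-1))] .nil .nil))) (.node [] (.node
    [(6,(-1))] .nil .nil) (.node [(14,1)] .nil (.node [(92,(-1))] .nil .nil))))) (.node [] (.node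
    [] .nil (.node [] (.node [] (.node [(25,(-1))] .nil .nil) .nil) (.node [(13,(-1))] .nil .nil)))
    (.node [] (.node [] .nil (.node [(10,1)] .nil .nil)) (.node [] (.node [] .nil (.node
    [(64,(-1))] .nil .nil)) (.node [] (.node [(38,(-1))] .nil .nil) .nil))))))

/-- table -/
noncomputable def auxE7Chain17 : Tr (List (ℕ × ℤ)) :=
    (.node [] (.node [] (.node [] (.node [] .nil (.node [] (.node [] (.node [(23,1)] .nil .nil)
    .nil) .nil)) (.node [] (.node [] (.node [] (.node [(20,1)] .nil .nil) .nil) (.node [(8,1)] .nil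
    .nil)) (.node [] (.node [] .nil (.node [(61,(-1))] .nil .nil)) (.node [] .nil (.node
    [(87,(-1))] .nil .nil))))) (.node [] (.node [] (.node [] (.node [] (.node [(19,(-1))] .nil
    .nil) (.node [(43,1)] .nil .nil)) (.node [] (.node [(27,1)] .nil .nil) .nil)) (.node [] (.node
    [(3,1)] .nil (.node [(58,(-1))] .nil .nil)) (.node [] .nil (.node [(83,(-1))] .nil .nil))))
    (.node [] (.node [] (.node [] .nil (.node [(53,1)] .nil .nil)) (.node [] .nil (.node
    [(74,(-1))] .nil .nil))) (.node [] .nil (.node [] (.node [(33,(-1))] .nil .nil) (.node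
    [(109,(-1))] .nil .nil)))))) (.node [] (.node [] (.node [] (.node [(0,1)] (.node [] (.node
    [(18,1)] .nil .nil) .nil) .nil) (.node [] (.node [] (.node [(24,(-1))] .nil .nil) (.node
    [(57,1)] .nil .nil)) .nil)) (.node [] (.node [] (.node [] (.node [(21,(-1))] .nil .nil) .nil)
    (.node [(11,1)] .nil .nil)) (.node [] .nil (.node [] (.node [(32,1)] .nil .nil) .nil)))) (.node
    [] (.node [] (.node [] (.node [] .nil (.node [(44,(-1))] .nil .nil)) (.node [(7,1)] (.node
    [(28,(-1))] .nil .nil) (.node [(73,(-1))] .nil .nil))) (.node [] (.node [(4,1)] .nil (.node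
    [(60,1)] .nil .nil)) (.node [] .nil (.node [(84,(-1))] .nil .nil)))) (.node [] (.node [] (.node
    [(2,1)] .nil (.node [(54,(-1))] .nil .nil)) (.node [] .nil (.node [(75,(-1))] .nil .nil)))
    .nil))))

/-- table -/
noncomputable def auxE7Chain18 : Tr (List (ℕ × ℤ)) :=
    (.node [] (.node [] (.node [] (.node [] (.node [(0,(-1))] (.node [] (.node [(19,1)] .nil .nil)
    .nil) .nil) (.node [] (.node [] .nil (.node [(57,1)] .nil .nil)) .nil)) (.node [] (.node []
    .nil (.node [(9,1)] .nil .nil)) (.node [] .nil (.node [] (.node [(32,1)] .nil .nil) (.node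
    [(88,1)] .nil .nil))))) (.node [] (.node [] (.node [] .nil (.node [(7,(-1))] .nil (.node
    [(73,(-1))] .nil .nil))) (.node [] (.node [] .nil (.node [(59,(-1))] .nil .nil)) .nil)) (.node
    [] (.node [] (.node [(2,(-1))] .nil .nil) .nil) (.node [] .nil (.node [(17,1)] (.node
    [(34,(-1))] .nil .nil) (.node [(110,1)] .nil .nil)))))) (.node [] (.node [] (.node [] (.node []
    (.node [] .nil (.node [(43,1)] .nil .nil)) (.node [] (.node [(27,1)] .nil .nil) .nil)) (.node
    [] (.node [(3,(-1))] (.node [(25,(-1))] .nil .nil) .nil) (.node [] .nil (.node [(83,(-1))] .nil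
    .nil)))) (.node [] (.node [] (.node [] (.node [(22,(-1))] .nil .nil) (.node [(53,1)] .nil
    .nil)) (.node [(12,1)] .nil (.node [(74,(-1))] .nil .nil))) (.node [] (.node [] .nil (.node
    [(64,(-1))] .nil .nil)) .nil))) (.node [] (.node [] (.node [] (.node [] (.node [(20,1)] .nil
    .nil) (.node [(45,(-1))] .nil .nil)) (.node [] (.node [(29,(-1))] .nil .nil) .nil)) (.node []
    (.node [(5,1)] .nil (.node [(62,(-1))] .nil .nil)) (.node [] .nil (.node [(85,1)] .nil .nil))))
    (.node [] (.node [] (.node [] (.node [(23,1)] .nil .nil) (.node [(55,(-1))] .nil .nil)) (.node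
    [] .nil (.node [(76,1)] .nil .nil))) .nil))))

/-- table -/
noncomputable def auxE7Chain19 : Tr (List (ℕ × ℤ)) :=
    (.node [] (.node [] (.node [] (.node [] .nil (.node [] (.node [(3,1)] (.node [(25,(-1))] .nil
    .nil) (.node [(58,1)] .nil .nil)) (.node [] .nil (.node [(83,(-1))] .nil .nil)))) (.node []
    (.node [] (.node [] (.node [(22,(-1))] .nil .nil) .nil) (.node [(10,1)] .nil (.node [(74,(-1))]
    .nil .nil))) (.node [] (.node [] .nil (.node [(63,(-1))] .nil .nil)) (.node [] .nil (.node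
    [(89,(-1))] .nil .nil))))) (.node [] (.node [] (.node [] (.node [] .nil (.node [(45,(-1))] .nil
    .nil)) (.node [] (.node [(29,(-1))] .nil .nil) .nil)) .nil) (.node [] (.node [] (.node [] .nil
    (.node [(55,(-1))] .nil .nil)) .nil) (.node [] .nil (.node [] (.node [(35,(-1))] .nil .nil)
    (.node [(111,(-1))] .nil .nil)))))) (.node [] (.node [] (.node [] (.node [] (.node [] .nil
    (.node [(44,1)] .nil .nil)) (.node [(7,1)] (.node [(28,1)] .nil .nil) (.node [(73,(-1))] .nil
    .nil))) (.node [] (.node [] .nil (.node [(59,(-1))] .nil .nil)) .nil)) (.node [] (.node []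
    (.node [(2,1)] .nil (.node [(54,1)] .nil .nil)) (.node [(13,1)] .nil .nil)) (.node [] (.node []
    .nil (.node [(65,1)] .nil .nil)) (.node [(17,(-1))] .nil .nil)))) (.node [] (.node [] (.node []
    (.node [] (.node [(21,1)] .nil .nil) .nil) .nil) (.node [] (.node [(6,1)] .nil .nil) (.node []
    (.node [(32,1)] .nil .nil) (.node [(86,(-1))] .nil .nil)))) (.node [(0,1)] (.node [] (.node []
    (.node [(24,1)] .nil .nil) .nil) (.node [] .nil (.node [(77,(-1))] .nil .nil))) (.node [] .nil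
    (.node [(18,1)] .nil .nil))))))

/-- table -/
noncomputable def auxE7Chain20 : Tr (List (ℕ × ℤ)) :=
    (.node [] (.node [] (.node [] (.node [] (.node [] (.node [] (.node [(21,1)] .nil .nil) (.node
    [(43,1)] .nil .nil)) (.node [] (.node [(27,1)] .nil .nil) (.node [(73,(-1))] .nil .nil)))
    (.node [] (.node [] .nil (.node [(60,(-1))] .nil .nil)) .nil)) (.node [] (.node [] (.node
    [(2,1)] .nil (.node [(53,1)] .nil .nil)) .nil) (.node [] (.node [] .nil (.node [(66,(-1))] .nil
    .nil)) (.node [(18,1)] .nil (.node [(90,(-1))] .nil .nil))))) (.node [] (.node [] (.node []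
    (.node [] (.node [(22,1)] .nil .nil) .nil) (.node [(8,(-1))] .nil .nil)) (.node [] (.node
    [(5,(-1))] .nil .nil) (.node [] (.node [(32,1)] .nil .nil) (.node [(85,1)] .nil .nil)))) (.node
    [(0,1)] (.node [] (.node [] (.node [(23,1)] .nil .nil) .nil) (.node [] .nil (.node [(76,1)]
    .nil .nil))) (.node [] .nil (.node [] (.node [(36,(-1))] .nil .nil) (.node [(112,(-1))] .nil
    .nil)))))) (.node [] (.node [] (.node [] .nil (.node [] (.node [(4,(-1))] (.node [(26,(-1))]
    .nil .nil) (.node [(62,(-1))] .nil .nil)) (.node [] .nil (.node [(84,1)] .nil .nil)))) (.node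
    [] (.node [] .nil (.node [(14,1)] .nil (.node [(75,1)] .nil .nil))) (.node [] (.node [] .nil
    (.node [(67,(-1))] .nil .nil)) .nil))) (.node [] (.node [] (.node [] (.node [] .nil (.node
    [(46,(-1))] .nil .nil)) (.node [(9,(-1))] (.node [(30,(-1))] .nil .nil) .nil)) (.node [] .nil
    (.node [(17,1)] .nil .nil))) (.node [] (.node [] (.node [] .nil (.node [(56,(-1))] .nil .nil))
    .nil) .nil))))

/-- table -/
noncomputable def auxE7Chain21 : Tr (List (ℕ × ℤ)) :=
    (.node [] (.node [] (.node [] (.node [] (.node [] (.node [] .nil (.node [(44,1)] .nil .nil))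
    (.node [] (.node [(28,1)] .nil .nil) .nil)) (.node [] (.node [(4,1)] (.node [(26,(-1))] .nil
    .nil) (.node [(61,(-1))] .nil .nil)) (.node [] .nil (.node [(84,1)] .nil .nil)))) (.node []
    (.node [] (.node [] .nil (.node [(54,1)] .nil .nil)) (.node [] .nil (.node [(75,1)] .nil
    .nil))) (.node [] .nil (.node [(19,1)] .nil (.node [(91,1)] .nil .nil))))) (.node [] (.node []
    (.node [] (.node [] .nil (.node [(46,(-1))] .nil .nil)) (.node [] (.node [(30,(-1))] .nil .nil)
    .nil)) (.node [] (.node [(6,(-1))] .nil (.node [(63,(-1))] .nil .nil)) (.node [(17,(-1))] .nil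
    (.node [(86,(-1))] .nil .nil)))) (.node [] (.node [] (.node [] (.node [(24,1)] .nil .nil)
    (.node [(56,(-1))] .nil .nil)) (.node [] .nil (.node [(77,(-1))] .nil .nil))) (.node [] .nil
    (.node [] (.node [(37,(-1))] .nil .nil) (.node [(113,1)] .nil .nil)))))) (.node [] (.node []
    (.node [] (.node [] (.node [] (.node [(22,1)] .nil .nil) .nil) (.node [(8,1)] .nil .nil))
    (.node [] .nil (.node [] (.node [(32,1)] .nil .nil) .nil))) (.node [(0,(-1))] (.node [] .nil
    (.node [(15,1)] .nil .nil)) (.node [] (.node [] .nil (.node [(68,1)] .nil .nil)) .nil))) (.node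
    [] (.node [] (.node [] (.node [(2,(-1))] .nil .nil) (.node [(10,(-1))] .nil .nil)) (.node []
    (.node [] .nil (.node [(66,(-1))] .nil .nil)) .nil)) (.node [] .nil (.node [] (.node [] .nil
    (.node [(73,(-1))] .nil .nil)) (.node [(20,1)] .nil .nil))))))

/-- table -/
noncomputable def auxE7Chain22 : Tr (List (ℕ × ℤ)) :=
    (.node [] (.node [] (.node [] (.node [] (.node [] (.node [] .nil (.node [(45,1)] .nil .nil))
    (.node [] (.node [(29,1)] .nil .nil) .nil)) (.node [] (.node [(5,1)] .nil .nil) (.node []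
    (.node [(32,1)] .nil .nil) (.node [(85,(-1))] .nil .nil)))) (.node [(0,1)] (.node [] (.node []
    .nil (.node [(55,1)] .nil .nil)) (.node [] .nil (.node [(76,(-1))] .nil .nil))) (.node []
    (.node [] .nil (.node [(68,1)] .nil .nil)) (.node [] .nil (.node [(92,(-1))] .nil .nil)))))
    (.node [] (.node [] (.node [] (.node [(2,1)] .nil .nil) (.node [(10,1)] .nil .nil)) (.node []
    (.node [] .nil (.node [(65,(-1))] .nil .nil)) (.node [(18,(-1))] .nil .nil))) (.node [] (.node
    [] (.node [] (.node [(25,1)] .nil .nil) .nil) .nil) (.node [] (.node [] .nil (.node [(73,(-1))]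
    .nil .nil)) (.node [(21,1)] (.node [(38,(-1))] .nil .nil) (.node [(114,(-1))] .nil .nil))))))
    (.node [] (.node [] (.node [] (.node [] (.node [] .nil (.node [(46,(-1))] .nil .nil)) (.node
    [(9,1)] (.node [(30,(-1))] .nil .nil) .nil)) (.node [] (.node [(6,1)] .nil (.node [(64,(-1))]
    .nil .nil)) (.node [] .nil (.node [(86,(-1))] .nil .nil)))) (.node [] (.node [] (.node [] .nil
    (.node [(56,(-1))] .nil .nil)) (.node [(16,1)] .nil (.node [(77,(-1))] .nil .nil))) (.node []
    .nil (.node [(20,1)] .nil .nil)))) (.node [] (.node [] .nil (.node [] (.node [] .nil (.node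
    [(67,1)] .nil .nil)) (.node [(19,(-1))] .nil .nil))) (.node [] (.node [] (.node [] (.node
    [(26,(-1))] .nil .nil) .nil) .nil) .nil))))

/-- table -/
noncomputable def auxE7Chain23 : Tr (List (ℕ × ℤ)) :=
    (.node [] (.node [] (.node [] (.node [] (.node [] (.node [] (.node [(24,1)] .nil .nil) .nil)
    (.node [] .nil (.node [(74,1)] .nil .nil))) (.node [] .nil (.node [(18,1)] .nil .nil))) (.node
    [] (.node [] (.node [(3,1)] .nil (.node [(57,(-1))] .nil .nil)) (.node [(14,(-1))] .nil .nil))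
    (.node [] (.node [] .nil (.node [(70,(-1))] .nil .nil)) .nil))) (.node [] (.node [] (.node []
    (.node [] (.node [(25,1)] .nil .nil) .nil) (.node [(11,(-1))] .nil (.node [(75,1)] .nil .nil)))
    (.node [] (.node [] .nil (.node [(69,(-1))] .nil .nil)) (.node [] .nil (.node [(88,(-1))] .nil
    .nil)))) (.node [] (.node [] (.node [(4,1)] .nil (.node [(62,(-1))] .nil .nil)) .nil) (.node []
    .nil (.node [] (.node [(39,(-1))] .nil .nil) (.node [(115,1)] .nil .nil)))))) (.node [] (.node
    [] (.node [] .nil (.node [] .nil (.node [(20,1)] .nil (.node [(87,(-1))] .nil .nil)))) (.node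
    [] (.node [] (.node [] (.node [(26,1)] .nil .nil) (.node [(60,(-1))] .nil .nil)) .nil) (.node
    [] (.node [] .nil (.node [(71,(-1))] .nil .nil)) .nil))) (.node [] (.node [(0,(-1))] (.node []
    (.node [] .nil (.node [(47,(-1))] .nil .nil)) (.node [(12,(-1))] (.node [(31,(-1))] .nil .nil)
    (.node [(76,1)] .nil .nil))) (.node [] .nil (.node [] .nil (.node [(90,(-1))] .nil .nil))))
    (.node [] (.node [] (.node [(5,1)] .nil .nil) (.node [(17,1)] (.node [(32,1)] .nil .nil) .nil))
    (.node [] (.node [] (.node [(27,1)] .nil .nil) .nil) (.node [] (.node [(43,1)] .nil .nil)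
    .nil))))))

/-- table -/
noncomputable def auxE7Chain24 : Tr (List (ℕ × ℤ)) :=
    (.node [] (.node [] (.node [] (.node [] .nil (.node [] .nil (.node [(19,1)] .nil (.node
    [(87,(-1))] .nil .nil)))) (.node [] (.node [] (.node [] (.node [(26,1)] .nil .nil) (.node
    [(58,(-1))] .nil .nil)) (.node [(15,(-1))] .nil .nil)) .nil)) (.node [] (.node [(0,1)] (.node
    [] (.node [] .nil (.node [(47,(-1))] .nil .nil)) (.node [] (.node [(31,(-1))] .nil .nil) .nil))
    (.node [] .nil (.node [] .nil (.node [(89,1)] .nil .nil)))) (.node [] (.node [] .nil (.node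
    [(17,(-1))] (.node [(32,1)] .nil .nil) .nil)) (.node [] .nil (.node [] (.node [(40,(-1))] .nil
    .nil) (.node [(116,(-1))] .nil .nil)))))) (.node [] (.node [] (.node [] (.node [] (.node []
    (.node [(25,1)] .nil .nil) .nil) (.node [(11,1)] .nil (.node [(75,1)] .nil .nil))) (.node []
    (.node [] .nil (.node [(69,(-1))] .nil .nil)) (.node [(21,1)] .nil .nil))) (.node [] (.node []
    (.node [(4,(-1))] .nil (.node [(61,(-1))] .nil .nil)) .nil) (.node [] (.node [] .nil (.node
    [(72,1)] .nil .nil)) .nil))) (.node [] (.node [] (.node [] (.node [(3,(-1))] .nil .nil) (.node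
    [(13,(-1))] .nil (.node [(77,(-1))] .nil .nil))) (.node [] (.node [] .nil (.node [(70,(-1))]
    .nil .nil)) (.node [] .nil (.node [(91,1)] .nil .nil)))) (.node [] (.node [] (.node [(6,1)]
    .nil (.node [(63,(-1))] .nil .nil)) .nil) (.node [] (.node [] (.node [(28,1)] .nil .nil) (.node
    [(74,1)] .nil .nil)) (.node [(23,1)] (.node [(44,1)] .nil .nil) .nil))))))

/-- table -/
noncomputable def auxE7Chain25 : Tr (List (ℕ × ℤ)) :=
    (.node [] (.node [] (.node [] (.node [] .nil (.node [] (.node [] .nil (.node [(69,(-1))] .nil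
    .nil)) (.node [] .nil (.node [(88,1)] .nil .nil)))) (.node [] (.node [] (.node [] .nil (.node
    [(59,(-1))] .nil .nil)) (.node [(16,(-1))] .nil .nil)) (.node [] (.node [] .nil (.node [(72,1)]
    .nil .nil)) .nil))) (.node [] (.node [] (.node [] (.node [(3,1)] .nil .nil) (.node [(13,1)]
    .nil (.node [(77,(-1))] .nil .nil))) .nil) (.node [] (.node [] (.node [(6,(-1))] .nil (.node
    [(64,(-1))] .nil .nil)) (.node [(18,(-1))] .nil .nil)) (.node [] (.node [] .nil (.node [(74,1)]
    .nil .nil)) (.node [(24,1)] (.node [(41,(-1))] .nil .nil) (.node [(117,1)] .nil .nil))))))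
    (.node [] (.node [] (.node [(0,(-1))] (.node [] (.node [] .nil (.node [(47,(-1))] .nil .nil))
    (.node [(12,1)] (.node [(31,(-1))] .nil .nil) (.node [(76,(-1))] .nil .nil))) (.node [] .nil
    (.node [(22,1)] .nil (.node [(89,1)] .nil .nil)))) (.node [] (.node [] (.node [(5,(-1))] .nil
    .nil) (.node [] (.node [(32,1)] .nil .nil) .nil)) (.node [] .nil (.node [(23,1)] .nil .nil))))
    (.node [] (.node [] (.node [] (.node [] (.node [(26,1)] .nil .nil) .nil) .nil) (.node [] (.node
    [] .nil (.node [(71,1)] .nil .nil)) (.node [] .nil (.node [(92,(-1))] .nil .nil)))) (.node []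
    (.node [] (.node [] .nil (.node [(65,(-1))] .nil .nil)) (.node [(19,(-1))] .nil .nil)) (.node
    [] (.node [] (.node [(29,1)] .nil .nil) .nil) (.node [] (.node [(45,1)] .nil .nil) .nil))))))

/-- table -/
noncomputable def auxE7Chain26 : Tr (List (ℕ × ℤ)) :=
    (.node [] (.node [] (.node [] (.node [(0,1)] (.node [] (.node [] .nil (.node [(47,(-1))] .nil
    .nil)) (.node [] (.node [(31,(-1))] .nil .nil) (.node [(77,(-1))] .nil .nil))) (.node [] (.node
    [] .nil (.node [(70,1)] .nil .nil)) (.node [(22,(-1))] .nil (.node [(90,(-1))] .nil .nil))))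
    (.node [] (.node [] (.node [(6,1)] .nil .nil) (.node [] (.node [(32,1)] .nil .nil) .nil))
    (.node [] .nil (.node [(25,1)] .nil .nil)))) (.node [] (.node [] (.node [] (.node [(4,1)] .nil
    .nil) (.node [(15,1)] .nil .nil)) (.node [] (.node [] .nil (.node [(72,1)] .nil .nil)) (.node
    [(23,1)] .nil (.node [(92,(-1))] .nil .nil)))) (.node [] (.node [] (.node [] .nil (.node
    [(67,(-1))] .nil .nil)) (.node [(20,(-1))] .nil .nil)) (.node [] (.node [] .nil (.node
    [(75,(-1))] .nil .nil)) (.node [] (.node [(42,(-1))] .nil .nil) (.node [(118,(-1))] .nil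
    .nil)))))) (.node [] (.node [] (.node [] (.node [] .nil (.node [(14,1)] .nil .nil)) (.node []
    (.node [] .nil (.node [(71,1)] .nil .nil)) (.node [] .nil (.node [(91,(-1))] .nil .nil))))
    (.node [] (.node [] (.node [] .nil (.node [(66,(-1))] .nil .nil)) .nil) .nil)) (.node [] (.node
    [] (.node [] (.node [(5,1)] .nil .nil) (.node [(16,1)] .nil .nil)) (.node [] .nil (.node
    [(24,1)] .nil .nil))) (.node [] (.node [] (.node [] .nil (.node [(68,(-1))] .nil .nil)) (.node
    [(21,(-1))] .nil .nil)) (.node [] (.node [] (.node [(30,1)] .nil .nil) (.node [(76,(-1))] .nil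
    .nil)) (.node [] (.node [(46,1)] .nil .nil) .nil))))))

/-- table -/
noncomputable def auxE7Chain27 : Tr (List (ℕ × ℤ)) :=
    (.node [] (.node [] (.node [] (.node [] (.node [] (.node [] (.node [(28,1)] .nil .nil) (.node
    [(57,(-1))] .nil .nil)) (.node [(23,1)] .nil (.node [(83,(-1))] .nil .nil))) .nil) (.node []
    (.node [] (.node [(7,1)] .nil .nil) .nil) (.node [] (.node [] .nil (.node [(80,(-1))] .nil
    .nil)) .nil))) (.node [] (.node [] (.node [] (.node [] (.node [(29,1)] .nil .nil) (.node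
    [(62,(-1))] .nil .nil)) (.node [] .nil (.node [(84,(-1))] .nil .nil))) (.node [] (.node
    [(12,1)] .nil (.node [(79,(-1))] .nil .nil)) .nil)) (.node [] (.node [] (.node [(8,1)] .nil
    .nil) (.node [] .nil (.node [(88,(-1))] .nil .nil))) (.node [] (.node [(18,1)] (.node [(32,1)]
    .nil .nil) .nil) (.node [] (.node [(48,(-1))] .nil .nil) (.node [(119,(-1))] .nil .nil))))))
    (.node [] (.node [] (.node [] (.node [] (.node [] .nil (.node [(60,(-1))] .nil .nil)) .nil)
    (.node [] (.node [(11,1)] (.node [(31,1)] .nil .nil) .nil) .nil)) (.node [] (.node [] (.node []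
    (.node [(30,1)] .nil .nil) .nil) (.node [] .nil (.node [(87,(-1))] .nil .nil))) (.node []
    (.node [(17,1)] .nil (.node [(81,(-1))] .nil .nil)) .nil))) (.node [(0,1)] (.node [] (.node []
    .nil (.node [] .nil (.node [(85,(-1))] .nil .nil))) (.node [] (.node [(14,1)] .nil .nil) .nil))
    (.node [] (.node [] (.node [(9,1)] .nil (.node [(78,(-1))] .nil .nil)) (.node [] .nil (.node
    [(90,(-1))] .nil .nil))) (.node [] (.node [(20,1)] .nil .nil) (.node [] (.node [(53,(-1))] .nil
    .nil) .nil))))))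

/-- table -/
noncomputable def auxE7Chain28 : Tr (List (ℕ × ℤ)) :=
    (.node [] (.node [] (.node [] (.node [] (.node [] (.node [] .nil (.node [(58,(-1))] .nil .nil))
    (.node [(24,1)] .nil .nil)) (.node [] (.node [(11,(-1))] (.node [(31,1)] .nil .nil) .nil)
    .nil)) (.node [] (.node [] (.node [] (.node [(30,1)] .nil .nil) .nil) (.node [] .nil (.node
    [(87,(-1))] .nil .nil))) (.node [] (.node [(17,(-1))] .nil .nil) .nil))) (.node [(0,(-1))]
    (.node [] .nil (.node [] (.node [(13,1)] .nil .nil) .nil)) (.node [] (.node [] (.node [] .nil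
    (.node [(78,(-1))] .nil .nil)) (.node [] .nil (.node [(89,1)] .nil .nil))) (.node [] (.node
    [(19,1)] .nil .nil) (.node [] (.node [(49,(-1))] .nil .nil) (.node [(120,1)] .nil .nil))))))
    (.node [] (.node [] (.node [] (.node [] (.node [] (.node [(29,1)] .nil .nil) (.node [(61,(-1))]
    .nil .nil)) (.node [] .nil (.node [(84,(-1))] .nil .nil))) (.node [] (.node [] .nil (.node
    [(79,(-1))] .nil .nil)) .nil)) (.node [] (.node [] (.node [(8,(-1))] .nil .nil) .nil) (.node []
    (.node [] (.node [(32,1)] .nil .nil) (.node [(82,1)] .nil .nil)) .nil))) (.node [] (.node []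
    (.node [] (.node [(7,(-1))] .nil (.node [(63,(-1))] .nil .nil)) (.node [] .nil (.node [(86,1)]
    .nil .nil))) (.node [] (.node [(15,1)] .nil (.node [(80,(-1))] .nil .nil)) .nil)) (.node []
    (.node [] (.node [(10,1)] .nil .nil) (.node [] .nil (.node [(91,1)] .nil .nil))) (.node []
    (.node [(21,1)] .nil (.node [(83,(-1))] .nil .nil)) (.node [(27,1)] (.node [(54,(-1))] .nil
    .nil) .nil))))))

/-- table -/
noncomputable def auxE7Chain29 : Tr (List (ℕ × ℤ)) :=
    (.node [] (.node [] (.node [] (.node [] (.node [] (.node [] .nil (.node [(59,(-1))] .nil .nil))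
    (.node [(25,1)] .nil .nil)) (.node [] (.node [(12,(-1))] .nil (.node [(79,(-1))] .nil .nil))
    .nil)) (.node [] (.node [] .nil (.node [] .nil (.node [(88,1)] .nil .nil))) (.node [] (.node
    [(18,(-1))] (.node [(32,1)] .nil .nil) (.node [(82,1)] .nil .nil)) .nil))) (.node [] (.node []
    (.node [] (.node [(7,1)] .nil (.node [(64,(-1))] .nil .nil)) (.node [] .nil (.node [(86,1)]
    .nil .nil))) .nil) (.node [] (.node [] (.node [(10,(-1))] .nil .nil) .nil) (.node [] (.node []
    .nil (.node [(83,(-1))] .nil .nil)) (.node [(28,1)] (.node [(50,(-1))] .nil .nil) (.node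
    [(121,(-1))] .nil .nil)))))) (.node [] (.node [(0,1)] (.node [] (.node [] .nil (.node [] .nil
    (.node [(85,1)] .nil .nil))) (.node [] (.node [(13,(-1))] .nil .nil) .nil)) (.node [] (.node []
    (.node [(9,(-1))] .nil (.node [(78,(-1))] .nil .nil)) (.node [] .nil (.node [(89,1)] .nil
    .nil))) (.node [] (.node [(19,(-1))] .nil .nil) (.node [(27,1)] .nil .nil)))) (.node [] (.node
    [] (.node [] (.node [] (.node [(30,1)] .nil .nil) (.node [(65,(-1))] .nil .nil)) .nil) (.node
    [] (.node [(16,1)] .nil (.node [(81,1)] .nil .nil)) .nil)) (.node [] (.node [] (.node [] (.node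
    [(31,1)] .nil .nil) .nil) (.node [] .nil (.node [(92,(-1))] .nil .nil))) (.node [] (.node
    [(22,1)] .nil .nil) (.node [] (.node [(55,(-1))] .nil .nil) .nil))))))

/-- table -/
noncomputable def auxE7Chain30 : Tr (List (ℕ × ℤ)) :=
    (.node [] (.node [] (.node [(0,(-1))] (.node [] (.node [] .nil (.node [(26,1)] .nil (.node
    [(86,1)] .nil .nil))) (.node [] (.node [(14,(-1))] .nil (.node [(80,1)] .nil .nil)) .nil))
    (.node [] (.node [] (.node [(10,1)] .nil (.node [(78,(-1))] .nil .nil)) (.node [] .nil (.node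
    [(90,(-1))] .nil .nil))) (.node [] (.node [(20,(-1))] .nil .nil) (.node [(29,1)] .nil .nil))))
    (.node [] (.node [] (.node [] (.node [(8,1)] .nil (.node [(67,(-1))] .nil .nil)) .nil) (.node
    [] (.node [(16,(-1))] .nil (.node [(82,1)] .nil .nil)) (.node [(27,1)] .nil .nil))) (.node []
    (.node [] (.node [] (.node [(31,1)] .nil .nil) .nil) (.node [] .nil (.node [(92,(-1))] .nil
    .nil))) (.node [] (.node [(22,(-1))] .nil (.node [(84,1)] .nil .nil)) (.node [] (.node
    [(51,(-1))] .nil .nil) (.node [(122,1)] .nil .nil)))))) (.node [] (.node [] (.node [] (.node []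
    (.node [] .nil (.node [(66,(-1))] .nil .nil)) .nil) (.node [] (.node [(15,(-1))] .nil (.node
    [(81,1)] .nil .nil)) .nil)) (.node [] (.node [] .nil (.node [] .nil (.node [(91,(-1))] .nil
    .nil))) (.node [] (.node [(21,(-1))] .nil .nil) .nil))) (.node [] (.node [] (.node [] (.node
    [(9,1)] .nil (.node [(68,(-1))] .nil .nil)) .nil) (.node [] (.node [] (.node [(32,1)] .nil
    .nil) .nil) (.node [(28,1)] .nil .nil))) (.node [] .nil (.node [] (.node [] .nil (.node
    [(85,1)] .nil .nil)) (.node [] (.node [(56,(-1))] .nil .nil) .nil))))))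

/-- table -/
noncomputable def auxE7Chain31 : Tr (List (ℕ × ℤ)) :=
    (.node [] (.node [] (.node [] (.node [] (.node [] (.node [] .nil (.node [(69,(-1))] .nil .nil))
    (.node [] .nil (.node [(89,(-1))] .nil .nil))) (.node [] .nil (.node [(29,1)] .nil .nil)))
    (.node [] (.node [] (.node [(13,1)] .nil (.node [(79,1)] .nil .nil)) .nil) (.node [] (.node
    [(23,(-1))] .nil .nil) .nil))) (.node [] (.node [] (.node [] (.node [(11,1)] .nil (.node
    [(71,(-1))] .nil .nil)) (.node [] .nil (.node [(91,(-1))] .nil .nil))) (.node [] (.node []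
    (.node [(32,1)] .nil .nil) .nil) .nil)) (.node [] (.node [] (.node [(15,1)] .nil (.node
    [(81,1)] .nil .nil)) (.node [(27,1)] .nil .nil)) (.node [] (.node [(25,(-1))] .nil (.node
    [(87,(-1))] .nil .nil)) (.node [] (.node [(52,(-1))] .nil .nil) (.node [(123,(-1))] .nil
    .nil)))))) (.node [(0,1)] (.node [] (.node [] (.node [] (.node [] .nil (.node [(70,(-1))] .nil
    .nil)) (.node [] .nil (.node [(90,(-1))] .nil .nil))) (.node [] .nil (.node [(30,1)] .nil
    .nil))) (.node [] (.node [] (.node [(14,1)] .nil (.node [(80,1)] .nil .nil)) .nil) (.node []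
    (.node [(24,(-1))] .nil .nil) .nil))) (.node [] (.node [] (.node [] (.node [(12,1)] .nil (.node
    [(72,(-1))] .nil .nil)) (.node [] .nil (.node [(92,(-1))] .nil .nil))) .nil) (.node [] (.node
    [] (.node [(16,1)] .nil (.node [(82,1)] .nil .nil)) (.node [(28,1)] .nil .nil)) (.node []
    (.node [(26,(-1))] .nil (.node [(88,(-1))] .nil .nil)) .nil)))))

/-- table -/
noncomputable def auxE7Chain32 : Tr (List (ℕ × ℤ)) :=
    (.node [] (.node [(0,(-1))] (.node [] (.node [] (.node [] (.node [] .nil (.node [(74,(-1))]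
    .nil .nil)) .nil) (.node [] (.node [(23,1)] .nil (.node [(87,(-1))] .nil .nil)) .nil)) (.node
    [] (.node [] (.node [(19,1)] .nil (.node [(83,(-1))] .nil .nil)) (.node [(30,1)] .nil .nil))
    (.node [] (.node [] .nil (.node [(91,(-1))] .nil .nil)) .nil))) (.node [] (.node [] (.node []
    (.node [(17,1)] .nil (.node [(76,(-1))] .nil .nil)) (.node [(28,1)] .nil .nil)) (.node []
    (.node [(25,1)] .nil (.node [(89,(-1))] .nil .nil)) .nil)) (.node [] (.node [] (.node [(21,1)]
    .nil (.node [(85,(-1))] .nil .nil)) .nil) (.node [] .nil (.node [] .nil (.node [(124,1)] .nil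
    .nil)))))) (.node [] (.node [] (.node [] (.node [] (.node [] .nil (.node [(75,(-1))] .nil
    .nil)) (.node [(27,1)] .nil .nil)) (.node [] (.node [(24,1)] .nil (.node [(88,(-1))] .nil
    .nil)) .nil)) (.node [] (.node [] (.node [(20,1)] .nil (.node [(84,(-1))] .nil .nil)) (.node
    [(31,1)] .nil .nil)) (.node [] (.node [] .nil (.node [(92,(-1))] .nil .nil)) .nil))) (.node []
    (.node [] (.node [] (.node [(18,1)] .nil (.node [(77,(-1))] .nil .nil)) (.node [(29,1)] .nil
    .nil)) (.node [] (.node [(26,1)] .nil (.node [(90,(-1))] .nil .nil)) .nil)) (.node [] (.node []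
    (.node [(22,1)] .nil (.node [(86,(-1))] .nil .nil)) .nil) (.node [] .nil (.node [] (.node
    [(73,(-1))] .nil .nil) .nil))))))

/-- table -/
noncomputable def auxE7Chain33 : Tr (List (ℕ × ℤ)) :=
    (.node [] (.node [] (.node [] (.node [] (.node [] (.node [(11,(-1))] .nil .nil) .nil) (.node []
    (.node [] (.node [(39,1)] .nil .nil) .nil) .nil)) (.node [] (.node [] (.node [] (.node [(36,1)]
    .nil .nil) .nil) .nil) (.node [] .nil (.node [] (.node [(61,(-1))] .nil .nil) (.node [(103,1)]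
    .nil .nil))))) (.node [] (.node [] (.node [] (.node [] (.node [(35,(-1))] .nil .nil) .nil)
    (.node [] (.node [(48,1)] .nil .nil) .nil)) (.node [(3,(-1))] .nil (.node [] (.node [(58,(-1))]
    .nil .nil) (.node [(99,1)] .nil .nil)))) (.node [] (.node [] .nil (.node [] (.node [(53,1)]
    .nil .nil) (.node [(95,1)] .nil .nil))) (.node [(7,(-1))] (.node [] (.node [(44,(-1))] .nil
    .nil) .nil) .nil)))) (.node [] (.node [] (.node [] (.node [(1,(-1))] (.node [(17,(-1))] (.node
    [(34,1)] .nil .nil) .nil) .nil) (.node [] (.node [] (.node [(40,(-1))] .nil .nil) .nil) (.node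
    [] (.node [(57,1)] .nil .nil) .nil))) (.node [] (.node [] (.node [] (.node [(37,(-1))] .nil
    .nil) .nil) .nil) (.node [] (.node [] (.node [(43,1)] .nil .nil) (.node [(93,1)] .nil .nil))
    (.node [] .nil (.node [(109,1)] .nil .nil))))) (.node [] (.node [] (.node [] .nil (.node []
    (.node [(49,(-1))] .nil .nil) (.node [(94,1)] .nil .nil))) (.node [(4,(-1))] .nil (.node []
    (.node [(60,1)] .nil .nil) (.node [(100,1)] .nil .nil)))) (.node [] (.node [(2,(-1))] .nil
    (.node [] (.node [(54,(-1))] .nil .nil) (.node [(96,1)] .nil .nil))) (.node [(8,(-1))] .nil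
    .nil)))))

/-- table -/
noncomputable def auxE7Chain34 : Tr (List (ℕ × ℤ)) :=
    (.node [] (.node [] (.node [] (.node [] (.node [(1,1)] (.node [(12,(-1))] (.node [(35,1)] .nil
    .nil) .nil) .nil) (.node [] .nil (.node [] (.node [(57,1)] .nil .nil) .nil))) (.node [] .nil
    (.node [] (.node [] (.node [(43,1)] .nil .nil) (.node [(93,1)] .nil .nil)) (.node [] .nil
    (.node [(104,(-1))] .nil .nil))))) (.node [] (.node [] (.node [] .nil (.node [] .nil (.node
    [(94,1)] .nil .nil))) (.node [] .nil (.node [] (.node [(59,(-1))] .nil .nil) .nil))) (.node []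
    (.node [(2,1)] .nil .nil) (.node [] (.node [] (.node [(45,(-1))] .nil .nil) .nil) (.node
    [(33,1)] .nil .nil))))) (.node [] (.node [] (.node [] (.node [] (.node [(18,(-1))] .nil .nil)
    (.node [] (.node [(48,1)] .nil .nil) .nil)) (.node [(3,1)] (.node [] (.node [(41,(-1))] .nil
    .nil) .nil) (.node [] .nil (.node [(99,1)] .nil .nil)))) (.node [] (.node [] (.node [] (.node
    [(38,(-1))] .nil .nil) .nil) (.node [] (.node [(53,1)] .nil .nil) (.node [(95,1)] .nil .nil)))
    (.node [(7,1)] .nil (.node [] (.node [(64,(-1))] .nil .nil) (.node [(110,(-1))] .nil .nil)))))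
    (.node [] (.node [] (.node [] (.node [] (.node [(36,1)] .nil .nil) .nil) (.node [] (.node
    [(50,(-1))] .nil .nil) .nil)) (.node [(5,(-1))] .nil (.node [] (.node [(62,(-1))] .nil .nil)
    (.node [(101,(-1))] .nil .nil)))) (.node [] (.node [] (.node [] (.node [(39,1)] .nil .nil)
    .nil) (.node [] (.node [(55,(-1))] .nil .nil) (.node [(97,(-1))] .nil .nil))) (.node [(9,(-1))]
    .nil .nil)))))

/-- table -/
noncomputable def auxE7Chain35 : Tr (List (ℕ × ℤ)) :=
    (.node [] (.node [] (.node [] (.node [] (.node [] (.node [(13,(-1))] .nil .nil) .nil) (.node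
    [(3,(-1))] (.node [] (.node [(41,(-1))] .nil .nil) .nil) (.node [] (.node [(58,1)] .nil .nil)
    (.node [(99,1)] .nil .nil)))) (.node [] (.node [] (.node [] (.node [(38,(-1))] .nil .nil) .nil)
    (.node [] .nil (.node [(95,1)] .nil .nil))) (.node [(7,(-1))] (.node [] (.node [(44,1)] .nil
    .nil) .nil) (.node [] (.node [(63,(-1))] .nil .nil) (.node [(105,1)] .nil .nil))))) (.node []
    (.node [] (.node [] .nil (.node [] (.node [(50,(-1))] .nil .nil) .nil)) .nil) (.node [] (.node
    [] .nil (.node [] (.node [(55,(-1))] .nil .nil) .nil)) .nil))) (.node [] (.node [] (.node []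
    (.node [] (.node [(19,(-1))] .nil .nil) (.node [] (.node [(49,1)] .nil .nil) (.node [(94,1)]
    .nil .nil))) (.node [] .nil (.node [] (.node [(59,(-1))] .nil .nil) .nil))) (.node [] (.node
    [(2,(-1))] .nil (.node [] (.node [(54,1)] .nil .nil) .nil)) (.node [] (.node [] (.node
    [(45,(-1))] .nil .nil) .nil) (.node [(33,(-1))] (.node [(65,1)] .nil .nil) (.node [(111,1)]
    .nil .nil))))) (.node [] (.node [] (.node [] (.node [] (.node [(37,1)] .nil .nil) .nil) .nil)
    (.node [(6,(-1))] (.node [] .nil (.node [(93,1)] .nil .nil)) (.node [] .nil (.node [(102,1)]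
    .nil .nil)))) (.node [(1,(-1))] (.node [] (.node [] (.node [(40,1)] .nil .nil) .nil) (.node []
    .nil (.node [(98,1)] .nil .nil))) (.node [(10,(-1))] .nil (.node [(34,1)] .nil .nil))))))

/-- table -/
noncomputable def auxE7Chain36 : Tr (List (ℕ × ℤ)) :=
    (.node [] (.node [] (.node [] (.node [] (.node [] (.node [(14,(-1))] (.node [(37,1)] .nil .nil)
    .nil) (.node [] (.node [(48,1)] .nil .nil) (.node [(94,1)] .nil .nil))) (.node [] .nil (.node
    [] (.node [(60,(-1))] .nil .nil) .nil))) (.node [] (.node [(2,(-1))] .nil (.node [] (.node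
    [(53,1)] .nil .nil) .nil)) (.node [] .nil (.node [(34,1)] (.node [(66,(-1))] .nil .nil) (.node
    [(106,1)] .nil .nil))))) (.node [] (.node [] (.node [] (.node [] (.node [(38,1)] .nil .nil)
    .nil) .nil) (.node [(5,1)] (.node [] .nil (.node [(93,1)] .nil .nil)) (.node [] .nil (.node
    [(101,(-1))] .nil .nil)))) (.node [(1,(-1))] (.node [] (.node [] (.node [(39,1)] .nil .nil)
    .nil) (.node [] .nil (.node [(97,(-1))] .nil .nil))) (.node [(9,1)] (.node [] (.node
    [(46,(-1))] .nil .nil) .nil) .nil)))) (.node [] (.node [] (.node [] (.node [] (.node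
    [(20,(-1))] .nil .nil) .nil) (.node [(4,1)] (.node [] (.node [(42,(-1))] .nil .nil) .nil)
    (.node [] (.node [(62,(-1))] .nil .nil) (.node [(100,(-1))] .nil .nil)))) (.node [] (.node []
    .nil (.node [] .nil (.node [(96,(-1))] .nil .nil))) (.node [(8,1)] .nil (.node [] (.node
    [(67,(-1))] .nil .nil) (.node [(112,1)] .nil .nil))))) (.node [] (.node [] (.node [] .nil
    (.node [] (.node [(51,(-1))] .nil .nil) .nil)) (.node [] (.node [] (.node [(43,1)] .nil .nil)
    .nil) (.node [(33,1)] .nil .nil))) (.node [] (.node [] .nil (.node [] (.node [(56,(-1))] .nil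
    .nil) .nil)) .nil))))

/-- table -/
noncomputable def auxE7Chain37 : Tr (List (ℕ × ℤ)) :=
    (.node [] (.node [] (.node [] (.node [] (.node [] (.node [(15,(-1))] .nil .nil) (.node []
    (.node [(49,1)] .nil .nil) .nil)) (.node [(4,(-1))] (.node [] (.node [(42,(-1))] .nil .nil)
    .nil) (.node [] (.node [(61,(-1))] .nil .nil) (.node [(100,(-1))] .nil .nil)))) (.node []
    (.node [] .nil (.node [] (.node [(54,1)] .nil .nil) (.node [(96,(-1))] .nil .nil))) (.node
    [(8,(-1))] .nil (.node [(35,1)] .nil (.node [(107,(-1))] .nil .nil))))) (.node [] (.node []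
    (.node [] .nil (.node [] (.node [(51,(-1))] .nil .nil) .nil)) (.node [(6,1)] .nil (.node
    [(33,(-1))] (.node [(63,(-1))] .nil .nil) (.node [(102,1)] .nil .nil)))) (.node [] (.node []
    (.node [] (.node [(40,1)] .nil .nil) .nil) (.node [] (.node [(56,(-1))] .nil .nil) (.node
    [(98,1)] .nil .nil))) (.node [(10,1)] .nil .nil)))) (.node [] (.node [] (.node [] (.node []
    (.node [(21,(-1))] (.node [(38,1)] .nil .nil) .nil) .nil) (.node [] (.node [] .nil (.node
    [(93,1)] .nil .nil)) .nil)) (.node [(1,1)] .nil (.node [] (.node [] (.node [(46,(-1))] .nil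
    .nil) .nil) (.node [] (.node [(68,1)] .nil .nil) (.node [(113,(-1))] .nil .nil))))) (.node []
    (.node [] (.node [(2,1)] .nil .nil) (.node [] (.node [] (.node [(44,1)] .nil .nil) .nil) (.node
    [] (.node [(66,(-1))] .nil .nil) .nil))) (.node [] .nil (.node [] (.node [] .nil (.node
    [(94,1)] .nil .nil)) (.node [(36,1)] .nil .nil))))))

/-- table -/
noncomputable def auxE7Chain38 : Tr (List (ℕ × ℤ)) :=
    (.node [] (.node [] (.node [] (.node [] (.node [] (.node [(16,(-1))] .nil .nil) (.node []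
    (.node [(50,1)] .nil .nil) .nil)) (.node [(5,(-1))] (.node [] .nil (.node [(93,1)] .nil .nil))
    (.node [] .nil (.node [(101,1)] .nil .nil)))) (.node [(1,(-1))] (.node [] .nil (.node [] (.node
    [(55,1)] .nil .nil) (.node [(97,1)] .nil .nil))) (.node [(9,(-1))] (.node [] (.node [(46,(-1))]
    .nil .nil) .nil) (.node [] (.node [(68,1)] .nil .nil) (.node [(108,1)] .nil .nil))))) (.node []
    (.node [] (.node [(2,(-1))] .nil .nil) (.node [] .nil (.node [(34,(-1))] (.node [(65,(-1))]
    .nil .nil) .nil))) (.node [] (.node [] (.node [] (.node [(41,1)] .nil .nil) .nil) .nil) (.node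
    [] (.node [] .nil (.node [(94,1)] .nil .nil)) (.node [(37,1)] .nil .nil))))) (.node [] (.node
    [] (.node [] (.node [] (.node [(22,(-1))] .nil .nil) (.node [] (.node [(51,(-1))] .nil .nil)
    .nil)) (.node [(6,(-1))] .nil (.node [] (.node [(64,(-1))] .nil .nil) (.node [(102,1)] .nil
    .nil)))) (.node [] (.node [] .nil (.node [] (.node [(56,(-1))] .nil .nil) (.node [(98,1)] .nil
    .nil))) (.node [(10,(-1))] .nil (.node [(36,1)] .nil (.node [(114,1)] .nil .nil))))) (.node []
    (.node [] .nil (.node [] (.node [] (.node [(45,1)] .nil .nil) .nil) (.node [(35,(-1))] (.node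
    [(67,1)] .nil .nil) .nil))) (.node [] (.node [] (.node [] (.node [(42,(-1))] .nil .nil) .nil)
    .nil) .nil))))

/-- table -/
noncomputable def auxE7Chain39 : Tr (List (ℕ × ℤ)) :=
    (.node [] (.node [] (.node [] (.node [] (.node [] (.node [] (.node [(40,1)] .nil .nil) .nil)
    (.node [] .nil (.node [(95,(-1))] .nil .nil))) (.node [] .nil (.node [(34,1)] .nil .nil)))
    (.node [] (.node [(3,(-1))] .nil (.node [] (.node [(57,(-1))] .nil .nil) .nil)) (.node [] .nil
    (.node [] (.node [(70,(-1))] .nil .nil) .nil)))) (.node [] (.node [] (.node [] (.node [] (.node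
    [(41,1)] .nil .nil) .nil) (.node [] .nil (.node [(96,(-1))] .nil .nil))) (.node [] (.node []
    (.node [(43,1)] .nil .nil) .nil) (.node [] (.node [(69,(-1))] .nil .nil) (.node [(104,1)] .nil
    .nil)))) (.node [] (.node [(4,(-1))] .nil (.node [] (.node [(62,(-1))] .nil .nil) .nil)) (.node
    [(12,1)] (.node [] (.node [(47,(-1))] .nil .nil) .nil) .nil)))) (.node [] (.node [] (.node []
    (.node [] (.node [(23,(-1))] .nil .nil) .nil) (.node [] .nil (.node [(36,1)] .nil (.node
    [(103,1)] .nil .nil)))) (.node [] (.node [] (.node [] (.node [(42,1)] .nil .nil) .nil) (.node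
    [] (.node [(60,(-1))] .nil .nil) .nil)) (.node [(11,1)] .nil (.node [] (.node [(71,(-1))] .nil
    .nil) (.node [(115,(-1))] .nil .nil))))) (.node [] (.node [(1,1)] (.node [] .nil (.node []
    (.node [(52,(-1))] .nil .nil) (.node [(97,(-1))] .nil .nil))) (.node [] .nil (.node [] .nil
    (.node [(106,1)] .nil .nil)))) (.node [] (.node [(5,(-1))] (.node [] .nil (.node [(93,1)] .nil
    .nil)) (.node [(33,1)] .nil .nil)) (.node [(14,1)] (.node [] (.node [(48,1)] .nil .nil) .nil)
    .nil)))))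

/-- table -/
noncomputable def auxE7Chain40 : Tr (List (ℕ × ℤ)) :=
    (.node [] (.node [] (.node [] (.node [] .nil (.node [] .nil (.node [(35,1)] .nil (.node
    [(103,1)] .nil .nil)))) (.node [] (.node [] (.node [] (.node [(42,1)] .nil .nil) .nil) (.node
    [] (.node [(58,(-1))] .nil .nil) .nil)) (.node [(11,(-1))] .nil .nil))) (.node [] (.node
    [(1,(-1))] (.node [] .nil (.node [] (.node [(52,(-1))] .nil .nil) .nil)) (.node [] (.node []
    (.node [(44,1)] .nil .nil) .nil) (.node [] .nil (.node [(105,(-1))] .nil .nil)))) (.node []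
    (.node [] (.node [] .nil (.node [(93,1)] .nil .nil)) (.node [(33,(-1))] .nil .nil)) (.node
    [(13,1)] .nil .nil)))) (.node [] (.node [] (.node [] (.node [] (.node [(24,(-1))] (.node
    [(41,1)] .nil .nil) .nil) (.node [] .nil (.node [(96,(-1))] .nil .nil))) (.node [] .nil (.node
    [(37,1)] (.node [(69,(-1))] .nil .nil) .nil))) (.node [] (.node [(4,1)] .nil (.node [] (.node
    [(61,(-1))] .nil .nil) .nil)) (.node [] (.node [] (.node [(47,(-1))] .nil .nil) .nil) (.node []
    (.node [(72,1)] .nil .nil) (.node [(116,1)] .nil .nil))))) (.node [] (.node [] (.node [(3,1)]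
    .nil (.node [] .nil (.node [(98,1)] .nil .nil))) (.node [] .nil (.node [] (.node [(70,(-1))]
    .nil .nil) (.node [(107,(-1))] .nil .nil)))) (.node [] (.node [(6,(-1))] .nil (.node [] (.node
    [(63,(-1))] .nil .nil) .nil)) (.node [(15,1)] (.node [] (.node [(49,1)] .nil .nil) (.node
    [(95,(-1))] .nil .nil)) (.node [(39,1)] .nil .nil))))))

/-- table -/
noncomputable def auxE7Chain41 : Tr (List (ℕ × ℤ)) :=
    (.node [] (.node [] (.node [] (.node [] .nil (.node [] .nil (.node [] (.node [(69,(-1))] .nil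
    .nil) (.node [(104,(-1))] .nil .nil)))) (.node [] (.node [] .nil (.node [] (.node [(59,(-1))]
    .nil .nil) .nil)) (.node [(12,(-1))] (.node [] (.node [(47,(-1))] .nil .nil) .nil) (.node []
    (.node [(72,1)] .nil .nil) .nil)))) (.node [] (.node [] (.node [(3,(-1))] .nil (.node [] .nil
    (.node [(98,1)] .nil .nil))) (.node [] (.node [] (.node [(45,1)] .nil .nil) .nil) .nil)) (.node
    [] (.node [(6,1)] .nil (.node [(34,(-1))] (.node [(64,(-1))] .nil .nil) .nil)) (.node [] (.node
    [] .nil (.node [(95,(-1))] .nil .nil)) (.node [(40,1)] .nil .nil))))) (.node [] (.node []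
    (.node [(1,1)] (.node [] (.node [(25,(-1))] .nil .nil) (.node [] (.node [(52,(-1))] .nil .nil)
    (.node [(97,1)] .nil .nil))) (.node [] .nil (.node [(38,1)] .nil (.node [(105,(-1))] .nil
    .nil)))) (.node [] (.node [(5,1)] (.node [] .nil (.node [(93,1)] .nil .nil)) .nil) (.node
    [(13,(-1))] .nil (.node [(39,1)] .nil (.node [(117,(-1))] .nil .nil))))) (.node [] (.node []
    (.node [] (.node [] (.node [(42,1)] .nil .nil) .nil) .nil) (.node [] .nil (.node [] (.node
    [(71,1)] .nil .nil) (.node [(108,1)] .nil .nil)))) (.node [] (.node [] .nil (.node [(35,(-1))]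
    (.node [(65,(-1))] .nil .nil) .nil)) (.node [(16,1)] (.node [] (.node [(50,1)] .nil .nil) .nil)
    .nil)))))

/-- table -/
noncomputable def auxE7Chain42 : Tr (List (ℕ × ℤ)) :=
    (.node [] (.node [] (.node [] (.node [(1,(-1))] (.node [] .nil (.node [] (.node [(52,(-1))]
    .nil .nil) (.node [(98,1)] .nil .nil))) (.node [] .nil (.node [(38,(-1))] (.node [(70,1)] .nil
    .nil) (.node [(106,1)] .nil .nil)))) (.node [] (.node [(6,(-1))] (.node [] .nil (.node [(93,1)]
    .nil .nil)) .nil) (.node [(14,(-1))] .nil (.node [(41,1)] .nil .nil)))) (.node [] (.node []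
    (.node [(4,(-1))] .nil .nil) (.node [] (.node [] (.node [(46,1)] .nil .nil) .nil) (.node
    [(39,1)] (.node [(72,1)] .nil .nil) (.node [(108,1)] .nil .nil)))) (.node [] (.node [] .nil
    (.node [(36,(-1))] (.node [(67,(-1))] .nil .nil) .nil)) (.node [(16,(-1))] (.node [] .nil
    (.node [(96,1)] .nil .nil)) .nil)))) (.node [] (.node [] (.node [] (.node [] (.node [(26,(-1))]
    .nil .nil) .nil) (.node [] .nil (.node [] (.node [(71,1)] .nil .nil) (.node [(107,1)] .nil
    .nil)))) (.node [] (.node [] .nil (.node [] (.node [(66,(-1))] .nil .nil) .nil)) (.node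
    [(15,(-1))] .nil (.node [] .nil (.node [(118,1)] .nil .nil))))) (.node [] (.node [] (.node
    [(5,(-1))] .nil .nil) (.node [] (.node [] (.node [(47,(-1))] .nil .nil) .nil) (.node [(40,1)]
    .nil .nil))) (.node [] (.node [] .nil (.node [(37,(-1))] (.node [(68,(-1))] .nil .nil) .nil))
    (.node [] (.node [] (.node [(51,1)] .nil .nil) (.node [(97,1)] .nil .nil)) .nil)))))

/-- table -/
noncomputable def auxE7Chain43 : Tr (List (ℕ × ℤ)) :=
    (.node [] (.node [] (.node [] (.node [] (.node [(4,1)] (.node [(23,1)] (.node [(44,1)] .nil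
    .nil) .nil) (.node [] (.node [(57,(-1))] .nil .nil) .nil)) .nil) (.node [] (.node [] .nil
    (.node [(36,1)] .nil .nil)) (.node [] (.node [] .nil (.node [(96,(-1))] .nil .nil)) (.node []
    (.node [(75,(-1))] .nil .nil) (.node [(115,(-1))] .nil .nil))))) (.node [] (.node [] (.node []
    (.node [] (.node [(45,1)] .nil .nil) .nil) (.node [(33,1)] (.node [(62,(-1))] .nil .nil) .nil))
    (.node [] (.node [] .nil (.node [(95,(-1))] .nil .nil)) (.node [] (.node [(74,(-1))] .nil .nil)
    (.node [(110,(-1))] .nil .nil)))) (.node [(3,1)] .nil (.node [(18,1)] .nil .nil)))) (.node []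
    (.node [] (.node [] (.node [(5,1)] .nil (.node [] (.node [(60,(-1))] .nil .nil) .nil)) (.node
    [] (.node [] (.node [(47,1)] .nil .nil) .nil) (.node [] .nil (.node [(109,(-1))] .nil .nil))))
    (.node [] (.node [] (.node [] (.node [(46,1)] .nil .nil) .nil) (.node [(39,1)] .nil .nil))
    (.node [(17,1)] (.node [] .nil (.node [(97,(-1))] .nil .nil)) (.node [] (.node [(76,(-1))] .nil
    .nil) .nil)))) (.node [] (.node [(2,1)] (.node [] .nil (.node [(34,1)] .nil .nil)) (.node []
    .nil (.node [] .nil (.node [(112,(-1))] .nil .nil)))) (.node [] (.node [] (.node [] .nil (.node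
    [(94,(-1))] .nil .nil)) (.node [] (.node [(73,(-1))] .nil .nil) .nil)) (.node [(20,1)] (.node
    [] (.node [(53,(-1))] .nil .nil) .nil) .nil)))))

/-- table -/
noncomputable def auxE7Chain44 : Tr (List (ℕ × ℤ)) :=
    (.node [] (.node [] (.node [] (.node [] (.node [] (.node [(24,1)] .nil .nil) (.node [] (.node
    [(58,(-1))] .nil .nil) .nil)) (.node [] (.node [] (.node [(47,1)] .nil .nil) .nil) (.node []
    .nil (.node [(109,(-1))] .nil .nil)))) (.node [] (.node [] (.node [] (.node [(46,1)] .nil .nil)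
    .nil) (.node [(37,1)] .nil .nil)) (.node [(17,(-1))] .nil (.node [] .nil (.node [(116,1)] .nil
    .nil))))) (.node [] (.node [(2,(-1))] .nil (.node [] .nil (.node [] .nil (.node [(111,1)] .nil
    .nil)))) (.node [] (.node [] (.node [] .nil (.node [(94,(-1))] .nil .nil)) (.node [] (.node
    [(73,(-1))] .nil .nil) .nil)) (.node [(19,1)] .nil .nil)))) (.node [] (.node [] (.node []
    (.node [(6,1)] (.node [] (.node [(45,1)] .nil .nil) .nil) (.node [(33,(-1))] (.node [(61,(-1))]
    .nil .nil) .nil)) (.node [] (.node [] .nil (.node [(95,(-1))] .nil .nil)) (.node [] (.node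
    [(74,(-1))] .nil .nil) .nil))) (.node [(3,(-1))] (.node [] .nil (.node [(40,1)] .nil .nil))
    (.node [] (.node [] .nil (.node [(98,1)] .nil .nil)) (.node [] (.node [(77,1)] .nil .nil)
    .nil)))) (.node [] (.node [] (.node [] .nil (.node [(35,1)] (.node [(63,(-1))] .nil .nil)
    .nil)) (.node [] (.node [] .nil (.node [(96,(-1))] .nil .nil)) (.node [] (.node [(75,(-1))]
    .nil .nil) (.node [(113,1)] .nil .nil)))) (.node [(4,(-1))] .nil (.node [(21,1)] (.node []
    (.node [(54,(-1))] .nil .nil) .nil) (.node [(43,1)] .nil .nil))))))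

/-- table -/
noncomputable def auxE7Chain45 : Tr (List (ℕ × ℤ)) :=
    (.node [] (.node [] (.node [] (.node [] (.node [(6,(-1))] (.node [(25,1)] .nil .nil) (.node []
    (.node [(59,(-1))] .nil .nil) .nil)) (.node [] (.node [] .nil (.node [(95,(-1))] .nil .nil))
    (.node [] (.node [(74,(-1))] .nil .nil) (.node [(110,1)] .nil .nil)))) (.node [(3,1)] (.node []
    .nil (.node [(38,1)] .nil .nil)) (.node [(18,(-1))] (.node [] .nil (.node [(98,1)] .nil .nil))
    (.node [] (.node [(77,1)] .nil .nil) (.node [(117,(-1))] .nil .nil))))) (.node [] (.node []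
    (.node [] .nil (.node [(35,(-1))] (.node [(64,(-1))] .nil .nil) .nil)) .nil) (.node [] .nil
    (.node [] .nil (.node [(44,1)] .nil .nil))))) (.node [] (.node [] (.node [(2,1)] (.node [] .nil
    (.node [(34,(-1))] .nil .nil)) (.node [] .nil (.node [] .nil (.node [(111,1)] .nil .nil))))
    (.node [] (.node [] (.node [] .nil (.node [(94,(-1))] .nil .nil)) (.node [(41,1)] (.node
    [(73,(-1))] .nil .nil) .nil)) (.node [(19,(-1))] .nil (.node [(43,1)] .nil .nil)))) (.node []
    (.node [] (.node [] (.node [] (.node [(46,1)] .nil .nil) .nil) (.node [] (.node [(65,(-1))]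
    .nil .nil) .nil)) (.node [] (.node [] .nil (.node [(97,1)] .nil .nil)) (.node [] (.node
    [(76,1)] .nil .nil) (.node [(114,(-1))] .nil .nil)))) (.node [(5,(-1))] (.node [] (.node []
    (.node [(47,1)] .nil .nil) .nil) .nil) (.node [(22,1)] (.node [] (.node [(55,(-1))] .nil .nil)
    .nil) .nil)))))

/-- table -/
noncomputable def auxE7Chain46 : Tr (List (ℕ × ℤ)) :=
    (.node [] (.node [] (.node [] (.node [(2,(-1))] (.node [] (.node [(26,1)] .nil .nil) .nil)
    (.node [] (.node [] .nil (.node [(96,1)] .nil .nil)) (.node [] (.node [(75,1)] .nil .nil)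
    (.node [(112,(-1))] .nil .nil)))) (.node [(4,1)] (.node [] (.node [] .nil (.node [(94,(-1))]
    .nil .nil)) (.node [] (.node [(73,(-1))] .nil .nil) .nil)) (.node [(20,(-1))] .nil (.node
    [(45,1)] .nil (.node [(118,1)] .nil .nil))))) (.node [] (.node [] (.node [] .nil (.node
    [(37,(-1))] (.node [(67,(-1))] .nil .nil) .nil)) (.node [] (.node [] .nil (.node [(98,1)] .nil
    .nil)) (.node [(43,1)] (.node [(77,1)] .nil .nil) (.node [(114,(-1))] .nil .nil)))) (.node
    [(6,1)] (.node [] (.node [] (.node [(47,1)] .nil .nil) .nil) .nil) (.node [(22,(-1))] .nil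
    .nil)))) (.node [] (.node [] (.node [] (.node [] .nil (.node [(36,(-1))] (.node [(66,(-1))]
    .nil .nil) .nil)) (.node [] (.node [] .nil (.node [(97,1)] .nil .nil)) (.node [] (.node
    [(76,1)] .nil .nil) (.node [(113,(-1))] .nil .nil)))) (.node [(5,1)] (.node [] .nil (.node
    [(42,1)] .nil .nil)) (.node [(21,(-1))] .nil .nil))) (.node [] (.node [] (.node [] .nil (.node
    [(38,(-1))] (.node [(68,(-1))] .nil .nil) .nil)) (.node [] .nil (.node [(44,1)] .nil .nil)))
    (.node [] .nil (.node [] (.node [] (.node [(56,(-1))] .nil .nil) .nil) .nil)))))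

/-- table -/
noncomputable def auxE7Chain47 : Tr (List (ℕ × ℤ)) :=
    (.node [] (.node [] (.node [] (.node [(3,(-1))] (.node [] .nil (.node [] (.node [(69,(-1))]
    .nil .nil) .nil)) (.node [] .nil (.node [(45,1)] .nil (.node [(115,1)] .nil .nil)))) (.node []
    (.node [] (.node [] .nil (.node [(95,1)] .nil .nil)) (.node [(42,(-1))] (.node [(74,1)] .nil
    .nil) .nil)) (.node [(23,(-1))] .nil .nil))) (.node [] (.node [(5,(-1))] (.node [] .nil (.node
    [(40,(-1))] (.node [(71,(-1))] .nil .nil) .nil)) (.node [] .nil (.node [] .nil (.node [(117,1)]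
    .nil .nil)))) (.node [] (.node [] (.node [] .nil (.node [(97,1)] .nil .nil)) (.node [(43,1)]
    (.node [(76,1)] .nil .nil) .nil)) (.node [(25,(-1))] .nil .nil)))) (.node [] (.node [] (.node
    [(4,(-1))] (.node [] .nil (.node [(39,(-1))] (.node [(70,(-1))] .nil .nil) .nil)) (.node []
    .nil (.node [(46,1)] .nil (.node [(116,1)] .nil .nil)))) (.node [] (.node [] (.node [] .nil
    (.node [(96,1)] .nil .nil)) (.node [] (.node [(75,1)] .nil .nil) .nil)) (.node [(24,(-1))] .nil
    .nil))) (.node [] (.node [(6,(-1))] (.node [] .nil (.node [(41,(-1))] (.node [(72,(-1))] .nil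
    .nil) .nil)) (.node [] .nil (.node [] .nil (.node [(118,1)] .nil .nil)))) (.node [] (.node []
    (.node [] .nil (.node [(98,1)] .nil .nil)) (.node [(44,1)] (.node [(77,1)] .nil .nil) .nil))
    (.node [(26,(-1))] .nil .nil)))))

/-- table -/
noncomputable def auxE7Chain48 : Tr (List (ℕ × ℤ)) :=
    (.node [] (.node [] (.node [] (.node [] (.node [] (.node [] (.node [(49,1)] .nil .nil) .nil)
    (.node [(39,1)] .nil (.node [(99,1)] .nil .nil))) .nil) (.node [] (.node [(7,(-1))] .nil .nil)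
    (.node [] (.node [] (.node [(60,(-1))] .nil .nil) .nil) (.node [] (.node [(80,(-1))] .nil .nil)
    .nil)))) (.node [] (.node [] (.node [] (.node [] (.node [(50,1)] .nil .nil) .nil) (.node []
    .nil (.node [(100,1)] .nil .nil))) (.node [(12,(-1))] (.node [] (.node [(53,(-1))] .nil .nil)
    .nil) (.node [] (.node [(79,(-1))] .nil .nil) .nil))) (.node [] (.node [(8,(-1))] .nil (.node
    [] .nil (.node [(104,1)] .nil .nil))) (.node [] (.node [(34,1)] .nil .nil) .nil)))) (.node []
    (.node [] (.node [] (.node [] (.node [(27,(-1))] .nil .nil) .nil) (.node [(11,(-1))] (.node []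
    (.node [(52,1)] .nil .nil) .nil) .nil)) (.node [] (.node [] (.node [] (.node [(51,1)] .nil
    .nil) .nil) (.node [] .nil (.node [(103,1)] .nil .nil))) (.node [] (.node [(33,1)] (.node
    [(62,(-1))] .nil .nil) .nil) (.node [] (.node [(81,(-1))] .nil .nil) (.node [(119,1)] .nil
    .nil))))) (.node [(1,(-1))] (.node [] (.node [] (.node [] .nil (.node [(93,1)] .nil .nil))
    (.node [] .nil (.node [(101,1)] .nil .nil))) (.node [(14,(-1))] (.node [] (.node [(57,(-1))]
    .nil .nil) .nil) .nil)) (.node [] (.node [(9,(-1))] .nil (.node [] (.node [(78,(-1))] .nil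
    .nil) (.node [(106,1)] .nil .nil))) (.node [] (.node [(36,1)] .nil .nil) .nil)))))

/-- table -/
noncomputable def auxE7Chain49 : Tr (List (ℕ × ℤ)) :=
    (.node [] (.node [] (.node [] (.node [] (.node [] .nil (.node [(40,1)] .nil .nil)) (.node
    [(11,1)] (.node [] (.node [(52,1)] .nil .nil) .nil) .nil)) (.node [] (.node [] (.node [] (.node
    [(51,1)] .nil .nil) .nil) (.node [] .nil (.node [(103,1)] .nil .nil))) (.node [] (.node
    [(33,(-1))] (.node [(61,(-1))] .nil .nil) .nil) .nil))) (.node [(1,1)] (.node [] (.node []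
    (.node [] .nil (.node [(93,1)] .nil .nil)) .nil) (.node [(13,(-1))] (.node [] (.node
    [(54,(-1))] .nil .nil) .nil) .nil)) (.node [] (.node [] .nil (.node [] (.node [(78,(-1))] .nil
    .nil) (.node [(105,(-1))] .nil .nil))) (.node [] (.node [(35,1)] (.node [(63,(-1))] .nil .nil)
    .nil) .nil)))) (.node [] (.node [] (.node [] (.node [] (.node [(28,(-1))] (.node [(50,1)] .nil
    .nil) .nil) (.node [] .nil (.node [(100,1)] .nil .nil))) (.node [] .nil (.node [] (.node
    [(79,(-1))] .nil .nil) .nil))) (.node [] (.node [(8,1)] .nil .nil) (.node [] .nil (.node []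
    (.node [(82,1)] .nil .nil) (.node [(120,(-1))] .nil .nil))))) (.node [] (.node [] (.node
    [(7,1)] .nil (.node [] .nil (.node [(102,(-1))] .nil .nil))) (.node [(15,(-1))] (.node []
    (.node [(58,(-1))] .nil .nil) .nil) (.node [] (.node [(80,(-1))] .nil .nil) .nil))) (.node []
    (.node [(10,(-1))] .nil (.node [] .nil (.node [(107,(-1))] .nil .nil))) (.node [] (.node
    [(37,1)] .nil (.node [(99,1)] .nil .nil)) (.node [(48,1)] .nil .nil))))))

/-- table -/
noncomputable def auxE7Chain50 : Tr (List (ℕ × ℤ)) :=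
    (.node [] (.node [] (.node [] (.node [] (.node [] .nil (.node [(41,1)] .nil .nil)) (.node
    [(12,1)] .nil (.node [] (.node [(79,(-1))] .nil .nil) .nil))) (.node [] (.node [] .nil (.node
    [] .nil (.node [(104,(-1))] .nil .nil))) (.node [] (.node [(34,(-1))] .nil .nil) (.node []
    (.node [(82,1)] .nil .nil) .nil)))) (.node [] (.node [] (.node [(7,(-1))] .nil (.node [] .nil
    (.node [(102,(-1))] .nil .nil))) (.node [] (.node [] (.node [(55,(-1))] .nil .nil) .nil) .nil))
    (.node [] (.node [(10,1)] .nil .nil) (.node [] (.node [] (.node [(65,(-1))] .nil .nil) (.node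
    [(99,1)] .nil .nil)) (.node [(49,1)] .nil .nil))))) (.node [] (.node [(1,(-1))] (.node []
    (.node [] (.node [(29,(-1))] .nil (.node [(93,1)] .nil .nil)) (.node [] .nil (.node
    [(101,(-1))] .nil .nil))) (.node [(13,1)] .nil .nil)) (.node [] (.node [(9,1)] .nil (.node []
    (.node [(78,(-1))] .nil .nil) (.node [(105,(-1))] .nil .nil))) (.node [] (.node [(35,(-1))]
    (.node [(64,(-1))] .nil .nil) .nil) (.node [(48,1)] .nil (.node [(121,1)] .nil .nil))))) (.node
    [] (.node [] (.node [] (.node [] (.node [(51,1)] .nil .nil) .nil) .nil) (.node [(16,(-1))]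
    (.node [] (.node [(59,(-1))] .nil .nil) .nil) (.node [] (.node [(81,1)] .nil .nil) .nil)))
    (.node [] (.node [] (.node [] (.node [(52,1)] .nil .nil) .nil) (.node [] .nil (.node [(108,1)]
    .nil .nil))) (.node [] (.node [(38,1)] .nil .nil) .nil)))))

/-- table -/
noncomputable def auxE7Chain51 : Tr (List (ℕ × ℤ)) :=
    (.node [] (.node [] (.node [(1,1)] (.node [] (.node [] (.node [] .nil (.node [(93,1)] .nil
    .nil)) (.node [(42,1)] .nil (.node [(102,(-1))] .nil .nil))) (.node [(14,1)] .nil (.node []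
    (.node [(80,1)] .nil .nil) .nil))) (.node [] (.node [(10,(-1))] .nil (.node [] (.node
    [(78,(-1))] .nil .nil) (.node [(106,1)] .nil .nil))) (.node [] (.node [(36,(-1))] (.node
    [(66,(-1))] .nil .nil) .nil) (.node [(50,1)] .nil .nil)))) (.node [] (.node [] (.node
    [(8,(-1))] .nil .nil) (.node [(16,1)] (.node [] (.node [(56,(-1))] .nil .nil) .nil) (.node
    [(48,1)] (.node [(82,1)] .nil .nil) .nil))) (.node [] (.node [] (.node [] (.node [(52,1)] .nil
    .nil) .nil) (.node [] .nil (.node [(108,1)] .nil .nil))) (.node [] (.node [(38,(-1))] (.node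
    [(68,(-1))] .nil .nil) (.node [(100,(-1))] .nil .nil)) .nil)))) (.node [] (.node [] (.node []
    (.node [] (.node [(30,(-1))] .nil .nil) .nil) (.node [(15,1)] .nil (.node [] (.node [(81,1)]
    .nil .nil) .nil))) (.node [] (.node [] .nil (.node [] .nil (.node [(107,1)] .nil .nil))) (.node
    [] (.node [(37,(-1))] (.node [(67,(-1))] .nil .nil) .nil) (.node [] .nil (.node [(122,(-1))]
    .nil .nil))))) (.node [] (.node [] (.node [(9,(-1))] .nil .nil) (.node [] .nil (.node [(49,1)]
    .nil .nil))) (.node [] .nil (.node [] (.node [] .nil (.node [(101,(-1))] .nil .nil)) .nil)))))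

/-- table -/
noncomputable def auxE7Chain52 : Tr (List (ℕ × ℤ)) :=
    (.node [] (.node [] (.node [] (.node [] (.node [] .nil (.node [] .nil (.node [(105,1)] .nil
    .nil))) (.node [] .nil (.node [(50,1)] .nil .nil))) (.node [] (.node [(13,(-1))] .nil (.node []
    (.node [(79,1)] .nil .nil) .nil)) (.node [] (.node [(39,(-1))] (.node [(70,(-1))] .nil .nil)
    .nil) .nil))) (.node [] (.node [] (.node [(11,(-1))] .nil (.node [] .nil (.node [(107,1)] .nil
    .nil))) .nil) (.node [] (.node [(15,(-1))] .nil (.node [(48,1)] (.node [(81,1)] .nil .nil)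
    .nil)) (.node [] (.node [(41,(-1))] (.node [(72,(-1))] .nil .nil) (.node [(103,1)] .nil .nil))
    .nil)))) (.node [(1,(-1))] (.node [] (.node [] (.node [] (.node [(31,(-1))] .nil .nil) (.node
    [] .nil (.node [(106,1)] .nil .nil))) (.node [] .nil (.node [(51,1)] .nil .nil))) (.node []
    (.node [(14,(-1))] .nil (.node [] (.node [(80,1)] .nil .nil) .nil)) (.node [] (.node
    [(40,(-1))] (.node [(71,(-1))] .nil .nil) .nil) (.node [] .nil (.node [(123,1)] .nil .nil)))))
    (.node [] (.node [] (.node [(12,(-1))] .nil (.node [] .nil (.node [(108,1)] .nil .nil))) (.node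
    [] (.node [] (.node [(69,(-1))] .nil .nil) .nil) .nil)) (.node [] (.node [(16,(-1))] .nil
    (.node [(49,1)] (.node [(82,1)] .nil .nil) .nil)) (.node [] (.node [(42,(-1))] .nil (.node
    [(104,1)] .nil .nil)) (.node [] (.node [(93,1)] .nil .nil) .nil))))))

/-- table -/
noncomputable def auxE7Chain53 : Tr (List (ℕ × ℤ)) :=
    (.node [] (.node [] (.node [] (.node [] (.node [(8,(-1))] (.node [(27,(-1))] (.node [(54,1)]
    .nil .nil) .nil) (.node [(43,(-1))] .nil .nil)) (.node [] (.node [] (.node [(62,(-1))] .nil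
    .nil) .nil) .nil)) (.node [] .nil (.node [] (.node [] .nil (.node [(100,(-1))] .nil .nil))
    (.node [] (.node [(84,(-1))] .nil .nil) (.node [(119,(-1))] .nil .nil))))) (.node [] (.node []
    (.node [] (.node [] (.node [(55,1)] .nil .nil) .nil) .nil) (.node [(18,1)] (.node [(34,1)] .nil
    (.node [(99,(-1))] .nil .nil)) (.node [] (.node [(83,(-1))] .nil .nil) .nil))) (.node
    [(7,(-1))] (.node [] (.node [] (.node [(57,(-1))] .nil .nil) .nil) (.node [] .nil (.node
    [(110,1)] .nil .nil))) (.node [] (.node [] (.node [(73,1)] .nil .nil) .nil) .nil)))) (.node []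
    (.node [] (.node [] (.node [(9,(-1))] .nil .nil) (.node [(17,1)] (.node [(33,1)] .nil .nil)
    .nil)) (.node [] (.node [] (.node [] (.node [(56,1)] .nil .nil) .nil) (.node [(48,(-1))] .nil
    (.node [(109,1)] .nil .nil))) (.node [] (.node [] .nil (.node [(101,(-1))] .nil .nil)) (.node
    [] (.node [(85,(-1))] .nil .nil) .nil)))) (.node [(2,1)] (.node [] (.node [] (.node [] .nil
    (.node [(94,1)] .nil .nil)) (.node [] (.node [(78,1)] .nil .nil) .nil)) (.node [(20,1)] (.node
    [(36,1)] .nil .nil) .nil)) (.node [] (.node [] (.node [] (.node [(60,(-1))] .nil .nil) .nil)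
    (.node [] .nil (.node [(112,1)] .nil .nil))) .nil))))

/-- table -/
noncomputable def auxE7Chain54 : Tr (List (ℕ × ℤ)) :=
    (.node [] (.node [] (.node [] (.node [] (.node [] (.node [(28,(-1))] .nil .nil) (.node
    [(44,(-1))] .nil .nil)) (.node [(17,(-1))] (.node [(33,(-1))] .nil .nil) .nil)) (.node []
    (.node [] (.node [] (.node [(56,1)] .nil .nil) .nil) (.node [] .nil (.node [(109,1)] .nil
    .nil))) (.node [] .nil (.node [] .nil (.node [(120,1)] .nil .nil))))) (.node [(2,(-1))] (.node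
    [] (.node [] (.node [] .nil (.node [(94,1)] .nil .nil)) (.node [] (.node [(78,1)] .nil .nil)
    .nil)) (.node [(19,1)] (.node [(35,1)] .nil .nil) .nil)) (.node [] (.node [] (.node [] (.node
    [(58,(-1))] .nil .nil) .nil) (.node [] .nil (.node [(111,(-1))] .nil .nil))) .nil))) (.node []
    (.node [] (.node [] (.node [(10,(-1))] (.node [] (.node [(55,1)] .nil .nil) .nil) .nil) (.node
    [] (.node [] (.node [(63,(-1))] .nil .nil) (.node [(99,(-1))] .nil .nil)) (.node [] (.node
    [(83,(-1))] .nil .nil) .nil))) (.node [(7,1)] (.node [] .nil (.node [(49,(-1))] .nil .nil))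
    (.node [] (.node [] (.node [(73,1)] .nil .nil) (.node [(102,1)] .nil .nil)) (.node [] (.node
    [(86,1)] .nil .nil) .nil)))) (.node [] (.node [] .nil (.node [(21,1)] (.node [(37,1)] .nil
    (.node [(100,(-1))] .nil .nil)) (.node [] (.node [(84,(-1))] .nil .nil) .nil))) (.node [(8,1)]
    (.node [] (.node [] (.node [(61,(-1))] .nil .nil) .nil) (.node [] .nil (.node [(113,(-1))] .nil
    .nil))) (.node [] .nil (.node [(53,1)] .nil .nil))))))

/-- table -/
noncomputable def auxE7Chain55 : Tr (List (ℕ × ℤ)) :=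
    (.node [] (.node [] (.node [] (.node [] (.node [(10,1)] (.node [(29,(-1))] .nil .nil) (.node
    [(45,(-1))] .nil .nil)) (.node [(18,(-1))] (.node [(34,(-1))] (.node [(64,(-1))] .nil .nil)
    (.node [(99,(-1))] .nil .nil)) (.node [] (.node [(83,(-1))] .nil .nil) .nil))) (.node
    [(7,(-1))] (.node [] .nil (.node [] .nil (.node [(110,(-1))] .nil .nil))) (.node [] (.node []
    (.node [(73,1)] .nil .nil) (.node [(102,1)] .nil .nil)) (.node [] (.node [(86,1)] .nil .nil)
    (.node [(121,(-1))] .nil .nil))))) (.node [] .nil (.node [] (.node [] (.node [] (.node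
    [(59,(-1))] .nil .nil) .nil) .nil) (.node [] .nil (.node [(54,1)] .nil .nil))))) (.node []
    (.node [(2,1)] (.node [] (.node [] (.node [] .nil (.node [(94,1)] .nil .nil)) (.node [] (.node
    [(78,1)] .nil .nil) .nil)) (.node [(19,(-1))] (.node [(35,(-1))] (.node [(65,(-1))] .nil .nil)
    .nil) .nil)) (.node [] (.node [] .nil (.node [(50,(-1))] .nil (.node [(111,(-1))] .nil .nil)))
    (.node [] .nil (.node [(53,1)] .nil .nil)))) (.node [] (.node [] (.node [] (.node [] (.node
    [(56,1)] .nil .nil) .nil) .nil) (.node [(22,1)] (.node [(38,1)] .nil (.node [(101,1)] .nil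
    .nil)) (.node [] (.node [(85,1)] .nil .nil) .nil))) (.node [(9,1)] (.node [] .nil (.node []
    .nil (.node [(114,1)] .nil .nil))) .nil))))

/-- table -/
noncomputable def auxE7Chain56 : Tr (List (ℕ × ℤ)) :=
    (.node [] (.node [] (.node [(2,(-1))] (.node [] (.node [] (.node [(30,(-1))] .nil (.node
    [(94,1)] .nil .nil)) (.node [(46,(-1))] (.node [(78,1)] .nil .nil) .nil)) (.node [(20,(-1))]
    (.node [(36,(-1))] (.node [(67,(-1))] .nil .nil) (.node [(100,1)] .nil .nil)) (.node [] (.node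
    [(84,1)] .nil .nil) .nil))) (.node [(8,(-1))] (.node [] .nil (.node [] .nil (.node [(112,1)]
    .nil .nil))) (.node [] .nil (.node [(55,1)] .nil (.node [(122,1)] .nil .nil))))) (.node []
    (.node [] .nil (.node [(22,(-1))] (.node [(38,(-1))] .nil (.node [(102,1)] .nil .nil)) (.node
    [(53,1)] (.node [(86,1)] .nil .nil) .nil))) (.node [(10,(-1))] (.node [] .nil (.node [] .nil
    (.node [(114,1)] .nil .nil))) .nil))) (.node [] (.node [] (.node [] .nil (.node [(21,(-1))]
    (.node [(37,(-1))] (.node [(68,(-1))] .nil .nil) (.node [(101,1)] .nil .nil)) (.node [] (.node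
    [(85,1)] .nil .nil) .nil))) (.node [(9,(-1))] (.node [] .nil (.node [(51,(-1))] .nil (.node
    [(113,1)] .nil .nil))) .nil)) (.node [] (.node [] .nil (.node [] (.node [] (.node [(73,1)] .nil
    .nil) .nil) (.node [(54,1)] .nil .nil))) (.node [] (.node [] (.node [] (.node [(66,(-1))] .nil
    .nil) .nil) .nil) .nil))))

/-- table -/
noncomputable def auxE7Chain57 : Tr (List (ℕ × ℤ)) :=
    (.node [] (.node [] (.node [] (.node [] (.node [(11,1)] (.node [] (.node [(58,1)] .nil .nil)
    .nil) .nil) .nil) (.node [] (.node [] (.node [] (.node [(62,(-1))] .nil .nil) .nil) (.node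
    [(48,(-1))] .nil .nil)) (.node [] (.node [] .nil (.node [(103,(-1))] .nil .nil)) (.node []
    (.node [(87,(-1))] .nil .nil) .nil)))) (.node [] (.node [] (.node [] (.node [] (.node [(59,1)]
    .nil .nil) .nil) (.node [] .nil (.node [(109,(-1))] .nil .nil))) .nil) (.node [] (.node
    [(17,1)] (.node [(33,1)] .nil .nil) .nil) (.node [] (.node [] (.node [(74,1)] .nil .nil) .nil)
    .nil)))) (.node [] (.node [] (.node [] (.node [(12,1)] .nil .nil) (.node [] (.node [] (.node
    [(69,1)] .nil .nil) .nil) (.node [(53,(-1))] .nil .nil))) (.node [] .nil (.node [] (.node []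
    .nil (.node [(104,(-1))] .nil .nil)) (.node [] (.node [(88,(-1))] .nil .nil) .nil)))) (.node
    [(3,(-1))] (.node [(7,(-1))] (.node [] (.node [] (.node [(60,(-1))] .nil .nil) (.node [(95,1)]
    .nil .nil)) (.node [] (.node [(79,1)] .nil .nil) (.node [(110,(-1))] .nil .nil))) (.node
    [(23,(-1))] (.node [(39,(-1))] .nil .nil) (.node [] .nil (.node [(119,1)] .nil .nil)))) (.node
    [] (.node [(18,1)] (.node [(34,1)] .nil (.node [(99,1)] .nil .nil)) (.node [] (.node [(83,1)]
    .nil .nil) (.node [(115,1)] .nil .nil))) (.node [(27,(-1))] (.node [(43,(-1))] .nil .nil)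
    .nil)))))

/-- table -/
noncomputable def auxE7Chain58 : Tr (List (ℕ × ℤ)) :=
    (.node [] (.node [] (.node [] (.node [] .nil (.node [] (.node [] (.node [(69,1)] .nil .nil)
    .nil) .nil)) (.node [] (.node [] .nil (.node [(49,(-1))] .nil .nil)) .nil)) (.node [(3,1)]
    (.node [(7,1)] (.node [] (.node [] .nil (.node [(95,1)] .nil .nil)) (.node [] (.node [(79,1)]
    .nil .nil) .nil)) .nil) (.node [] (.node [] (.node [] .nil (.node [(99,1)] .nil .nil)) (.node
    [] (.node [(83,1)] .nil .nil) .nil)) .nil))) (.node [] (.node [] (.node [] (.node [(13,1)]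
    (.node [] (.node [(59,1)] .nil .nil) .nil) (.node [] .nil (.node [(109,(-1))] .nil .nil)))
    (.node [] .nil (.node [(54,(-1))] .nil .nil))) (.node [] (.node [(17,(-1))] (.node [(33,(-1))]
    (.node [(63,(-1))] .nil .nil) .nil) .nil) (.node [] (.node [] (.node [(74,1)] .nil .nil) (.node
    [(105,1)] .nil .nil)) (.node [] (.node [(89,1)] .nil .nil) .nil)))) (.node [] (.node [] (.node
    [] (.node [] (.node [(61,(-1))] .nil .nil) .nil) (.node [] .nil (.node [(111,1)] .nil .nil)))
    (.node [(24,(-1))] (.node [(40,(-1))] .nil (.node [(103,(-1))] .nil .nil)) (.node [] (.node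
    [(87,(-1))] .nil .nil) (.node [(120,(-1))] .nil .nil)))) (.node [(11,(-1))] (.node [(19,1)]
    (.node [(35,1)] .nil .nil) (.node [] .nil (.node [(116,(-1))] .nil .nil))) (.node [(28,(-1))]
    (.node [(44,(-1))] .nil .nil) (.node [(57,1)] .nil .nil))))))

/-- table -/
noncomputable def auxE7Chain59 : Tr (List (ℕ × ℤ)) :=
    (.node [] (.node [] (.node [] (.node [] (.node [(13,(-1))] .nil .nil) .nil) (.node [] (.node []
    (.node [] (.node [(64,(-1))] .nil .nil) .nil) (.node [(50,(-1))] .nil .nil)) (.node [] (.node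
    [] (.node [(74,1)] .nil .nil) (.node [(105,1)] .nil .nil)) (.node [] (.node [(89,1)] .nil .nil)
    .nil)))) (.node [] (.node [] (.node [] .nil (.node [] .nil (.node [(111,1)] .nil .nil))) .nil)
    (.node [] (.node [(19,(-1))] (.node [(35,(-1))] .nil .nil) .nil) (.node [] .nil (.node [(58,1)]
    .nil .nil))))) (.node [] (.node [(3,(-1))] (.node [(7,(-1))] (.node [] (.node [] .nil (.node
    [(95,1)] .nil .nil)) (.node [] (.node [(79,1)] .nil .nil) (.node [(110,1)] .nil .nil))) (.node
    [] .nil (.node [(55,(-1))] .nil .nil))) (.node [] (.node [(18,(-1))] (.node [(34,(-1))] (.node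
    [(65,(-1))] .nil .nil) (.node [(99,1)] .nil .nil)) (.node [] (.node [(83,1)] .nil .nil) .nil))
    (.node [] .nil (.node [(57,1)] .nil .nil)))) (.node [] (.node [] .nil (.node [(25,(-1))] (.node
    [(41,(-1))] .nil (.node [(104,1)] .nil .nil)) (.node [] (.node [(88,1)] .nil .nil) (.node
    [(121,1)] .nil .nil)))) (.node [(12,(-1))] (.node [] (.node [] (.node [(69,1)] .nil .nil) .nil)
    (.node [] .nil (.node [(117,1)] .nil .nil))) (.node [(29,(-1))] (.node [(45,(-1))] .nil .nil)
    .nil)))))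

/-- table -/
noncomputable def auxE7Chain60 : Tr (List (ℕ × ℤ)) :=
    (.node [] (.node [] (.node [] (.node [] (.node [] (.node [] (.node [(61,1)] .nil .nil) .nil)
    (.node [] .nil (.node [(109,1)] .nil .nil))) (.node [] .nil (.node [(53,(-1))] .nil .nil)))
    (.node [] (.node [(17,1)] (.node [(33,1)] .nil .nil) .nil) (.node [] .nil (.node [(57,(-1))]
    .nil .nil)))) (.node [] (.node [] .nil (.node [(23,(-1))] (.node [(39,(-1))] .nil (.node
    [(103,1)] .nil .nil)) (.node [] (.node [(87,1)] .nil .nil) (.node [(119,(-1))] .nil .nil))))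
    (.node [(11,1)] (.node [] .nil (.node [] .nil (.node [(115,(-1))] .nil .nil))) (.node
    [(27,(-1))] (.node [(43,(-1))] (.node [(75,1)] .nil .nil) .nil) .nil)))) (.node [] (.node []
    (.node [] (.node [(14,(-1))] (.node [] (.node [(62,(-1))] .nil .nil) .nil) .nil) (.node []
    (.node [] (.node [(70,1)] .nil .nil) .nil) .nil)) (.node [] (.node [] (.node [] (.node [(66,1)]
    .nil .nil) .nil) .nil) (.node [] (.node [] .nil (.node [(106,(-1))] .nil .nil)) (.node []
    (.node [(90,(-1))] .nil .nil) .nil)))) (.node [(4,1)] (.node [(8,1)] (.node [] (.node [] .nil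
    (.node [(96,1)] .nil .nil)) (.node [(48,(-1))] (.node [(80,1)] .nil .nil) (.node [(112,(-1))]
    .nil .nil))) .nil) (.node [] (.node [(20,(-1))] (.node [(36,(-1))] .nil (.node [(100,1)] .nil
    .nil)) (.node [] (.node [(84,1)] .nil .nil) .nil)) .nil))))

/-- table -/
noncomputable def auxE7Chain61 : Tr (List (ℕ × ℤ)) :=
    (.node [] (.node [] (.node [] (.node [] .nil (.node [] (.node [] (.node [(70,1)] .nil .nil)
    .nil) (.node [(54,(-1))] .nil .nil))) (.node [] (.node [] (.node [] (.node [(66,1)] .nil .nil)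
    .nil) .nil) (.node [] .nil (.node [(58,(-1))] .nil .nil)))) (.node [(4,(-1))] (.node [(8,(-1))]
    (.node [] (.node [] (.node [(63,(-1))] .nil .nil) (.node [(96,1)] .nil .nil)) (.node [] (.node
    [(80,1)] .nil .nil) .nil)) (.node [(24,(-1))] (.node [(40,(-1))] .nil .nil) (.node [] .nil
    (.node [(120,1)] .nil .nil)))) (.node [] (.node [] (.node [] .nil (.node [(100,1)] .nil .nil))
    (.node [] (.node [(84,1)] .nil .nil) (.node [(116,1)] .nil .nil))) (.node [(28,(-1))] (.node
    [(44,(-1))] .nil .nil) .nil)))) (.node [] (.node [] (.node [] (.node [(15,(-1))] .nil .nil)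
    (.node [] (.node [] .nil (.node [(103,1)] .nil .nil)) (.node [] (.node [(87,1)] .nil .nil)
    .nil))) (.node [(11,(-1))] .nil (.node [] (.node [] (.node [(75,1)] .nil .nil) (.node [(107,1)]
    .nil .nil)) (.node [] (.node [(91,1)] .nil .nil) .nil)))) (.node [] (.node [] (.node
    [(17,(-1))] (.node [(33,(-1))] .nil .nil) (.node [(49,(-1))] .nil (.node [(113,1)] .nil .nil)))
    .nil) (.node [] (.node [(21,(-1))] (.node [(37,(-1))] .nil .nil) .nil) (.node [] (.node [] .nil
    (.node [(109,1)] .nil .nil)) (.node [(60,1)] .nil .nil))))))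

/-- table -/
noncomputable def auxE7Chain62 : Tr (List (ℕ × ℤ)) :=
    (.node [] (.node [] (.node [] (.node [] (.node [(14,(-1))] .nil (.node [] .nil (.node [(110,1)]
    .nil .nil))) .nil) (.node [] (.node [(18,(-1))] (.node [(34,(-1))] .nil .nil) .nil) (.node []
    (.node [] .nil (.node [(106,1)] .nil .nil)) (.node [] (.node [(90,1)] .nil .nil) .nil))))
    (.node [] (.node [] (.node [] (.node [] (.node [(64,1)] .nil .nil) .nil) (.node [(48,(-1))]
    .nil (.node [(112,1)] .nil .nil))) (.node [] (.node [] .nil (.node [(104,1)] .nil .nil)) (.node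
    [] (.node [(88,1)] .nil .nil) .nil))) (.node [(12,(-1))] (.node [(20,(-1))] (.node [(36,(-1))]
    .nil .nil) .nil) (.node [] (.node [] (.node [(76,1)] .nil .nil) .nil) (.node [(60,(-1))] .nil
    .nil))))) (.node [] (.node [] (.node [] .nil (.node [(23,(-1))] (.node [(39,(-1))] (.node
    [(71,1)] .nil .nil) .nil) (.node [] .nil (.node [(119,1)] .nil .nil)))) (.node [] (.node []
    (.node [] (.node [(67,1)] .nil .nil) .nil) (.node [] .nil (.node [(115,1)] .nil .nil))) (.node
    [(27,(-1))] (.node [(43,(-1))] .nil .nil) .nil))) (.node [(5,(-1))] (.node [(9,(-1))] (.node []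
    (.node [] .nil (.node [(97,1)] .nil .nil)) (.node [] (.node [(81,1)] .nil .nil) .nil)) (.node
    [] .nil (.node [(57,(-1))] .nil .nil))) (.node [] (.node [] (.node [] .nil (.node [(101,1)]
    .nil .nil)) (.node [(53,(-1))] (.node [(85,1)] .nil .nil) .nil)) .nil))))

/-- table -/
noncomputable def auxE7Chain63 : Tr (List (ℕ × ℤ)) :=
    (.node [] (.node [] (.node [] (.node [] .nil (.node [(24,(-1))] (.node [(40,(-1))] (.node
    [(72,1)] .nil .nil) .nil) (.node [] .nil (.node [(120,1)] .nil .nil)))) (.node [] (.node []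
    (.node [] (.node [(68,1)] .nil .nil) .nil) (.node [] .nil (.node [(116,1)] .nil .nil))) (.node
    [(28,(-1))] (.node [(44,(-1))] .nil .nil) .nil))) (.node [(6,(-1))] (.node [(10,(-1))] (.node
    [] (.node [] .nil (.node [(98,1)] .nil .nil)) (.node [] (.node [(82,1)] .nil .nil) .nil))
    (.node [] .nil (.node [(58,(-1))] .nil .nil))) (.node [] (.node [] (.node [] .nil (.node
    [(102,1)] .nil .nil)) (.node [(54,(-1))] (.node [(86,1)] .nil .nil) .nil)) .nil))) (.node []
    (.node [] (.node [] (.node [] (.node [] (.node [(65,1)] .nil .nil) .nil) (.node [(49,(-1))]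
    .nil (.node [(113,1)] .nil .nil))) (.node [] (.node [] .nil (.node [(105,1)] .nil .nil)) (.node
    [] (.node [(89,1)] .nil .nil) .nil))) (.node [(13,(-1))] (.node [(21,(-1))] (.node [(37,(-1))]
    .nil .nil) .nil) (.node [] (.node [] (.node [(77,1)] .nil .nil) .nil) (.node [(61,(-1))] .nil
    .nil)))) (.node [] (.node [] (.node [(19,(-1))] (.node [(35,(-1))] .nil .nil) .nil) (.node []
    (.node [] .nil (.node [(107,1)] .nil .nil)) (.node [] (.node [(91,1)] .nil .nil) .nil))) (.node
    [(15,(-1))] .nil (.node [] (.node [] .nil (.node [(111,1)] .nil .nil)) .nil)))))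

/-- table -/
noncomputable def auxE7Chain64 : Tr (List (ℕ × ℤ)) :=
    (.node [] (.node [] (.node [] (.node [] (.node [(16,(-1))] (.node [] (.node [(65,(-1))] .nil
    .nil) .nil) .nil) (.node [] (.node [] .nil (.node [(104,1)] .nil .nil)) (.node [] (.node
    [(88,1)] .nil .nil) .nil))) (.node [(12,(-1))] .nil (.node [] (.node [] (.node [(76,1)] .nil
    .nil) (.node [(108,1)] .nil .nil)) (.node [] (.node [(92,1)] .nil .nil) .nil)))) (.node []
    (.node [] (.node [(18,(-1))] (.node [(34,(-1))] .nil .nil) (.node [(50,(-1))] .nil (.node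
    [(114,1)] .nil .nil))) .nil) (.node [] (.node [(22,(-1))] (.node [(38,(-1))] .nil .nil) .nil)
    (.node [] (.node [] .nil (.node [(110,1)] .nil .nil)) .nil)))) (.node [] (.node [(5,(-1))]
    (.node [(9,(-1))] (.node [] (.node [] .nil (.node [(97,1)] .nil .nil)) (.node [] (.node
    [(81,1)] .nil .nil) .nil)) (.node [(25,(-1))] (.node [(41,(-1))] .nil .nil) (.node [] .nil
    (.node [(121,1)] .nil .nil)))) (.node [] (.node [] (.node [] .nil (.node [(101,1)] .nil .nil))
    (.node [] (.node [(85,1)] .nil .nil) (.node [(117,1)] .nil .nil))) (.node [(29,(-1))] (.node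
    [(45,(-1))] .nil .nil) (.node [(62,1)] .nil .nil)))) (.node [] (.node [] (.node [] (.node []
    (.node [(67,1)] .nil .nil) .nil) .nil) (.node [] .nil (.node [(59,(-1))] .nil .nil))) (.node []
    (.node [] (.node [] (.node [(71,1)] .nil .nil) .nil) (.node [(55,(-1))] .nil .nil)) .nil))))

/-- table -/
noncomputable def auxE7Chain65 : Tr (List (ℕ × ℤ)) :=
    (.node [] (.node [] (.node [] (.node [] .nil (.node [(25,(-1))] (.node [(41,(-1))] .nil (.node
    [(105,1)] .nil .nil)) (.node [] (.node [(89,1)] .nil .nil) (.node [(121,(-1))] .nil .nil))))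
    (.node [(13,1)] (.node [] .nil (.node [] .nil (.node [(117,(-1))] .nil .nil))) (.node
    [(29,(-1))] (.node [(45,(-1))] (.node [(77,1)] .nil .nil) .nil) .nil))) (.node [] (.node []
    (.node [(19,1)] (.node [(35,1)] .nil .nil) .nil) (.node [] .nil (.node [(59,(-1))] .nil .nil)))
    (.node [] (.node [] .nil (.node [(55,(-1))] .nil .nil)) (.node [] (.node [] .nil (.node
    [(111,1)] .nil .nil)) (.node [(63,1)] .nil .nil))))) (.node [] (.node [(6,1)] (.node [(10,1)]
    (.node [] (.node [] .nil (.node [(98,1)] .nil .nil)) (.node [(50,(-1))] (.node [(82,1)] .nil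
    .nil) (.node [(114,(-1))] .nil .nil))) .nil) (.node [] (.node [(22,(-1))] (.node [(38,(-1))]
    .nil (.node [(102,1)] .nil .nil)) (.node [] (.node [(86,1)] .nil .nil) .nil)) .nil)) (.node []
    (.node [] (.node [] (.node [] (.node [(68,1)] .nil .nil) .nil) .nil) (.node [] (.node [] .nil
    (.node [(108,(-1))] .nil .nil)) (.node [] (.node [(92,(-1))] .nil .nil) .nil))) (.node
    [(16,(-1))] (.node [] (.node [] (.node [(72,1)] .nil .nil) .nil) .nil) (.node [] .nil (.node
    [(64,(-1))] .nil .nil))))))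

/-- table -/
noncomputable def auxE7Chain66 : Tr (List (ℕ × ℤ)) :=
    (.node [] (.node [] (.node [(4,(-1))] (.node [(8,(-1))] (.node [] (.node [] .nil (.node
    [(96,1)] .nil .nil)) (.node [] (.node [(80,1)] .nil .nil) (.node [(113,1)] .nil .nil))) (.node
    [] .nil (.node [(56,(-1))] .nil .nil))) (.node [] (.node [(21,(-1))] (.node [(37,(-1))] .nil
    (.node [(100,1)] .nil .nil)) (.node [] (.node [(84,1)] .nil .nil) .nil)) .nil)) (.node []
    (.node [] (.node [] (.node [] (.node [(68,(-1))] .nil .nil) .nil) .nil) (.node [(26,(-1))]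
    (.node [(42,(-1))] .nil (.node [(107,1)] .nil .nil)) (.node [(60,1)] (.node [(91,1)] .nil .nil)
    (.node [(122,1)] .nil .nil)))) (.node [(15,(-1))] (.node [] (.node [] (.node [(70,1)] .nil
    .nil) .nil) (.node [] .nil (.node [(118,1)] .nil .nil))) (.node [(30,(-1))] (.node [(46,(-1))]
    .nil .nil) .nil)))) (.node [] (.node [] (.node [] (.node [] (.node [] (.node [(67,(-1))] .nil
    .nil) .nil) .nil) (.node [] (.node [] .nil (.node [(106,1)] .nil .nil)) (.node [] (.node
    [(90,1)] .nil .nil) .nil))) (.node [(14,(-1))] .nil .nil)) (.node [] (.node [] (.node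
    [(20,(-1))] (.node [(36,(-1))] .nil .nil) (.node [(51,(-1))] .nil .nil)) (.node [] (.node []
    (.node [(75,1)] .nil .nil) .nil) (.node [(61,1)] .nil .nil))) (.node [] .nil (.node [] (.node
    [] .nil (.node [(112,1)] .nil .nil)) .nil)))))

/-- table -/
noncomputable def auxE7Chain67 : Tr (List (ℕ × ℤ)) :=
    (.node [] (.node [] (.node [(5,1)] (.node [(9,1)] (.node [] (.node [] (.node [(68,(-1))] .nil
    .nil) (.node [(97,1)] .nil .nil)) (.node [] (.node [(81,1)] .nil .nil) (.node [(114,1)] .nil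
    .nil))) (.node [] (.node [] .nil (.node [(106,(-1))] .nil .nil)) (.node [] (.node [(90,(-1))]
    .nil .nil) .nil))) (.node [(14,(-1))] (.node [(22,1)] (.node [(38,1)] .nil (.node [(101,1)]
    .nil .nil)) (.node [] (.node [(85,1)] .nil .nil) .nil)) (.node [] .nil (.node [(64,1)] .nil
    .nil)))) (.node [] (.node [] (.node [(20,(-1))] (.node [(36,(-1))] .nil .nil) (.node
    [(51,(-1))] .nil .nil)) (.node [] (.node [] .nil (.node [(108,1)] .nil .nil)) (.node [(62,1)]
    (.node [(92,1)] .nil .nil) .nil))) (.node [(16,1)] (.node [] (.node [] (.node [(71,1)] .nil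
    .nil) .nil) .nil) (.node [] (.node [] .nil (.node [(112,(-1))] .nil .nil)) (.node [(66,(-1))]
    .nil .nil))))) (.node [] (.node [] (.node [] .nil (.node [(26,(-1))] (.node [(42,(-1))] .nil
    .nil) (.node [] .nil (.node [(122,(-1))] .nil .nil)))) (.node [] (.node [] .nil (.node [] .nil
    (.node [(118,(-1))] .nil .nil))) (.node [(30,(-1))] (.node [(46,(-1))] .nil .nil) .nil)))
    (.node [] (.node [] .nil (.node [] (.node [] (.node [(76,1)] .nil .nil) .nil) .nil)) (.node []
    (.node [] .nil (.node [(56,(-1))] .nil .nil)) .nil))))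

/-- table -/
noncomputable def auxE7Chain68 : Tr (List (ℕ × ℤ)) :=
    (.node [] (.node [] (.node [(6,(-1))] (.node [(10,(-1))] (.node [] (.node [] .nil (.node
    [(98,1)] .nil .nil)) (.node [] (.node [(82,1)] .nil .nil) .nil)) (.node [(26,(-1))] (.node
    [(42,(-1))] .nil (.node [(107,(-1))] .nil .nil)) (.node [] (.node [(91,(-1))] .nil .nil) (.node
    [(122,1)] .nil .nil)))) (.node [(15,1)] (.node [] (.node [] .nil (.node [(102,1)] .nil .nil))
    (.node [] (.node [(86,1)] .nil .nil) (.node [(118,1)] .nil .nil))) (.node [(30,(-1))] (.node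
    [(46,(-1))] .nil .nil) (.node [(65,1)] .nil .nil)))) (.node [] (.node [] (.node [(21,1)] (.node
    [(37,1)] .nil .nil) .nil) .nil) (.node [] (.node [] (.node [] (.node [(72,1)] .nil .nil) .nil)
    (.node [(56,(-1))] .nil .nil)) (.node [] (.node [] .nil (.node [(113,(-1))] .nil .nil))
    .nil)))) (.node [] (.node [] (.node [] (.node [] .nil (.node [(51,(-1))] .nil .nil)) (.node []
    (.node [] .nil (.node [(108,(-1))] .nil .nil)) (.node [] (.node [(92,(-1))] .nil .nil) .nil)))
    (.node [(16,1)] .nil (.node [] .nil (.node [(66,(-1))] .nil .nil)))) (.node [] (.node [] (.node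
    [(22,1)] (.node [(38,1)] .nil .nil) .nil) (.node [] (.node [] (.node [(77,1)] .nil .nil) .nil)
    (.node [(63,1)] .nil .nil))) (.node [] .nil (.node [] (.node [] .nil (.node [(114,(-1))] .nil
    .nil)) (.node [(67,(-1))] .nil .nil))))))

/-- table -/
noncomputable def auxE7Chain69 : Tr (List (ℕ × ℤ)) :=
    (.node [] (.node [] (.node [] (.node [] .nil (.node [] .nil (.node [(59,1)] .nil .nil))) (.node
    [] (.node [] (.node [] (.node [(71,(-1))] .nil .nil) .nil) (.node [(52,(-1))] .nil .nil))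
    .nil)) (.node [] (.node [(12,(-1))] (.node [] .nil (.node [] .nil (.node [(116,1)] .nil .nil)))
    (.node [] (.node [] (.node [(74,1)] .nil .nil) .nil) .nil)) (.node [] (.node [(24,(-1))] (.node
    [(40,(-1))] .nil (.node [(104,1)] .nil .nil)) (.node [(57,1)] (.node [(88,1)] .nil .nil) .nil))
    .nil))) (.node [(3,(-1))] (.node [] (.node [(11,(-1))] (.node [] .nil (.node [] .nil (.node
    [(115,1)] .nil .nil))) .nil) (.node [] (.node [(23,(-1))] (.node [(39,(-1))] (.node [(72,(-1))]
    .nil .nil) (.node [(103,1)] .nil .nil)) (.node [] (.node [(87,1)] .nil .nil) .nil)) .nil))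
    (.node [] (.node [(13,(-1))] (.node [] (.node [] (.node [(70,(-1))] .nil .nil) .nil) (.node []
    .nil (.node [(117,1)] .nil .nil))) (.node [] .nil (.node [] .nil (.node [(123,1)] .nil .nil))))
    (.node [] (.node [(25,(-1))] (.node [(41,(-1))] .nil (.node [(105,1)] .nil .nil)) (.node
    [(58,1)] (.node [(89,1)] .nil .nil) .nil)) (.node [(31,(-1))] (.node [(47,(-1))] (.node
    [(79,1)] .nil .nil) .nil) (.node [] (.node [(95,1)] .nil .nil) .nil))))))

/-- table -/
noncomputable def auxE7Chain70 : Tr (List (ℕ × ℤ)) :=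
    (.node [] (.node [] (.node [] (.node [(11,(-1))] (.node [] .nil (.node [] .nil (.node
    [(116,(-1))] .nil .nil))) .nil) (.node [] (.node [(24,(-1))] (.node [(40,(-1))] .nil (.node
    [(103,(-1))] .nil .nil)) (.node [] (.node [(87,(-1))] .nil .nil) .nil)) (.node [] .nil (.node
    [(69,(-1))] .nil .nil)))) (.node [] (.node [(14,1)] (.node [] (.node [] (.node [(72,(-1))] .nil
    .nil) .nil) .nil) (.node [] (.node [] (.node [(75,1)] .nil .nil) .nil) (.node [] .nil (.node
    [(123,(-1))] .nil .nil)))) (.node [] (.node [] (.node [] .nil (.node [(106,1)] .nil .nil))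
    (.node [(60,1)] (.node [(90,1)] .nil .nil) .nil)) (.node [(31,(-1))] (.node [(47,(-1))] .nil
    .nil) .nil)))) (.node [(4,1)] (.node [] (.node [] (.node [] (.node [] (.node [(71,(-1))] .nil
    .nil) .nil) .nil) (.node [] .nil (.node [(66,1)] .nil .nil))) .nil) (.node [] (.node [(15,1)]
    (.node [(23,(-1))] (.node [(39,(-1))] .nil .nil) (.node [(52,(-1))] .nil (.node [(118,1)] .nil
    .nil))) .nil) (.node [] (.node [(26,1)] (.node [(42,1)] .nil (.node [(107,1)] .nil .nil))
    (.node [(61,1)] (.node [(91,1)] .nil .nil) .nil)) (.node [] (.node [] (.node [(80,1)] .nil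
    .nil) (.node [(115,(-1))] .nil .nil)) (.node [] (.node [(96,1)] .nil .nil) .nil))))))

/-- table -/
noncomputable def auxE7Chain71 : Tr (List (ℕ × ℤ)) :=
    (.node [] (.node [] (.node [] (.node [(12,1)] (.node [] (.node [] (.node [(72,(-1))] .nil .nil)
    .nil) (.node [] .nil (.node [(117,(-1))] .nil .nil))) (.node [] .nil (.node [(64,1)] .nil
    .nil))) (.node [] (.node [(25,1)] (.node [(41,1)] .nil (.node [(104,(-1))] .nil .nil)) (.node
    [] (.node [(88,(-1))] .nil .nil) .nil)) .nil)) (.node [] (.node [] (.node [(23,(-1))] (.node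
    [(39,(-1))] .nil .nil) (.node [(52,(-1))] .nil (.node [(118,(-1))] .nil .nil))) (.node []
    (.node [] (.node [(76,1)] .nil .nil) .nil) .nil)) (.node [] (.node [(26,1)] (.node [(42,1)]
    .nil .nil) (.node [(62,1)] .nil .nil)) (.node [] (.node [] .nil (.node [(115,1)] .nil .nil))
    (.node [(70,(-1))] .nil .nil))))) (.node [(5,(-1))] (.node [] (.node [(14,1)] .nil (.node []
    .nil (.node [(67,1)] .nil (.node [(123,1)] .nil .nil)))) (.node [] (.node [] (.node [] .nil
    (.node [(106,(-1))] .nil .nil)) (.node [] (.node [(90,(-1))] .nil .nil) .nil)) (.node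
    [(31,(-1))] (.node [(47,(-1))] .nil .nil) .nil))) (.node [] (.node [(16,(-1))] .nil (.node []
    .nil (.node [(69,(-1))] .nil .nil))) (.node [] (.node [] (.node [] .nil (.node [(108,1)] .nil
    .nil)) (.node [] (.node [(92,1)] .nil .nil) .nil)) (.node [] (.node [] (.node [(81,1)] .nil
    .nil) .nil) (.node [] (.node [(97,1)] .nil .nil) .nil))))))

/-- table -/
noncomputable def auxE7Chain72 : Tr (List (ℕ × ℤ)) :=
    (.node [] (.node [] (.node [] (.node [(13,(-1))] .nil (.node [] .nil (.node [(65,1)] .nil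
    (.node [(123,(-1))] .nil .nil)))) (.node [] (.node [] (.node [] .nil (.node [(105,(-1))] .nil
    .nil)) (.node [] (.node [(89,(-1))] .nil .nil) .nil)) (.node [(31,(-1))] (.node [(47,(-1))]
    .nil .nil) .nil))) (.node [] (.node [(16,(-1))] (.node [(24,1)] (.node [(40,1)] .nil .nil)
    .nil) (.node [] (.node [] (.node [(77,1)] .nil .nil) .nil) (.node [(69,(-1))] .nil .nil)))
    (.node [] (.node [] (.node [] .nil (.node [(108,(-1))] .nil .nil)) (.node [] (.node [(92,(-1))]
    .nil .nil) .nil)) (.node [] (.node [] .nil (.node [(116,1)] .nil .nil)) .nil)))) (.node [(6,1)]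
    (.node [] (.node [(15,(-1))] (.node [] .nil (.node [(52,(-1))] .nil (.node [(118,1)] .nil
    .nil))) (.node [] .nil (.node [(68,1)] .nil .nil))) (.node [] (.node [(26,1)] (.node [(42,1)]
    .nil (.node [(107,(-1))] .nil .nil)) (.node [] (.node [(91,(-1))] .nil .nil) .nil)) (.node []
    .nil (.node [(70,(-1))] .nil .nil)))) (.node [] (.node [] (.node [(25,1)] (.node [(41,1)] .nil
    .nil) .nil) .nil) (.node [] (.node [] .nil (.node [(63,1)] .nil .nil)) (.node [] (.node []
    (.node [(82,1)] .nil .nil) (.node [(117,1)] .nil .nil)) (.node [(71,(-1))] (.node [(98,1)] .nil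
    .nil) .nil))))))

/-- table -/
noncomputable def auxE7Chain73 : Tr (List (ℕ × ℤ)) :=
    (.node [] (.node [(2,(-1))] (.node [] (.node [] (.node [(21,(-1))] (.node [(32,(-1))] .nil
    .nil) (.node [] (.node [(83,1)] .nil .nil) .nil)) (.node [] (.node [(43,(-1))] (.node
    [(76,(-1))] .nil .nil) (.node [(109,1)] .nil .nil)) .nil)) (.node [(17,(-1))] (.node [] .nil
    (.node [(56,1)] .nil .nil)) (.node [] (.node [] .nil (.node [(113,1)] .nil .nil)) (.node []
    .nil (.node [(124,1)] .nil .nil))))) (.node [] (.node [] (.node [] .nil (.node [(54,1)] (.node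
    [(85,1)] .nil .nil) .nil)) (.node [] (.node [(45,(-1))] .nil (.node [(111,1)] .nil .nil))
    .nil)) (.node [(19,(-1))] (.node [] (.node [] (.node [(74,(-1))] .nil .nil) .nil) .nil) (.node
    [] .nil (.node [] (.node [(94,1)] .nil .nil) .nil))))) (.node [] (.node [] (.node [] (.node
    [(22,(-1))] .nil (.node [(53,1)] (.node [(84,1)] .nil .nil) .nil)) (.node [] (.node [(44,(-1))]
    (.node [(77,(-1))] .nil .nil) (.node [(110,1)] .nil .nil)) .nil)) (.node [(18,(-1))] .nil
    (.node [] (.node [] .nil (.node [(114,1)] .nil .nil)) .nil))) (.node [] (.node [] (.node []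
    .nil (.node [(55,1)] (.node [(86,1)] .nil .nil) .nil)) (.node [] (.node [(46,(-1))] .nil (.node
    [(112,1)] .nil .nil)) .nil)) (.node [(20,(-1))] (.node [] (.node [] (.node [(75,(-1))] .nil
    .nil) .nil) .nil) .nil))))

/-- table -/
noncomputable def auxE7Chain74 : Tr (List (ℕ × ℤ)) :=
    (.node [] (.node [(3,1)] (.node [] (.node [] (.node [(24,1)] .nil .nil) .nil) (.node [] (.node
    [] (.node [] (.node [(76,(-1))] .nil .nil) .nil) .nil) (.node [] (.node [] .nil (.node
    [(116,1)] .nil .nil)) .nil))) (.node [] (.node [(18,(-1))] (.node [] .nil (.node [(58,1)]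
    (.node [(88,1)] .nil .nil) .nil)) .nil) (.node [] (.node [] (.node [(44,(-1))] .nil (.node
    [(110,(-1))] .nil .nil)) .nil) (.node [] .nil (.node [] (.node [(95,1)] .nil .nil) .nil)))))
    (.node [] (.node [] (.node [(17,(-1))] (.node [(25,1)] .nil (.node [(57,1)] (.node [(87,1)]
    .nil .nil) .nil)) (.node [] .nil (.node [(73,(-1))] .nil .nil))) (.node [] (.node [] (.node
    [(43,(-1))] (.node [(77,(-1))] .nil .nil) (.node [(109,(-1))] .nil .nil)) (.node [(69,1)] .nil
    .nil)) (.node [] (.node [] .nil (.node [(117,1)] .nil .nil)) .nil))) (.node [] (.node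
    [(19,(-1))] (.node [] (.node [] (.node [(75,(-1))] .nil .nil) .nil) (.node [(59,1)] (.node
    [(89,1)] .nil .nil) .nil)) (.node [] (.node [(47,1)] .nil (.node [(115,1)] .nil .nil)) (.node
    [] .nil (.node [(124,(-1))] .nil .nil)))) (.node [(23,1)] (.node [] (.node [(45,(-1))] .nil
    (.node [(111,(-1))] .nil .nil)) .nil) (.node [(32,(-1))] (.node [] (.node [(83,(-1))] .nil
    .nil) .nil) .nil)))))

/-- table -/
noncomputable def auxE7Chain75 : Tr (List (ℕ × ℤ)) :=
    (.node [] (.node [(4,(-1))] (.node [] (.node [(17,(-1))] (.node [] .nil (.node [] (.node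
    [(87,(-1))] .nil .nil) .nil)) (.node [] .nil (.node [(73,(-1))] .nil .nil))) (.node [] (.node
    [] (.node [(44,(-1))] .nil (.node [(109,1)] .nil .nil)) (.node [(66,1)] .nil .nil)) (.node []
    .nil (.node [(74,(-1))] .nil .nil)))) (.node [] (.node [(20,1)] (.node [] (.node [] (.node
    [(77,(-1))] .nil .nil) .nil) (.node [(61,1)] (.node [(90,1)] .nil .nil) .nil)) (.node [] (.node
    [(47,1)] .nil (.node [(116,(-1))] .nil .nil)) (.node [] .nil (.node [(124,1)] .nil .nil))))
    (.node [(24,1)] (.node [] (.node [] .nil (.node [(112,(-1))] .nil .nil)) .nil) (.node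
    [(32,(-1))] .nil (.node [] (.node [(96,1)] .nil .nil) .nil))))) (.node [] (.node [] (.node []
    (.node [(26,(-1))] (.node [] (.node [(76,(-1))] .nil .nil) .nil) (.node [(60,1)] .nil .nil))
    (.node [] (.node [] .nil (.node [(115,(-1))] .nil .nil)) .nil)) (.node [(23,1)] (.node [] .nil
    (.node [(70,1)] .nil .nil)) (.node [] (.node [] .nil (.node [(118,1)] .nil .nil)) .nil)))
    (.node [] (.node [(21,1)] (.node [] (.node [(43,(-1))] .nil .nil) (.node [] (.node [(91,1)]
    .nil .nil) .nil)) .nil) (.node [] (.node [] (.node [(46,1)] .nil (.node [(113,(-1))] .nil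
    .nil)) .nil) (.node [] (.node [] (.node [(84,(-1))] .nil .nil) .nil) .nil)))))

/-- table -/
noncomputable def auxE7Chain76 : Tr (List (ℕ × ℤ)) :=
    (.node [] (.node [(5,1)] (.node [] (.node [(18,1)] (.node [(26,(-1))] (.node [] (.node
    [(77,(-1))] .nil .nil) .nil) (.node [] (.node [(88,(-1))] .nil .nil) .nil)) (.node [] (.node []
    .nil (.node [(115,1)] .nil .nil)) .nil)) (.node [(23,1)] (.node [] (.node [(45,1)] .nil (.node
    [(110,1)] .nil .nil)) (.node [(67,1)] .nil .nil)) (.node [] (.node [] .nil (.node [(118,(-1))]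
    .nil .nil)) .nil))) (.node [] (.node [] (.node [] (.node [(43,(-1))] .nil .nil) .nil) (.node []
    (.node [] .nil (.node [(117,(-1))] .nil .nil)) .nil)) (.node [(25,(-1))] (.node [] (.node
    [(46,1)] .nil .nil) .nil) (.node [] .nil (.node [(75,(-1))] (.node [(97,1)] .nil .nil)
    .nil))))) (.node [] (.node [] (.node [(20,1)] (.node [] .nil (.node [(62,1)] (.node [(90,(-1))]
    .nil .nil) .nil)) (.node [] (.node [(47,1)] .nil .nil) (.node [] .nil (.node [(124,(-1))] .nil
    .nil)))) (.node [] (.node [] (.node [] .nil (.node [(112,1)] .nil .nil)) (.node [(71,1)] .nil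
    .nil)) (.node [(32,(-1))] .nil .nil))) (.node [] (.node [(22,(-1))] (.node [] .nil (.node
    [(64,1)] (.node [(92,1)] .nil .nil) .nil)) (.node [] .nil (.node [(74,(-1))] .nil .nil)))
    (.node [] (.node [] (.node [] .nil (.node [(114,(-1))] .nil .nil)) (.node [(73,(-1))] .nil
    .nil)) (.node [] (.node [] (.node [(85,(-1))] .nil .nil) .nil) .nil)))))

/-- table -/
noncomputable def auxE7Chain77 : Tr (List (ℕ × ℤ)) :=
    (.node [] (.node [(6,(-1))] (.node [] (.node [(19,(-1))] (.node [] .nil (.node [] (.node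
    [(89,(-1))] .nil .nil) .nil)) (.node [] (.node [(47,1)] .nil (.node [(116,1)] .nil .nil))
    (.node [] .nil (.node [(124,1)] .nil .nil)))) (.node [(24,(-1))] (.node [] (.node [] .nil
    (.node [(111,1)] .nil .nil)) (.node [(68,1)] .nil .nil)) (.node [(32,(-1))] .nil .nil))) (.node
    [] (.node [(22,(-1))] (.node [] (.node [(44,1)] .nil .nil) (.node [(63,1)] (.node [(92,(-1))]
    .nil .nil) .nil)) (.node [] .nil (.node [(74,(-1))] .nil .nil))) (.node [] (.node [] (.node []
    .nil (.node [(114,1)] .nil .nil)) (.node [(73,(-1))] .nil .nil)) (.node [] .nil (.node []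
    (.node [(98,1)] .nil .nil) .nil))))) (.node [] (.node [] (.node [(21,(-1))] (.node [] .nil
    (.node [] (.node [(91,(-1))] .nil .nil) .nil)) (.node [] (.node [] .nil (.node [(117,1)] .nil
    .nil)) .nil)) (.node [(25,(-1))] (.node [] (.node [(46,1)] .nil (.node [(113,1)] .nil .nil))
    (.node [(72,1)] .nil .nil)) (.node [] .nil (.node [(75,(-1))] .nil .nil)))) (.node [] (.node []
    (.node [] (.node [(45,1)] .nil .nil) (.node [(65,1)] .nil .nil)) (.node [] (.node [] .nil
    (.node [(118,1)] .nil .nil)) .nil)) (.node [(26,(-1))] .nil (.node [] (.node [] (.node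
    [(86,(-1))] .nil .nil) .nil) (.node [(76,(-1))] .nil .nil))))))

/-- table -/
noncomputable def auxE7Chain78 : Tr (List (ℕ × ℤ)) :=
    (.node [] (.node [] (.node [(7,(-1))] (.node [] (.node [] (.node [] .nil (.node [(99,1)] .nil
    .nil)) .nil) (.node [(27,(-1))] (.node [(48,(-1))] (.node [(81,(-1))] .nil .nil) .nil) .nil))
    (.node [] (.node [] .nil (.node [] .nil (.node [(119,1)] .nil .nil))) (.node [] (.node [(53,1)]
    (.node [(84,1)] .nil .nil) .nil) .nil))) (.node [(9,(-1))] (.node [] (.node [] (.node [] .nil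
    (.node [(101,1)] .nil .nil)) .nil) (.node [(29,(-1))] (.node [(50,(-1))] .nil .nil) .nil))
    (.node [] (.node [] (.node [] (.node [(79,(-1))] .nil .nil) .nil) (.node [] .nil (.node
    [(121,1)] .nil .nil))) (.node [] (.node [(55,1)] (.node [(86,1)] .nil .nil) .nil) .nil))))
    (.node [] (.node [(8,(-1))] (.node [] (.node [] (.node [] .nil (.node [(100,1)] .nil .nil))
    .nil) (.node [(28,(-1))] (.node [(49,(-1))] (.node [(82,(-1))] .nil .nil) .nil) .nil)) (.node
    [] (.node [] .nil (.node [] .nil (.node [(120,1)] .nil .nil))) (.node [] (.node [(54,1)] (.node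
    [(85,1)] .nil .nil) .nil) .nil))) (.node [(10,(-1))] (.node [] (.node [] (.node [] .nil (.node
    [(102,1)] .nil .nil)) .nil) (.node [(30,(-1))] (.node [(51,(-1))] (.node [(83,1)] .nil .nil)
    .nil) .nil)) (.node [] (.node [] (.node [] (.node [(80,(-1))] .nil .nil) .nil) (.node [] .nil
    (.node [(122,1)] .nil .nil))) (.node [] (.node [(56,1)] .nil .nil) .nil)))))

/-- table -/
noncomputable def auxE7Chain79 : Tr (List (ℕ × ℤ)) :=
    (.node [] (.node [] (.node [] (.node [] (.node [] .nil (.node [(69,1)] .nil .nil)) .nil) (.node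
    [] (.node [] (.node [] (.node [(81,(-1))] .nil .nil) .nil) .nil) (.node [] (.node [(57,1)]
    (.node [(87,1)] .nil .nil) .nil) .nil))) (.node [(12,1)] (.node [] (.node [] (.node [] .nil
    (.node [(104,1)] .nil .nil)) (.node [] .nil (.node [(120,(-1))] .nil .nil))) (.node [] (.node
    [] (.node [(83,(-1))] .nil .nil) .nil) .nil)) (.node [] (.node [(28,(-1))] (.node [(49,(-1))]
    .nil .nil) .nil) (.node [] (.node [(59,1)] (.node [(89,1)] .nil .nil) .nil) .nil)))) (.node
    [(7,(-1))] (.node [(11,1)] (.node [] (.node [] (.node [] .nil (.node [(103,1)] .nil .nil))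
    (.node [] .nil (.node [(119,(-1))] .nil .nil))) (.node [] .nil (.node [(78,(-1))] .nil .nil)))
    (.node [] (.node [(27,(-1))] (.node [(48,(-1))] (.node [(82,(-1))] .nil .nil) .nil) .nil)
    (.node [] (.node [(58,1)] (.node [(88,1)] .nil .nil) .nil) .nil))) (.node [(13,1)] (.node []
    (.node [] (.node [] (.node [(80,(-1))] .nil .nil) (.node [(105,1)] .nil .nil)) (.node [] .nil
    (.node [(121,(-1))] .nil .nil))) (.node [(31,1)] (.node [(52,1)] .nil .nil) .nil)) (.node []
    (.node [(29,(-1))] (.node [(50,(-1))] .nil .nil) (.node [] .nil (.node [(123,1)] .nil .nil)))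
    (.node [] .nil (.node [] (.node [(99,(-1))] .nil .nil) .nil))))))

/-- table -/
noncomputable def auxE7Chain80 : Tr (List (ℕ × ℤ)) :=
    (.node [] (.node [] (.node [(11,1)] (.node [] (.node [] (.node [] .nil (.node [(103,(-1))] .nil
    .nil)) (.node [(70,1)] .nil (.node [(120,1)] .nil .nil))) (.node [] .nil (.node [(78,(-1))]
    .nil .nil))) (.node [] (.node [(28,(-1))] (.node [(49,(-1))] .nil .nil) .nil) (.node [] (.node
    [(60,1)] .nil .nil) (.node [(79,(-1))] .nil .nil)))) (.node [(14,(-1))] (.node [] (.node []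
    (.node [] (.node [(82,(-1))] .nil .nil) (.node [(106,1)] .nil .nil)) .nil) (.node [(31,1)]
    (.node [(52,1)] (.node [(84,(-1))] .nil .nil) .nil) .nil)) (.node [] (.node [] .nil (.node []
    .nil (.node [(123,(-1))] .nil .nil))) (.node [] (.node [] (.node [(91,1)] .nil .nil) .nil)
    .nil)))) (.node [(8,1)] (.node [] (.node [] (.node [] (.node [] (.node [(81,(-1))] .nil .nil)
    .nil) .nil) .nil) (.node [] .nil (.node [] (.node [(61,1)] (.node [(90,1)] .nil .nil) .nil)
    .nil))) (.node [(15,(-1))] (.node [] (.node [(27,(-1))] (.node [(48,(-1))] .nil (.node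
    [(107,1)] .nil .nil)) (.node [] .nil (.node [(122,(-1))] .nil .nil))) (.node [] (.node []
    (.node [(87,(-1))] .nil .nil) .nil) .nil)) (.node [] (.node [(30,1)] (.node [(51,1)] .nil .nil)
    .nil) (.node [] (.node [(66,1)] .nil (.node [(119,1)] .nil .nil)) (.node [] (.node [(100,(-1))]
    .nil .nil) .nil))))))

/-- table -/
noncomputable def auxE7Chain81 : Tr (List (ℕ × ℤ)) :=
    (.node [] (.node [] (.node [(12,(-1))] (.node [] (.node [] (.node [] (.node [(82,(-1))] .nil
    .nil) (.node [(104,(-1))] .nil .nil)) (.node [(71,1)] .nil (.node [(121,1)] .nil .nil))) .nil)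
    (.node [] (.node [(29,1)] (.node [(50,1)] .nil .nil) .nil) (.node [] (.node [(62,1)] (.node
    [(90,(-1))] .nil .nil) .nil) .nil))) (.node [] (.node [] (.node [(27,(-1))] (.node [(48,(-1))]
    .nil .nil) (.node [] .nil (.node [(122,1)] .nil .nil))) (.node [] (.node [] (.node [(85,(-1))]
    .nil .nil) .nil) .nil)) (.node [] (.node [(30,1)] (.node [(51,1)] .nil .nil) .nil) (.node []
    (.node [(64,1)] (.node [(92,1)] .nil .nil) (.node [(119,(-1))] .nil .nil)) (.node [(80,(-1))]
    .nil .nil))))) (.node [(9,(-1))] (.node [(14,(-1))] (.node [] (.node [] (.node [] .nil (.node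
    [(106,(-1))] .nil .nil)) .nil) (.node [(31,1)] (.node [(52,1)] .nil .nil) .nil)) (.node []
    (.node [] .nil (.node [] .nil (.node [(123,1)] .nil .nil))) .nil)) (.node [(16,1)] (.node []
    (.node [] (.node [] .nil (.node [(108,1)] .nil .nil)) .nil) (.node [] (.node [] (.node
    [(88,(-1))] .nil .nil) .nil) (.node [(79,(-1))] .nil .nil))) (.node [] (.node [] .nil (.node
    [(78,(-1))] .nil .nil)) (.node [] (.node [(67,1)] .nil .nil) (.node [] (.node [(101,(-1))] .nil
    .nil) .nil))))))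

/-- table -/
noncomputable def auxE7Chain82 : Tr (List (ℕ × ℤ)) :=
    (.node [] (.node [] (.node [(13,1)] (.node [] (.node [] (.node [] .nil (.node [(105,(-1))] .nil
    .nil)) (.node [(72,1)] .nil .nil)) (.node [(31,1)] (.node [(52,1)] .nil .nil) .nil)) (.node []
    (.node [] .nil (.node [] .nil (.node [(123,(-1))] .nil .nil))) (.node [] (.node [] (.node
    [(91,(-1))] .nil .nil) .nil) .nil))) (.node [(16,1)] (.node [] (.node [(28,1)] (.node [(49,1)]
    .nil (.node [(108,(-1))] .nil .nil)) .nil) (.node [] (.node [] (.node [(86,(-1))] .nil .nil)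
    .nil) (.node [(79,(-1))] .nil .nil))) (.node [] (.node [] .nil (.node [(78,(-1))] .nil .nil))
    (.node [] (.node [(65,1)] .nil (.node [(120,(-1))] .nil .nil)) .nil)))) (.node [(10,1)] (.node
    [(15,1)] (.node [] (.node [] (.node [] .nil (.node [(107,(-1))] .nil .nil)) (.node [] .nil
    (.node [(122,(-1))] .nil .nil))) .nil) (.node [] (.node [(30,1)] (.node [(51,1)] .nil .nil)
    .nil) (.node [] (.node [(63,1)] (.node [(92,(-1))] .nil .nil) .nil) (.node [(80,(-1))] .nil
    .nil)))) (.node [] (.node [] (.node [(29,1)] (.node [(50,1)] .nil .nil) .nil) (.node [] (.node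
    [] (.node [(89,(-1))] .nil .nil) .nil) .nil)) (.node [] .nil (.node [] (.node [(68,1)] .nil
    (.node [(121,(-1))] .nil .nil)) (.node [(81,(-1))] (.node [(102,(-1))] .nil .nil) .nil))))))

/-- table -/
noncomputable def auxE7Chain83 : Tr (List (ℕ × ℤ)) :=
    (.node [] (.node [(7,(-1))] (.node [] (.node [] (.node [(28,(-1))] .nil (.node [(74,(-1))] .nil
    .nil)) (.node [] (.node [(57,1)] (.node [(88,1)] .nil .nil) .nil) .nil)) (.node [] (.node []
    (.node [] (.node [(85,(-1))] .nil .nil) .nil) (.node [(78,1)] .nil .nil)) (.node [] (.node []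
    .nil (.node [(120,1)] .nil .nil)) .nil))) (.node [(18,(-1))] (.node [] (.node [] (.node [] .nil
    (.node [(110,1)] .nil .nil)) .nil) (.node [] (.node [(59,1)] .nil .nil) .nil)) (.node [] (.node
    [] (.node [(54,(-1))] .nil .nil) .nil) (.node [] .nil (.node [] (.node [(99,1)] .nil .nil)
    .nil))))) (.node [] (.node [(17,(-1))] (.node [] (.node [(29,(-1))] (.node [] .nil (.node
    [(109,1)] .nil .nil)) .nil) (.node [] (.node [(58,1)] (.node [(89,1)] .nil .nil) .nil) .nil))
    (.node [] (.node [] (.node [(53,(-1))] (.node [(86,(-1))] .nil .nil) .nil) (.node [(79,(-1))]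
    .nil .nil)) (.node [] (.node [] .nil (.node [(121,1)] .nil .nil)) .nil))) (.node [(19,(-1))]
    (.node [] (.node [] (.node [] (.node [(84,(-1))] .nil .nil) (.node [(111,1)] .nil .nil)) .nil)
    (.node [(32,(-1))] (.node [] .nil (.node [(119,1)] .nil .nil)) .nil)) (.node [(27,(-1))] (.node
    [] (.node [(55,(-1))] (.node [(87,1)] .nil .nil) .nil) (.node [] .nil (.node [(124,1)] .nil
    .nil))) (.node [] (.node [(73,1)] .nil .nil) .nil)))))

/-- table -/
noncomputable def auxE7Chain84 : Tr (List (ℕ × ℤ)) :=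
    (.node [] (.node [(8,1)] (.node [(17,(-1))] (.node [] (.node [] (.node [] .nil (.node
    [(109,(-1))] .nil .nil)) (.node [(75,(-1))] .nil .nil)) (.node [] (.node [(60,1)] (.node
    [(90,1)] .nil .nil) .nil) .nil)) (.node [] (.node [] (.node [(54,(-1))] .nil .nil) .nil) (.node
    [] .nil (.node [(83,(-1))] .nil .nil)))) (.node [(20,1)] (.node [] (.node [] (.node [] (.node
    [(86,(-1))] .nil .nil) (.node [(112,1)] .nil .nil)) .nil) (.node [(32,(-1))] (.node [] .nil
    (.node [(120,(-1))] .nil .nil)) .nil)) (.node [(28,(-1))] (.node [] (.node [] (.node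
    [(87,(-1))] .nil .nil) .nil) (.node [] .nil (.node [(124,(-1))] .nil .nil))) (.node [] (.node
    [(73,1)] .nil .nil) (.node [] (.node [(100,1)] .nil .nil) .nil))))) (.node [] (.node [] (.node
    [] (.node [(30,1)] (.node [] (.node [(85,(-1))] .nil .nil) .nil) .nil) (.node [] (.node
    [(61,1)] (.node [(91,1)] .nil .nil) (.node [(119,(-1))] .nil .nil)) .nil)) (.node [(27,(-1))]
    (.node [] .nil (.node [(80,(-1))] .nil .nil)) (.node [] (.node [] .nil (.node [(122,1)] .nil
    .nil)) .nil))) (.node [(21,1)] (.node [] (.node [] (.node [(53,(-1))] .nil (.node [(113,1)]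
    .nil .nil)) (.node [(78,1)] .nil .nil)) (.node [] (.node [(66,1)] .nil .nil) .nil)) (.node []
    (.node [] (.node [(56,1)] .nil .nil) .nil) .nil))))

/-- table -/
noncomputable def auxE7Chain85 : Tr (List (ℕ × ℤ)) :=
    (.node [] (.node [(9,(-1))] (.node [(18,1)] (.node [] (.node [(30,1)] (.node [] (.node
    [(86,(-1))] .nil .nil) (.node [(110,(-1))] .nil .nil)) (.node [(76,(-1))] .nil .nil)) (.node []
    (.node [(62,1)] .nil (.node [(119,1)] .nil .nil)) .nil)) (.node [(27,(-1))] (.node [] (.node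
    [(55,1)] .nil .nil) .nil) (.node [] (.node [] .nil (.node [(122,(-1))] .nil .nil)) .nil)))
    (.node [] (.node [] (.node [] (.node [(53,(-1))] .nil .nil) (.node [(78,1)] .nil .nil)) (.node
    [] (.node [(64,1)] .nil (.node [(121,(-1))] .nil .nil)) .nil)) (.node [(29,1)] (.node [] (.node
    [(56,1)] (.node [(88,(-1))] .nil .nil) .nil) .nil) (.node [] .nil (.node [(84,(-1))] (.node
    [(101,1)] .nil .nil) .nil))))) (.node [] (.node [(20,1)] (.node [] (.node [] (.node [] .nil
    (.node [(112,(-1))] .nil .nil)) .nil) (.node [(32,(-1))] (.node [] (.node [(92,1)] .nil .nil)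
    .nil) .nil)) (.node [] (.node [] .nil (.node [(81,(-1))] .nil (.node [(124,1)] .nil .nil)))
    (.node [] (.node [(73,1)] .nil .nil) .nil))) (.node [(22,(-1))] (.node [] (.node [] (.node []
    .nil (.node [(114,1)] .nil .nil)) .nil) (.node [] (.node [(67,1)] .nil .nil) (.node [(83,(-1))]
    .nil .nil))) (.node [] (.node [] (.node [] (.node [(90,(-1))] .nil .nil) .nil) .nil) .nil))))

/-- table -/
noncomputable def auxE7Chain86 : Tr (List (ℕ × ℤ)) :=
    (.node [] (.node [(10,1)] (.node [(19,(-1))] (.node [] (.node [] (.node [] .nil (.node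
    [(111,(-1))] .nil .nil)) (.node [(77,(-1))] .nil .nil)) (.node [(32,(-1))] (.node [] (.node
    [(92,(-1))] .nil .nil) (.node [(120,1)] .nil .nil)) .nil)) (.node [(28,1)] (.node [] .nil
    (.node [] .nil (.node [(124,(-1))] .nil .nil))) (.node [] (.node [(73,1)] .nil .nil) .nil)))
    (.node [(22,(-1))] (.node [] (.node [] (.node [(54,1)] .nil (.node [(114,(-1))] .nil .nil))
    .nil) (.node [] (.node [(65,1)] .nil .nil) (.node [(83,(-1))] .nil .nil))) (.node [] (.node []
    (.node [] (.node [(89,(-1))] .nil .nil) .nil) .nil) (.node [] .nil (.node [] (.node [(102,1)]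
    .nil .nil) .nil))))) (.node [] (.node [(21,(-1))] (.node [] (.node [] (.node [] .nil (.node
    [(113,(-1))] .nil .nil)) (.node [(78,1)] .nil .nil)) (.node [] (.node [(63,1)] .nil (.node
    [(121,1)] .nil .nil)) .nil)) (.node [(29,1)] (.node [] (.node [(56,1)] .nil .nil) (.node
    [(82,(-1))] .nil .nil)) (.node [] .nil (.node [(84,(-1))] .nil .nil)))) (.node [] (.node []
    (.node [] (.node [(55,1)] .nil .nil) .nil) (.node [] (.node [(68,1)] .nil (.node [(122,1)] .nil
    .nil)) .nil)) (.node [(30,1)] (.node [] (.node [] (.node [(91,(-1))] .nil .nil) .nil) .nil)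
    (.node [] .nil (.node [(85,(-1))] .nil .nil))))))

/-- table -/
noncomputable def auxE7Chain87 : Tr (List (ℕ × ℤ)) :=
    (.node [] (.node [(11,(-1))] (.node [] (.node [] .nil (.node [] .nil (.node [(83,1)] .nil
    .nil))) (.node [] (.node [] (.node [(58,(-1))] (.node [(90,1)] .nil .nil) .nil) (.node
    [(80,(-1))] .nil .nil)) .nil)) (.node [(23,(-1))] (.node [(27,(-1))] (.node [] (.node [] (.node
    [(89,(-1))] .nil .nil) (.node [(115,1)] .nil .nil)) .nil) (.node [] (.node [(69,1)] .nil .nil)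
    .nil)) (.node [] (.node [] (.node [(61,1)] .nil (.node [(119,1)] .nil .nil)) .nil) (.node []
    (.node [(74,1)] .nil .nil) (.node [] (.node [(103,1)] .nil .nil) .nil))))) (.node [(17,(-1))]
    (.node [] (.node [] (.node [(31,(-1))] (.node [] (.node [(88,(-1))] .nil .nil) .nil) .nil)
    (.node [] .nil (.node [(84,(-1))] .nil .nil))) (.node [] (.node [] (.node [(60,1)] (.node
    [(91,1)] .nil .nil) .nil) .nil) (.node [] (.node [] .nil (.node [(123,1)] .nil .nil)) .nil)))
    (.node [(24,(-1))] (.node [(28,(-1))] (.node [] (.node [(57,(-1))] .nil (.node [(116,1)] .nil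
    .nil)) (.node [(79,1)] .nil (.node [(124,1)] .nil .nil))) (.node [] (.node [(70,(-1))] .nil
    .nil) .nil)) (.node [] (.node [(32,(-1))] (.node [] .nil (.node [(120,1)] .nil .nil)) .nil)
    (.node [] (.node [(75,(-1))] .nil .nil) (.node [] (.node [(109,1)] .nil .nil) .nil))))))

/-- table -/
noncomputable def auxE7Chain88 : Tr (List (ℕ × ℤ)) :=
    (.node [] (.node [(12,1)] (.node [] (.node [] (.node [(31,(-1))] (.node [] (.node [(89,(-1))]
    .nil .nil) .nil) .nil) .nil) (.node [] (.node [] (.node [(59,1)] .nil .nil) (.node [(81,(-1))]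
    .nil .nil)) (.node [] (.node [] .nil (.node [(123,(-1))] .nil .nil)) .nil))) (.node [] (.node
    [] (.node [] (.node [(57,(-1))] .nil .nil) (.node [(79,1)] .nil (.node [(124,(-1))] .nil
    .nil))) .nil) (.node [] (.node [(32,(-1))] .nil .nil) (.node [] .nil (.node [(87,(-1))] (.node
    [(104,1)] .nil .nil) .nil))))) (.node [(18,1)] (.node [(23,(-1))] (.node [(27,(-1))] (.node []
    (.node [] .nil (.node [(115,(-1))] .nil .nil)) .nil) (.node [] (.node [(69,1)] .nil .nil)
    (.node [(85,(-1))] .nil .nil))) (.node [] (.node [] (.node [(62,1)] (.node [(92,1)] .nil .nil)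
    (.node [(119,(-1))] .nil .nil)) .nil) (.node [] (.node [(74,1)] .nil .nil) .nil))) (.node
    [(25,1)] (.node [(29,1)] (.node [] (.node [] (.node [(90,(-1))] .nil .nil) (.node [(117,1)]
    .nil .nil)) .nil) (.node [] (.node [(71,(-1))] .nil .nil) .nil)) (.node [] (.node [] (.node
    [(64,1)] .nil (.node [(121,1)] .nil .nil)) (.node [(83,1)] .nil .nil)) (.node [] (.node
    [(76,(-1))] .nil .nil) (.node [] (.node [(110,1)] .nil .nil) .nil))))))

/-- table -/
noncomputable def auxE7Chain89 : Tr (List (ℕ × ℤ)) :=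
    (.node [] (.node [(13,(-1))] (.node [] (.node [] .nil (.node [] (.node [(69,1)] .nil .nil)
    .nil)) (.node [] (.node [] (.node [] (.node [(92,(-1))] .nil .nil) .nil) (.node [(82,(-1))]
    .nil .nil)) (.node [] (.node [(74,1)] .nil .nil) .nil))) (.node [(25,1)] (.node [(29,1)] (.node
    [] (.node [(58,1)] .nil (.node [(117,(-1))] .nil .nil)) .nil) .nil) (.node [] (.node [] (.node
    [(63,1)] .nil (.node [(121,(-1))] .nil .nil)) (.node [(83,1)] .nil .nil)) (.node [] .nil (.node
    [] (.node [(105,1)] .nil .nil) .nil))))) (.node [(19,(-1))] (.node [(24,1)] (.node [(28,1)]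
    (.node [] (.node [] .nil (.node [(116,(-1))] .nil .nil)) (.node [(79,1)] .nil (.node [(124,1)]
    .nil .nil))) (.node [] .nil (.node [(86,(-1))] .nil .nil))) (.node [] (.node [(32,(-1))] (.node
    [] .nil (.node [(120,(-1))] .nil .nil)) .nil) (.node [] .nil (.node [(87,(-1))] .nil .nil))))
    (.node [] (.node [] (.node [] (.node [(59,1)] (.node [(91,(-1))] .nil .nil) .nil) .nil) (.node
    [] (.node [(72,(-1))] .nil (.node [(123,1)] .nil .nil)) .nil)) (.node [(31,(-1))] (.node []
    (.node [(65,1)] .nil .nil) .nil) (.node [] (.node [(77,(-1))] .nil .nil) (.node [(88,(-1))]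
    (.node [(111,1)] .nil .nil) .nil))))))

/-- table -/
noncomputable def auxE7Chain90 : Tr (List (ℕ × ℤ)) :=
    (.node [] (.node [(14,(-1))] (.node [(23,(-1))] (.node [(27,(-1))] (.node [] (.node [] (.node
    [(91,(-1))] .nil .nil) (.node [(115,1)] .nil .nil)) (.node [] .nil (.node [(124,1)] .nil
    .nil))) (.node [] .nil (.node [(85,(-1))] .nil .nil))) (.node [] (.node [(32,(-1))] (.node []
    .nil (.node [(119,1)] .nil .nil)) .nil) (.node [] .nil (.node [(88,(-1))] .nil .nil)))) (.node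
    [] (.node [] (.node [] (.node [(60,(-1))] (.node [(92,1)] .nil .nil) .nil) (.node [(80,1)] .nil
    .nil)) (.node [] (.node [(71,(-1))] .nil (.node [(123,1)] .nil .nil)) .nil)) (.node [(31,(-1))]
    (.node [] (.node [(66,1)] .nil .nil) .nil) (.node [] (.node [(76,(-1))] .nil .nil) (.node []
    (.node [(106,1)] .nil .nil) .nil))))) (.node [(20,(-1))] (.node [] (.node [] .nil (.node []
    (.node [(70,1)] .nil .nil) .nil)) (.node [] .nil (.node [] (.node [(75,1)] .nil .nil) .nil)))
    (.node [(26,(-1))] (.node [(30,(-1))] (.node [] (.node [(62,1)] .nil (.node [(118,1)] .nil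
    .nil)) (.node [(81,(-1))] .nil .nil)) (.node [] .nil (.node [(87,1)] .nil .nil))) (.node []
    (.node [] (.node [(67,(-1))] .nil (.node [(122,1)] .nil .nil)) (.node [(84,1)] .nil .nil))
    (.node [] .nil (.node [] (.node [(112,1)] .nil .nil) .nil))))))

/-- table -/
noncomputable def auxE7Chain91 : Tr (List (ℕ × ℤ)) :=
    (.node [] (.node [(15,1)] (.node [(24,1)] (.node [(28,1)] (.node [] (.node [] .nil (.node
    [(116,1)] .nil .nil)) .nil) (.node [] (.node [(70,1)] .nil .nil) (.node [(86,(-1))] .nil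
    .nil))) (.node [] (.node [] (.node [(63,1)] .nil (.node [(120,1)] .nil .nil)) .nil) (.node []
    (.node [(75,1)] .nil .nil) (.node [(89,(-1))] .nil .nil)))) (.node [(26,(-1))] (.node
    [(30,(-1))] (.node [] (.node [(61,1)] .nil (.node [(118,(-1))] .nil .nil)) .nil) (.node []
    (.node [(72,(-1))] .nil .nil) (.node [(87,1)] .nil .nil))) (.node [] (.node [] (.node [] .nil
    (.node [(122,(-1))] .nil .nil)) (.node [(84,1)] .nil .nil)) (.node [] (.node [(77,(-1))] .nil
    .nil) (.node [] (.node [(107,1)] .nil .nil) .nil))))) (.node [(21,1)] (.node [] (.node []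
    (.node [] (.node [] (.node [(92,(-1))] .nil .nil) .nil) (.node [(80,1)] .nil .nil)) (.node []
    (.node [] .nil (.node [(123,(-1))] .nil .nil)) .nil)) (.node [(31,(-1))] (.node [] (.node
    [(66,1)] .nil .nil) .nil) .nil)) (.node [] (.node [] (.node [(32,(-1))] .nil (.node [(82,(-1))]
    .nil .nil)) .nil) (.node [] (.node [] (.node [(68,(-1))] .nil .nil) .nil) (.node [] (.node []
    .nil (.node [(124,(-1))] .nil .nil)) (.node [(90,(-1))] (.node [(113,1)] .nil .nil) .nil))))))

/-- table -/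
noncomputable def auxE7Chain92 : Tr (List (ℕ × ℤ)) :=
    (.node [] (.node [(16,(-1))] (.node [(25,(-1))] (.node [(29,(-1))] (.node [] (.node [] .nil
    (.node [(117,1)] .nil .nil)) .nil) (.node [] (.node [(71,1)] .nil (.node [(123,1)] .nil .nil))
    .nil)) (.node [(31,(-1))] (.node [] (.node [(65,(-1))] .nil (.node [(121,1)] .nil .nil)) .nil)
    (.node [] (.node [(76,1)] .nil .nil) .nil))) (.node [] (.node [] (.node [(32,(-1))] .nil (.node
    [(82,(-1))] .nil .nil)) (.node [] .nil (.node [(88,1)] .nil .nil))) (.node [] (.node [] (.node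
    [(68,(-1))] .nil .nil) (.node [(85,1)] .nil .nil)) (.node [] (.node [] .nil (.node [(124,1)]
    .nil .nil)) (.node [(91,(-1))] (.node [(108,1)] .nil .nil) .nil))))) (.node [(22,(-1))] (.node
    [(26,(-1))] (.node [(30,(-1))] (.node [] (.node [] .nil (.node [(118,1)] .nil .nil)) (.node
    [(81,1)] .nil .nil)) (.node [] (.node [(72,(-1))] .nil .nil) .nil)) (.node [] (.node [] (.node
    [(67,1)] .nil (.node [(122,1)] .nil .nil)) .nil) (.node [] (.node [(77,(-1))] .nil .nil) (.node
    [(90,1)] .nil .nil)))) (.node [] (.node [] (.node [] (.node [(64,1)] .nil .nil) .nil) (.node []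
    .nil (.node [(89,(-1))] .nil .nil))) (.node [] (.node [] .nil (.node [(86,(-1))] .nil .nil))
    (.node [] .nil (.node [] (.node [(114,1)] .nil .nil) .nil))))))

/-- table -/
noncomputable def auxE7Chain93 : Tr (List (ℕ × ℤ)) :=
    (.node [(1,(-1))] (.node [] (.node [] (.node [] (.node [] (.node [(52,1)] .nil .nil) .nil)
    (.node [(39,1)] .nil (.node [] (.node [(103,(-1))] .nil .nil) .nil))) (.node [] (.node [(35,1)]
    .nil (.node [] (.node [(99,(-1))] .nil .nil) .nil)) (.node [(48,1)] (.node [] (.node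
    [(96,(-1))] .nil .nil) .nil) (.node [] (.node [(107,(-1))] .nil .nil) .nil)))) (.node [] (.node
    [] (.node [(33,1)] .nil .nil) (.node [(41,1)] (.node [] (.node [(94,(-1))] .nil .nil) .nil)
    (.node [] (.node [(105,(-1))] .nil .nil) .nil))) (.node [] (.node [(37,1)] .nil (.node []
    (.node [(101,(-1))] .nil .nil) .nil)) (.node [(50,1)] (.node [] (.node [(98,(-1))] .nil .nil)
    .nil) .nil)))) (.node [] (.node [] (.node [] .nil (.node [(40,1)] .nil (.node [] (.node
    [(104,(-1))] .nil .nil) .nil))) (.node [] (.node [(36,1)] .nil (.node [] (.node [(100,(-1))]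
    .nil .nil) .nil)) (.node [(49,1)] (.node [] (.node [(97,(-1))] .nil .nil) .nil) (.node []
    (.node [(108,(-1))] .nil .nil) (.node [(125,1)] .nil .nil))))) (.node [] (.node [] (.node
    [(34,1)] .nil .nil) (.node [(42,1)] (.node [] (.node [(95,(-1))] .nil .nil) .nil) (.node []
    (.node [(106,(-1))] .nil .nil) .nil))) (.node [] (.node [(38,1)] .nil (.node [] (.node
    [(102,(-1))] .nil .nil) .nil)) (.node [(51,1)] .nil .nil)))))

/-- table -/
noncomputable def auxE7Chain94 : Tr (List (ℕ × ℤ)) :=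
    (.node [(2,1)] (.node [] (.node [] (.node [] (.node [(37,1)] .nil (.node [] (.node [(99,1)]
    .nil .nil) .nil)) (.node [(43,(-1))] (.node [] (.node [(97,(-1))] .nil .nil) .nil) (.node []
    (.node [(109,(-1))] .nil .nil) .nil))) (.node [(33,1)] .nil (.node [(53,1)] .nil (.node []
    (.node [(113,(-1))] .nil .nil) (.node [(125,(-1))] .nil .nil))))) (.node [] (.node [] (.node []
    .nil (.node [] (.node [(101,1)] .nil .nil) .nil)) (.node [(45,(-1))] .nil (.node [] (.node
    [(111,(-1))] .nil .nil) .nil))) (.node [(35,1)] (.node [] (.node [] (.node [(95,(-1))] .nil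
    .nil) .nil) .nil) (.node [(55,1)] .nil .nil)))) (.node [] (.node [] (.node [] (.node [(38,1)]
    (.node [(73,1)] .nil .nil) (.node [] (.node [(100,1)] .nil .nil) .nil)) (.node [(44,(-1))]
    (.node [] (.node [(98,(-1))] .nil .nil) .nil) (.node [] (.node [(110,(-1))] .nil .nil) .nil)))
    (.node [(34,1)] (.node [] .nil (.node [(93,(-1))] .nil .nil)) (.node [(54,1)] .nil (.node []
    (.node [(114,(-1))] .nil .nil) .nil)))) (.node [] (.node [] (.node [] .nil (.node [] (.node
    [(102,1)] .nil .nil) .nil)) (.node [(46,(-1))] .nil (.node [] (.node [(112,(-1))] .nil .nil)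
    .nil))) (.node [(36,1)] (.node [] (.node [] (.node [(96,(-1))] .nil .nil) .nil) .nil) (.node
    [(56,1)] .nil .nil)))))

/-- table -/
noncomputable def auxE7Chain95 : Tr (List (ℕ × ℤ)) :=
    (.node [(3,(-1))] (.node [] (.node [] (.node [] (.node [(40,(-1))] (.node [(69,1)] .nil .nil)
    .nil) .nil) (.node [] (.node [] (.node [] (.node [(97,(-1))] .nil .nil) .nil) (.node
    [(93,(-1))] .nil .nil)) (.node [(57,1)] .nil (.node [] (.node [(116,(-1))] .nil .nil) .nil))))
    (.node [] (.node [(34,1)] (.node [] .nil (.node [] (.node [(104,1)] .nil .nil) .nil)) .nil)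
    (.node [] (.node [(44,(-1))] .nil (.node [] (.node [(110,1)] .nil .nil) .nil)) (.node [(59,1)]
    .nil .nil)))) (.node [] (.node [] (.node [(33,1)] (.node [(41,(-1))] (.node [(74,1)] .nil .nil)
    (.node [] (.node [(103,1)] .nil .nil) .nil)) (.node [] .nil (.node [(94,(-1))] .nil .nil)))
    (.node [] (.node [(43,(-1))] (.node [] (.node [(98,(-1))] .nil .nil) .nil) (.node [] (.node
    [(109,1)] .nil .nil) .nil)) (.node [(58,1)] .nil (.node [] (.node [(117,(-1))] .nil .nil)
    .nil)))) (.node [] (.node [(35,1)] (.node [] (.node [] (.node [(96,(-1))] .nil .nil) .nil)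
    (.node [] (.node [(105,1)] .nil .nil) .nil)) (.node [(47,1)] .nil (.node [] (.node [(115,(-1))]
    .nil .nil) (.node [(125,1)] .nil .nil)))) (.node [(39,(-1))] (.node [(45,(-1))] .nil (.node []
    (.node [(111,1)] .nil .nil) .nil)) (.node [] (.node [] (.node [(99,(-1))] .nil .nil) .nil)
    .nil)))))

/-- table -/
noncomputable def auxE7Chain96 : Tr (List (ℕ × ℤ)) :=
    (.node [(4,1)] (.node [] (.node [] (.node [(33,1)] (.node [] (.node [(70,1)] .nil .nil) (.node
    [] (.node [(103,(-1))] .nil .nil) .nil)) (.node [] .nil (.node [(94,(-1))] .nil .nil))) (.node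
    [] (.node [(44,(-1))] .nil (.node [] (.node [(109,(-1))] .nil .nil) .nil)) (.node [(60,1)] .nil
    (.node [(95,(-1))] .nil .nil)))) (.node [] (.node [(36,(-1))] (.node [] (.node [] (.node
    [(98,(-1))] .nil .nil) .nil) (.node [] (.node [(106,1)] .nil .nil) .nil)) (.node [(47,1)] .nil
    (.node [] (.node [(116,1)] .nil .nil) (.node [(125,(-1))] .nil .nil)))) (.node [(40,(-1))]
    (.node [] .nil (.node [] (.node [(112,1)] .nil .nil) .nil)) .nil))) (.node [] (.node [] (.node
    [] (.node [(42,1)] (.node [(75,1)] (.node [(97,(-1))] .nil .nil) .nil) .nil) (.node [] .nil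
    (.node [] (.node [(115,1)] .nil .nil) .nil))) (.node [(39,(-1))] .nil (.node [(61,1)] .nil
    (.node [] (.node [(118,(-1))] .nil .nil) .nil)))) (.node [] (.node [(37,(-1))] (.node
    [(43,(-1))] .nil (.node [(93,(-1))] (.node [(107,1)] .nil .nil) .nil)) .nil) (.node [] (.node
    [(46,1)] .nil (.node [] (.node [(113,1)] .nil .nil) .nil)) (.node [(66,1)] (.node [] (.node
    [(100,(-1))] .nil .nil) .nil) .nil)))))

/-- table -/
noncomputable def auxE7Chain97 : Tr (List (ℕ × ℤ)) :=
    (.node [(5,(-1))] (.node [] (.node [] (.node [(34,(-1))] (.node [(42,1)] (.node [(71,1)] (.node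
    [(98,(-1))] .nil .nil) .nil) (.node [] (.node [(104,(-1))] .nil .nil) .nil)) (.node [] .nil
    (.node [] (.node [(115,(-1))] .nil .nil) .nil))) (.node [(39,(-1))] (.node [(45,1)] .nil (.node
    [] (.node [(110,(-1))] .nil .nil) .nil)) (.node [(62,1)] .nil (.node [] (.node [(118,1)] .nil
    .nil) .nil)))) (.node [] (.node [] (.node [(43,(-1))] .nil (.node [(93,(-1))] .nil .nil))
    (.node [] .nil (.node [] (.node [(117,1)] .nil .nil) .nil))) (.node [(41,1)] (.node [(46,1)]
    .nil .nil) (.node [(64,1)] .nil (.node [(96,(-1))] .nil .nil))))) (.node [] (.node [] (.node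
    [(36,(-1))] (.node [] (.node [(76,1)] .nil .nil) (.node [] (.node [(106,(-1))] .nil .nil)
    .nil)) (.node [(47,1)] .nil (.node [] .nil (.node [(125,1)] .nil .nil)))) (.node [] (.node []
    .nil (.node [] (.node [(112,(-1))] .nil .nil) .nil)) .nil)) (.node [] (.node [(38,1)] (.node []
    .nil (.node [] (.node [(108,1)] .nil .nil) .nil)) (.node [] .nil (.node [(95,(-1))] .nil
    .nil))) (.node [] (.node [] .nil (.node [(94,(-1))] (.node [(114,1)] .nil .nil) .nil)) (.node
    [(67,1)] (.node [] (.node [(101,(-1))] .nil .nil) .nil) .nil)))))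

/-- table -/
noncomputable def auxE7Chain98 : Tr (List (ℕ × ℤ)) :=
    (.node [(6,1)] (.node [] (.node [] (.node [(35,1)] (.node [] (.node [(72,1)] .nil .nil) (.node
    [] (.node [(105,(-1))] .nil .nil) .nil)) (.node [(47,1)] .nil (.node [] (.node [(116,(-1))]
    .nil .nil) (.node [(125,(-1))] .nil .nil)))) (.node [(40,1)] (.node [] .nil (.node [] (.node
    [(111,(-1))] .nil .nil) .nil)) .nil)) (.node [] (.node [(38,1)] (.node [(44,1)] .nil (.node []
    (.node [(108,(-1))] .nil .nil) .nil)) (.node [] .nil (.node [(95,(-1))] .nil .nil))) (.node []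
    (.node [] .nil (.node [(94,(-1))] (.node [(114,(-1))] .nil .nil) .nil)) (.node [(65,1)] .nil
    .nil)))) (.node [] (.node [] (.node [(37,1)] (.node [] (.node [(77,1)] .nil .nil) (.node
    [(93,(-1))] (.node [(107,(-1))] .nil .nil) .nil)) (.node [] .nil (.node [] (.node [(117,(-1))]
    .nil .nil) .nil))) (.node [(41,1)] (.node [(46,1)] .nil (.node [] (.node [(113,(-1))] .nil
    .nil) .nil)) (.node [(63,1)] .nil (.node [(96,(-1))] .nil .nil)))) (.node [] (.node [] (.node
    [(45,1)] .nil .nil) (.node [] .nil (.node [] (.node [(118,(-1))] .nil .nil) .nil))) (.node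
    [(42,1)] .nil (.node [(68,1)] (.node [] (.node [(102,(-1))] .nil .nil) .nil) (.node [(97,(-1))]
    .nil .nil))))))

/-- table -/
noncomputable def auxE7Chain99 : Tr (List (ℕ × ℤ)) :=
    (.node [(7,1)] (.node [] (.node [] (.node [] (.node [(49,1)] (.node [(79,(-1))] .nil .nil)
    (.node [(95,(-1))] .nil .nil)) (.node [(57,1)] (.node [] (.node [(104,1)] .nil .nil) .nil)
    .nil)) (.node [] (.node [] (.node [] (.node [(101,(-1))] .nil .nil) .nil) .nil) (.node []
    (.node [] (.node [(109,(-1))] .nil .nil) .nil) (.node [] (.node [(120,(-1))] .nil .nil)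
    .nil)))) (.node [(34,1)] (.node [] .nil (.node [(59,1)] .nil .nil)) (.node [] (.node
    [(54,(-1))] .nil .nil) (.node [] (.node [] (.node [(111,(-1))] .nil .nil) .nil) .nil)))) (.node
    [] (.node [(33,1)] (.node [] (.node [(50,1)] (.node [(83,1)] .nil .nil) .nil) (.node [(58,1)]
    (.node [] (.node [(105,1)] .nil .nil) .nil) .nil)) (.node [] (.node [(53,(-1))] (.node []
    (.node [(102,(-1))] .nil .nil) .nil) .nil) (.node [] (.node [] (.node [(110,(-1))] .nil .nil)
    .nil) (.node [] (.node [(121,(-1))] .nil .nil) .nil)))) (.node [(35,1)] (.node [] (.node []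
    (.node [] (.node [(100,(-1))] .nil .nil) .nil) .nil) (.node [] (.node [(93,(-1))] .nil .nil)
    (.node [] (.node [(119,(-1))] .nil .nil) .nil))) (.node [(48,1)] (.node [(55,(-1))] (.node []
    (.node [(103,1)] .nil .nil) .nil) (.node [] .nil (.node [(125,(-1))] .nil .nil))) (.node
    [(78,1)] (.node [(94,1)] .nil .nil) .nil)))))

/-- table -/
noncomputable def auxE7Chain100 : Tr (List (ℕ × ℤ)) :=
    (.node [(8,(-1))] (.node [] (.node [(33,1)] (.node [] (.node [] (.node [(80,(-1))] .nil .nil)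
    (.node [(96,(-1))] .nil .nil)) (.node [(60,1)] (.node [] (.node [(106,1)] .nil .nil) .nil)
    .nil)) (.node [] (.node [(54,(-1))] .nil .nil) (.node [] .nil (.node [(99,(-1))] .nil .nil))))
    (.node [(36,(-1))] (.node [] (.node [] (.node [] (.node [(102,(-1))] .nil .nil) .nil) .nil)
    (.node [] (.node [(93,(-1))] .nil .nil) (.node [] (.node [(120,1)] .nil .nil) .nil))) (.node
    [(49,1)] (.node [] (.node [] (.node [(103,(-1))] .nil .nil) .nil) (.node [] .nil (.node
    [(125,1)] .nil .nil))) (.node [(78,1)] (.node [(94,1)] (.node [(113,(-1))] .nil .nil) .nil)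
    .nil)))) (.node [] (.node [] (.node [] (.node [(51,(-1))] (.node [(84,1)] (.node [(101,(-1))]
    .nil .nil) .nil) .nil) (.node [(61,1)] (.node [] (.node [(107,1)] .nil .nil) .nil) (.node []
    (.node [(119,1)] .nil .nil) .nil))) (.node [(48,1)] .nil (.node [] (.node [] (.node
    [(112,(-1))] .nil .nil) .nil) (.node [] (.node [(122,(-1))] .nil .nil) .nil)))) (.node
    [(37,(-1))] (.node [] (.node [(53,(-1))] .nil .nil) (.node [(66,1)] (.node [] (.node [(109,1)]
    .nil .nil) .nil) .nil)) (.node [] (.node [(56,1)] .nil .nil) .nil))))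

/-- table -/
noncomputable def auxE7Chain101 : Tr (List (ℕ × ℤ)) :=
    (.node [(9,1)] (.node [] (.node [(34,(-1))] (.node [] (.node [(51,(-1))] (.node [(81,(-1))]
    (.node [(102,(-1))] .nil .nil) .nil) (.node [(97,(-1))] .nil .nil)) (.node [(62,1)] .nil (.node
    [] (.node [(119,(-1))] .nil .nil) .nil))) (.node [(48,1)] (.node [(55,1)] .nil .nil) (.node []
    (.node [] (.node [(112,1)] .nil .nil) .nil) (.node [] (.node [(122,1)] .nil .nil) .nil))))
    (.node [] (.node [] (.node [(53,(-1))] .nil .nil) (.node [(64,1)] .nil (.node [] (.node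
    [(121,1)] .nil .nil) .nil))) (.node [(50,(-1))] (.node [(56,1)] (.node [] (.node [(104,(-1))]
    .nil .nil) .nil) .nil) (.node [] (.node [] (.node [(114,(-1))] .nil .nil) .nil) (.node
    [(100,(-1))] .nil .nil))))) (.node [] (.node [(36,(-1))] (.node [] (.node [] (.node [(85,1)]
    .nil .nil) .nil) (.node [] (.node [(93,(-1))] (.node [(108,1)] .nil .nil) .nil) .nil)) (.node
    [] (.node [] .nil (.node [] .nil (.node [(125,(-1))] .nil .nil))) (.node [(78,1)] (.node
    [(94,1)] .nil .nil) .nil))) (.node [(38,1)] (.node [] .nil (.node [(67,1)] (.node [] (.node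
    [(110,1)] .nil .nil) .nil) (.node [(99,(-1))] .nil .nil))) (.node [] (.node [] (.node [] (.node
    [(106,(-1))] .nil .nil) .nil) .nil) .nil))))

/-- table -/
noncomputable def auxE7Chain102 : Tr (List (ℕ × ℤ)) :=
    (.node [(10,(-1))] (.node [] (.node [(35,1)] (.node [] (.node [] (.node [(82,(-1))] .nil .nil)
    (.node [(98,(-1))] .nil .nil)) (.node [] (.node [(93,(-1))] (.node [(108,(-1))] .nil .nil)
    .nil) (.node [] (.node [(120,(-1))] .nil .nil) .nil))) (.node [(49,(-1))] (.node [] .nil (.node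
    [] .nil (.node [(125,1)] .nil .nil))) (.node [(78,1)] (.node [(94,1)] (.node [(113,1)] .nil
    .nil) .nil) .nil))) (.node [(38,1)] (.node [] (.node [(54,1)] .nil .nil) (.node [(65,1)] .nil
    (.node [(99,(-1))] .nil .nil))) (.node [] (.node [] (.node [] (.node [(105,(-1))] .nil .nil)
    .nil) .nil) .nil))) (.node [] (.node [(37,1)] (.node [] (.node [] (.node [(86,1)] .nil .nil)
    .nil) (.node [(63,1)] .nil (.node [] (.node [(121,(-1))] .nil .nil) .nil))) (.node [(50,(-1))]
    (.node [(56,1)] .nil .nil) (.node [] (.node [] (.node [(114,1)] .nil .nil) .nil) (.node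
    [(100,(-1))] .nil .nil)))) (.node [] (.node [] (.node [(55,1)] .nil .nil) (.node [(68,1)]
    (.node [] (.node [(111,1)] .nil .nil) .nil) (.node [] (.node [(122,(-1))] .nil .nil) .nil)))
    (.node [(51,(-1))] (.node [] (.node [] (.node [(107,(-1))] .nil .nil) .nil) .nil) (.node []
    .nil (.node [(101,(-1))] .nil .nil))))))

/-- table -/
noncomputable def auxE7Chain103 : Tr (List (ℕ × ℤ)) :=
    (.node [(11,1)] (.node [] (.node [] (.node [] .nil (.node [] .nil (.node [(99,1)] .nil .nil)))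
    (.node [] (.node [(58,(-1))] (.node [] (.node [(106,1)] .nil .nil) .nil) .nil) .nil)) (.node
    [(39,1)] (.node [(48,1)] (.node [] (.node [] (.node [(105,(-1))] .nil .nil) .nil) .nil) (.node
    [(69,1)] (.node [] (.node [(109,(-1))] .nil .nil) .nil) .nil)) (.node [] (.node [(61,1)] .nil
    (.node [] (.node [(119,(-1))] .nil .nil) .nil)) (.node [(79,1)] (.node [(95,1)] (.node
    [(116,(-1))] .nil .nil) .nil) .nil)))) (.node [(33,1)] (.node [] (.node [] (.node [(52,1)]
    (.node [(87,1)] (.node [(104,(-1))] .nil .nil) .nil) .nil) (.node [] .nil (.node [(100,(-1))]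
    .nil .nil))) (.node [] (.node [(60,1)] (.node [] (.node [(107,1)] .nil .nil) .nil) .nil) (.node
    [] (.node [] (.node [(115,(-1))] .nil .nil) .nil) (.node [] (.node [(123,(-1))] .nil .nil)
    .nil)))) (.node [(40,1)] (.node [(49,1)] (.node [(57,(-1))] .nil (.node [] .nil (.node
    [(125,(-1))] .nil .nil))) (.node [(70,(-1))] .nil .nil)) (.node [] (.node [] (.node [(93,(-1))]
    .nil .nil) (.node [] (.node [(120,(-1))] .nil .nil) .nil)) (.node [(80,(-1))] (.node
    [(96,(-1))] .nil .nil) .nil)))))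

/-- table -/
noncomputable def auxE7Chain104 : Tr (List (ℕ × ℤ)) :=
    (.node [(12,(-1))] (.node [] (.node [] (.node [] (.node [(52,1)] (.node [] (.node [(105,(-1))]
    .nil .nil) .nil) .nil) .nil) (.node [] (.node [(59,1)] .nil .nil) (.node [] (.node [] (.node
    [(115,1)] .nil .nil) .nil) (.node [] (.node [(123,1)] .nil .nil) .nil)))) (.node [] (.node []
    (.node [(57,(-1))] .nil (.node [] .nil (.node [(125,1)] .nil .nil))) (.node [] (.node [] (.node
    [(110,(-1))] .nil .nil) .nil) .nil)) (.node [] (.node [] (.node [(93,(-1))] .nil .nil) .nil)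
    (.node [] (.node [] (.node [(117,(-1))] .nil .nil) .nil) (.node [(103,(-1))] .nil .nil)))))
    (.node [(34,(-1))] (.node [(39,1)] (.node [(48,1)] (.node [] (.node [(88,1)] .nil .nil) .nil)
    (.node [(69,1)] .nil (.node [(101,(-1))] .nil .nil))) (.node [] (.node [(62,1)] (.node []
    (.node [(108,1)] .nil .nil) .nil) (.node [] (.node [(119,1)] .nil .nil) .nil)) (.node [(79,1)]
    (.node [(95,1)] .nil .nil) .nil))) (.node [(41,(-1))] (.node [(50,(-1))] (.node [] (.node []
    (.node [(106,(-1))] .nil .nil) .nil) .nil) (.node [(71,(-1))] .nil .nil)) (.node [] (.node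
    [(64,1)] .nil (.node [(99,1)] (.node [(121,(-1))] .nil .nil) .nil)) (.node [(81,(-1))] (.node
    [(97,(-1))] .nil .nil) .nil)))))

/-- table -/
noncomputable def auxE7Chain105 : Tr (List (ℕ × ℤ)) :=
    (.node [(13,1)] (.node [] (.node [] (.node [] .nil (.node [(69,1)] .nil .nil)) (.node [] (.node
    [] (.node [] (.node [(108,(-1))] .nil .nil) .nil) .nil) (.node [(79,1)] (.node [(95,1)] (.node
    [(116,1)] .nil .nil) .nil) .nil))) (.node [(41,(-1))] (.node [(50,(-1))] (.node [(58,1)] .nil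
    .nil) (.node [] (.node [] (.node [(111,(-1))] .nil .nil) .nil) .nil)) (.node [] (.node [(63,1)]
    .nil (.node [(99,1)] (.node [(121,1)] .nil .nil) .nil)) .nil))) (.node [(35,1)] (.node
    [(40,(-1))] (.node [(49,(-1))] (.node [] (.node [(89,1)] .nil .nil) (.node [] .nil (.node
    [(125,(-1))] .nil .nil))) (.node [] .nil (.node [(102,(-1))] .nil .nil))) (.node [] (.node []
    (.node [(93,(-1))] .nil .nil) (.node [] (.node [(120,1)] .nil .nil) .nil)) (.node [] (.node []
    (.node [(117,1)] .nil .nil) .nil) (.node [(103,(-1))] .nil .nil)))) (.node [] (.node [] (.node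
    [(59,1)] (.node [] (.node [(107,(-1))] .nil .nil) .nil) .nil) (.node [(72,(-1))] .nil (.node []
    (.node [(123,(-1))] .nil .nil) .nil))) (.node [(52,1)] (.node [(65,1)] .nil .nil) (.node
    [(82,(-1))] (.node [(98,(-1))] .nil .nil) (.node [(104,(-1))] .nil .nil))))))

/-- table -/
noncomputable def auxE7Chain106 : Tr (List (ℕ × ℤ)) :=
    (.node [(14,1)] (.node [] (.node [(39,1)] (.node [(48,1)] (.node [] (.node [] (.node
    [(107,(-1))] .nil .nil) .nil) (.node [] .nil (.node [(125,(-1))] .nil .nil))) (.node [] .nil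
    (.node [(101,(-1))] .nil .nil))) (.node [] (.node [] (.node [(93,(-1))] .nil .nil) (.node []
    (.node [(119,(-1))] .nil .nil) .nil)) (.node [] .nil (.node [(104,(-1))] .nil .nil)))) (.node
    [] (.node [] (.node [(60,(-1))] (.node [] (.node [(108,1)] .nil .nil) .nil) .nil) (.node
    [(71,(-1))] (.node [] (.node [(112,(-1))] .nil .nil) .nil) (.node [] (.node [(123,(-1))] .nil
    .nil) .nil))) (.node [(52,1)] (.node [(66,1)] .nil .nil) (.node [(81,(-1))] (.node [(97,(-1))]
    (.node [(118,(-1))] .nil .nil) .nil) .nil)))) (.node [(36,1)] (.node [] (.node [] (.node []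
    (.node [(90,1)] .nil .nil) .nil) (.node [(70,1)] .nil .nil)) (.node [] .nil (.node [(80,1)]
    (.node [(96,1)] .nil .nil) .nil))) (.node [(42,1)] (.node [(51,1)] (.node [(62,1)] .nil .nil)
    (.node [] (.node [] (.node [(115,(-1))] .nil .nil) .nil) (.node [(103,1)] .nil .nil))) (.node
    [] (.node [(67,(-1))] .nil (.node [(100,1)] (.node [(122,(-1))] .nil .nil) .nil)) .nil))))

/-- table -/
noncomputable def auxE7Chain107 : Tr (List (ℕ × ℤ)) :=
    (.node [(15,(-1))] (.node [] (.node [(40,(-1))] (.node [(49,(-1))] .nil (.node [(70,1)] .nil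
    (.node [(102,(-1))] .nil .nil))) (.node [] (.node [(63,1)] .nil (.node [] (.node [(120,(-1))]
    .nil .nil) .nil)) (.node [(80,1)] (.node [(96,1)] .nil .nil) (.node [(105,(-1))] .nil .nil))))
    (.node [(42,1)] (.node [(51,1)] (.node [(61,1)] .nil .nil) (.node [(72,(-1))] (.node [] (.node
    [(113,(-1))] .nil .nil) .nil) (.node [(103,1)] .nil .nil))) (.node [] (.node [] .nil (.node
    [(100,1)] (.node [(122,1)] .nil .nil) .nil)) (.node [(82,(-1))] (.node [(98,(-1))] .nil .nil)
    .nil)))) (.node [(37,(-1))] (.node [] (.node [] (.node [] (.node [(91,1)] (.node [(108,(-1))]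
    .nil .nil) .nil) .nil) (.node [] .nil (.node [] (.node [(123,1)] .nil .nil) .nil))) (.node
    [(52,1)] (.node [(66,1)] .nil .nil) (.node [] (.node [] (.node [(118,1)] .nil .nil) .nil)
    .nil))) (.node [] (.node [] (.node [] (.node [(93,(-1))] .nil .nil) .nil) (.node [] (.node []
    (.node [(116,(-1))] .nil .nil) .nil) .nil)) (.node [] (.node [(68,(-1))] .nil .nil) (.node []
    (.node [] .nil (.node [(125,1)] .nil .nil)) (.node [(106,(-1))] .nil .nil))))))

/-- table -/
noncomputable def auxE7Chain108 : Tr (List (ℕ × ℤ)) :=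
    (.node [(16,1)] (.node [] (.node [(41,1)] (.node [(50,1)] .nil (.node [(71,1)] .nil (.node []
    (.node [(123,(-1))] .nil .nil) .nil))) (.node [(52,1)] (.node [(65,(-1))] .nil (.node [] (.node
    [(121,(-1))] .nil .nil) .nil)) (.node [(81,1)] (.node [(97,1)] (.node [(118,(-1))] .nil .nil)
    .nil) .nil))) (.node [] (.node [] (.node [] (.node [(93,(-1))] .nil .nil) .nil) (.node []
    (.node [] (.node [(114,(-1))] .nil .nil) .nil) (.node [(104,1)] .nil .nil))) (.node [] (.node
    [(68,(-1))] .nil (.node [(101,1)] .nil .nil)) (.node [] (.node [] .nil (.node [(125,(-1))] .nil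
    .nil)) (.node [(107,(-1))] .nil .nil))))) (.node [(38,1)] (.node [(42,1)] (.node [(51,1)]
    (.node [] (.node [(92,1)] .nil .nil) .nil) (.node [(72,(-1))] .nil .nil)) (.node [] (.node
    [(67,1)] .nil (.node [] (.node [(122,(-1))] .nil .nil) .nil)) (.node [(82,(-1))] (.node
    [(98,(-1))] .nil .nil) (.node [(106,1)] .nil .nil)))) (.node [] (.node [] (.node [(64,1)] .nil
    .nil) (.node [] (.node [] (.node [(117,(-1))] .nil .nil) .nil) (.node [(105,(-1))] .nil .nil)))
    (.node [] (.node [] .nil (.node [(102,(-1))] .nil .nil)) .nil))))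

/-- table -/
noncomputable def auxE7Chain109 : Tr (List (ℕ × ℤ)) :=
    (.node [(17,(-1))] (.node [(33,1)] (.node [] (.node [] (.node [(61,1)] (.node [(87,1)] .nil
    .nil) .nil) (.node [] (.node [] (.node [(115,(-1))] .nil .nil) .nil) .nil)) (.node [] (.node []
    (.node [] (.node [(112,1)] .nil .nil) .nil) (.node [(100,1)] .nil .nil)) .nil)) (.node
    [(43,(-1))] (.node [(53,1)] (.node [] (.node [] (.node [(111,(-1))] .nil .nil) .nil) (.node []
    (.node [(119,1)] .nil .nil) .nil)) (.node [(74,(-1))] (.node [(95,1)] .nil .nil) .nil)) (.node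
    [(58,(-1))] .nil (.node [(83,1)] .nil .nil)))) (.node [] (.node [] (.node [] (.node [] (.node
    [] (.node [(110,(-1))] .nil .nil) .nil) .nil) (.node [] (.node [] (.node [(116,(-1))] .nil
    .nil) .nil) .nil)) (.node [(57,(-1))] (.node [] (.node [] (.node [(113,1)] .nil .nil) .nil)
    (.node [(103,(-1))] .nil .nil)) (.node [] (.node [] .nil (.node [(125,1)] .nil .nil)) (.node []
    (.node [(124,(-1))] .nil .nil) .nil)))) (.node [(44,(-1))] (.node [(54,1)] (.node [] .nil
    (.node [(99,(-1))] (.node [(120,1)] .nil .nil) .nil)) (.node [(75,1)] (.node [(96,(-1))] .nil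
    .nil) .nil)) (.node [(60,1)] (.node [(73,1)] (.node [(94,(-1))] .nil .nil) .nil) (.node
    [(84,(-1))] .nil .nil)))))

/-- table -/
noncomputable def auxE7Chain110 : Tr (List (ℕ × ℤ)) :=
    (.node [(18,1)] (.node [(34,(-1))] (.node [] (.node [] (.node [] (.node [(88,1)] (.node
    [(111,(-1))] .nil .nil) .nil) .nil) .nil) (.node [(57,(-1))] (.node [] .nil (.node [(101,1)]
    .nil .nil)) (.node [] (.node [] .nil (.node [(125,(-1))] .nil .nil)) (.node [] (.node [(124,1)]
    .nil .nil) .nil)))) (.node [] (.node [] (.node [] .nil (.node [(99,(-1))] .nil .nil)) .nil)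
    (.node [(59,1)] (.node [(73,1)] (.node [(94,(-1))] .nil .nil) .nil) (.node [] .nil (.node
    [(109,(-1))] .nil .nil))))) (.node [] (.node [(43,(-1))] (.node [(53,1)] (.node [(64,1)] .nil
    (.node [] (.node [(119,(-1))] .nil .nil) .nil)) (.node [(74,(-1))] (.node [(95,1)] (.node
    [(117,(-1))] .nil .nil) .nil) .nil)) (.node [] (.node [] (.node [] (.node [(114,1)] .nil .nil)
    .nil) (.node [(104,(-1))] .nil .nil)) (.node [(83,1)] .nil .nil))) (.node [(45,1)] (.node
    [(55,(-1))] (.node [] (.node [] (.node [(112,(-1))] .nil .nil) .nil) (.node [] (.node [(121,1)]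
    .nil .nil) .nil)) (.node [(76,1)] (.node [(97,(-1))] .nil .nil) .nil)) (.node [(62,1)] (.node
    [] (.node [] (.node [(115,1)] .nil .nil) .nil) .nil) (.node [(85,(-1))] .nil .nil)))))

/-- table -/
noncomputable def auxE7Chain111 : Tr (List (ℕ × ℤ)) :=
    (.node [(19,(-1))] (.node [(35,1)] (.node [] (.node [] (.node [(63,1)] (.node [(89,1)] .nil
    .nil) .nil) (.node [(74,(-1))] (.node [(95,1)] (.node [(117,1)] .nil .nil) .nil) .nil)) (.node
    [(58,1)] (.node [] (.node [] (.node [(114,(-1))] .nil .nil) .nil) (.node [(102,1)] .nil .nil))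
    (.node [(83,1)] .nil .nil))) (.node [(45,1)] (.node [(55,(-1))] (.node [] .nil (.node [] (.node
    [(121,(-1))] .nil .nil) .nil)) .nil) .nil)) (.node [] (.node [(44,1)] (.node [(54,(-1))] (.node
    [(65,1)] .nil (.node [(99,(-1))] (.node [(120,(-1))] .nil .nil) .nil)) .nil) (.node [(59,1)]
    (.node [(73,1)] (.node [(94,(-1))] .nil .nil) (.node [(105,(-1))] .nil .nil)) (.node [] .nil
    (.node [(109,(-1))] .nil .nil)))) (.node [] (.node [] (.node [] (.node [] (.node [(113,(-1))]
    .nil .nil) .nil) .nil) (.node [(77,1)] (.node [(98,(-1))] .nil (.node [(125,1)] .nil .nil))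
    (.node [] (.node [(124,(-1))] .nil .nil) .nil))) (.node [] (.node [] (.node [] (.node [(116,1)]
    .nil .nil) .nil) .nil) (.node [(86,(-1))] .nil (.node [(110,(-1))] .nil .nil))))))

/-- table -/
noncomputable def auxE7Chain112 : Tr (List (ℕ × ℤ)) :=
    (.node [(20,(-1))] (.node [(36,1)] (.node [(43,(-1))] (.node [(53,1)] (.node [(66,1)] (.node
    [(90,1)] (.node [(113,(-1))] .nil .nil) .nil) (.node [] (.node [(119,1)] .nil .nil) .nil))
    .nil) (.node [(60,(-1))] (.node [(73,1)] (.node [(94,(-1))] .nil .nil) .nil) (.node [] .nil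
    (.node [(110,(-1))] .nil .nil)))) (.node [] (.node [] (.node [] (.node [] (.node [(114,1)] .nil
    .nil) .nil) (.node [(100,(-1))] .nil .nil)) (.node [(76,1)] (.node [(97,(-1))] .nil (.node
    [(125,1)] .nil .nil)) (.node [] (.node [(124,(-1))] .nil .nil) .nil))) (.node [] (.node []
    (.node [] (.node [(115,(-1))] .nil .nil) .nil) .nil) (.node [(85,(-1))] .nil .nil)))) (.node []
    (.node [] (.node [] (.node [(67,(-1))] .nil .nil) (.node [(75,(-1))] (.node [(96,1)] (.node
    [(118,(-1))] .nil .nil) .nil) .nil)) (.node [(62,1)] (.node [] .nil (.node [(106,(-1))] .nil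
    .nil)) (.node [(84,1)] .nil .nil))) (.node [(46,(-1))] (.node [(56,1)] (.node [] .nil (.node
    [(101,1)] (.node [(122,1)] .nil .nil) .nil)) (.node [] .nil (.node [(109,1)] .nil .nil)))
    .nil)))

/-- table -/
noncomputable def auxE7Chain113 : Tr (List (ℕ × ℤ)) :=
    (.node [(21,1)] (.node [(37,(-1))] (.node [(44,1)] (.node [(54,(-1))] (.node [] (.node [(91,1)]
    .nil .nil) (.node [] (.node [(120,1)] .nil .nil) .nil)) (.node [(75,(-1))] (.node [(96,1)]
    (.node [(118,1)] .nil .nil) .nil) .nil)) (.node [(61,1)] .nil (.node [(84,1)] .nil (.node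
    [(111,(-1))] .nil .nil)))) (.node [(46,(-1))] (.node [(56,1)] (.node [] .nil (.node [] (.node
    [(122,(-1))] .nil .nil) .nil)) (.node [(77,1)] (.node [(98,(-1))] .nil .nil) (.node [(109,1)]
    .nil .nil))) (.node [(63,1)] (.node [] (.node [] (.node [(116,(-1))] .nil .nil) .nil) .nil)
    (.node [(86,(-1))] .nil .nil)))) (.node [] (.node [] (.node [] (.node [(68,(-1))] (.node []
    (.node [(114,(-1))] .nil .nil) .nil) (.node [(100,(-1))] .nil .nil)) (.node [] (.node [] .nil
    (.node [(125,(-1))] .nil .nil)) (.node [] (.node [(124,1)] .nil .nil) .nil))) (.node [] (.node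
    [] .nil (.node [(107,(-1))] .nil .nil)) .nil)) (.node [] (.node [] (.node [(73,1)] (.node
    [(94,(-1))] .nil .nil) (.node [(102,1)] .nil .nil)) .nil) (.node [(66,1)] .nil (.node [] .nil
    (.node [(112,(-1))] .nil .nil))))))

/-- table -/
noncomputable def auxE7Chain114 : Tr (List (ℕ × ℤ)) :=
    (.node [(22,(-1))] (.node [(38,1)] (.node [(45,(-1))] (.node [(55,1)] (.node [(68,(-1))] (.node
    [(92,1)] .nil .nil) (.node [] (.node [(121,1)] .nil .nil) .nil)) (.node [(76,(-1))] (.node
    [(97,1)] .nil (.node [(125,1)] .nil .nil)) (.node [] (.node [(124,(-1))] .nil .nil) .nil)))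
    (.node [] .nil (.node [(85,1)] .nil .nil))) (.node [] (.node [] (.node [(73,1)] (.node
    [(94,(-1))] .nil .nil) (.node [(102,1)] .nil .nil)) (.node [] .nil (.node [(110,1)] .nil
    .nil))) (.node [(65,(-1))] (.node [] (.node [] (.node [(117,(-1))] .nil .nil) .nil) .nil)
    (.node [] .nil (.node [(113,(-1))] .nil .nil))))) (.node [] (.node [(46,(-1))] (.node [(56,1)]
    (.node [] .nil (.node [(101,(-1))] (.node [(122,1)] .nil .nil) .nil)) (.node [(77,1)] (.node
    [(98,(-1))] .nil .nil) .nil)) (.node [(64,1)] (.node [] .nil (.node [(108,(-1))] .nil .nil))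
    (.node [(86,(-1))] .nil (.node [(112,1)] .nil .nil)))) (.node [] (.node [] .nil (.node [] .nil
    (.node [(111,(-1))] .nil .nil))) (.node [(67,1)] (.node [] (.node [] (.node [(118,(-1))] .nil
    .nil) .nil) .nil) .nil))))

/-- table -/
noncomputable def auxE7Chain115 : Tr (List (ℕ × ℤ)) :=
    (.node [(23,1)] (.node [(39,(-1))] (.node [] (.node [(57,1)] (.node [(70,(-1))] (.node []
    (.node [(116,(-1))] .nil .nil) .nil) .nil) (.node [] .nil (.node [(110,1)] .nil .nil))) (.node
    [] (.node [(74,1)] (.node [(95,(-1))] .nil .nil) (.node [(106,(-1))] .nil .nil)) .nil)) (.node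
    [] (.node [(62,1)] (.node [] (.node [] (.node [(117,1)] .nil .nil) .nil) (.node [(103,(-1))]
    .nil .nil)) .nil) (.node [(69,1)] (.node [(75,(-1))] (.node [(96,1)] .nil .nil) .nil) (.node
    [(88,(-1))] .nil .nil)))) (.node [(43,(-1))] (.node [] (.node [(60,(-1))] (.node [(71,1)] .nil
    .nil) (.node [] .nil (.node [(112,(-1))] .nil .nil))) (.node [] (.node [] (.node [] (.node
    [(118,(-1))] .nil .nil) .nil) .nil) (.node [(87,1)] .nil .nil))) (.node [(47,1)] (.node []
    (.node [] .nil (.node [(104,1)] (.node [(123,1)] .nil .nil) .nil)) .nil) (.node [] (.node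
    [(76,1)] (.node [(97,(-1))] .nil (.node [(125,(-1))] .nil .nil)) (.node [(109,(-1))] (.node
    [(124,1)] .nil .nil) .nil)) (.node [(90,1)] (.node [] (.node [(119,(-1))] .nil .nil) .nil)
    .nil)))))

/-- table -/
noncomputable def auxE7Chain116 : Tr (List (ℕ × ℤ)) :=
    (.node [(24,(-1))] (.node [(40,1)] (.node [] (.node [(58,(-1))] .nil (.node [] .nil (.node
    [(111,1)] .nil .nil))) (.node [] (.node [] (.node [] (.node [(118,1)] .nil .nil) .nil) (.node
    [(107,(-1))] .nil .nil)) (.node [(87,1)] .nil .nil))) (.node [(47,1)] (.node [] (.node [] .nil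
    (.node [] (.node [(123,(-1))] .nil .nil) .nil)) .nil) (.node [] (.node [] (.node [] .nil (.node
    [(125,1)] .nil .nil)) (.node [(109,(-1))] (.node [(124,(-1))] .nil .nil) .nil)) (.node
    [(89,(-1))] .nil .nil)))) (.node [(44,1)] (.node [] (.node [(61,1)] (.node [(72,1)] (.node []
    (.node [(117,(-1))] .nil .nil) .nil) (.node [(103,(-1))] .nil .nil)) (.node [] .nil (.node
    [(113,(-1))] .nil .nil))) (.node [(69,1)] (.node [(75,(-1))] (.node [(96,1)] .nil .nil) .nil)
    .nil)) (.node [] (.node [(63,1)] (.node [(74,1)] (.node [(95,(-1))] .nil .nil) (.node [(105,1)]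
    .nil .nil)) .nil) (.node [(70,(-1))] (.node [(77,1)] (.node [(98,(-1))] .nil .nil) .nil) (.node
    [(91,1)] (.node [] (.node [(120,(-1))] .nil .nil) .nil) (.node [(115,(-1))] .nil .nil))))))

/-- table -/
noncomputable def auxE7Chain117 : Tr (List (ℕ × ℤ)) :=
    (.node [(25,1)] (.node [(41,(-1))] (.node [] (.node [(59,1)] (.node [(72,1)] .nil .nil) .nil)
    (.node [(69,1)] (.node [] .nil (.node [(108,(-1))] .nil .nil)) (.node [(88,1)] .nil .nil)))
    (.node [] (.node [(64,1)] (.node [(74,1)] (.node [(95,(-1))] .nil .nil) (.node [(105,1)] .nil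
    .nil)) .nil) (.node [] (.node [(77,1)] (.node [(98,(-1))] .nil .nil) (.node [(110,(-1))] .nil
    .nil)) (.node [] .nil (.node [(116,(-1))] .nil .nil))))) (.node [(45,(-1))] (.node [(47,1)]
    (.node [] (.node [] .nil (.node [(104,(-1))] (.node [(123,1)] .nil .nil) .nil)) (.node [] .nil
    (.node [(114,(-1))] .nil .nil))) (.node [] (.node [(76,(-1))] (.node [(97,1)] .nil (.node
    [(125,(-1))] .nil .nil)) (.node [] (.node [(124,1)] .nil .nil) .nil)) (.node [(89,(-1))] .nil
    (.node [(115,1)] .nil .nil)))) (.node [] (.node [(65,(-1))] (.node [] (.node [] (.node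
    [(118,(-1))] .nil .nil) .nil) .nil) .nil) (.node [(71,(-1))] (.node [] .nil (.node [(111,1)]
    .nil .nil)) (.node [(92,1)] (.node [] (.node [(121,(-1))] .nil .nil) .nil) .nil)))))

/-- table -/
noncomputable def auxE7Chain118 : Tr (List (ℕ × ℤ)) :=
    (.node [(26,(-1))] (.node [(42,1)] (.node [(47,1)] (.node [] (.node [] .nil (.node [] (.node
    [(123,(-1))] .nil .nil) .nil)) (.node [] .nil (.node [(114,(-1))] .nil .nil))) (.node [(70,1)]
    (.node [(77,1)] (.node [(98,(-1))] .nil (.node [(125,1)] .nil .nil)) (.node [] (.node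
    [(124,(-1))] .nil .nil) .nil)) (.node [(90,1)] .nil (.node [(117,(-1))] .nil .nil)))) (.node []
    (.node [(67,(-1))] (.node [(75,1)] (.node [(96,(-1))] .nil .nil) (.node [(107,1)] .nil .nil))
    (.node [] .nil (.node [(115,(-1))] .nil .nil))) (.node [(72,1)] (.node [] .nil (.node
    [(112,(-1))] .nil .nil)) (.node [(92,1)] .nil .nil)))) (.node [(46,1)] (.node [] (.node
    [(66,1)] (.node [] .nil (.node [(106,(-1))] .nil .nil)) .nil) (.node [(71,(-1))] .nil (.node
    [(91,(-1))] .nil .nil))) (.node [] (.node [(68,1)] (.node [(76,(-1))] (.node [(97,1)] .nil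
    .nil) (.node [(108,(-1))] .nil .nil)) (.node [] .nil (.node [(116,1)] .nil .nil))) (.node []
    (.node [] .nil (.node [(113,1)] .nil .nil)) (.node [] (.node [] (.node [(122,(-1))] .nil .nil)
    .nil) .nil)))))

/-- table -/
noncomputable def auxE7Chain119 : Tr (List (ℕ × ℤ)) :=
    (.node [(27,(-1))] (.node [(48,1)] (.node [(57,1)] (.node [] (.node [(80,1)] (.node [] (.node
    [(120,(-1))] .nil .nil) .nil) (.node [(115,(-1))] .nil .nil)) .nil) (.node [] (.node [(83,1)]
    (.node [(99,(-1))] .nil .nil) .nil) .nil)) (.node [(62,1)] (.node [] (.node [] (.node [] (.node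
    [(121,1)] .nil .nil) .nil) .nil) (.node [(88,(-1))] (.node [(104,1)] .nil .nil) .nil)) (.node
    [(79,(-1))] (.node [(84,(-1))] (.node [(100,1)] .nil .nil) .nil) (.node [] (.node [(110,(-1))]
    (.node [(124,(-1))] .nil .nil) .nil) .nil)))) (.node [(53,(-1))] (.node [(60,(-1))] (.node []
    (.node [(81,(-1))] .nil .nil) (.node [(87,1)] (.node [(103,(-1))] (.node [(123,1)] .nil .nil)
    .nil) .nil)) (.node [] (.node [] (.node [] (.node [(122,(-1))] .nil .nil) .nil) .nil) (.node []
    (.node [(109,1)] .nil .nil) .nil))) (.node [] (.node [(78,1)] (.node [] (.node [] .nil (.node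
    [(125,1)] .nil .nil)) .nil) (.node [(90,1)] (.node [(106,(-1))] .nil .nil) .nil)) (.node []
    (.node [(85,1)] (.node [(101,(-1))] .nil .nil) .nil) (.node [] (.node [(112,1)] .nil .nil)
    .nil)))))

/-- table -/
noncomputable def auxE7Chain120 : Tr (List (ℕ × ℤ)) :=
    (.node [(28,1)] (.node [(49,(-1))] (.node [(58,(-1))] (.node [] (.node [] .nil (.node
    [(116,(-1))] .nil .nil)) (.node [(87,1)] (.node [(103,(-1))] (.node [(123,(-1))] .nil .nil)
    .nil) .nil)) (.node [] (.node [] (.node [] (.node [(122,1)] .nil .nil) .nil) .nil) (.node []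
    (.node [(109,1)] .nil .nil) .nil))) (.node [] (.node [(78,1)] (.node [] (.node [] .nil (.node
    [(125,(-1))] .nil .nil)) .nil) (.node [(89,(-1))] (.node [(105,1)] .nil .nil) .nil)) (.node []
    .nil (.node [] (.node [(111,(-1))] .nil .nil) .nil)))) (.node [(54,1)] (.node [(61,1)] (.node
    [] (.node [(82,(-1))] (.node [] (.node [(121,(-1))] .nil .nil) .nil) .nil) .nil) (.node
    [(79,(-1))] (.node [(84,(-1))] (.node [(100,1)] .nil .nil) .nil) (.node [] (.node [] (.node
    [(124,1)] .nil .nil) .nil) .nil))) (.node [(63,1)] (.node [] (.node [(83,1)] (.node [(99,(-1))]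
    .nil .nil) .nil) (.node [(91,1)] (.node [(107,(-1))] .nil .nil) .nil)) (.node [(80,1)] (.node
    [(86,1)] (.node [(102,(-1))] .nil .nil) .nil) (.node [] (.node [(113,1)] .nil .nil) (.node
    [(119,(-1))] .nil .nil))))))

/-- table -/
noncomputable def auxE7Chain121 : Tr (List (ℕ × ℤ)) :=
    (.node [(29,(-1))] (.node [(50,1)] (.node [(59,1)] (.node [] (.node [(82,(-1))] .nil (.node
    [(117,(-1))] .nil .nil)) (.node [(88,1)] (.node [(104,(-1))] .nil .nil) .nil)) (.node
    [(79,(-1))] .nil (.node [] (.node [(110,1)] (.node [(124,(-1))] .nil .nil) .nil) .nil))) (.node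
    [(64,1)] (.node [] (.node [(83,1)] (.node [(99,(-1))] .nil .nil) .nil) .nil) (.node [] (.node
    [(86,1)] (.node [(102,(-1))] .nil .nil) .nil) (.node [] .nil (.node [(120,(-1))] .nil .nil)))))
    (.node [(55,(-1))] (.node [] (.node [(78,1)] (.node [] (.node [] .nil (.node [(125,1)] .nil
    .nil)) .nil) (.node [(89,(-1))] (.node [(105,1)] .nil .nil) .nil)) (.node [] (.node [(85,(-1))]
    (.node [(101,1)] .nil .nil) .nil) (.node [] (.node [(111,(-1))] .nil .nil) (.node [(119,1)]
    .nil .nil)))) (.node [(65,(-1))] (.node [] (.node [] (.node [] (.node [(122,(-1))] .nil .nil)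
    .nil) .nil) (.node [(92,1)] (.node [(108,(-1))] .nil .nil) .nil)) (.node [(81,1)] (.node []
    (.node [] (.node [(123,1)] .nil .nil) .nil) .nil) (.node [] (.node [(114,1)] .nil .nil)
    .nil)))))

/-- table -/
noncomputable def auxE7Chain122 : Tr (List (ℕ × ℤ)) :=
    (.node [(30,1)] (.node [(51,(-1))] (.node [] (.node [(78,1)] (.node [] (.node [] .nil (.node
    [(125,(-1))] .nil .nil)) (.node [(118,(-1))] .nil .nil)) (.node [(90,1)] (.node [(106,(-1))]
    .nil .nil) .nil)) (.node [(80,(-1))] (.node [(86,1)] (.node [(102,(-1))] .nil .nil) .nil)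
    (.node [] (.node [(112,1)] .nil .nil) (.node [(121,(-1))] .nil .nil)))) (.node [(67,(-1))]
    (.node [] (.node [(84,1)] (.node [(100,(-1))] .nil .nil) .nil) (.node [(92,1)] (.node
    [(108,(-1))] .nil .nil) (.node [(119,(-1))] .nil .nil))) (.node [(82,(-1))] (.node [] (.node []
    (.node [(123,(-1))] .nil .nil) .nil) .nil) (.node [] (.node [(114,1)] .nil .nil) .nil))))
    (.node [(56,1)] (.node [(66,1)] (.node [] .nil (.node [(91,(-1))] (.node [(107,1)] .nil .nil)
    .nil)) (.node [(81,1)] .nil (.node [] (.node [(113,(-1))] .nil .nil) .nil))) (.node [(68,1)]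
    (.node [] (.node [(85,(-1))] (.node [(101,1)] .nil .nil) .nil) (.node [] (.node [] (.node
    [(124,1)] .nil .nil) .nil) (.node [(120,1)] .nil .nil))) .nil)))

/-- table -/
noncomputable def auxE7Chain123 : Tr (List (ℕ × ℤ)) :=
    (.node [(31,(-1))] (.node [(52,1)] (.node [(69,1)] (.node [(79,1)] .nil (.node [] .nil (.node
    [(121,1)] .nil .nil))) (.node [] (.node [(89,1)] (.node [(105,(-1))] .nil .nil) .nil) (.node []
    (.node [(115,1)] .nil .nil) .nil))) (.node [(71,1)] (.node [(81,1)] (.node [(87,1)] (.node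
    [(103,(-1))] .nil .nil) .nil) (.node [] (.node [] (.node [(124,(-1))] .nil .nil) .nil) .nil))
    (.node [] (.node [(91,(-1))] (.node [(107,1)] .nil .nil) (.node [(119,1)] .nil .nil)) (.node []
    (.node [(117,1)] .nil .nil) .nil)))) (.node [] (.node [(70,(-1))] (.node [(80,(-1))] .nil
    (.node [] .nil (.node [(122,(-1))] .nil .nil))) (.node [] (.node [(90,1)] (.node [(106,(-1))]
    .nil .nil) .nil) (.node [] (.node [(116,(-1))] .nil .nil) .nil))) (.node [(72,(-1))] (.node
    [(82,(-1))] (.node [(88,(-1))] (.node [(104,1)] .nil .nil) .nil) .nil) (.node [] (.node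
    [(92,1)] (.node [(108,(-1))] .nil .nil) (.node [(120,(-1))] .nil .nil)) (.node [] (.node
    [(118,(-1))] .nil .nil) (.node [] (.node [(125,1)] .nil .nil) .nil))))))

/-- table -/
noncomputable def auxE7Chain124 : Tr (List (ℕ × ℤ)) :=
    (.node [(32,1)] (.node [] (.node [(74,(-1))] (.node [(83,1)] (.node [(91,(-1))] .nil .nil)
    (.node [] (.node [(115,1)] .nil .nil) .nil)) (.node [(87,1)] (.node [] (.node [(111,(-1))] .nil
    .nil) (.node [(122,1)] .nil .nil)) .nil)) (.node [(76,(-1))] (.node [(85,1)] (.node [] (.node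
    [(109,(-1))] .nil .nil) (.node [(120,1)] .nil .nil)) (.node [] (.node [(117,1)] .nil .nil)
    .nil)) (.node [(89,1)] (.node [] (.node [(113,1)] .nil .nil) .nil) (.node [] .nil (.node []
    (.node [(125,(-1))] .nil .nil) .nil))))) (.node [(73,1)] (.node [(75,1)] (.node [(84,(-1))]
    (.node [(92,1)] .nil (.node [(119,(-1))] .nil .nil)) (.node [] (.node [(116,(-1))] .nil .nil)
    .nil)) (.node [(88,(-1))] (.node [] (.node [(112,(-1))] .nil .nil) (.node [(123,(-1))] .nil
    .nil)) .nil)) (.node [(77,1)] (.node [(86,(-1))] (.node [] (.node [(110,1)] .nil .nil) (.node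
    [(121,(-1))] .nil .nil)) (.node [] (.node [(118,(-1))] .nil .nil) .nil)) (.node [(90,1)] (.node
    [] (.node [(114,(-1))] .nil .nil) .nil) .nil))))

/-- table -/
noncomputable def auxE7Chain125 : Tr (List (ℕ × ℤ)) :=
    (.node [] (.node [(93,1)] (.node [(95,1)] (.node [(99,(-1))] (.node [(107,1)] (.node [(123,1)]
    .nil .nil) .nil) (.node [(115,(-1))] .nil .nil)) (.node [(103,(-1))] (.node [(111,1)] .nil
    .nil) (.node [(119,1)] .nil .nil))) (.node [(97,1)] (.node [(101,(-1))] (.node [(109,1)] .nil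
    .nil) (.node [(117,(-1))] .nil .nil)) (.node [(105,(-1))] (.node [(113,(-1))] .nil .nil) (.node
    [(121,1)] .nil .nil)))) (.node [(94,(-1))] (.node [(96,(-1))] (.node [(100,1)] (.node
    [(108,(-1))] (.node [(124,(-1))] .nil .nil) .nil) (.node [(116,1)] .nil .nil)) (.node [(104,1)]
    (.node [(112,1)] .nil .nil) (.node [(120,(-1))] .nil .nil))) (.node [(98,(-1))] (.node
    [(102,1)] (.node [(110,(-1))] .nil .nil) (.node [(118,1)] .nil .nil)) (.node [(106,(-1))]
    (.node [(114,1)] .nil .nil) (.node [(122,(-1))] .nil .nil)))))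

/-- table -/
noncomputable def auxE7Chain : Tr (Tr (List (ℕ × ℤ))) :=
    (.node auxE7Chain0 (.node auxE7Chain1 (.node auxE7Chain3 (.node auxE7Chain7 (.node auxE7Chain15
    (.node auxE7Chain31 (.node auxE7Chain63 .nil .nil) (.node auxE7Chain95 .nil .nil)) (.node
    auxE7Chain47 (.node auxE7Chain79 .nil .nil) (.node auxE7Chain111 .nil .nil))) (.node
    auxE7Chain23 (.node auxE7Chain39 (.node auxE7Chain71 .nil .nil) (.node auxE7Chain103 .nil
    .nil)) (.node auxE7Chain55 (.node auxE7Chain87 .nil .nil) (.node auxE7Chain119 .nil .nil))))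
    (.node auxE7Chain11 (.node auxE7Chain19 (.node auxE7Chain35 (.node auxE7Chain67 .nil .nil)
    (.node auxE7Chain99 .nil .nil)) (.node auxE7Chain51 (.node auxE7Chain83 .nil .nil) (.node
    auxE7Chain115 .nil .nil))) (.node auxE7Chain27 (.node auxE7Chain43 (.node auxE7Chain75 .nil
    .nil) (.node auxE7Chain107 .nil .nil)) (.node auxE7Chain59 (.node auxE7Chain91 .nil .nil)
    (.node auxE7Chain123 .nil .nil))))) (.node auxE7Chain5 (.node auxE7Chain9 (.node auxE7Chain17
    (.node auxE7Chain33 (.node auxE7Chain65 .nil .nil) (.node auxE7Chain97 .nil .nil)) (.node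
    auxE7Chain49 (.node auxE7Chain81 .nil .nil) (.node auxE7Chain113 .nil .nil))) (.node
    auxE7Chain25 (.node auxE7Chain41 (.node auxE7Chain73 .nil .nil) (.node auxE7Chain105 .nil
    .nil)) (.node auxE7Chain57 (.node auxE7Chain89 .nil .nil) (.node auxE7Chain121 .nil .nil))))
    (.node auxE7Chain13 (.node auxE7Chain21 (.node auxE7Chain37 (.node auxE7Chain69 .nil .nil)
    (.node auxE7Chain101 .nil .nil)) (.node auxE7Chain53 (.node auxE7Chain85 .nil .nil) (.node
    auxE7Chain117 .nil .nil))) (.node auxE7Chain29 (.node auxE7Chain45 (.node auxE7Chain77 .nil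
    .nil) (.node auxE7Chain109 .nil .nil)) (.node auxE7Chain61 (.node auxE7Chain93 .nil .nil)
    (.node auxE7Chain125 .nil .nil)))))) (.node auxE7Chain2 (.node auxE7Chain4 (.node auxE7Chain8
    (.node auxE7Chain16 (.node auxE7Chain32 (.node auxE7Chain64 .nil .nil) (.node auxE7Chain96 .nil
    .nil)) (.node auxE7Chain48 (.node auxE7Chain80 .nil .nil) (.node auxE7Chain112 .nil .nil)))
    (.node auxE7Chain24 (.node auxE7Chain40 (.node auxE7Chain72 .nil .nil) (.node auxE7Chain104
    .nil .nil)) (.node auxE7Chain56 (.node auxE7Chain88 .nil .nil) (.node auxE7Chain120 .nil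
    .nil)))) (.node auxE7Chain12 (.node auxE7Chain20 (.node auxE7Chain36 (.node auxE7Chain68 .nil
    .nil) (.node auxE7Chain100 .nil .nil)) (.node auxE7Chain52 (.node auxE7Chain84 .nil .nil)
    (.node auxE7Chain116 .nil .nil))) (.node auxE7Chain28 (.node auxE7Chain44 (.node auxE7Chain76
    .nil .nil) (.node auxE7Chain108 .nil .nil)) (.node auxE7Chain60 (.node auxE7Chain92 .nil .nil)
    (.node auxE7Chain124 .nil .nil))))) (.node auxE7Chain6 (.node auxE7Chain10 (.node auxE7Chain18
    (.node auxE7Chain34 (.node auxE7Chain66 .nil .nil) (.node auxE7Chain98 .nil .nil)) (.node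
    auxE7Chain50 (.node auxE7Chain82 .nil .nil) (.node auxE7Chain114 .nil .nil))) (.node
    auxE7Chain26 (.node auxE7Chain42 (.node auxE7Chain74 .nil .nil) (.node auxE7Chain106 .nil
    .nil)) (.node auxE7Chain58 (.node auxE7Chain90 .nil .nil) (.node auxE7Chain122 .nil .nil))))
    (.node auxE7Chain14 (.node auxE7Chain22 (.node auxE7Chain38 (.node auxE7Chain70 .nil .nil)
    (.node auxE7Chain102 .nil .nil)) (.node auxE7Chain54 (.node auxE7Chain86 .nil .nil) (.node
    auxE7Chain118 .nil .nil))) (.node auxE7Chain30 (.node auxE7Chain46 (.node auxE7Chain78 .nil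
    .nil) (.node auxE7Chain110 .nil .nil)) (.node auxE7Chain62 (.node auxE7Chain94 .nil .nil)
    .nil))))))

/-- table -/
noncomputable def auxE7Up : Tr ℕ :=
    (.node 0 (.node 2 (.node 4 (.node 4 (.node 2 (.node 0 (.node 0 .nil .nil) (.node 4 .nil .nil))
    (.node 1 (.node 4 .nil .nil) (.node 2 .nil .nil))) (.node 0 (.node 2 (.node 6 .nil .nil) (.node
    5 .nil .nil)) (.node 3 (.node 5 .nil .nil) (.node 6 .nil .nil)))) (.node 5 (.node 4 (.node 4
    (.node 6 .nil .nil) (.node 4 .nil .nil)) (.node 2 (.node 4 .nil .nil) (.node 6 .nil .nil)))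
    (.node 0 (.node 1 (.node 5 .nil .nil) (.node 4 .nil .nil)) (.node 4 (.node 4 .nil .nil) (.node
    3 .nil .nil))))) (.node 1 (.node 3 (.node 5 (.node 5 (.node 5 .nil .nil) (.node 6 .nil .nil))
    (.node 2 (.node 6 .nil .nil) (.node 4 .nil .nil))) (.node 0 (.node 2 (.node 3 .nil .nil) (.node
    3 .nil .nil)) (.node 4 (.node 3 .nil .nil) (.node 5 .nil .nil)))) (.node 4 (.node 3 (.node 3
    (.node 4 .nil .nil) (.node 6 .nil .nil)) (.node 3 (.node 6 .nil .nil) (.node 5 .nil .nil)))
    (.node 0 (.node 1 (.node 2 .nil .nil) (.node 5 .nil .nil)) (.node 5 (.node 2 .nil .nil) (.node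
    0 .nil .nil)))))) (.node 3 (.node 5 (.node 5 (.node 2 (.node 0 (.node 6 .nil .nil) (.node 5
    .nil .nil)) (.node 2 (.node 5 .nil .nil) (.node 6 .nil .nil))) (.node 0 (.node 2 (.node 3 .nil
    .nil) (.node 6 .nil .nil)) (.node 3 (.node 6 .nil .nil) (.node 1 .nil .nil)))) (.node 4 (.node
    3 (.node 3 (.node 4 .nil .nil) (.node 5 .nil .nil)) (.node 2 (.node 5 .nil .nil) (.node 3 .nil
    .nil))) (.node 0 (.node 1 (.node 6 .nil .nil) (.node 5 .nil .nil)) (.node 5 (.node 5 .nil .nil)
    (.node 2 .nil .nil))))) (.node 1 (.node 3 (.node 4 (.node 4 (.node 5 .nil .nil) (.node 0 .nil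
    .nil)) (.node 2 (.node 1 .nil .nil) (.node 5 .nil .nil))) (.node 0 (.node 2 (.node 4 .nil .nil)
    (.node 6 .nil .nil)) (.node 4 (.node 6 .nil .nil) (.node 4 .nil .nil)))) (.node 2 (.node 3
    (.node 3 (.node 5 .nil .nil) (.node 0 .nil .nil)) (.node 3 (.node 2 .nil .nil) (.node 4 .nil
    .nil))) (.node 0 (.node 1 (.node 3 .nil .nil) (.node 6 .nil .nil)) (.node 6 (.node 3 .nil .nil)
    .nil))))))

/-- table -/
noncomputable def auxE7Dist : Tr ℕ :=
    (.node 17 (.node 16 (.node 14 (.node 13 (.node 10 (.node 10 (.node 0 .nil .nil) (.node 8 .nil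
    .nil)) (.node 9 (.node 7 .nil .nil) (.node 8 .nil .nil))) (.node 7 (.node 6 (.node 4 .nil .nil)
    (.node 9 .nil .nil)) (.node 6 (.node 8 .nil .nil) (.node 12 .nil .nil)))) (.node 11 (.node 10
    (.node 9 (.node 3 .nil .nil) (.node 9 .nil .nil)) (.node 8 (.node 8 .nil .nil) (.node 11 .nil
    .nil))) (.node 6 (.node 5 (.node 6 .nil .nil) (.node 8 .nil .nil)) (.node 5 (.node 7 .nil .nil)
    (.node 14 .nil .nil))))) (.node 12 (.node 11 (.node 10 (.node 9 (.node 1 .nil .nil) (.node 6
    .nil .nil)) (.node 6 (.node 5 .nil .nil) (.node 9 .nil .nil))) (.node 9 (.node 8 (.node 8 .nil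
    .nil) (.node 7 .nil .nil)) (.node 3 (.node 6 .nil .nil) (.node 12 .nil .nil)))) (.node 11
    (.node 9 (.node 8 (.node 6 .nil .nil) (.node 7 .nil .nil)) (.node 4 (.node 6 .nil .nil) (.node
    11 .nil .nil))) (.node 8 (.node 7 (.node 4 .nil .nil) (.node 10 .nil .nil)) (.node 3 (.node 10
    .nil .nil) (.node 16 .nil .nil)))))) (.node 15 (.node 13 (.node 12 (.node 11 (.node 11 (.node 2
    .nil .nil) (.node 7 .nil .nil)) (.node 5 (.node 6 .nil .nil) (.node 10 .nil .nil))) (.node 8
    (.node 7 (.node 3 .nil .nil) (.node 8 .nil .nil)) (.node 7 (.node 7 .nil .nil) (.node 11 .nil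
    .nil)))) (.node 10 (.node 8 (.node 7 (.node 2 .nil .nil) (.node 8 .nil .nil)) (.node 9 (.node 7
    .nil .nil) (.node 10 .nil .nil))) (.node 7 (.node 6 (.node 5 .nil .nil) (.node 9 .nil .nil))
    (.node 2 (.node 8 .nil .nil) (.node 15 .nil .nil))))) (.node 13 (.node 12 (.node 9 (.node 8
    (.node 4 .nil .nil) (.node 5 .nil .nil)) (.node 7 (.node 4 .nil .nil) (.node 10 .nil .nil)))
    (.node 10 (.node 9 (.node 7 .nil .nil) (.node 9 .nil .nil)) (.node 4 (.node 8 .nil .nil) (.node
    13 .nil .nil)))) (.node 9 (.node 10 (.node 9 (.node 5 .nil .nil) (.node 6 .nil .nil)) (.node 5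
    (.node 5 .nil .nil) (.node 12 .nil .nil))) (.node 9 (.node 8 (.node 8 .nil .nil) (.node 9 .nil
    .nil)) (.node 1 (.node 9 .nil .nil) .nil))))))

/-- table -/
noncomputable def auxE7Stab0 : Tr ℕ :=
    (.node 7 (.node 0 (.node 3 (.node 1 (.node 4 (.node 3 (.node 7 .nil .nil) (.node 0 .nil .nil))
    (.node 3 (.node 1 .nil .nil) (.node 2 .nil .nil))) (.node 3 (.node 0 (.node 3 .nil .nil) (.node
    0 .nil .nil)) (.node 1 (.node 3 .nil .nil) (.node 1 .nil .nil)))) (.node 3 (.node 2 (.node 0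
    (.node 4 .nil .nil) (.node 0 .nil .nil)) (.node 0 (.node 1 .nil .nil) (.node 3 .nil .nil)))
    (.node 1 (.node 2 (.node 2 .nil .nil) (.node 0 .nil .nil)) (.node 3 (.node 4 .nil .nil) (.node
    3 .nil .nil))))) (.node 7 (.node 1 (.node 2 (.node 0 (.node 7 .nil .nil) (.node 0 .nil .nil))
    (.node 0 (.node 1 .nil .nil) (.node 2 .nil .nil))) (.node 3 (.node 0 (.node 2 .nil .nil) (.node
    0 .nil .nil)) (.node 3 (.node 3 .nil .nil) (.node 1 .nil .nil)))) (.node 3 (.node 2 (.node 0
    (.node 3 .nil .nil) (.node 0 .nil .nil)) (.node 1 (.node 1 .nil .nil) (.node 3 .nil .nil)))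
    (.node 1 (.node 2 (.node 2 .nil .nil) (.node 2 .nil .nil)) (.node 4 (.node 0 .nil .nil) (.node
    0 .nil .nil)))))) (.node 2 (.node 4 (.node 1 (.node 7 (.node 2 (.node 7 .nil .nil) (.node 0
    .nil .nil)) (.node 0 (.node 1 .nil .nil) (.node 2 .nil .nil))) (.node 3 (.node 0 (.node 3 .nil
    .nil) (.node 0 .nil .nil)) (.node 1 (.node 3 .nil .nil) (.node 1 .nil .nil)))) (.node 3 (.node
    2 (.node 0 (.node 4 .nil .nil) (.node 0 .nil .nil)) (.node 0 (.node 1 .nil .nil) (.node 3 .nil
    .nil))) (.node 1 (.node 2 (.node 2 .nil .nil) (.node 0 .nil .nil)) (.node 4 (.node 7 .nil .nil)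
    (.node 2 .nil .nil))))) (.node 7 (.node 1 (.node 2 (.node 0 (.node 4 .nil .nil) (.node 0 .nil
    .nil)) (.node 0 (.node 1 .nil .nil) (.node 2 .nil .nil))) (.node 4 (.node 0 (.node 2 .nil .nil)
    (.node 0 .nil .nil)) (.node 3 (.node 4 .nil .nil) (.node 1 .nil .nil)))) (.node 4 (.node 2
    (.node 0 (.node 3 .nil .nil) (.node 0 .nil .nil)) (.node 1 (.node 1 .nil .nil) (.node 4 .nil
    .nil))) (.node 1 (.node 2 (.node 1 .nil .nil) (.node 2 .nil .nil)) (.node 7 (.node 0 .nil .nil)
    .nil))))))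

/-- auxiliary tables for type E7 -/
noncomputable def auxE7 : Aux where
  rootT := auxE7Root
  negT := auxE7Neg
  coroT := auxE7Coro
  cartT := [auxE7Cart0, auxE7Cart1, auxE7Cart2, auxE7Cart3, auxE7Cart4, auxE7Cart5, auxE7Cart6]
  chainT := auxE7Chain
  reflT := [auxE7Refl0, auxE7Refl1, auxE7Refl2, auxE7Refl3, auxE7Refl4, auxE7Refl5, auxE7Refl6]
  etaT := [auxE7Eta0, auxE7Eta1, auxE7Eta2, auxE7Eta3, auxE7Eta4, auxE7Eta5, auxE7Eta6]
  upT := auxE7Up
  distT := auxE7Dist
  reps := [6]
  stabT := [auxE7Stab0]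

end CfsgLib.Chev
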