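import Cfsg.Agent.Lib.Chev.Fast
/-! Generated auxiliary tables for type E8. -/

set_option autoImplicit false
set_option maxRecDepth 100000

namespace CfsgLib.Chev

/-- table -/
noncomputable def auxE8Root : Tr (List ℤ) :=
    (.node [(-2),(-3),(-4),(-6),(-5),(-4),(-3),(-2)] (.node
    [(-2),(-3),(-4),(-6),(-5),(-4),(-3),(-1)] (.node [(-2),(-3),(-4),(-6),(-5),(-3),(-2),(-1)]
    (.node [(-2),(-2),(-4),(-5),(-4),(-3),(-2),(-1)] (.node
    [(-1),(-2),(-3),(-5),(-4),(-3),(-2),(-1)] (.node [(-1),(-2),(-2),(-3),(-2),(-2),(-1),(-1)]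
    (.node [(-1),(-1),(-1),(-2),(-1),(-1),(-1),0] (.node [0,0,0,0,1,1,0,0] .nil .nil) (.node
    [1,1,2,2,2,2,1,0] .nil .nil)) (.node [0,(-1),0,(-1),(-1),(-1),0,0] (.node [0,1,1,2,2,2,1,0]
    .nil .nil) (.node [1,2,3,4,4,3,2,1] .nil .nil))) (.node
    [(-1),(-1),(-2),(-2),(-2),(-2),(-1),(-1)] (.node [0,(-1),(-1),(-2),(-2),(-2),(-1),(-1)] (.node
    [0,1,0,1,1,0,0,0] .nil .nil) (.node [1,2,2,3,2,2,1,0] .nil .nil)) (.node
    [0,0,0,0,(-1),(-1),(-1),0] (.node [1,1,1,2,1,1,0,0] .nil .nil) (.node [2,3,4,6,5,4,3,2] .nil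
    .nil)))) (.node [(-1),(-2),(-2),(-4),(-3),(-2),(-2),(-1)] (.node
    [(-1),(-1),(-2),(-3),(-3),(-2),(-1),0] (.node [(-1),0,(-1),(-1),(-1),(-1),(-1),(-1)] (.node
    [0,0,1,0,0,0,0,0] .nil .nil) (.node [1,1,2,3,2,2,2,1] .nil .nil)) (.node
    [0,0,(-1),(-1),0,0,0,0] (.node [1,0,1,1,1,1,1,0] .nil .nil) (.node [2,2,3,5,4,3,2,1] .nil
    .nil))) (.node [(-1),(-1),(-2),(-2),(-1),0,0,0] (.node [0,(-1),(-1),(-2),(-1),0,0,0] (.node
    [0,1,1,1,1,1,1,1] .nil .nil) (.node [1,2,2,4,3,2,1,1] .nil .nil)) (.node [0,0,0,0,0,0,0,(-1)]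
    (.node [1,1,1,2,2,2,2,1] .nil .nil) .nil)))) (.node [(-2),(-2),(-3),(-4),(-3),(-2),(-2),(-1)]
    (.node [(-1),(-2),(-3),(-4),(-3),(-2),(-1),(-1)] (.node [(-1),(-2),(-2),(-3),(-2),(-1),0,0]
    (.node [(-1),(-1),(-1),(-1),(-1),(-1),(-1),0] (.node [0,0,0,1,1,0,0,0] .nil .nil) (.node
    [1,1,2,3,2,1,1,0] .nil .nil)) (.node [0,0,(-1),(-1),(-1),(-1),(-1),(-1)] (.node
    [1,0,1,0,0,0,0,0] .nil .nil) (.node [2,2,3,4,3,2,1,1] .nil .nil))) (.node
    [(-1),(-1),(-2),(-2),(-2),(-1),0,0] (.node [0,(-1),(-1),(-2),(-2),(-1),0,0] (.node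
    [0,1,1,1,0,0,0,0] .nil .nil) (.node [1,2,2,3,3,2,1,1] .nil .nil)) (.node
    [0,0,0,0,0,(-1),(-1),0] (.node [1,1,1,2,2,1,1,0] .nil .nil) .nil))) (.node
    [(-1),(-2),(-2),(-3),(-3),(-2),(-2),(-1)] (.node [(-1),(-1),(-2),(-3),(-2),(-1),(-1),(-1)]
    (.node [(-1),0,(-1),(-1),0,0,0,0] (.node [0,0,1,1,1,1,1,0] .nil .nil) (.node [1,1,2,3,3,3,2,1]
    .nil .nil)) (.node [0,0,0,(-1),(-1),(-1),0,0] (.node [1,1,1,1,1,1,0,0] .nil .nil) (.node
    [2,3,4,6,4,3,2,1] .nil .nil))) (.node [(-1),(-1),(-1),(-2),(-2),(-1),(-1),(-1)] (.node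
    [0,(-1),(-1),(-1),(-1),0,0,0] (.node [0,1,1,2,1,1,1,1] .nil .nil) (.node [1,2,3,4,3,2,1,0] .nil
    .nil)) (.node [0,0,0,0,0,1,0,0] (.node [1,1,2,2,1,1,1,1] .nil .nil) .nil))))) (.node
    [(-2),(-3),(-4),(-5),(-4),(-3),(-2),(-1)] (.node [(-2),(-2),(-3),(-4),(-4),(-3),(-2),(-1)]
    (.node [(-1),(-2),(-3),(-4),(-3),(-3),(-2),(-1)] (.node
    [(-1),(-2),(-2),(-3),(-2),(-1),(-1),(-1)] (.node [(-1),(-1),(-1),(-2),(-1),0,0,0] (.node
    [0,0,0,0,1,1,1,1] .nil .nil) (.node [1,1,2,2,2,2,2,1] .nil .nil)) (.node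
    [0,(-1),0,(-1),0,0,0,0] (.node [0,1,1,2,2,2,2,1] .nil .nil) (.node [1,3,3,5,4,3,2,1] .nil
    .nil))) (.node [(-1),(-1),(-2),(-2),(-2),(-1),(-1),(-1)] (.node
    [0,(-1),(-1),(-2),(-2),(-1),(-1),(-1)] (.node [0,1,0,1,1,1,1,0] .nil .nil) (.node
    [1,2,2,3,2,2,2,1] .nil .nil)) (.node [0,0,0,0,(-1),0,0,0] (.node [1,1,1,2,1,1,1,1] .nil .nil)
    .nil))) (.node [(-1),(-2),(-2),(-4),(-3),(-2),(-1),0] (.node
    [(-1),(-1),(-2),(-3),(-2),(-2),(-1),(-1)] (.node [(-1),0,(-1),(-1),(-1),(-1),0,0] (.node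
    [0,0,1,1,1,0,0,0] .nil .nil) (.node [1,1,2,3,3,2,1,1] .nil .nil)) (.node
    [0,0,0,(-1),(-1),(-1),(-1),(-1)] (.node [1,1,1,1,0,0,0,0] .nil .nil) (.node [2,3,3,5,4,3,2,1]
    .nil .nil))) (.node [(-1),(-1),(-1),(-2),(-2),(-2),(-1),(-1)] (.node
    [0,(-1),(-1),(-1),(-1),(-1),(-1),0] (.node [0,1,1,2,1,1,0,0] .nil .nil) (.node
    [1,2,2,4,3,3,2,1] .nil .nil)) (.node [0,0,0,0,0,0,1,0] (.node [1,1,2,2,1,1,0,0] .nil .nil)
    .nil)))) (.node [(-2),(-2),(-3),(-4),(-3),(-2),(-1),0] (.node
    [(-1),(-2),(-2),(-4),(-4),(-3),(-2),(-1)] (.node [(-1),(-1),(-2),(-3),(-3),(-2),(-2),(-1)]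
    (.node [(-1),(-1),(-1),(-1),(-1),0,0,0] (.node [0,0,0,1,1,1,1,0] .nil .nil) (.node
    [1,1,2,3,2,2,1,0] .nil .nil)) (.node [0,0,(-1),(-1),(-1),(-1),0,0] (.node [1,0,1,1,1,0,0,0]
    .nil .nil) (.node [2,2,3,4,3,3,2,1] .nil .nil))) (.node [(-1),(-1),(-2),(-2),(-1),(-1),(-1),0]
    (.node [0,(-1),(-1),(-2),(-1),(-1),(-1),0] (.node [0,1,1,1,1,1,0,0] .nil .nil) (.node
    [1,2,2,3,3,3,2,1] .nil .nil)) (.node [0,0,0,0,0,0,(-1),(-1)] (.node [1,1,1,2,2,2,1,0] .nil
    .nil) .nil))) (.node [(-1),(-2),(-2),(-3),(-3),(-2),(-1),0] (.node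
    [(-1),(-1),(-2),(-3),(-2),(-1),0,0] (.node [(-1),0,0,0,0,0,0,0] (.node [0,1,0,0,0,0,0,0] .nil
    .nil) (.node [1,2,2,3,2,1,1,0] .nil .nil)) (.node [0,0,0,(-1),0,0,0,0] (.node [1,1,1,1,1,1,1,1]
    .nil .nil) (.node [2,3,4,6,5,4,2,1] .nil .nil))) (.node [(-1),(-1),(-1),(-2),(-2),(-1),0,0]
    (.node [0,(-1),0,(-1),(-1),(-1),(-1),(-1)] (.node [0,1,1,2,2,1,1,0] .nil .nil) (.node
    [1,2,3,4,3,2,2,1] .nil .nil)) (.node [0,0,0,0,0,1,1,1] (.node [1,1,2,2,2,1,1,0] .nil .nil)
    .nil)))))) (.node [(-2),(-3),(-4),(-6),(-5),(-4),(-2),(-1)] (.node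
    [(-2),(-3),(-4),(-6),(-4),(-3),(-2),(-1)] (.node [(-2),(-2),(-3),(-5),(-4),(-3),(-2),(-1)]
    (.node [(-1),(-2),(-3),(-4),(-4),(-3),(-2),(-1)] (.node [(-1),(-2),(-2),(-3),(-2),(-2),(-1),0]
    (.node [(-1),(-1),(-1),(-2),(-1),(-1),0,0] (.node [0,0,0,0,1,1,1,0] .nil .nil) (.node
    [1,1,2,2,2,2,1,1] .nil .nil)) (.node [0,(-1),0,(-1),(-1),0,0,0] (.node [0,1,1,2,2,2,1,1] .nil
    .nil) (.node [1,2,3,5,4,3,2,1] .nil .nil))) (.node [(-1),(-1),(-2),(-2),(-2),(-2),(-1),0]
    (.node [0,(-1),(-1),(-2),(-2),(-2),(-1),0] (.node [0,1,0,1,1,1,0,0] .nil .nil) (.node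
    [1,2,2,3,2,2,1,1] .nil .nil)) (.node [0,0,0,0,(-1),(-1),0,0] (.node [1,1,1,2,1,1,1,0] .nil
    .nil) .nil))) (.node [(-1),(-2),(-2),(-4),(-3),(-2),(-1),(-1)] (.node
    [(-1),(-1),(-2),(-3),(-2),(-2),(-2),(-1)] (.node [(-1),0,(-1),(-1),(-1),(-1),(-1),0] (.node
    [0,0,1,1,0,0,0,0] .nil .nil) (.node [1,1,2,3,3,2,1,0] .nil .nil)) (.node [0,0,(-1),0,0,0,0,0]
    (.node [1,0,1,1,1,1,1,1] .nil .nil) (.node [2,2,4,5,4,3,2,1] .nil .nil))) (.node
    [(-1),(-1),(-1),(-2),(-2),(-2),(-2),(-1)] (.node [0,(-1),(-1),(-1),(-1),(-1),(-1),(-1)] (.node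
    [0,1,1,2,1,0,0,0] .nil .nil) (.node [1,2,2,4,3,2,2,1] .nil .nil)) (.node [0,0,0,0,0,0,0,1]
    (.node [1,1,2,2,1,0,0,0] .nil .nil) .nil)))) (.node [(-2),(-2),(-3),(-4),(-3),(-2),(-1),(-1)]
    (.node [(-1),(-2),(-3),(-4),(-3),(-2),(-1),0] (.node [(-1),(-1),(-2),(-3),(-3),(-3),(-2),(-1)]
    (.node [(-1),(-1),(-1),(-1),(-1),(-1),0,0] (.node [0,0,0,1,1,1,0,0] .nil .nil) (.node
    [1,1,2,3,2,1,1,1] .nil .nil)) (.node [0,0,(-1),(-1),(-1),(-1),(-1),0] (.node [1,0,1,1,0,0,0,0]
    .nil .nil) (.node [2,2,3,4,3,2,2,1] .nil .nil))) (.node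
    [(-1),(-1),(-2),(-2),(-1),(-1),(-1),(-1)] (.node [0,(-1),(-1),(-2),(-1),(-1),(-1),(-1)] (.node
    [0,1,1,1,1,0,0,0] .nil .nil) (.node [1,2,2,3,3,2,2,1] .nil .nil)) (.node [0,0,0,0,0,(-1),0,0]
    (.node [1,1,1,2,2,1,1,1] .nil .nil) .nil))) (.node [(-1),(-2),(-2),(-3),(-3),(-2),(-1),(-1)]
    (.node [(-1),(-1),(-2),(-3),(-2),(-1),(-1),0] (.node [(-1),0,(-1),0,0,0,0,0] (.node
    [0,0,1,1,1,1,1,1] .nil .nil) (.node [1,2,2,3,2,1,0,0] .nil .nil)) (.node
    [0,0,0,(-1),(-1),0,0,0] (.node [1,1,1,1,1,1,1,0] .nil .nil) (.node [2,3,4,6,5,3,2,1] .nil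
    .nil))) (.node [(-1),(-1),(-1),(-2),(-2),(-1),(-1),0] (.node [0,(-1),(-1),(-1),0,0,0,0] (.node
    [0,1,1,2,2,1,0,0] .nil .nil) (.node [1,2,3,4,3,2,1,1] .nil .nil)) (.node [0,0,0,0,0,1,1,0]
    (.node [1,1,2,2,2,1,0,0] .nil .nil) .nil))))) (.node [(-2),(-3),(-3),(-5),(-4),(-3),(-2),(-1)]
    (.node [(-2),(-2),(-3),(-4),(-3),(-3),(-2),(-1)] (.node
    [(-1),(-2),(-3),(-4),(-3),(-2),(-2),(-1)] (.node [(-1),(-2),(-2),(-3),(-2),(-1),(-1),0] (.node
    [(-1),(-1),(-1),(-1),(-1),(-1),(-1),(-1)] (.node [0,0,0,1,0,0,0,0] .nil .nil) (.node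
    [1,1,2,3,2,1,0,0] .nil .nil)) (.node [0,(-1),0,0,0,0,0,0] (.node [1,0,0,0,0,0,0,0] .nil .nil)
    (.node [2,2,3,4,3,2,1,0] .nil .nil))) (.node [(-1),(-1),(-2),(-2),(-2),(-1),(-1),0] (.node
    [0,(-1),(-1),(-2),(-2),(-1),(-1),0] (.node [0,1,0,1,1,1,1,1] .nil .nil) (.node
    [1,2,2,3,3,2,1,0] .nil .nil)) (.node [0,0,0,0,0,(-1),(-1),(-1)] (.node [1,1,1,2,2,1,0,0] .nil
    .nil) .nil))) (.node [(-1),(-2),(-2),(-3),(-3),(-3),(-2),(-1)] (.node
    [(-1),(-1),(-2),(-3),(-2),(-2),(-1),0] (.node [(-1),0,(-1),(-1),(-1),0,0,0] (.node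
    [0,0,1,1,1,1,0,0] .nil .nil) (.node [1,1,2,3,3,2,2,1] .nil .nil)) (.node
    [0,0,0,(-1),(-1),(-1),(-1),0] (.node [1,1,1,1,1,0,0,0] .nil .nil) (.node [2,3,4,5,4,3,2,1] .nil
    .nil))) (.node [(-1),(-1),(-1),(-2),(-2),(-2),(-1),0] (.node [0,(-1),(-1),(-1),(-1),(-1),0,0]
    (.node [0,1,1,2,1,1,1,0] .nil .nil) (.node [1,2,2,4,4,3,2,1] .nil .nil)) (.node
    [0,0,0,0,0,0,1,1] (.node [1,1,2,2,1,1,1,0] .nil .nil) .nil)))) (.node
    [(-1),(-3),(-3),(-5),(-4),(-3),(-2),(-1)] (.node [(-1),(-2),(-2),(-4),(-3),(-3),(-2),(-1)]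
    (.node [(-1),(-1),(-2),(-3),(-3),(-2),(-1),(-1)] (.node [(-1),(-1),(-1),(-1),0,0,0,0] (.node
    [0,0,0,1,1,1,1,1] .nil .nil) (.node [1,1,2,3,2,2,1,1] .nil .nil)) (.node
    [0,0,(-1),(-1),(-1),0,0,0] (.node [1,0,1,1,1,1,0,0] .nil .nil) (.node [2,2,3,4,4,3,2,1] .nil
    .nil))) (.node [(-1),(-1),(-2),(-2),(-1),(-1),0,0] (.node [0,(-1),(-1),(-2),(-1),(-1),0,0]
    (.node [0,1,1,1,1,1,1,0] .nil .nil) (.node [1,2,2,4,3,2,1,0] .nil .nil)) (.node
    [0,0,0,0,0,0,(-1),0] (.node [1,1,1,2,2,2,1,1] .nil .nil) .nil))) (.node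
    [(-1),(-2),(-2),(-3),(-2),(-2),(-2),(-1)] (.node [(-1),(-1),(-2),(-2),(-2),(-2),(-2),(-1)]
    (.node [0,(-1),(-1),(-2),(-2),(-2),(-2),(-1)] (.node [0,1,0,1,0,0,0,0] .nil .nil) (.node
    [1,2,2,3,2,1,1,1] .nil .nil)) (.node [0,0,0,0,(-1),(-1),(-1),(-1)] (.node [1,1,1,2,1,0,0,0]
    .nil .nil) (.node [2,3,4,6,5,4,3,1] .nil .nil))) (.node
    [(-1),(-1),(-1),(-2),(-1),(-1),(-1),(-1)] (.node [0,(-1),0,(-1),(-1),(-1),(-1),0] (.node
    [0,1,1,2,2,1,1,1] .nil .nil) (.node [1,2,3,4,3,3,2,1] .nil .nil)) (.node [0,0,0,0,1,0,0,0]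
    (.node [1,1,2,2,2,1,1,1] .nil .nil) .nil)))))))

/-- table -/
noncomputable def auxE8Neg : Tr ℕ :=
    (.node 239 (.node 238 (.node 236 (.node 232 (.node 224 (.node 208 (.node 176 (.node 112 .nil
    .nil) (.node 48 .nil .nil)) (.node 144 (.node 80 .nil .nil) (.node 16 .nil .nil))) (.node 192
    (.node 160 (.node 96 .nil .nil) (.node 32 .nil .nil)) (.node 128 (.node 64 .nil .nil) (.node 0
    .nil .nil)))) (.node 216 (.node 200 (.node 168 (.node 104 .nil .nil) (.node 40 .nil .nil))
    (.node 136 (.node 72 .nil .nil) (.node 8 .nil .nil))) (.node 184 (.node 152 (.node 88 .nil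
    .nil) (.node 24 .nil .nil)) (.node 120 (.node 56 .nil .nil) .nil)))) (.node 228 (.node 220
    (.node 204 (.node 172 (.node 108 .nil .nil) (.node 44 .nil .nil)) (.node 140 (.node 76 .nil
    .nil) (.node 12 .nil .nil))) (.node 188 (.node 156 (.node 92 .nil .nil) (.node 28 .nil .nil))
    (.node 124 (.node 60 .nil .nil) .nil))) (.node 212 (.node 196 (.node 164 (.node 100 .nil .nil)
    (.node 36 .nil .nil)) (.node 132 (.node 68 .nil .nil) (.node 4 .nil .nil))) (.node 180 (.node
    148 (.node 84 .nil .nil) (.node 20 .nil .nil)) (.node 116 (.node 52 .nil .nil) .nil))))) (.node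
    234 (.node 230 (.node 222 (.node 206 (.node 174 (.node 110 .nil .nil) (.node 46 .nil .nil))
    (.node 142 (.node 78 .nil .nil) (.node 14 .nil .nil))) (.node 190 (.node 158 (.node 94 .nil
    .nil) (.node 30 .nil .nil)) (.node 126 (.node 62 .nil .nil) .nil))) (.node 214 (.node 198
    (.node 166 (.node 102 .nil .nil) (.node 38 .nil .nil)) (.node 134 (.node 70 .nil .nil) (.node 6
    .nil .nil))) (.node 182 (.node 150 (.node 86 .nil .nil) (.node 22 .nil .nil)) (.node 118 (.node
    54 .nil .nil) .nil)))) (.node 226 (.node 218 (.node 202 (.node 170 (.node 106 .nil .nil) (.node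
    42 .nil .nil)) (.node 138 (.node 74 .nil .nil) (.node 10 .nil .nil))) (.node 186 (.node 154
    (.node 90 .nil .nil) (.node 26 .nil .nil)) (.node 122 (.node 58 .nil .nil) .nil))) (.node 210
    (.node 194 (.node 162 (.node 98 .nil .nil) (.node 34 .nil .nil)) (.node 130 (.node 66 .nil
    .nil) (.node 2 .nil .nil))) (.node 178 (.node 146 (.node 82 .nil .nil) (.node 18 .nil .nil))
    (.node 114 (.node 50 .nil .nil) .nil)))))) (.node 237 (.node 235 (.node 231 (.node 223 (.node
    207 (.node 175 (.node 111 .nil .nil) (.node 47 .nil .nil)) (.node 143 (.node 79 .nil .nil)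
    (.node 15 .nil .nil))) (.node 191 (.node 159 (.node 95 .nil .nil) (.node 31 .nil .nil)) (.node
    127 (.node 63 .nil .nil) .nil))) (.node 215 (.node 199 (.node 167 (.node 103 .nil .nil) (.node
    39 .nil .nil)) (.node 135 (.node 71 .nil .nil) (.node 7 .nil .nil))) (.node 183 (.node 151
    (.node 87 .nil .nil) (.node 23 .nil .nil)) (.node 119 (.node 55 .nil .nil) .nil)))) (.node 227
    (.node 219 (.node 203 (.node 171 (.node 107 .nil .nil) (.node 43 .nil .nil)) (.node 139 (.node
    75 .nil .nil) (.node 11 .nil .nil))) (.node 187 (.node 155 (.node 91 .nil .nil) (.node 27 .nil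
    .nil)) (.node 123 (.node 59 .nil .nil) .nil))) (.node 211 (.node 195 (.node 163 (.node 99 .nil
    .nil) (.node 35 .nil .nil)) (.node 131 (.node 67 .nil .nil) (.node 3 .nil .nil))) (.node 179
    (.node 147 (.node 83 .nil .nil) (.node 19 .nil .nil)) (.node 115 (.node 51 .nil .nil) .nil)))))
    (.node 233 (.node 229 (.node 221 (.node 205 (.node 173 (.node 109 .nil .nil) (.node 45 .nil
    .nil)) (.node 141 (.node 77 .nil .nil) (.node 13 .nil .nil))) (.node 189 (.node 157 (.node 93
    .nil .nil) (.node 29 .nil .nil)) (.node 125 (.node 61 .nil .nil) .nil))) (.node 213 (.node 197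
    (.node 165 (.node 101 .nil .nil) (.node 37 .nil .nil)) (.node 133 (.node 69 .nil .nil) (.node 5
    .nil .nil))) (.node 181 (.node 149 (.node 85 .nil .nil) (.node 21 .nil .nil)) (.node 117 (.node
    53 .nil .nil) .nil)))) (.node 225 (.node 217 (.node 201 (.node 169 (.node 105 .nil .nil) (.node
    41 .nil .nil)) (.node 137 (.node 73 .nil .nil) (.node 9 .nil .nil))) (.node 185 (.node 153
    (.node 89 .nil .nil) (.node 25 .nil .nil)) (.node 121 (.node 57 .nil .nil) .nil))) (.node 209
    (.node 193 (.node 161 (.node 97 .nil .nil) (.node 33 .nil .nil)) (.node 129 (.node 65 .nil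
    .nil) (.node 1 .nil .nil))) (.node 177 (.node 145 (.node 81 .nil .nil) (.node 17 .nil .nil))
    (.node 113 (.node 49 .nil .nil) .nil)))))))

/-- table -/
noncomputable def auxE8Coro : Tr (List ℤ) :=
    (.node [(-2),(-3),(-4),(-6),(-5),(-4),(-3),(-2)] (.node
    [(-2),(-3),(-4),(-6),(-5),(-4),(-3),(-1)] (.node [(-2),(-3),(-4),(-6),(-5),(-3),(-2),(-1)]
    (.node [(-2),(-2),(-4),(-5),(-4),(-3),(-2),(-1)] (.node
    [(-1),(-2),(-3),(-5),(-4),(-3),(-2),(-1)] (.node [(-1),(-2),(-2),(-3),(-2),(-2),(-1),(-1)]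
    (.node [(-1),(-1),(-1),(-2),(-1),(-1),(-1),0] (.node [0,0,0,0,1,1,0,0] .nil .nil) (.node
    [1,1,2,2,2,2,1,0] .nil .nil)) (.node [0,(-1),0,(-1),(-1),(-1),0,0] (.node [0,1,1,2,2,2,1,0]
    .nil .nil) (.node [1,2,3,4,4,3,2,1] .nil .nil))) (.node
    [(-1),(-1),(-2),(-2),(-2),(-2),(-1),(-1)] (.node [0,(-1),(-1),(-2),(-2),(-2),(-1),(-1)] (.node
    [0,1,0,1,1,0,0,0] .nil .nil) (.node [1,2,2,3,2,2,1,0] .nil .nil)) (.node
    [0,0,0,0,(-1),(-1),(-1),0] (.node [1,1,1,2,1,1,0,0] .nil .nil) (.node [2,3,4,6,5,4,3,2] .nil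
    .nil)))) (.node [(-1),(-2),(-2),(-4),(-3),(-2),(-2),(-1)] (.node
    [(-1),(-1),(-2),(-3),(-3),(-2),(-1),0] (.node [(-1),0,(-1),(-1),(-1),(-1),(-1),(-1)] (.node
    [0,0,1,0,0,0,0,0] .nil .nil) (.node [1,1,2,3,2,2,2,1] .nil .nil)) (.node
    [0,0,(-1),(-1),0,0,0,0] (.node [1,0,1,1,1,1,1,0] .nil .nil) (.node [2,2,3,5,4,3,2,1] .nil
    .nil))) (.node [(-1),(-1),(-2),(-2),(-1),0,0,0] (.node [0,(-1),(-1),(-2),(-1),0,0,0] (.node
    [0,1,1,1,1,1,1,1] .nil .nil) (.node [1,2,2,4,3,2,1,1] .nil .nil)) (.node [0,0,0,0,0,0,0,(-1)]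
    (.node [1,1,1,2,2,2,2,1] .nil .nil) .nil)))) (.node [(-2),(-2),(-3),(-4),(-3),(-2),(-2),(-1)]
    (.node [(-1),(-2),(-3),(-4),(-3),(-2),(-1),(-1)] (.node [(-1),(-2),(-2),(-3),(-2),(-1),0,0]
    (.node [(-1),(-1),(-1),(-1),(-1),(-1),(-1),0] (.node [0,0,0,1,1,0,0,0] .nil .nil) (.node
    [1,1,2,3,2,1,1,0] .nil .nil)) (.node [0,0,(-1),(-1),(-1),(-1),(-1),(-1)] (.node
    [1,0,1,0,0,0,0,0] .nil .nil) (.node [2,2,3,4,3,2,1,1] .nil .nil))) (.node
    [(-1),(-1),(-2),(-2),(-2),(-1),0,0] (.node [0,(-1),(-1),(-2),(-2),(-1),0,0] (.node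
    [0,1,1,1,0,0,0,0] .nil .nil) (.node [1,2,2,3,3,2,1,1] .nil .nil)) (.node
    [0,0,0,0,0,(-1),(-1),0] (.node [1,1,1,2,2,1,1,0] .nil .nil) .nil))) (.node
    [(-1),(-2),(-2),(-3),(-3),(-2),(-2),(-1)] (.node [(-1),(-1),(-2),(-3),(-2),(-1),(-1),(-1)]
    (.node [(-1),0,(-1),(-1),0,0,0,0] (.node [0,0,1,1,1,1,1,0] .nil .nil) (.node [1,1,2,3,3,3,2,1]
    .nil .nil)) (.node [0,0,0,(-1),(-1),(-1),0,0] (.node [1,1,1,1,1,1,0,0] .nil .nil) (.node
    [2,3,4,6,4,3,2,1] .nil .nil))) (.node [(-1),(-1),(-1),(-2),(-2),(-1),(-1),(-1)] (.node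
    [0,(-1),(-1),(-1),(-1),0,0,0] (.node [0,1,1,2,1,1,1,1] .nil .nil) (.node [1,2,3,4,3,2,1,0] .nil
    .nil)) (.node [0,0,0,0,0,1,0,0] (.node [1,1,2,2,1,1,1,1] .nil .nil) .nil))))) (.node
    [(-2),(-3),(-4),(-5),(-4),(-3),(-2),(-1)] (.node [(-2),(-2),(-3),(-4),(-4),(-3),(-2),(-1)]
    (.node [(-1),(-2),(-3),(-4),(-3),(-3),(-2),(-1)] (.node
    [(-1),(-2),(-2),(-3),(-2),(-1),(-1),(-1)] (.node [(-1),(-1),(-1),(-2),(-1),0,0,0] (.node
    [0,0,0,0,1,1,1,1] .nil .nil) (.node [1,1,2,2,2,2,2,1] .nil .nil)) (.node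
    [0,(-1),0,(-1),0,0,0,0] (.node [0,1,1,2,2,2,2,1] .nil .nil) (.node [1,3,3,5,4,3,2,1] .nil
    .nil))) (.node [(-1),(-1),(-2),(-2),(-2),(-1),(-1),(-1)] (.node
    [0,(-1),(-1),(-2),(-2),(-1),(-1),(-1)] (.node [0,1,0,1,1,1,1,0] .nil .nil) (.node
    [1,2,2,3,2,2,2,1] .nil .nil)) (.node [0,0,0,0,(-1),0,0,0] (.node [1,1,1,2,1,1,1,1] .nil .nil)
    .nil))) (.node [(-1),(-2),(-2),(-4),(-3),(-2),(-1),0] (.node
    [(-1),(-1),(-2),(-3),(-2),(-2),(-1),(-1)] (.node [(-1),0,(-1),(-1),(-1),(-1),0,0] (.node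
    [0,0,1,1,1,0,0,0] .nil .nil) (.node [1,1,2,3,3,2,1,1] .nil .nil)) (.node
    [0,0,0,(-1),(-1),(-1),(-1),(-1)] (.node [1,1,1,1,0,0,0,0] .nil .nil) (.node [2,3,3,5,4,3,2,1]
    .nil .nil))) (.node [(-1),(-1),(-1),(-2),(-2),(-2),(-1),(-1)] (.node
    [0,(-1),(-1),(-1),(-1),(-1),(-1),0] (.node [0,1,1,2,1,1,0,0] .nil .nil) (.node
    [1,2,2,4,3,3,2,1] .nil .nil)) (.node [0,0,0,0,0,0,1,0] (.node [1,1,2,2,1,1,0,0] .nil .nil)
    .nil)))) (.node [(-2),(-2),(-3),(-4),(-3),(-2),(-1),0] (.node
    [(-1),(-2),(-2),(-4),(-4),(-3),(-2),(-1)] (.node [(-1),(-1),(-2),(-3),(-3),(-2),(-2),(-1)]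
    (.node [(-1),(-1),(-1),(-1),(-1),0,0,0] (.node [0,0,0,1,1,1,1,0] .nil .nil) (.node
    [1,1,2,3,2,2,1,0] .nil .nil)) (.node [0,0,(-1),(-1),(-1),(-1),0,0] (.node [1,0,1,1,1,0,0,0]
    .nil .nil) (.node [2,2,3,4,3,3,2,1] .nil .nil))) (.node [(-1),(-1),(-2),(-2),(-1),(-1),(-1),0]
    (.node [0,(-1),(-1),(-2),(-1),(-1),(-1),0] (.node [0,1,1,1,1,1,0,0] .nil .nil) (.node
    [1,2,2,3,3,3,2,1] .nil .nil)) (.node [0,0,0,0,0,0,(-1),(-1)] (.node [1,1,1,2,2,2,1,0] .nil
    .nil) .nil))) (.node [(-1),(-2),(-2),(-3),(-3),(-2),(-1),0] (.node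
    [(-1),(-1),(-2),(-3),(-2),(-1),0,0] (.node [(-1),0,0,0,0,0,0,0] (.node [0,1,0,0,0,0,0,0] .nil
    .nil) (.node [1,2,2,3,2,1,1,0] .nil .nil)) (.node [0,0,0,(-1),0,0,0,0] (.node [1,1,1,1,1,1,1,1]
    .nil .nil) (.node [2,3,4,6,5,4,2,1] .nil .nil))) (.node [(-1),(-1),(-1),(-2),(-2),(-1),0,0]
    (.node [0,(-1),0,(-1),(-1),(-1),(-1),(-1)] (.node [0,1,1,2,2,1,1,0] .nil .nil) (.node
    [1,2,3,4,3,2,2,1] .nil .nil)) (.node [0,0,0,0,0,1,1,1] (.node [1,1,2,2,2,1,1,0] .nil .nil)
    .nil)))))) (.node [(-2),(-3),(-4),(-6),(-5),(-4),(-2),(-1)] (.node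
    [(-2),(-3),(-4),(-6),(-4),(-3),(-2),(-1)] (.node [(-2),(-2),(-3),(-5),(-4),(-3),(-2),(-1)]
    (.node [(-1),(-2),(-3),(-4),(-4),(-3),(-2),(-1)] (.node [(-1),(-2),(-2),(-3),(-2),(-2),(-1),0]
    (.node [(-1),(-1),(-1),(-2),(-1),(-1),0,0] (.node [0,0,0,0,1,1,1,0] .nil .nil) (.node
    [1,1,2,2,2,2,1,1] .nil .nil)) (.node [0,(-1),0,(-1),(-1),0,0,0] (.node [0,1,1,2,2,2,1,1] .nil
    .nil) (.node [1,2,3,5,4,3,2,1] .nil .nil))) (.node [(-1),(-1),(-2),(-2),(-2),(-2),(-1),0]
    (.node [0,(-1),(-1),(-2),(-2),(-2),(-1),0] (.node [0,1,0,1,1,1,0,0] .nil .nil) (.node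
    [1,2,2,3,2,2,1,1] .nil .nil)) (.node [0,0,0,0,(-1),(-1),0,0] (.node [1,1,1,2,1,1,1,0] .nil
    .nil) .nil))) (.node [(-1),(-2),(-2),(-4),(-3),(-2),(-1),(-1)] (.node
    [(-1),(-1),(-2),(-3),(-2),(-2),(-2),(-1)] (.node [(-1),0,(-1),(-1),(-1),(-1),(-1),0] (.node
    [0,0,1,1,0,0,0,0] .nil .nil) (.node [1,1,2,3,3,2,1,0] .nil .nil)) (.node [0,0,(-1),0,0,0,0,0]
    (.node [1,0,1,1,1,1,1,1] .nil .nil) (.node [2,2,4,5,4,3,2,1] .nil .nil))) (.node
    [(-1),(-1),(-1),(-2),(-2),(-2),(-2),(-1)] (.node [0,(-1),(-1),(-1),(-1),(-1),(-1),(-1)] (.node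
    [0,1,1,2,1,0,0,0] .nil .nil) (.node [1,2,2,4,3,2,2,1] .nil .nil)) (.node [0,0,0,0,0,0,0,1]
    (.node [1,1,2,2,1,0,0,0] .nil .nil) .nil)))) (.node [(-2),(-2),(-3),(-4),(-3),(-2),(-1),(-1)]
    (.node [(-1),(-2),(-3),(-4),(-3),(-2),(-1),0] (.node [(-1),(-1),(-2),(-3),(-3),(-3),(-2),(-1)]
    (.node [(-1),(-1),(-1),(-1),(-1),(-1),0,0] (.node [0,0,0,1,1,1,0,0] .nil .nil) (.node
    [1,1,2,3,2,1,1,1] .nil .nil)) (.node [0,0,(-1),(-1),(-1),(-1),(-1),0] (.node [1,0,1,1,0,0,0,0]
    .nil .nil) (.node [2,2,3,4,3,2,2,1] .nil .nil))) (.node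
    [(-1),(-1),(-2),(-2),(-1),(-1),(-1),(-1)] (.node [0,(-1),(-1),(-2),(-1),(-1),(-1),(-1)] (.node
    [0,1,1,1,1,0,0,0] .nil .nil) (.node [1,2,2,3,3,2,2,1] .nil .nil)) (.node [0,0,0,0,0,(-1),0,0]
    (.node [1,1,1,2,2,1,1,1] .nil .nil) .nil))) (.node [(-1),(-2),(-2),(-3),(-3),(-2),(-1),(-1)]
    (.node [(-1),(-1),(-2),(-3),(-2),(-1),(-1),0] (.node [(-1),0,(-1),0,0,0,0,0] (.node
    [0,0,1,1,1,1,1,1] .nil .nil) (.node [1,2,2,3,2,1,0,0] .nil .nil)) (.node
    [0,0,0,(-1),(-1),0,0,0] (.node [1,1,1,1,1,1,1,0] .nil .nil) (.node [2,3,4,6,5,3,2,1] .nil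
    .nil))) (.node [(-1),(-1),(-1),(-2),(-2),(-1),(-1),0] (.node [0,(-1),(-1),(-1),0,0,0,0] (.node
    [0,1,1,2,2,1,0,0] .nil .nil) (.node [1,2,3,4,3,2,1,1] .nil .nil)) (.node [0,0,0,0,0,1,1,0]
    (.node [1,1,2,2,2,1,0,0] .nil .nil) .nil))))) (.node [(-2),(-3),(-3),(-5),(-4),(-3),(-2),(-1)]
    (.node [(-2),(-2),(-3),(-4),(-3),(-3),(-2),(-1)] (.node
    [(-1),(-2),(-3),(-4),(-3),(-2),(-2),(-1)] (.node [(-1),(-2),(-2),(-3),(-2),(-1),(-1),0] (.node
    [(-1),(-1),(-1),(-1),(-1),(-1),(-1),(-1)] (.node [0,0,0,1,0,0,0,0] .nil .nil) (.node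
    [1,1,2,3,2,1,0,0] .nil .nil)) (.node [0,(-1),0,0,0,0,0,0] (.node [1,0,0,0,0,0,0,0] .nil .nil)
    (.node [2,2,3,4,3,2,1,0] .nil .nil))) (.node [(-1),(-1),(-2),(-2),(-2),(-1),(-1),0] (.node
    [0,(-1),(-1),(-2),(-2),(-1),(-1),0] (.node [0,1,0,1,1,1,1,1] .nil .nil) (.node
    [1,2,2,3,3,2,1,0] .nil .nil)) (.node [0,0,0,0,0,(-1),(-1),(-1)] (.node [1,1,1,2,2,1,0,0] .nil
    .nil) .nil))) (.node [(-1),(-2),(-2),(-3),(-3),(-3),(-2),(-1)] (.node
    [(-1),(-1),(-2),(-3),(-2),(-2),(-1),0] (.node [(-1),0,(-1),(-1),(-1),0,0,0] (.node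
    [0,0,1,1,1,1,0,0] .nil .nil) (.node [1,1,2,3,3,2,2,1] .nil .nil)) (.node
    [0,0,0,(-1),(-1),(-1),(-1),0] (.node [1,1,1,1,1,0,0,0] .nil .nil) (.node [2,3,4,5,4,3,2,1] .nil
    .nil))) (.node [(-1),(-1),(-1),(-2),(-2),(-2),(-1),0] (.node [0,(-1),(-1),(-1),(-1),(-1),0,0]
    (.node [0,1,1,2,1,1,1,0] .nil .nil) (.node [1,2,2,4,4,3,2,1] .nil .nil)) (.node
    [0,0,0,0,0,0,1,1] (.node [1,1,2,2,1,1,1,0] .nil .nil) .nil)))) (.node
    [(-1),(-3),(-3),(-5),(-4),(-3),(-2),(-1)] (.node [(-1),(-2),(-2),(-4),(-3),(-3),(-2),(-1)]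
    (.node [(-1),(-1),(-2),(-3),(-3),(-2),(-1),(-1)] (.node [(-1),(-1),(-1),(-1),0,0,0,0] (.node
    [0,0,0,1,1,1,1,1] .nil .nil) (.node [1,1,2,3,2,2,1,1] .nil .nil)) (.node
    [0,0,(-1),(-1),(-1),0,0,0] (.node [1,0,1,1,1,1,0,0] .nil .nil) (.node [2,2,3,4,4,3,2,1] .nil
    .nil))) (.node [(-1),(-1),(-2),(-2),(-1),(-1),0,0] (.node [0,(-1),(-1),(-2),(-1),(-1),0,0]
    (.node [0,1,1,1,1,1,1,0] .nil .nil) (.node [1,2,2,4,3,2,1,0] .nil .nil)) (.node
    [0,0,0,0,0,0,(-1),0] (.node [1,1,1,2,2,2,1,1] .nil .nil) .nil))) (.node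
    [(-1),(-2),(-2),(-3),(-2),(-2),(-2),(-1)] (.node [(-1),(-1),(-2),(-2),(-2),(-2),(-2),(-1)]
    (.node [0,(-1),(-1),(-2),(-2),(-2),(-2),(-1)] (.node [0,1,0,1,0,0,0,0] .nil .nil) (.node
    [1,2,2,3,2,1,1,1] .nil .nil)) (.node [0,0,0,0,(-1),(-1),(-1),(-1)] (.node [1,1,1,2,1,0,0,0]
    .nil .nil) (.node [2,3,4,6,5,4,3,1] .nil .nil))) (.node
    [(-1),(-1),(-1),(-2),(-1),(-1),(-1),(-1)] (.node [0,(-1),0,(-1),(-1),(-1),(-1),0] (.node
    [0,1,1,2,2,1,1,1] .nil .nil) (.node [1,2,3,4,3,3,2,1] .nil .nil)) (.node [0,0,0,0,1,0,0,0]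
    (.node [1,1,2,2,2,1,1,1] .nil .nil) .nil)))))))

/-- table -/
noncomputable def auxE8Cart0 : Tr ℤ :=
    (.node 0 (.node 0 (.node 0 (.node 0 (.node 1 (.node 0 (.node (-1) (.node 0 .nil .nil) (.node 0
    .nil .nil)) (.node 0 (.node (-1) .nil .nil) (.node (-1) .nil .nil))) (.node 0 (.node 1 (.node 0
    .nil .nil) (.node 0 .nil .nil)) (.node 0 (.node 1 .nil .nil) (.node 0 .nil .nil)))) (.node 0
    (.node 0 (.node (-1) (.node (-1) .nil .nil) (.node 0 .nil .nil)) (.node 1 (.node 1 .nil .nil)
    (.node 1 .nil .nil))) (.node 0 (.node 1 (.node (-1) .nil .nil) (.node 0 .nil .nil)) (.node 0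
    (.node 1 .nil .nil) .nil)))) (.node (-1) (.node 1 (.node 0 (.node (-1) (.node 0 .nil .nil)
    (.node 0 .nil .nil)) (.node 1 (.node 1 .nil .nil) (.node 1 .nil .nil))) (.node 0 (.node 1
    (.node (-1) .nil .nil) (.node 0 .nil .nil)) (.node 0 (.node 1 .nil .nil) .nil))) (.node 0
    (.node 0 (.node (-1) (.node (-1) .nil .nil) (.node 0 .nil .nil)) (.node 0 (.node 1 .nil .nil)
    (.node 0 .nil .nil))) (.node (-1) (.node 1 (.node (-1) .nil .nil) (.node (-1) .nil .nil))
    (.node 0 (.node 0 .nil .nil) .nil))))) (.node 0 (.node (-1) (.node 1 (.node 0 (.node (-1)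
    (.node 0 .nil .nil) (.node 0 .nil .nil)) (.node 0 (.node (-1) .nil .nil) (.node (-1) .nil
    .nil))) (.node 0 (.node 1 (.node 0 .nil .nil) (.node 0 .nil .nil)) (.node 0 (.node 1 .nil .nil)
    .nil))) (.node 0 (.node 0 (.node (-1) (.node (-1) .nil .nil) (.node 0 .nil .nil)) (.node 0
    (.node 1 .nil .nil) (.node 1 .nil .nil))) (.node (-1) (.node 1 (.node (-1) .nil .nil) (.node 0
    .nil .nil)) (.node 0 (.node 0 .nil .nil) .nil)))) (.node (-1) (.node 0 (.node 0 (.node (-1)
    (.node 0 .nil .nil) (.node 0 .nil .nil)) (.node 1 (.node 1 .nil .nil) (.node 1 .nil .nil)))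
    (.node 0 (.node 1 (.node (-1) .nil .nil) (.node 0 .nil .nil)) (.node 0 (.node 1 .nil .nil)
    .nil))) (.node 0 (.node 0 (.node (-2) (.node 0 .nil .nil) (.node 0 .nil .nil)) (.node 0 (.node
    1 .nil .nil) (.node 0 .nil .nil))) (.node (-1) (.node 0 (.node (-1) .nil .nil) (.node (-1) .nil
    .nil)) (.node 0 (.node 0 .nil .nil) .nil)))))) (.node 0 (.node 0 (.node (-1) (.node 1 (.node 0
    (.node (-1) (.node 0 .nil .nil) (.node 0 .nil .nil)) (.node 0 (.node (-1) .nil .nil) (.node
    (-1) .nil .nil))) (.node 0 (.node 1 (.node 0 .nil .nil) (.node 0 .nil .nil)) (.node 0 (.node 1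
    .nil .nil) .nil))) (.node 0 (.node 0 (.node (-1) (.node (-1) .nil .nil) (.node 0 .nil .nil))
    (.node 1 (.node 1 .nil .nil) (.node 0 .nil .nil))) (.node (-1) (.node 1 (.node (-1) .nil .nil)
    (.node 0 .nil .nil)) (.node 0 (.node 0 .nil .nil) .nil)))) (.node (-1) (.node 1 (.node 0 (.node
    (-1) (.node 0 .nil .nil) (.node 0 .nil .nil)) (.node 1 (.node 1 .nil .nil) (.node 1 .nil
    .nil))) (.node 0 (.node 1 (.node (-1) .nil .nil) (.node 0 .nil .nil)) (.node 0 (.node 1 .nil
    .nil) .nil))) (.node 0 (.node 0 (.node (-1) (.node (-1) .nil .nil) (.node 0 .nil .nil)) (.node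
    0 (.node 1 .nil .nil) (.node 0 .nil .nil))) (.node (-1) (.node 1 (.node (-1) .nil .nil) (.node
    (-1) .nil .nil)) (.node 0 (.node 0 .nil .nil) .nil))))) (.node (-1) (.node (-1) (.node 1 (.node
    0 (.node (-1) (.node 0 .nil .nil) (.node 0 .nil .nil)) (.node 0 (.node 2 .nil .nil) (.node 1
    .nil .nil))) (.node 0 (.node 1 (.node 0 .nil .nil) (.node 0 .nil .nil)) (.node 0 (.node 1 .nil
    .nil) .nil))) (.node 0 (.node 0 (.node (-1) (.node (-1) .nil .nil) (.node 0 .nil .nil)) (.node
    0 (.node 1 .nil .nil) (.node 0 .nil .nil))) (.node (-1) (.node 1 (.node (-1) .nil .nil) (.node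
    0 .nil .nil)) (.node 0 (.node 0 .nil .nil) .nil)))) (.node 1 (.node 0 (.node 0 (.node (-1)
    (.node 0 .nil .nil) (.node 0 .nil .nil)) (.node 1 (.node 1 .nil .nil) (.node 1 .nil .nil)))
    (.node 0 (.node 1 (.node (-1) .nil .nil) (.node 0 .nil .nil)) (.node 0 (.node 1 .nil .nil)
    .nil))) (.node 0 (.node 0 (.node 1 (.node 0 .nil .nil) (.node 0 .nil .nil)) (.node 0 (.node 1
    .nil .nil) (.node 0 .nil .nil))) (.node (-1) (.node 0 (.node (-1) .nil .nil) (.node (-1) .nil
    .nil)) (.node 0 (.node 0 .nil .nil) .nil)))))))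

/-- table -/
noncomputable def auxE8Refl0 : Tr ℕ :=
    (.node 0 (.node 1 (.node 3 (.node 7 (.node 8 (.node 31 (.node 85 (.node 127 .nil .nil) (.node
    191 .nil .nil)) (.node 95 (.node 181 .nil .nil) (.node 230 .nil .nil))) (.node 47 (.node 57
    (.node 143 .nil .nil) (.node 207 .nil .nil)) (.node 111 (.node 153 .nil .nil) (.node 239 .nil
    .nil)))) (.node 23 (.node 39 (.node 99 (.node 163 .nil .nil) (.node 199 .nil .nil)) (.node 75
    (.node 139 .nil .nil) (.node 224 .nil .nil))) (.node 55 (.node 65 (.node 173 .nil .nil) (.node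
    215 .nil .nil)) (.node 119 (.node 161 .nil .nil) .nil)))) (.node 18 (.node 12 (.node 35 (.node
    89 (.node 131 .nil .nil) (.node 195 .nil .nil)) (.node 71 (.node 135 .nil .nil) (.node 220 .nil
    .nil))) (.node 51 (.node 61 (.node 169 .nil .nil) (.node 211 .nil .nil)) (.node 115 (.node 157
    .nil .nil) .nil))) (.node 27 (.node 43 (.node 103 (.node 167 .nil .nil) (.node 203 .nil .nil))
    (.node 107 (.node 149 .nil .nil) (.node 235 .nil .nil))) (.node 81 (.node 69 (.node 177 .nil
    .nil) (.node 226 .nil .nil)) (.node 123 (.node 187 .nil .nil) .nil))))) (.node 5 (.node 16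
    (.node 10 (.node 33 (.node 87 (.node 129 .nil .nil) (.node 193 .nil .nil)) (.node 97 (.node 183
    .nil .nil) (.node 233 .nil .nil))) (.node 49 (.node 59 (.node 145 .nil .nil) (.node 209 .nil
    .nil)) (.node 113 (.node 155 .nil .nil) .nil))) (.node 25 (.node 41 (.node 101 (.node 165 .nil
    .nil) (.node 201 .nil .nil)) (.node 105 (.node 147 .nil .nil) (.node 225 .nil .nil))) (.node 79
    (.node 67 (.node 175 .nil .nil) (.node 217 .nil .nil)) (.node 121 (.node 185 .nil .nil)
    .nil)))) (.node 20 (.node 21 (.node 37 (.node 91 (.node 133 .nil .nil) (.node 197 .nil .nil))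
    (.node 73 (.node 137 .nil .nil) (.node 222 .nil .nil))) (.node 53 (.node 63 (.node 171 .nil
    .nil) (.node 213 .nil .nil)) (.node 117 (.node 159 .nil .nil) .nil))) (.node 29 (.node 45
    (.node 162 (.node 141 .nil .nil) (.node 205 .nil .nil)) (.node 109 (.node 151 .nil .nil) (.node
    237 .nil .nil))) (.node 83 (.node 93 (.node 179 .nil .nil) (.node 228 .nil .nil)) (.node 125
    (.node 189 .nil .nil) .nil)))))) (.node 2 (.node 4 (.node 15 (.node 9 (.node 32 (.node 86
    (.node 128 .nil .nil) (.node 192 .nil .nil)) (.node 96 (.node 182 .nil .nil) (.node 231 .nil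
    .nil))) (.node 48 (.node 58 (.node 144 .nil .nil) (.node 208 .nil .nil)) (.node 112 (.node 154
    .nil .nil) .nil))) (.node 24 (.node 40 (.node 100 (.node 164 .nil .nil) (.node 200 .nil .nil))
    (.node 76 (.node 140 .nil .nil) (.node 232 .nil .nil))) (.node 78 (.node 66 (.node 174 .nil
    .nil) (.node 216 .nil .nil)) (.node 120 (.node 184 .nil .nil) .nil)))) (.node 19 (.node 13
    (.node 36 (.node 90 (.node 132 .nil .nil) (.node 196 .nil .nil)) (.node 72 (.node 136 .nil
    .nil) (.node 221 .nil .nil))) (.node 52 (.node 62 (.node 170 .nil .nil) (.node 212 .nil .nil))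
    (.node 116 (.node 158 .nil .nil) .nil))) (.node 28 (.node 44 (.node 104 (.node 168 .nil .nil)
    (.node 204 .nil .nil)) (.node 108 (.node 150 .nil .nil) (.node 236 .nil .nil))) (.node 82
    (.node 70 (.node 178 .nil .nil) (.node 227 .nil .nil)) (.node 124 (.node 188 .nil .nil)
    .nil))))) (.node 14 (.node 17 (.node 11 (.node 34 (.node 88 (.node 130 .nil .nil) (.node 194
    .nil .nil)) (.node 98 (.node 77 .nil .nil) (.node 219 .nil .nil))) (.node 50 (.node 60 (.node
    146 .nil .nil) (.node 210 .nil .nil)) (.node 114 (.node 156 .nil .nil) .nil))) (.node 26 (.node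
    42 (.node 102 (.node 166 .nil .nil) (.node 202 .nil .nil)) (.node 106 (.node 148 .nil .nil)
    (.node 234 .nil .nil))) (.node 80 (.node 68 (.node 176 .nil .nil) (.node 218 .nil .nil)) (.node
    122 (.node 186 .nil .nil) .nil)))) (.node 6 (.node 22 (.node 38 (.node 92 (.node 134 .nil .nil)
    (.node 198 .nil .nil)) (.node 74 (.node 138 .nil .nil) (.node 223 .nil .nil))) (.node 54 (.node
    64 (.node 172 .nil .nil) (.node 214 .nil .nil)) (.node 118 (.node 160 .nil .nil) .nil))) (.node
    30 (.node 46 (.node 56 (.node 142 .nil .nil) (.node 206 .nil .nil)) (.node 110 (.node 152 .nil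
    .nil) (.node 238 .nil .nil))) (.node 84 (.node 94 (.node 180 .nil .nil) (.node 229 .nil .nil))
    (.node 126 (.node 190 .nil .nil) .nil)))))))

/-- table -/
noncomputable def auxE8Eta0 : Tr ℤ :=
    (.node 1 (.node 1 (.node 1 (.node 1 (.node 1 (.node 1 (.node 1 (.node 1 .nil .nil) (.node 1
    .nil .nil)) (.node 1 (.node (-1) .nil .nil) (.node 1 .nil .nil))) (.node 1 (.node (-1) (.node 1
    .nil .nil) (.node 1 .nil .nil)) (.node 1 (.node 1 .nil .nil) (.node 1 .nil .nil)))) (.node 1
    (.node 1 (.node 1 (.node (-1) .nil .nil) (.node 1 .nil .nil)) (.node (-1) (.node 1 .nil .nil)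
    (.node (-1) .nil .nil))) (.node 1 (.node (-1) (.node (-1) .nil .nil) (.node 1 .nil .nil))
    (.node 1 (.node 1 .nil .nil) .nil)))) (.node (-1) (.node 1 (.node 1 (.node 1 (.node 1 .nil
    .nil) (.node 1 .nil .nil)) (.node (-1) (.node 1 .nil .nil) (.node (-1) .nil .nil))) (.node 1
    (.node (-1) (.node (-1) .nil .nil) (.node 1 .nil .nil)) (.node 1 (.node 1 .nil .nil) .nil)))
    (.node 1 (.node 1 (.node 1 (.node (-1) .nil .nil) (.node 1 .nil .nil)) (.node 1 (.node 1 .nil
    .nil) (.node 1 .nil .nil))) (.node 1 (.node (-1) (.node (-1) .nil .nil) (.node 1 .nil .nil))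
    (.node 1 (.node 1 .nil .nil) .nil))))) (.node 1 (.node (-1) (.node 1 (.node 1 (.node 1 (.node 1
    .nil .nil) (.node 1 .nil .nil)) (.node 1 (.node (-1) .nil .nil) (.node 1 .nil .nil))) (.node 1
    (.node (-1) (.node 1 .nil .nil) (.node 1 .nil .nil)) (.node 1 (.node 1 .nil .nil) .nil)))
    (.node 1 (.node 1 (.node 1 (.node (-1) .nil .nil) (.node 1 .nil .nil)) (.node 1 (.node 1 .nil
    .nil) (.node (-1) .nil .nil))) (.node 1 (.node (-1) (.node (-1) .nil .nil) (.node 1 .nil .nil))
    (.node 1 (.node 1 .nil .nil) .nil)))) (.node (-1) (.node 1 (.node 1 (.node 1 (.node 1 .nil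
    .nil) (.node 1 .nil .nil)) (.node (-1) (.node 1 .nil .nil) (.node (-1) .nil .nil))) (.node 1
    (.node (-1) (.node (-1) .nil .nil) (.node 1 .nil .nil)) (.node 1 (.node 1 .nil .nil) .nil)))
    (.node 1 (.node 1 (.node (-1) (.node 1 .nil .nil) (.node 1 .nil .nil)) (.node 1 (.node 1 .nil
    .nil) (.node 1 .nil .nil))) (.node 1 (.node 1 (.node (-1) .nil .nil) (.node 1 .nil .nil))
    (.node 1 (.node 1 .nil .nil) .nil)))))) (.node 1 (.node 1 (.node (-1) (.node 1 (.node 1 (.node
    1 (.node 1 .nil .nil) (.node 1 .nil .nil)) (.node 1 (.node (-1) .nil .nil) (.node 1 .nil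
    .nil))) (.node 1 (.node (-1) (.node 1 .nil .nil) (.node 1 .nil .nil)) (.node 1 (.node 1 .nil
    .nil) .nil))) (.node 1 (.node 1 (.node 1 (.node (-1) .nil .nil) (.node 1 .nil .nil)) (.node
    (-1) (.node 1 .nil .nil) (.node 1 .nil .nil))) (.node 1 (.node (-1) (.node (-1) .nil .nil)
    (.node 1 .nil .nil)) (.node 1 (.node 1 .nil .nil) .nil)))) (.node (-1) (.node 1 (.node 1 (.node
    1 (.node 1 .nil .nil) (.node 1 .nil .nil)) (.node (-1) (.node 1 .nil .nil) (.node (-1) .nil
    .nil))) (.node 1 (.node (-1) (.node (-1) .nil .nil) (.node 1 .nil .nil)) (.node 1 (.node 1 .nil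
    .nil) .nil))) (.node 1 (.node 1 (.node 1 (.node (-1) .nil .nil) (.node 1 .nil .nil)) (.node 1
    (.node 1 .nil .nil) (.node 1 .nil .nil))) (.node 1 (.node (-1) (.node (-1) .nil .nil) (.node 1
    .nil .nil)) (.node 1 (.node 1 .nil .nil) .nil))))) (.node (-1) (.node (-1) (.node 1 (.node 1
    (.node 1 (.node 1 .nil .nil) (.node 1 .nil .nil)) (.node 1 (.node (-1) .nil .nil) (.node (-1)
    .nil .nil))) (.node 1 (.node (-1) (.node 1 .nil .nil) (.node 1 .nil .nil)) (.node 1 (.node 1
    .nil .nil) .nil))) (.node 1 (.node 1 (.node 1 (.node (-1) .nil .nil) (.node 1 .nil .nil))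
    (.node 1 (.node 1 .nil .nil) (.node 1 .nil .nil))) (.node 1 (.node (-1) (.node (-1) .nil .nil)
    (.node 1 .nil .nil)) (.node 1 (.node 1 .nil .nil) .nil)))) (.node 1 (.node 1 (.node 1 (.node 1
    (.node 1 .nil .nil) (.node 1 .nil .nil)) (.node (-1) (.node 1 .nil .nil) (.node (-1) .nil
    .nil))) (.node 1 (.node (-1) (.node (-1) .nil .nil) (.node 1 .nil .nil)) (.node 1 (.node 1 .nil
    .nil) .nil))) (.node 1 (.node 1 (.node (-1) (.node 1 .nil .nil) (.node 1 .nil .nil)) (.node 1
    (.node 1 .nil .nil) (.node 1 .nil .nil))) (.node 1 (.node 1 (.node (-1) .nil .nil) (.node 1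
    .nil .nil)) (.node 1 (.node 1 .nil .nil) .nil)))))))

/-- table -/
noncomputable def auxE8Cart1 : Tr ℤ :=
    (.node 0 (.node 0 (.node 0 (.node 1 (.node 1 (.node (-1) (.node 0 (.node 0 .nil .nil) (.node 0
    .nil .nil)) (.node (-1) (.node 0 .nil .nil) (.node 0 .nil .nil))) (.node 0 (.node 0 (.node 1
    .nil .nil) (.node 1 .nil .nil)) (.node 0 (.node 0 .nil .nil) (.node 0 .nil .nil)))) (.node 0
    (.node 1 (.node 1 (.node 0 .nil .nil) (.node (-1) .nil .nil)) (.node 1 (.node (-1) .nil .nil)
    (.node (-1) .nil .nil))) (.node 0 (.node 0 (.node 1 .nil .nil) (.node 0 .nil .nil)) (.node 0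
    (.node 0 .nil .nil) .nil)))) (.node 0 (.node 0 (.node (-1) (.node (-1) (.node (-1) .nil .nil)
    (.node (-1) .nil .nil)) (.node 1 (.node 0 .nil .nil) (.node 0 .nil .nil))) (.node 0 (.node 0
    (.node 1 .nil .nil) (.node 1 .nil .nil)) (.node 0 (.node 0 .nil .nil) .nil))) (.node (-1)
    (.node 1 (.node 1 (.node (-1) .nil .nil) (.node (-1) .nil .nil)) (.node 1 (.node 1 .nil .nil)
    (.node 0 .nil .nil))) (.node 0 (.node (-1) (.node 0 .nil .nil) (.node 0 .nil .nil)) (.node 0
    (.node 0 .nil .nil) .nil))))) (.node (-1) (.node 0 (.node 0 (.node (-1) (.node 0 (.node 0 .nil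
    .nil) (.node 0 .nil .nil)) (.node (-1) (.node 0 .nil .nil) (.node 1 .nil .nil))) (.node 0
    (.node 0 (.node 1 .nil .nil) (.node 1 .nil .nil)) (.node 0 (.node 0 .nil .nil) .nil))) (.node 0
    (.node 1 (.node 1 (.node (-1) .nil .nil) (.node (-1) .nil .nil)) (.node 1 (.node 1 .nil .nil)
    (.node 1 .nil .nil))) (.node 0 (.node (-1) (.node 0 .nil .nil) (.node 0 .nil .nil)) (.node 0
    (.node 0 .nil .nil) .nil)))) (.node 0 (.node 0 (.node 1 (.node (-1) (.node (-1) .nil .nil)
    (.node (-1) .nil .nil)) (.node 1 (.node (-1) .nil .nil) (.node 0 .nil .nil))) (.node 0 (.node 0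
    (.node 1 .nil .nil) (.node 1 .nil .nil)) (.node 0 (.node 0 .nil .nil) .nil))) (.node (-1)
    (.node 1 (.node 0 (.node 2 .nil .nil) (.node 1 .nil .nil)) (.node 1 (.node 1 .nil .nil) (.node
    0 .nil .nil))) (.node 0 (.node (-1) (.node 0 .nil .nil) (.node 0 .nil .nil)) (.node 0 (.node 0
    .nil .nil) .nil)))))) (.node 0 (.node 0 (.node 1 (.node 0 (.node (-1) (.node 0 (.node 0 .nil
    .nil) (.node 0 .nil .nil)) (.node (-1) (.node 0 .nil .nil) (.node (-1) .nil .nil))) (.node 0
    (.node 0 (.node 1 .nil .nil) (.node 1 .nil .nil)) (.node 0 (.node 0 .nil .nil) .nil))) (.node 0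
    (.node 1 (.node 1 (.node (-1) .nil .nil) (.node (-1) .nil .nil)) (.node 0 (.node (-1) .nil
    .nil) (.node (-1) .nil .nil))) (.node 0 (.node (-1) (.node 0 .nil .nil) (.node 0 .nil .nil))
    (.node 0 (.node 0 .nil .nil) .nil)))) (.node 0 (.node 0 (.node 1 (.node (-1) (.node (-1) .nil
    .nil) (.node (-1) .nil .nil)) (.node 1 (.node (-1) .nil .nil) (.node 0 .nil .nil))) (.node 0
    (.node 0 (.node 1 .nil .nil) (.node 1 .nil .nil)) (.node 0 (.node 0 .nil .nil) .nil))) (.node
    (-1) (.node 1 (.node 0 (.node (-1) .nil .nil) (.node 1 .nil .nil)) (.node 1 (.node 1 .nil .nil)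
    (.node 0 .nil .nil))) (.node 0 (.node (-1) (.node 0 .nil .nil) (.node 0 .nil .nil)) (.node 0
    (.node 0 .nil .nil) .nil))))) (.node (-1) (.node 0 (.node 0 (.node (-1) (.node (-1) (.node (-1)
    .nil .nil) (.node (-1) .nil .nil)) (.node (-2) (.node 0 .nil .nil) (.node 0 .nil .nil))) (.node
    0 (.node 0 (.node 1 .nil .nil) (.node 1 .nil .nil)) (.node 0 (.node 0 .nil .nil) .nil))) (.node
    (-1) (.node 1 (.node 1 (.node (-1) .nil .nil) (.node (-1) .nil .nil)) (.node 1 (.node 1 .nil
    .nil) (.node 1 .nil .nil))) (.node 0 (.node (-1) (.node 0 .nil .nil) (.node 0 .nil .nil))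
    (.node 0 (.node 0 .nil .nil) .nil)))) (.node (-1) (.node 0 (.node 1 (.node (-1) (.node (-1)
    .nil .nil) (.node (-1) .nil .nil)) (.node 1 (.node (-1) .nil .nil) (.node 0 .nil .nil))) (.node
    0 (.node 0 (.node 1 .nil .nil) (.node 0 .nil .nil)) (.node 0 (.node 0 .nil .nil) .nil))) (.node
    (-1) (.node 0 (.node 0 (.node 1 .nil .nil) (.node 1 .nil .nil)) (.node 0 (.node 0 .nil .nil)
    (.node 0 .nil .nil))) (.node 0 (.node (-1) (.node 0 .nil .nil) (.node 0 .nil .nil)) (.node 0
    (.node 0 .nil .nil) .nil)))))))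

/-- table -/
noncomputable def auxE8Refl1 : Tr ℕ :=
    (.node 0 (.node 1 (.node 3 (.node 5 (.node 14 (.node 41 (.node 63 (.node 127 .nil .nil) (.node
    191 .nil .nil)) (.node 107 (.node 159 .nil .nil) (.node 223 .nil .nil))) (.node 47 (.node 79
    (.node 131 .nil .nil) (.node 197 .nil .nil)) (.node 111 (.node 175 .nil .nil) (.node 239 .nil
    .nil)))) (.node 23 (.node 29 (.node 66 (.node 135 .nil .nil) (.node 209 .nil .nil)) (.node 92
    (.node 172 .nil .nil) (.node 233 .nil .nil))) (.node 55 (.node 87 (.node 140 .nil .nil) (.node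
    215 .nil .nil)) (.node 119 (.node 183 .nil .nil) .nil)))) (.node 11 (.node 19 (.node 45 (.node
    72 (.node 143 .nil .nil) (.node 205 .nil .nil)) (.node 88 (.node 163 .nil .nil) (.node 227 .nil
    .nil))) (.node 51 (.node 83 (.node 136 .nil .nil) (.node 201 .nil .nil)) (.node 115 (.node 179
    .nil .nil) .nil))) (.node 37 (.node 33 (.node 70 (.node 150 .nil .nil) (.node 213 .nil .nil))
    (.node 95 (.node 166 .nil .nil) (.node 235 .nil .nil))) (.node 59 (.node 102 (.node 155 .nil
    .nil) (.node 219 .nil .nil)) (.node 123 (.node 187 .nil .nil) .nil))))) (.node 7 (.node 9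
    (.node 17 (.node 43 (.node 65 (.node 129 .nil .nil) (.node 193 .nil .nil)) (.node 109 (.node
    161 .nil .nil) (.node 224 .nil .nil))) (.node 49 (.node 81 (.node 133 .nil .nil) (.node 199
    .nil .nil)) (.node 113 (.node 177 .nil .nil) .nil))) (.node 25 (.node 31 (.node 68 (.node 148
    .nil .nil) (.node 211 .nil .nil)) (.node 93 (.node 164 .nil .nil) (.node 231 .nil .nil)))
    (.node 57 (.node 100 (.node 153 .nil .nil) (.node 217 .nil .nil)) (.node 121 (.node 185 .nil
    .nil) .nil)))) (.node 13 (.node 21 (.node 27 (.node 74 (.node 145 .nil .nil) (.node 207 .nil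
    .nil)) (.node 90 (.node 170 .nil .nil) (.node 229 .nil .nil))) (.node 53 (.node 85 (.node 138
    .nil .nil) (.node 203 .nil .nil)) (.node 117 (.node 181 .nil .nil) .nil))) (.node 39 (.node 35
    (.node 77 (.node 98 .nil .nil) (.node 195 .nil .nil)) (.node 97 (.node 168 .nil .nil) (.node
    237 .nil .nil))) (.node 61 (.node 105 (.node 157 .nil .nil) (.node 221 .nil .nil)) (.node 125
    (.node 189 .nil .nil) .nil)))))) (.node 2 (.node 4 (.node 6 (.node 16 (.node 42 (.node 64
    (.node 128 .nil .nil) (.node 192 .nil .nil)) (.node 108 (.node 160 .nil .nil) (.node 225 .nil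
    .nil))) (.node 48 (.node 80 (.node 132 .nil .nil) (.node 198 .nil .nil)) (.node 112 (.node 176
    .nil .nil) .nil))) (.node 24 (.node 30 (.node 67 (.node 147 .nil .nil) (.node 210 .nil .nil))
    (.node 104 (.node 173 .nil .nil) (.node 234 .nil .nil))) (.node 56 (.node 99 (.node 152 .nil
    .nil) (.node 216 .nil .nil)) (.node 120 (.node 184 .nil .nil) .nil)))) (.node 12 (.node 20
    (.node 26 (.node 73 (.node 144 .nil .nil) (.node 206 .nil .nil)) (.node 89 (.node 169 .nil
    .nil) (.node 228 .nil .nil))) (.node 52 (.node 84 (.node 137 .nil .nil) (.node 202 .nil .nil))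
    (.node 116 (.node 180 .nil .nil) .nil))) (.node 38 (.node 34 (.node 76 (.node 151 .nil .nil)
    (.node 194 .nil .nil)) (.node 96 (.node 167 .nil .nil) (.node 236 .nil .nil))) (.node 60 (.node
    103 (.node 156 .nil .nil) (.node 220 .nil .nil)) (.node 124 (.node 188 .nil .nil) .nil)))))
    (.node 8 (.node 10 (.node 18 (.node 44 (.node 71 (.node 142 .nil .nil) (.node 204 .nil .nil))
    (.node 141 (.node 162 .nil .nil) (.node 226 .nil .nil))) (.node 50 (.node 82 (.node 134 .nil
    .nil) (.node 200 .nil .nil)) (.node 114 (.node 178 .nil .nil) .nil))) (.node 36 (.node 32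
    (.node 69 (.node 149 .nil .nil) (.node 212 .nil .nil)) (.node 94 (.node 165 .nil .nil) (.node
    232 .nil .nil))) (.node 58 (.node 101 (.node 154 .nil .nil) (.node 218 .nil .nil)) (.node 122
    (.node 186 .nil .nil) .nil)))) (.node 15 (.node 22 (.node 28 (.node 75 (.node 146 .nil .nil)
    (.node 208 .nil .nil)) (.node 91 (.node 171 .nil .nil) (.node 230 .nil .nil))) (.node 54 (.node
    86 (.node 139 .nil .nil) (.node 214 .nil .nil)) (.node 118 (.node 182 .nil .nil) .nil))) (.node
    40 (.node 46 (.node 78 (.node 130 .nil .nil) (.node 196 .nil .nil)) (.node 110 (.node 174 .nil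
    .nil) (.node 238 .nil .nil))) (.node 62 (.node 106 (.node 158 .nil .nil) (.node 222 .nil .nil))
    (.node 126 (.node 190 .nil .nil) .nil)))))))

/-- table -/
noncomputable def auxE8Eta1 : Tr ℤ :=
    (.node 1 (.node 1 (.node 1 (.node 1 (.node 1 (.node (-1) (.node 1 (.node 1 .nil .nil) (.node 1
    .nil .nil)) (.node 1 (.node 1 .nil .nil) (.node 1 .nil .nil))) (.node 1 (.node 1 (.node 1 .nil
    .nil) (.node (-1) .nil .nil)) (.node 1 (.node 1 .nil .nil) (.node 1 .nil .nil)))) (.node 1
    (.node 1 (.node 1 (.node 1 .nil .nil) (.node 1 .nil .nil)) (.node 1 (.node 1 .nil .nil) (.node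
    1 .nil .nil))) (.node 1 (.node 1 (.node (-1) .nil .nil) (.node 1 .nil .nil)) (.node 1 (.node 1
    .nil .nil) .nil)))) (.node 1 (.node 1 (.node (-1) (.node (-1) (.node (-1) .nil .nil) (.node 1
    .nil .nil)) (.node 1 (.node 1 .nil .nil) (.node 1 .nil .nil))) (.node 1 (.node 1 (.node (-1)
    .nil .nil) (.node (-1) .nil .nil)) (.node 1 (.node 1 .nil .nil) .nil))) (.node (-1) (.node 1
    (.node 1 (.node 1 .nil .nil) (.node 1 .nil .nil)) (.node (-1) (.node (-1) .nil .nil) (.node 1
    .nil .nil))) (.node 1 (.node (-1) (.node 1 .nil .nil) (.node 1 .nil .nil)) (.node 1 (.node 1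
    .nil .nil) .nil))))) (.node (-1) (.node 1 (.node 1 (.node (-1) (.node 1 (.node 1 .nil .nil)
    (.node 1 .nil .nil)) (.node 1 (.node 1 .nil .nil) (.node (-1) .nil .nil))) (.node 1 (.node 1
    (.node 1 .nil .nil) (.node (-1) .nil .nil)) (.node 1 (.node 1 .nil .nil) .nil))) (.node 1
    (.node 1 (.node 1 (.node 1 .nil .nil) (.node 1 .nil .nil)) (.node (-1) (.node (-1) .nil .nil)
    (.node (-1) .nil .nil))) (.node 1 (.node (-1) (.node 1 .nil .nil) (.node 1 .nil .nil)) (.node 1
    (.node 1 .nil .nil) .nil)))) (.node 1 (.node 1 (.node 1 (.node (-1) (.node (-1) .nil .nil)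
    (.node 1 .nil .nil)) (.node 1 (.node 1 .nil .nil) (.node 1 .nil .nil))) (.node 1 (.node 1
    (.node (-1) .nil .nil) (.node (-1) .nil .nil)) (.node 1 (.node 1 .nil .nil) .nil))) (.node (-1)
    (.node 1 (.node 1 (.node (-1) .nil .nil) (.node (-1) .nil .nil)) (.node (-1) (.node (-1) .nil
    .nil) (.node 1 .nil .nil))) (.node 1 (.node 1 (.node 1 .nil .nil) (.node 1 .nil .nil)) (.node 1
    (.node 1 .nil .nil) .nil)))))) (.node 1 (.node 1 (.node 1 (.node 1 (.node (-1) (.node 1 (.node
    1 .nil .nil) (.node 1 .nil .nil)) (.node 1 (.node 1 .nil .nil) (.node 1 .nil .nil))) (.node 1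
    (.node 1 (.node 1 .nil .nil) (.node (-1) .nil .nil)) (.node 1 (.node 1 .nil .nil) .nil)))
    (.node 1 (.node 1 (.node 1 (.node 1 .nil .nil) (.node 1 .nil .nil)) (.node 1 (.node 1 .nil
    .nil) (.node 1 .nil .nil))) (.node 1 (.node (-1) (.node 1 .nil .nil) (.node 1 .nil .nil))
    (.node 1 (.node 1 .nil .nil) .nil)))) (.node 1 (.node 1 (.node 1 (.node (-1) (.node (-1) .nil
    .nil) (.node 1 .nil .nil)) (.node 1 (.node 1 .nil .nil) (.node 1 .nil .nil))) (.node 1 (.node 1
    (.node (-1) .nil .nil) (.node (-1) .nil .nil)) (.node 1 (.node 1 .nil .nil) .nil))) (.node (-1)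
    (.node 1 (.node 1 (.node 1 .nil .nil) (.node (-1) .nil .nil)) (.node (-1) (.node (-1) .nil
    .nil) (.node 1 .nil .nil))) (.node 1 (.node (-1) (.node 1 .nil .nil) (.node 1 .nil .nil))
    (.node 1 (.node 1 .nil .nil) .nil))))) (.node (-1) (.node 1 (.node 1 (.node (-1) (.node (-1)
    (.node (-1) .nil .nil) (.node 1 .nil .nil)) (.node (-1) (.node 1 .nil .nil) (.node 1 .nil
    .nil))) (.node 1 (.node 1 (.node 1 .nil .nil) (.node (-1) .nil .nil)) (.node 1 (.node 1 .nil
    .nil) .nil))) (.node (-1) (.node 1 (.node 1 (.node 1 .nil .nil) (.node 1 .nil .nil)) (.node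
    (-1) (.node (-1) .nil .nil) (.node (-1) .nil .nil))) (.node 1 (.node (-1) (.node 1 .nil .nil)
    (.node 1 .nil .nil)) (.node 1 (.node 1 .nil .nil) .nil)))) (.node (-1) (.node 1 (.node 1 (.node
    (-1) (.node (-1) .nil .nil) (.node 1 .nil .nil)) (.node 1 (.node 1 .nil .nil) (.node 1 .nil
    .nil))) (.node 1 (.node 1 (.node (-1) .nil .nil) (.node 1 .nil .nil)) (.node 1 (.node 1 .nil
    .nil) .nil))) (.node (-1) (.node 1 (.node 1 (.node 1 .nil .nil) (.node (-1) .nil .nil)) (.node
    1 (.node 1 .nil .nil) (.node 1 .nil .nil))) (.node 1 (.node 1 (.node 1 .nil .nil) (.node 1 .nil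
    .nil)) (.node 1 (.node 1 .nil .nil) .nil)))))))

/-- table -/
noncomputable def auxE8Cart2 : Tr ℤ :=
    (.node 0 (.node 0 (.node 0 (.node (-1) (.node 0 (.node 0 (.node 1 (.node 0 .nil .nil) (.node 1
    .nil .nil)) (.node 1 (.node 0 .nil .nil) (.node 1 .nil .nil))) (.node (-1) (.node 0 (.node (-1)
    .nil .nil) (.node 0 .nil .nil)) (.node 0 (.node (-1) .nil .nil) (.node 0 .nil .nil)))) (.node 1
    (.node 0 (.node 0 (.node 2 .nil .nil) (.node 0 .nil .nil)) (.node (-1) (.node 0 .nil .nil)
    (.node (-1) .nil .nil))) (.node (-1) (.node 0 (.node 1 .nil .nil) (.node (-1) .nil .nil))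
    (.node 0 (.node (-1) .nil .nil) .nil)))) (.node 0 (.node (-1) (.node 0 (.node 0 (.node (-1)
    .nil .nil) (.node 0 .nil .nil)) (.node (-1) (.node 1 .nil .nil) (.node 0 .nil .nil))) (.node
    (-1) (.node 0 (.node 1 .nil .nil) (.node 0 .nil .nil)) (.node 0 (.node (-1) .nil .nil) .nil)))
    (.node 0 (.node 0 (.node 0 (.node 1 .nil .nil) (.node 0 .nil .nil)) (.node 1 (.node 0 .nil
    .nil) (.node 0 .nil .nil))) (.node 1 (.node (-1) (.node 0 .nil .nil) (.node 1 .nil .nil))
    (.node 0 (.node 1 .nil .nil) .nil))))) (.node (-1) (.node 0 (.node (-1) (.node 0 (.node 1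
    (.node 0 .nil .nil) (.node 1 .nil .nil)) (.node 1 (.node 0 .nil .nil) (.node 0 .nil .nil)))
    (.node (-1) (.node 0 (.node (-1) .nil .nil) (.node 0 .nil .nil)) (.node 0 (.node (-1) .nil
    .nil) .nil))) (.node 1 (.node 0 (.node 0 (.node 1 .nil .nil) (.node 0 .nil .nil)) (.node 1
    (.node 0 .nil .nil) (.node (-1) .nil .nil))) (.node 1 (.node (-1) (.node 0 .nil .nil) (.node
    (-1) .nil .nil)) (.node 0 (.node 1 .nil .nil) .nil)))) (.node 0 (.node 1 (.node 0 (.node 0
    (.node (-1) .nil .nil) (.node 0 .nil .nil)) (.node (-1) (.node 0 .nil .nil) (.node 0 .nil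
    .nil))) (.node (-1) (.node 0 (.node 1 .nil .nil) (.node 0 .nil .nil)) (.node 0 (.node (-1) .nil
    .nil) .nil))) (.node 0 (.node 0 (.node 1 (.node 0 .nil .nil) (.node 0 .nil .nil)) (.node 1
    (.node 0 .nil .nil) (.node 0 .nil .nil))) (.node 1 (.node 1 (.node 0 .nil .nil) (.node 1 .nil
    .nil)) (.node 0 (.node 1 .nil .nil) .nil)))))) (.node 0 (.node 0 (.node 1 (.node (-1) (.node 0
    (.node 1 (.node 0 .nil .nil) (.node 1 .nil .nil)) (.node 1 (.node 0 .nil .nil) (.node 0 .nil
    .nil))) (.node (-1) (.node 0 (.node (-1) .nil .nil) (.node 0 .nil .nil)) (.node 0 (.node (-1)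
    .nil .nil) .nil))) (.node 1 (.node 0 (.node 0 (.node 1 .nil .nil) (.node 0 .nil .nil)) (.node
    (-2) (.node 0 .nil .nil) (.node 1 .nil .nil))) (.node 1 (.node (-1) (.node 0 .nil .nil) (.node
    (-1) .nil .nil)) (.node 0 (.node 1 .nil .nil) .nil)))) (.node 0 (.node (-1) (.node 0 (.node 0
    (.node (-1) .nil .nil) (.node 0 .nil .nil)) (.node (-1) (.node 0 .nil .nil) (.node 0 .nil
    .nil))) (.node (-1) (.node 0 (.node 1 .nil .nil) (.node 0 .nil .nil)) (.node 0 (.node (-1) .nil
    .nil) .nil))) (.node 0 (.node 0 (.node (-1) (.node 1 .nil .nil) (.node 0 .nil .nil)) (.node 1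
    (.node 0 .nil .nil) (.node 0 .nil .nil))) (.node 1 (.node (-1) (.node 0 .nil .nil) (.node 1
    .nil .nil)) (.node 0 (.node 1 .nil .nil) .nil))))) (.node 1 (.node 0 (.node (-1) (.node 0
    (.node 0 (.node (-1) .nil .nil) (.node 0 .nil .nil)) (.node 0 (.node (-1) .nil .nil) (.node 0
    .nil .nil))) (.node (-1) (.node 0 (.node (-1) .nil .nil) (.node 0 .nil .nil)) (.node 0 (.node
    (-1) .nil .nil) .nil))) (.node 0 (.node 0 (.node 0 (.node 1 .nil .nil) (.node 0 .nil .nil))
    (.node 1 (.node 0 .nil .nil) (.node 1 .nil .nil))) (.node 1 (.node (-1) (.node 0 .nil .nil)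
    (.node (-1) .nil .nil)) (.node 0 (.node 1 .nil .nil) .nil)))) (.node 0 (.node 1 (.node 0 (.node
    0 (.node (-1) .nil .nil) (.node 0 .nil .nil)) (.node (-1) (.node 0 .nil .nil) (.node 0 .nil
    .nil))) (.node (-1) (.node 0 (.node 1 .nil .nil) (.node (-1) .nil .nil)) (.node 0 (.node (-1)
    .nil .nil) .nil))) (.node 0 (.node (-1) (.node 0 (.node (-1) .nil .nil) (.node 0 .nil .nil))
    (.node 0 (.node (-1) .nil .nil) (.node 0 .nil .nil))) (.node 1 (.node 1 (.node 0 .nil .nil)
    (.node 1 .nil .nil)) (.node 0 (.node 1 .nil .nil) .nil)))))))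

/-- table -/
noncomputable def auxE8Refl2 : Tr ℕ :=
    (.node 0 (.node 1 (.node 3 (.node 8 (.node 15 (.node 31 (.node 53 (.node 127 .nil .nil) (.node
    181 .nil .nil)) (.node 90 (.node 159 .nil .nil) (.node 218 .nil .nil))) (.node 57 (.node 79
    (.node 148 .nil .nil) (.node 207 .nil .nil)) (.node 111 (.node 185 .nil .nil) (.node 239 .nil
    .nil)))) (.node 18 (.node 39 (.node 71 (.node 104 .nil .nil) (.node 199 .nil .nil)) (.node 109
    (.node 167 .nil .nil) (.node 232 .nil .nil))) (.node 65 (.node 87 (.node 146 .nil .nil) (.node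
    220 .nil .nil)) (.node 119 (.node 193 .nil .nil) .nil)))) (.node 11 (.node 24 (.node 35 (.node
    67 (.node 137 .nil .nil) (.node 195 .nil .nil)) (.node 105 (.node 162 .nil .nil) (.node 227
    .nil .nil))) (.node 61 (.node 83 (.node 142 .nil .nil) (.node 211 .nil .nil)) (.node 115 (.node
    189 .nil .nil) .nil))) (.node 27 (.node 43 (.node 75 (.node 133 .nil .nil) (.node 203 .nil
    .nil)) (.node 101 (.node 171 .nil .nil) (.node 235 .nil .nil))) (.node 49 (.node 96 (.node 155
    .nil .nil) (.node 214 .nil .nil)) (.node 123 (.node 177 .nil .nil) .nil))))) (.node 6 (.node 9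
    (.node 22 (.node 33 (.node 55 (.node 129 .nil .nil) (.node 183 .nil .nil)) (.node 92 (.node 161
    .nil .nil) (.node 225 .nil .nil))) (.node 59 (.node 81 (.node 150 .nil .nil) (.node 209 .nil
    .nil)) (.node 113 (.node 187 .nil .nil) .nil))) (.node 20 (.node 41 (.node 73 (.node 131 .nil
    .nil) (.node 201 .nil .nil)) (.node 99 (.node 169 .nil .nil) (.node 234 .nil .nil))) (.node 47
    (.node 94 (.node 153 .nil .nil) (.node 222 .nil .nil)) (.node 121 (.node 175 .nil .nil)
    .nil)))) (.node 13 (.node 16 (.node 37 (.node 69 (.node 139 .nil .nil) (.node 197 .nil .nil))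
    (.node 107 (.node 165 .nil .nil) (.node 229 .nil .nil))) (.node 63 (.node 85 (.node 144 .nil
    .nil) (.node 213 .nil .nil)) (.node 117 (.node 191 .nil .nil) .nil))) (.node 29 (.node 45
    (.node 76 (.node 141 .nil .nil) (.node 205 .nil .nil)) (.node 103 (.node 173 .nil .nil) (.node
    237 .nil .nil))) (.node 51 (.node 88 (.node 157 .nil .nil) (.node 216 .nil .nil)) (.node 125
    (.node 179 .nil .nil) .nil)))))) (.node 2 (.node 4 (.node 7 (.node 21 (.node 32 (.node 54
    (.node 128 .nil .nil) (.node 182 .nil .nil)) (.node 91 (.node 160 .nil .nil) (.node 224 .nil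
    .nil))) (.node 58 (.node 80 (.node 149 .nil .nil) (.node 208 .nil .nil)) (.node 112 (.node 186
    .nil .nil) .nil))) (.node 19 (.node 40 (.node 72 (.node 130 .nil .nil) (.node 200 .nil .nil))
    (.node 135 (.node 168 .nil .nil) (.node 231 .nil .nil))) (.node 46 (.node 93 (.node 152 .nil
    .nil) (.node 221 .nil .nil)) (.node 120 (.node 174 .nil .nil) .nil)))) (.node 12 (.node 25
    (.node 36 (.node 68 (.node 138 .nil .nil) (.node 196 .nil .nil)) (.node 106 (.node 164 .nil
    .nil) (.node 228 .nil .nil))) (.node 62 (.node 84 (.node 143 .nil .nil) (.node 212 .nil .nil))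
    (.node 116 (.node 190 .nil .nil) .nil))) (.node 28 (.node 44 (.node 77 (.node 134 .nil .nil)
    (.node 204 .nil .nil)) (.node 102 (.node 172 .nil .nil) (.node 236 .nil .nil))) (.node 50
    (.node 97 (.node 156 .nil .nil) (.node 215 .nil .nil)) (.node 124 (.node 178 .nil .nil)
    .nil))))) (.node 5 (.node 10 (.node 23 (.node 34 (.node 66 (.node 136 .nil .nil) (.node 194
    .nil .nil)) (.node 98 (.node 163 .nil .nil) (.node 226 .nil .nil))) (.node 60 (.node 82 (.node
    151 .nil .nil) (.node 210 .nil .nil)) (.node 114 (.node 188 .nil .nil) .nil))) (.node 26 (.node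
    42 (.node 74 (.node 132 .nil .nil) (.node 202 .nil .nil)) (.node 100 (.node 170 .nil .nil)
    (.node 233 .nil .nil))) (.node 48 (.node 95 (.node 154 .nil .nil) (.node 223 .nil .nil)) (.node
    122 (.node 176 .nil .nil) .nil)))) (.node 14 (.node 17 (.node 38 (.node 70 (.node 140 .nil
    .nil) (.node 198 .nil .nil)) (.node 108 (.node 166 .nil .nil) (.node 230 .nil .nil))) (.node 64
    (.node 86 (.node 145 .nil .nil) (.node 219 .nil .nil)) (.node 118 (.node 192 .nil .nil) .nil)))
    (.node 30 (.node 56 (.node 78 (.node 147 .nil .nil) (.node 206 .nil .nil)) (.node 110 (.node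
    184 .nil .nil) (.node 238 .nil .nil))) (.node 52 (.node 89 (.node 158 .nil .nil) (.node 217
    .nil .nil)) (.node 126 (.node 180 .nil .nil) .nil)))))))

/-- table -/
noncomputable def auxE8Eta2 : Tr ℤ :=
    (.node 1 (.node 1 (.node 1 (.node (-1) (.node 1 (.node 1 (.node 1 (.node 1 .nil .nil) (.node
    (-1) .nil .nil)) (.node 1 (.node 1 .nil .nil) (.node (-1) .nil .nil))) (.node (-1) (.node 1
    (.node 1 .nil .nil) (.node 1 .nil .nil)) (.node 1 (.node 1 .nil .nil) (.node 1 .nil .nil))))
    (.node 1 (.node 1 (.node 1 (.node (-1) .nil .nil) (.node 1 .nil .nil)) (.node 1 (.node 1 .nil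
    .nil) (.node 1 .nil .nil))) (.node (-1) (.node 1 (.node (-1) .nil .nil) (.node 1 .nil .nil))
    (.node 1 (.node 1 .nil .nil) .nil)))) (.node 1 (.node (-1) (.node 1 (.node 1 (.node (-1) .nil
    .nil) (.node 1 .nil .nil)) (.node 1 (.node (-1) .nil .nil) (.node 1 .nil .nil))) (.node (-1)
    (.node 1 (.node (-1) .nil .nil) (.node 1 .nil .nil)) (.node 1 (.node 1 .nil .nil) .nil)))
    (.node 1 (.node 1 (.node 1 (.node 1 .nil .nil) (.node 1 .nil .nil)) (.node (-1) (.node 1 .nil
    .nil) (.node 1 .nil .nil))) (.node 1 (.node (-1) (.node 1 .nil .nil) (.node (-1) .nil .nil))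
    (.node 1 (.node (-1) .nil .nil) .nil))))) (.node (-1) (.node 1 (.node (-1) (.node 1 (.node 1
    (.node 1 .nil .nil) (.node (-1) .nil .nil)) (.node 1 (.node 1 .nil .nil) (.node 1 .nil .nil)))
    (.node (-1) (.node 1 (.node 1 .nil .nil) (.node 1 .nil .nil)) (.node 1 (.node 1 .nil .nil)
    .nil))) (.node 1 (.node 1 (.node 1 (.node 1 .nil .nil) (.node 1 .nil .nil)) (.node (-1) (.node
    1 .nil .nil) (.node 1 .nil .nil))) (.node 1 (.node (-1) (.node 1 .nil .nil) (.node 1 .nil
    .nil)) (.node 1 (.node (-1) .nil .nil) .nil)))) (.node 1 (.node 1 (.node 1 (.node 1 (.node (-1)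
    .nil .nil) (.node 1 .nil .nil)) (.node 1 (.node 1 .nil .nil) (.node 1 .nil .nil))) (.node (-1)
    (.node 1 (.node (-1) .nil .nil) (.node 1 .nil .nil)) (.node 1 (.node 1 .nil .nil) .nil)))
    (.node 1 (.node 1 (.node 1 (.node 1 .nil .nil) (.node 1 .nil .nil)) (.node (-1) (.node 1 .nil
    .nil) (.node 1 .nil .nil))) (.node 1 (.node 1 (.node 1 .nil .nil) (.node (-1) .nil .nil))
    (.node 1 (.node (-1) .nil .nil) .nil)))))) (.node 1 (.node 1 (.node 1 (.node (-1) (.node 1
    (.node 1 (.node 1 .nil .nil) (.node (-1) .nil .nil)) (.node 1 (.node 1 .nil .nil) (.node 1 .nil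
    .nil))) (.node (-1) (.node 1 (.node 1 .nil .nil) (.node 1 .nil .nil)) (.node 1 (.node 1 .nil
    .nil) .nil))) (.node 1 (.node 1 (.node 1 (.node 1 .nil .nil) (.node 1 .nil .nil)) (.node (-1)
    (.node 1 .nil .nil) (.node (-1) .nil .nil))) (.node 1 (.node (-1) (.node 1 .nil .nil) (.node 1
    .nil .nil)) (.node 1 (.node (-1) .nil .nil) .nil)))) (.node 1 (.node (-1) (.node 1 (.node 1
    (.node (-1) .nil .nil) (.node 1 .nil .nil)) (.node 1 (.node 1 .nil .nil) (.node 1 .nil .nil)))
    (.node (-1) (.node 1 (.node (-1) .nil .nil) (.node 1 .nil .nil)) (.node 1 (.node 1 .nil .nil)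
    .nil))) (.node 1 (.node 1 (.node (-1) (.node 1 .nil .nil) (.node 1 .nil .nil)) (.node (-1)
    (.node 1 .nil .nil) (.node 1 .nil .nil))) (.node 1 (.node (-1) (.node 1 .nil .nil) (.node (-1)
    .nil .nil)) (.node 1 (.node (-1) .nil .nil) .nil))))) (.node 1 (.node 1 (.node (-1) (.node 1
    (.node 1 (.node (-1) .nil .nil) (.node 1 .nil .nil)) (.node 1 (.node 1 .nil .nil) (.node 1 .nil
    .nil))) (.node (-1) (.node 1 (.node 1 .nil .nil) (.node 1 .nil .nil)) (.node 1 (.node 1 .nil
    .nil) .nil))) (.node 1 (.node 1 (.node 1 (.node 1 .nil .nil) (.node 1 .nil .nil)) (.node (-1)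
    (.node 1 .nil .nil) (.node (-1) .nil .nil))) (.node 1 (.node (-1) (.node 1 .nil .nil) (.node 1
    .nil .nil)) (.node 1 (.node (-1) .nil .nil) .nil)))) (.node 1 (.node 1 (.node 1 (.node 1 (.node
    (-1) .nil .nil) (.node 1 .nil .nil)) (.node 1 (.node 1 .nil .nil) (.node 1 .nil .nil))) (.node
    (-1) (.node 1 (.node (-1) .nil .nil) (.node 1 .nil .nil)) (.node 1 (.node 1 .nil .nil) .nil)))
    (.node 1 (.node (-1) (.node 1 (.node 1 .nil .nil) (.node 1 .nil .nil)) (.node 1 (.node 1 .nil
    .nil) (.node 1 .nil .nil))) (.node 1 (.node 1 (.node 1 .nil .nil) (.node (-1) .nil .nil))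
    (.node 1 (.node (-1) .nil .nil) .nil)))))))

/-- table -/
noncomputable def auxE8Cart3 : Tr ℤ :=
    (.node 0 (.node 0 (.node 0 (.node 0 (.node (-1) (.node 0 (.node (-1) (.node (-1) .nil .nil)
    (.node (-1) .nil .nil)) (.node 0 (.node 0 .nil .nil) (.node (-1) .nil .nil))) (.node 1 (.node 0
    (.node 0 .nil .nil) (.node 0 .nil .nil)) (.node 1 (.node 1 .nil .nil) (.node 0 .nil .nil))))
    (.node (-1) (.node 0 (.node 0 (.node (-1) .nil .nil) (.node 1 .nil .nil)) (.node (-1) (.node 0
    .nil .nil) (.node 1 .nil .nil))) (.node 0 (.node (-1) (.node (-1) .nil .nil) (.node 1 .nil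
    .nil)) (.node 0 (.node 0 .nil .nil) .nil)))) (.node 0 (.node 0 (.node 0 (.node 1 (.node 1 .nil
    .nil) (.node 1 .nil .nil)) (.node 0 (.node (-1) .nil .nil) (.node 0 .nil .nil))) (.node 1
    (.node 0 (.node 0 .nil .nil) (.node (-1) .nil .nil)) (.node 0 (.node 0 .nil .nil) .nil)))
    (.node 1 (.node (-1) (.node (-1) (.node 0 .nil .nil) (.node 0 .nil .nil)) (.node (-1) (.node
    (-1) .nil .nil) (.node 1 .nil .nil))) (.node 0 (.node 1 (.node 1 .nil .nil) (.node 0 .nil
    .nil)) (.node 0 (.node 0 .nil .nil) .nil))))) (.node 1 (.node 1 (.node 0 (.node 0 (.node (-1)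
    (.node (-1) .nil .nil) (.node (-1) .nil .nil)) (.node (-1) (.node 0 .nil .nil) (.node 0 .nil
    .nil))) (.node 1 (.node 0 (.node 0 .nil .nil) (.node 0 .nil .nil)) (.node 1 (.node 1 .nil .nil)
    .nil))) (.node (-1) (.node (-1) (.node 0 (.node 0 .nil .nil) (.node 0 .nil .nil)) (.node (-1)
    (.node 0 .nil .nil) (.node 0 .nil .nil))) (.node 0 (.node 1 (.node 1 .nil .nil) (.node 1 .nil
    .nil)) (.node 0 (.node 0 .nil .nil) .nil)))) (.node 0 (.node 0 (.node 0 (.node 1 (.node 1 .nil
    .nil) (.node 1 .nil .nil)) (.node 0 (.node 0 .nil .nil) (.node 0 .nil .nil))) (.node 0 (.node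
    (-1) (.node (-1) .nil .nil) (.node (-1) .nil .nil)) (.node 0 (.node 0 .nil .nil) .nil))) (.node
    1 (.node (-1) (.node 0 (.node (-1) .nil .nil) (.node 0 .nil .nil)) (.node (-2) (.node (-1) .nil
    .nil) (.node 0 .nil .nil))) (.node 0 (.node 0 (.node 0 .nil .nil) (.node 0 .nil .nil)) (.node 0
    (.node (-1) .nil .nil) .nil)))))) (.node 0 (.node (-1) (.node (-1) (.node 1 (.node 0 (.node
    (-1) (.node (-1) .nil .nil) (.node (-1) .nil .nil)) (.node 0 (.node 0 .nil .nil) (.node 1 .nil
    .nil))) (.node 1 (.node 0 (.node 0 .nil .nil) (.node 0 .nil .nil)) (.node 1 (.node 1 .nil .nil)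
    .nil))) (.node (-1) (.node (-1) (.node 0 (.node 1 .nil .nil) (.node 0 .nil .nil)) (.node 1
    (.node 0 .nil .nil) (.node 0 .nil .nil))) (.node 0 (.node 1 (.node 1 .nil .nil) (.node 1 .nil
    .nil)) (.node 0 (.node 0 .nil .nil) .nil)))) (.node 0 (.node 0 (.node 0 (.node 1 (.node 1 .nil
    .nil) (.node 1 .nil .nil)) (.node 0 (.node 1 .nil .nil) (.node 0 .nil .nil))) (.node 0 (.node
    (-1) (.node (-1) .nil .nil) (.node (-1) .nil .nil)) (.node 0 (.node 0 .nil .nil) .nil))) (.node
    1 (.node (-1) (.node 1 (.node 0 .nil .nil) (.node 0 .nil .nil)) (.node (-1) (.node (-1) .nil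
    .nil) (.node 0 .nil .nil))) (.node 0 (.node 0 (.node 0 .nil .nil) (.node 0 .nil .nil)) (.node 0
    (.node (-1) .nil .nil) .nil))))) (.node 0 (.node 0 (.node 0 (.node 0 (.node 1 (.node 2 .nil
    .nil) (.node 1 .nil .nil)) (.node 1 (.node 0 .nil .nil) (.node 0 .nil .nil))) (.node 1 (.node 0
    (.node 0 .nil .nil) (.node (-1) .nil .nil)) (.node 0 (.node 0 .nil .nil) .nil))) (.node 1
    (.node (-1) (.node 0 (.node 0 .nil .nil) (.node 0 .nil .nil)) (.node (-1) (.node (-1) .nil
    .nil) (.node (-1) .nil .nil))) (.node 0 (.node 1 (.node 1 .nil .nil) (.node 0 .nil .nil))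
    (.node 0 (.node 0 .nil .nil) .nil)))) (.node 0 (.node (-1) (.node 0 (.node 0 (.node 1 .nil
    .nil) (.node 1 .nil .nil)) (.node 0 (.node 0 .nil .nil) (.node (-1) .nil .nil))) (.node 0
    (.node (-1) (.node (-1) .nil .nil) (.node 1 .nil .nil)) (.node 0 (.node 0 .nil .nil) .nil)))
    (.node 0 (.node 1 (.node 0 (.node 1 .nil .nil) (.node 0 .nil .nil)) (.node 1 (.node 1 .nil
    .nil) (.node 0 .nil .nil))) (.node (-1) (.node 0 (.node 0 .nil .nil) (.node 0 .nil .nil))
    (.node (-1) (.node (-1) .nil .nil) .nil)))))))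

/-- table -/
noncomputable def auxE8Refl3 : Tr ℕ :=
    (.node 0 (.node 1 (.node 3 (.node 7 (.node 16 (.node 31 (.node 67 (.node 132 .nil .nil) (.node
    197 .nil .nil)) (.node 95 (.node 159 .nil .nil) (.node 224 .nil .nil))) (.node 41 (.node 79
    (.node 143 .nil .nil) (.node 207 .nil .nil)) (.node 106 (.node 171 .nil .nil) (.node 239 .nil
    .nil)))) (.node 27 (.node 39 (.node 71 (.node 136 .nil .nil) (.node 193 .nil .nil)) (.node 104
    (.node 167 .nil .nil) (.node 230 .nil .nil))) (.node 55 (.node 91 (.node 155 .nil .nil) (.node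
    211 .nil .nil)) (.node 119 (.node 183 .nil .nil) .nil)))) (.node 11 (.node 19 (.node 35 (.node
    63 (.node 126 .nil .nil) (.node 189 .nil .nil)) (.node 99 (.node 164 .nil .nil) (.node 227 .nil
    .nil))) (.node 45 (.node 83 (.node 147 .nil .nil) (.node 215 .nil .nil)) (.node 115 (.node 179
    .nil .nil) .nil))) (.node 23 (.node 49 (.node 76 (.node 139 .nil .nil) (.node 203 .nil .nil))
    (.node 112 (.node 175 .nil .nil) (.node 234 .nil .nil))) (.node 59 (.node 87 (.node 151 .nil
    .nil) (.node 219 .nil .nil)) (.node 123 (.node 187 .nil .nil) .nil))))) (.node 4 (.node 8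
    (.node 17 (.node 33 (.node 69 (.node 134 .nil .nil) (.node 199 .nil .nil)) (.node 98 (.node 161
    .nil .nil) (.node 225 .nil .nil))) (.node 43 (.node 81 (.node 145 .nil .nil) (.node 209 .nil
    .nil)) (.node 108 (.node 173 .nil .nil) .nil))) (.node 29 (.node 47 (.node 73 (.node 137 .nil
    .nil) (.node 201 .nil .nil)) (.node 110 (.node 169 .nil .nil) (.node 233 .nil .nil))) (.node 57
    (.node 85 (.node 149 .nil .nil) (.node 213 .nil .nil)) (.node 121 (.node 185 .nil .nil)
    .nil)))) (.node 13 (.node 21 (.node 37 (.node 65 (.node 128 .nil .nil) (.node 191 .nil .nil))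
    (.node 101 (.node 165 .nil .nil) (.node 229 .nil .nil))) (.node 53 (.node 89 (.node 153 .nil
    .nil) (.node 217 .nil .nil)) (.node 117 (.node 181 .nil .nil) .nil))) (.node 25 (.node 51
    (.node 77 (.node 142 .nil .nil) (.node 205 .nil .nil)) (.node 130 (.node 177 .nil .nil) (.node
    237 .nil .nil))) (.node 61 (.node 93 (.node 157 .nil .nil) (.node 221 .nil .nil)) (.node 125
    (.node 195 .nil .nil) .nil)))))) (.node 2 (.node 5 (.node 9 (.node 15 (.node 32 (.node 68
    (.node 133 .nil .nil) (.node 198 .nil .nil)) (.node 96 (.node 160 .nil .nil) (.node 223 .nil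
    .nil))) (.node 42 (.node 80 (.node 144 .nil .nil) (.node 208 .nil .nil)) (.node 107 (.node 172
    .nil .nil) .nil))) (.node 28 (.node 46 (.node 72 (.node 135 .nil .nil) (.node 200 .nil .nil))
    (.node 103 (.node 168 .nil .nil) (.node 232 .nil .nil))) (.node 56 (.node 84 (.node 148 .nil
    .nil) (.node 212 .nil .nil)) (.node 120 (.node 184 .nil .nil) .nil)))) (.node 12 (.node 20
    (.node 36 (.node 64 (.node 127 .nil .nil) (.node 190 .nil .nil)) (.node 100 (.node 163 .nil
    .nil) (.node 228 .nil .nil))) (.node 52 (.node 88 (.node 152 .nil .nil) (.node 216 .nil .nil))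
    (.node 116 (.node 180 .nil .nil) .nil))) (.node 24 (.node 50 (.node 75 (.node 140 .nil .nil)
    (.node 204 .nil .nil)) (.node 113 (.node 176 .nil .nil) (.node 236 .nil .nil))) (.node 60
    (.node 92 (.node 156 .nil .nil) (.node 220 .nil .nil)) (.node 124 (.node 194 .nil .nil)
    .nil))))) (.node 6 (.node 10 (.node 18 (.node 34 (.node 62 (.node 109 .nil .nil) (.node 188
    .nil .nil)) (.node 97 (.node 162 .nil .nil) (.node 226 .nil .nil))) (.node 44 (.node 82 (.node
    146 .nil .nil) (.node 214 .nil .nil)) (.node 114 (.node 178 .nil .nil) .nil))) (.node 22 (.node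
    48 (.node 74 (.node 138 .nil .nil) (.node 202 .nil .nil)) (.node 111 (.node 174 .nil .nil)
    (.node 235 .nil .nil))) (.node 58 (.node 86 (.node 150 .nil .nil) (.node 218 .nil .nil)) (.node
    122 (.node 186 .nil .nil) .nil)))) (.node 14 (.node 26 (.node 38 (.node 70 (.node 129 .nil
    .nil) (.node 192 .nil .nil)) (.node 102 (.node 166 .nil .nil) (.node 231 .nil .nil))) (.node 54
    (.node 90 (.node 154 .nil .nil) (.node 210 .nil .nil)) (.node 118 (.node 182 .nil .nil) .nil)))
    (.node 30 (.node 40 (.node 78 (.node 141 .nil .nil) (.node 206 .nil .nil)) (.node 105 (.node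
    170 .nil .nil) (.node 238 .nil .nil))) (.node 66 (.node 94 (.node 158 .nil .nil) (.node 222
    .nil .nil)) (.node 131 (.node 196 .nil .nil) .nil)))))))

/-- table -/
noncomputable def auxE8Eta3 : Tr ℤ :=
    (.node 1 (.node 1 (.node 1 (.node 1 (.node (-1) (.node 1 (.node (-1) (.node (-1) .nil .nil)
    (.node 1 .nil .nil)) (.node 1 (.node 1 .nil .nil) (.node 1 .nil .nil))) (.node 1 (.node 1
    (.node 1 .nil .nil) (.node 1 .nil .nil)) (.node (-1) (.node (-1) .nil .nil) (.node 1 .nil
    .nil)))) (.node (-1) (.node 1 (.node 1 (.node 1 .nil .nil) (.node (-1) .nil .nil)) (.node (-1)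
    (.node 1 .nil .nil) (.node (-1) .nil .nil))) (.node 1 (.node (-1) (.node 1 .nil .nil) (.node
    (-1) .nil .nil)) (.node 1 (.node 1 .nil .nil) .nil)))) (.node 1 (.node 1 (.node 1 (.node 1
    (.node 1 .nil .nil) (.node (-1) .nil .nil)) (.node 1 (.node 1 .nil .nil) (.node 1 .nil .nil)))
    (.node 1 (.node 1 (.node 1 .nil .nil) (.node 1 .nil .nil)) (.node 1 (.node 1 .nil .nil) .nil)))
    (.node 1 (.node (-1) (.node (-1) (.node 1 .nil .nil) (.node 1 .nil .nil)) (.node 1 (.node 1
    .nil .nil) (.node (-1) .nil .nil))) (.node 1 (.node 1 (.node (-1) .nil .nil) (.node 1 .nil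
    .nil)) (.node 1 (.node 1 .nil .nil) .nil))))) (.node 1 (.node 1 (.node 1 (.node 1 (.node (-1)
    (.node (-1) .nil .nil) (.node 1 .nil .nil)) (.node (-1) (.node 1 .nil .nil) (.node 1 .nil
    .nil))) (.node 1 (.node 1 (.node 1 .nil .nil) (.node 1 .nil .nil)) (.node (-1) (.node (-1) .nil
    .nil) .nil))) (.node (-1) (.node (-1) (.node 1 (.node 1 .nil .nil) (.node 1 .nil .nil)) (.node
    1 (.node 1 .nil .nil) (.node 1 .nil .nil))) (.node 1 (.node 1 (.node (-1) .nil .nil) (.node
    (-1) .nil .nil)) (.node 1 (.node 1 .nil .nil) .nil)))) (.node 1 (.node 1 (.node 1 (.node 1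
    (.node 1 .nil .nil) (.node (-1) .nil .nil)) (.node 1 (.node 1 .nil .nil) (.node 1 .nil .nil)))
    (.node 1 (.node (-1) (.node 1 .nil .nil) (.node 1 .nil .nil)) (.node 1 (.node 1 .nil .nil)
    .nil))) (.node 1 (.node (-1) (.node 1 (.node 1 .nil .nil) (.node 1 .nil .nil)) (.node (-1)
    (.node 1 .nil .nil) (.node 1 .nil .nil))) (.node 1 (.node 1 (.node 1 .nil .nil) (.node 1 .nil
    .nil)) (.node 1 (.node 1 .nil .nil) .nil)))))) (.node 1 (.node (-1) (.node (-1) (.node 1 (.node
    1 (.node (-1) (.node (-1) .nil .nil) (.node 1 .nil .nil)) (.node 1 (.node 1 .nil .nil) (.node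
    (-1) .nil .nil))) (.node 1 (.node 1 (.node 1 .nil .nil) (.node 1 .nil .nil)) (.node (-1) (.node
    (-1) .nil .nil) .nil))) (.node (-1) (.node (-1) (.node 1 (.node (-1) .nil .nil) (.node 1 .nil
    .nil)) (.node 1 (.node 1 .nil .nil) (.node 1 .nil .nil))) (.node 1 (.node 1 (.node (-1) .nil
    .nil) (.node (-1) .nil .nil)) (.node 1 (.node 1 .nil .nil) .nil)))) (.node 1 (.node 1 (.node 1
    (.node 1 (.node 1 .nil .nil) (.node (-1) .nil .nil)) (.node 1 (.node (-1) .nil .nil) (.node 1
    .nil .nil))) (.node 1 (.node (-1) (.node 1 .nil .nil) (.node 1 .nil .nil)) (.node 1 (.node 1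
    .nil .nil) .nil))) (.node 1 (.node (-1) (.node 1 (.node 1 .nil .nil) (.node 1 .nil .nil))
    (.node 1 (.node 1 .nil .nil) (.node 1 .nil .nil))) (.node 1 (.node 1 (.node 1 .nil .nil) (.node
    1 .nil .nil)) (.node 1 (.node 1 .nil .nil) .nil))))) (.node 1 (.node 1 (.node 1 (.node 1 (.node
    1 (.node (-1) .nil .nil) (.node (-1) .nil .nil)) (.node 1 (.node 1 .nil .nil) (.node 1 .nil
    .nil))) (.node 1 (.node 1 (.node 1 .nil .nil) (.node 1 .nil .nil)) (.node 1 (.node 1 .nil .nil)
    .nil))) (.node 1 (.node (-1) (.node 1 (.node 1 .nil .nil) (.node 1 .nil .nil)) (.node 1 (.node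
    1 .nil .nil) (.node 1 .nil .nil))) (.node 1 (.node 1 (.node (-1) .nil .nil) (.node 1 .nil
    .nil)) (.node 1 (.node 1 .nil .nil) .nil)))) (.node 1 (.node (-1) (.node 1 (.node 1 (.node 1
    .nil .nil) (.node (-1) .nil .nil)) (.node 1 (.node 1 .nil .nil) (.node 1 .nil .nil))) (.node 1
    (.node (-1) (.node 1 .nil .nil) (.node (-1) .nil .nil)) (.node 1 (.node 1 .nil .nil) .nil)))
    (.node 1 (.node 1 (.node 1 (.node (-1) .nil .nil) (.node 1 .nil .nil)) (.node (-1) (.node (-1)
    .nil .nil) (.node 1 .nil .nil))) (.node (-1) (.node 1 (.node 1 .nil .nil) (.node 1 .nil .nil))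
    (.node (-1) (.node 1 .nil .nil) .nil)))))))

/-- table -/
noncomputable def auxE8Cart4 : Tr ℤ :=
    (.node 0 (.node 0 (.node (-1) (.node 0 (.node 0 (.node 1 (.node 1 (.node 1 .nil .nil) (.node 0
    .nil .nil)) (.node 0 (.node 0 .nil .nil) (.node 1 .nil .nil))) (.node 0 (.node 0 (.node 1 .nil
    .nil) (.node (-1) .nil .nil)) (.node (-1) (.node (-1) .nil .nil) (.node 0 .nil .nil)))) (.node
    0 (.node (-1) (.node 0 (.node 0 .nil .nil) (.node (-1) .nil .nil)) (.node 1 (.node 0 .nil .nil)
    (.node 0 .nil .nil))) (.node 0 (.node 0 (.node 0 .nil .nil) (.node 0 .nil .nil)) (.node 0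
    (.node 0 .nil .nil) .nil)))) (.node 0 (.node 0 (.node 0 (.node 0 (.node 1 .nil .nil) (.node 0
    .nil .nil)) (.node 0 (.node 0 .nil .nil) (.node 0 .nil .nil))) (.node (-1) (.node (-1) (.node
    (-1) .nil .nil) (.node 1 .nil .nil)) (.node 1 (.node 1 .nil .nil) .nil))) (.node (-1) (.node 0
    (.node 1 (.node 0 .nil .nil) (.node 0 .nil .nil)) (.node 0 (.node 0 .nil .nil) (.node (-1) .nil
    .nil))) (.node (-1) (.node (-1) (.node (-1) .nil .nil) (.node 0 .nil .nil)) (.node (-1) (.node
    (-1) .nil .nil) .nil))))) (.node 0 (.node (-1) (.node 1 (.node 0 (.node 0 (.node 1 .nil .nil)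
    (.node 0 .nil .nil)) (.node 1 (.node 0 .nil .nil) (.node 0 .nil .nil))) (.node (-1) (.node (-1)
    (.node 0 .nil .nil) (.node (-1) .nil .nil)) (.node (-2) (.node (-1) .nil .nil) .nil))) (.node 0
    (.node 1 (.node 0 (.node 1 .nil .nil) (.node 1 .nil .nil)) (.node 0 (.node (-1) .nil .nil)
    (.node 0 .nil .nil))) (.node 0 (.node 0 (.node (-1) .nil .nil) (.node (-1) .nil .nil)) (.node 0
    (.node (-1) .nil .nil) .nil)))) (.node 0 (.node (-1) (.node (-1) (.node (-1) (.node 0 .nil
    .nil) (.node (-1) .nil .nil)) (.node 0 (.node 1 .nil .nil) (.node (-1) .nil .nil))) (.node 1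
    (.node 1 (.node 0 .nil .nil) (.node 0 .nil .nil)) (.node 0 (.node 0 .nil .nil) .nil))) (.node
    (-1) (.node 0 (.node 0 (.node 0 .nil .nil) (.node 0 .nil .nil)) (.node 1 (.node 0 .nil .nil)
    (.node 0 .nil .nil))) (.node (-1) (.node 0 (.node 1 .nil .nil) (.node 0 .nil .nil)) (.node (-1)
    (.node 1 .nil .nil) .nil)))))) (.node 0 (.node 1 (.node 0 (.node (-1) (.node 1 (.node 1 (.node
    1 .nil .nil) (.node 0 .nil .nil)) (.node (-1) (.node 0 .nil .nil) (.node 0 .nil .nil))) (.node
    0 (.node 0 (.node 0 .nil .nil) (.node (-1) .nil .nil)) (.node (-1) (.node (-1) .nil .nil)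
    .nil))) (.node 0 (.node 1 (.node 0 (.node (-1) .nil .nil) (.node 1 .nil .nil)) (.node 0 (.node
    0 .nil .nil) (.node 0 .nil .nil))) (.node 0 (.node 0 (.node 0 .nil .nil) (.node 0 .nil .nil))
    (.node 0 (.node 0 .nil .nil) .nil)))) (.node 0 (.node 0 (.node 0 (.node 0 (.node 0 .nil .nil)
    (.node 0 .nil .nil)) (.node 0 (.node (-1) .nil .nil) (.node 0 .nil .nil))) (.node 1 (.node 1
    (.node 1 .nil .nil) (.node 1 .nil .nil)) (.node 1 (.node 1 .nil .nil) .nil))) (.node (-1)
    (.node 0 (.node 0 (.node 0 .nil .nil) (.node 0 .nil .nil)) (.node (-1) (.node 0 .nil .nil)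
    (.node 1 .nil .nil))) (.node (-1) (.node 1 (.node 1 .nil .nil) (.node 0 .nil .nil)) (.node (-1)
    (.node 1 .nil .nil) .nil))))) (.node 0 (.node 1 (.node 0 (.node 0 (.node 0 (.node (-1) .nil
    .nil) (.node 0 .nil .nil)) (.node 0 (.node 0 .nil .nil) (.node 0 .nil .nil))) (.node (-1)
    (.node (-1) (.node 0 .nil .nil) (.node 1 .nil .nil)) (.node 1 (.node 1 .nil .nil) .nil)))
    (.node 0 (.node 1 (.node (-1) (.node 0 .nil .nil) (.node 1 .nil .nil)) (.node 0 (.node 1 .nil
    .nil) (.node 0 .nil .nil))) (.node 0 (.node 0 (.node (-1) .nil .nil) (.node 1 .nil .nil))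
    (.node 0 (.node (-1) .nil .nil) .nil)))) (.node 0 (.node 1 (.node (-1) (.node 1 (.node 0 .nil
    .nil) (.node (-1) .nil .nil)) (.node (-1) (.node 0 .nil .nil) (.node 1 .nil .nil))) (.node 1
    (.node 1 (.node 0 .nil .nil) (.node 0 .nil .nil)) (.node 0 (.node 0 .nil .nil) .nil))) (.node 1
    (.node 0 (.node 0 (.node (-1) .nil .nil) (.node 0 .nil .nil)) (.node (-1) (.node 0 .nil .nil)
    (.node 0 .nil .nil))) (.node 1 (.node 0 (.node 1 .nil .nil) (.node (-1) .nil .nil)) (.node 2
    (.node 1 .nil .nil) .nil)))))))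

/-- table -/
noncomputable def auxE8Refl4 : Tr ℕ :=
    (.node 0 (.node 1 (.node 4 (.node 7 (.node 15 (.node 28 (.node 60 (.node 123 .nil .nil) (.node
    191 .nil .nil)) (.node 95 (.node 159 .nil .nil) (.node 222 .nil .nil))) (.node 47 (.node 79
    (.node 142 .nil .nil) (.node 210 .nil .nil)) (.node 115 (.node 178 .nil .nil) (.node 239 .nil
    .nil)))) (.node 23 (.node 42 (.node 71 (.node 135 .nil .nil) (.node 202 .nil .nil)) (.node 102
    (.node 167 .nil .nil) (.node 231 .nil .nil))) (.node 55 (.node 87 (.node 151 .nil .nil) (.node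
    215 .nil .nil)) (.node 119 (.node 183 .nil .nil) .nil)))) (.node 11 (.node 19 (.node 35 (.node
    67 (.node 130 .nil .nil) (.node 195 .nil .nil)) (.node 99 (.node 163 .nil .nil) (.node 227 .nil
    .nil))) (.node 54 (.node 86 (.node 148 .nil .nil) (.node 208 .nil .nil)) (.node 111 (.node 176
    .nil .nil) .nil))) (.node 30 (.node 43 (.node 74 (.node 139 .nil .nil) (.node 203 .nil .nil))
    (.node 107 (.node 171 .nil .nil) (.node 236 .nil .nil))) (.node 62 (.node 92 (.node 158 .nil
    .nil) (.node 219 .nil .nil)) (.node 127 (.node 190 .nil .nil) .nil))))) (.node 5 (.node 10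
    (.node 16 (.node 33 (.node 65 (.node 125 .nil .nil) (.node 193 .nil .nil)) (.node 96 (.node 161
    .nil .nil) (.node 225 .nil .nil))) (.node 52 (.node 84 (.node 145 .nil .nil) (.node 212 .nil
    .nil)) (.node 126 (.node 180 .nil .nil) .nil))) (.node 25 (.node 38 (.node 73 (.node 136 .nil
    .nil) (.node 198 .nil .nil)) (.node 105 (.node 170 .nil .nil) (.node 233 .nil .nil))) (.node 57
    (.node 89 (.node 156 .nil .nil) (.node 218 .nil .nil)) (.node 121 (.node 188 .nil .nil)
    .nil)))) (.node 13 (.node 22 (.node 40 (.node 70 (.node 133 .nil .nil) (.node 200 .nil .nil))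
    (.node 101 (.node 164 .nil .nil) (.node 230 .nil .nil))) (.node 50 (.node 82 (.node 149 .nil
    .nil) (.node 213 .nil .nil)) (.node 117 (.node 181 .nil .nil) .nil))) (.node 32 (.node 45
    (.node 77 (.node 141 .nil .nil) (.node 205 .nil .nil)) (.node 108 (.node 173 .nil .nil) (.node
    237 .nil .nil))) (.node 64 (.node 93 (.node 154 .nil .nil) (.node 221 .nil .nil)) (.node 129
    (.node 186 .nil .nil) .nil)))))) (.node 2 (.node 3 (.node 8 (.node 17 (.node 29 (.node 61
    (.node 124 .nil .nil) (.node 192 .nil .nil)) (.node 97 (.node 160 .nil .nil) (.node 224 .nil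
    .nil))) (.node 48 (.node 80 (.node 144 .nil .nil) (.node 211 .nil .nil)) (.node 116 (.node 179
    .nil .nil) .nil))) (.node 24 (.node 37 (.node 72 (.node 137 .nil .nil) (.node 197 .nil .nil))
    (.node 104 (.node 168 .nil .nil) (.node 232 .nil .nil))) (.node 56 (.node 88 (.node 152 .nil
    .nil) (.node 216 .nil .nil)) (.node 120 (.node 184 .nil .nil) .nil)))) (.node 12 (.node 20
    (.node 36 (.node 68 (.node 132 .nil .nil) (.node 196 .nil .nil)) (.node 100 (.node 165 .nil
    .nil) (.node 228 .nil .nil))) (.node 49 (.node 81 (.node 147 .nil .nil) (.node 209 .nil .nil))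
    (.node 112 (.node 177 .nil .nil) .nil))) (.node 31 (.node 44 (.node 76 (.node 140 .nil .nil)
    (.node 204 .nil .nil)) (.node 109 (.node 172 .nil .nil) (.node 235 .nil .nil))) (.node 63
    (.node 91 (.node 153 .nil .nil) (.node 220 .nil .nil)) (.node 128 (.node 185 .nil .nil)
    .nil))))) (.node 6 (.node 9 (.node 18 (.node 34 (.node 66 (.node 131 .nil .nil) (.node 194 .nil
    .nil)) (.node 98 (.node 162 .nil .nil) (.node 226 .nil .nil))) (.node 53 (.node 85 (.node 146
    .nil .nil) (.node 207 .nil .nil)) (.node 110 (.node 175 .nil .nil) .nil))) (.node 26 (.node 39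
    (.node 75 (.node 138 .nil .nil) (.node 199 .nil .nil)) (.node 106 (.node 169 .nil .nil) (.node
    234 .nil .nil))) (.node 58 (.node 90 (.node 157 .nil .nil) (.node 217 .nil .nil)) (.node 122
    (.node 189 .nil .nil) .nil)))) (.node 14 (.node 21 (.node 41 (.node 69 (.node 134 .nil .nil)
    (.node 201 .nil .nil)) (.node 103 (.node 166 .nil .nil) (.node 229 .nil .nil))) (.node 51
    (.node 83 (.node 150 .nil .nil) (.node 214 .nil .nil)) (.node 118 (.node 182 .nil .nil) .nil)))
    (.node 27 (.node 46 (.node 78 (.node 143 .nil .nil) (.node 206 .nil .nil)) (.node 114 (.node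
    174 .nil .nil) (.node 238 .nil .nil))) (.node 59 (.node 94 (.node 155 .nil .nil) (.node 223
    .nil .nil)) (.node 113 (.node 187 .nil .nil) .nil)))))))

/-- table -/
noncomputable def auxE8Eta4 : Tr ℤ :=
    (.node 1 (.node 1 (.node (-1) (.node 1 (.node 1 (.node 1 (.node 1 (.node 1 .nil .nil) (.node 1
    .nil .nil)) (.node 1 (.node 1 .nil .nil) (.node (-1) .nil .nil))) (.node 1 (.node 1 (.node (-1)
    .nil .nil) (.node 1 .nil .nil)) (.node 1 (.node 1 .nil .nil) (.node 1 .nil .nil)))) (.node 1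
    (.node (-1) (.node 1 (.node 1 .nil .nil) (.node 1 .nil .nil)) (.node 1 (.node 1 .nil .nil)
    (.node 1 .nil .nil))) (.node 1 (.node 1 (.node 1 .nil .nil) (.node 1 .nil .nil)) (.node 1
    (.node 1 .nil .nil) .nil)))) (.node 1 (.node 1 (.node 1 (.node 1 (.node (-1) .nil .nil) (.node
    1 .nil .nil)) (.node 1 (.node 1 .nil .nil) (.node 1 .nil .nil))) (.node (-1) (.node (-1) (.node
    1 .nil .nil) (.node (-1) .nil .nil)) (.node (-1) (.node (-1) .nil .nil) .nil))) (.node (-1)
    (.node 1 (.node 1 (.node 1 .nil .nil) (.node 1 .nil .nil)) (.node 1 (.node 1 .nil .nil) (.node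
    1 .nil .nil))) (.node (-1) (.node (-1) (.node 1 .nil .nil) (.node 1 .nil .nil)) (.node (-1)
    (.node 1 .nil .nil) .nil))))) (.node 1 (.node (-1) (.node 1 (.node 1 (.node 1 (.node 1 .nil
    .nil) (.node 1 .nil .nil)) (.node 1 (.node 1 .nil .nil) (.node 1 .nil .nil))) (.node (-1)
    (.node (-1) (.node 1 .nil .nil) (.node 1 .nil .nil)) (.node (-1) (.node 1 .nil .nil) .nil)))
    (.node 1 (.node 1 (.node 1 (.node (-1) .nil .nil) (.node (-1) .nil .nil)) (.node 1 (.node 1
    .nil .nil) (.node 1 .nil .nil))) (.node 1 (.node 1 (.node 1 .nil .nil) (.node 1 .nil .nil))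
    (.node 1 (.node 1 .nil .nil) .nil)))) (.node 1 (.node (-1) (.node (-1) (.node (-1) (.node 1
    .nil .nil) (.node 1 .nil .nil)) (.node 1 (.node (-1) .nil .nil) (.node 1 .nil .nil))) (.node 1
    (.node 1 (.node 1 .nil .nil) (.node 1 .nil .nil)) (.node 1 (.node 1 .nil .nil) .nil))) (.node
    (-1) (.node 1 (.node 1 (.node 1 .nil .nil) (.node 1 .nil .nil)) (.node 1 (.node 1 .nil .nil)
    (.node 1 .nil .nil))) (.node (-1) (.node 1 (.node (-1) .nil .nil) (.node 1 .nil .nil)) (.node
    (-1) (.node (-1) .nil .nil) .nil)))))) (.node 1 (.node 1 (.node 1 (.node (-1) (.node 1 (.node 1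
    (.node 1 .nil .nil) (.node 1 .nil .nil)) (.node (-1) (.node 1 .nil .nil) (.node 1 .nil .nil)))
    (.node 1 (.node 1 (.node 1 .nil .nil) (.node 1 .nil .nil)) (.node 1 (.node 1 .nil .nil) .nil)))
    (.node 1 (.node 1 (.node 1 (.node 1 .nil .nil) (.node (-1) .nil .nil)) (.node 1 (.node 1 .nil
    .nil) (.node 1 .nil .nil))) (.node 1 (.node 1 (.node 1 .nil .nil) (.node 1 .nil .nil)) (.node 1
    (.node 1 .nil .nil) .nil)))) (.node 1 (.node 1 (.node 1 (.node 1 (.node 1 .nil .nil) (.node 1
    .nil .nil)) (.node 1 (.node 1 .nil .nil) (.node 1 .nil .nil))) (.node 1 (.node 1 (.node (-1)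
    .nil .nil) (.node (-1) .nil .nil)) (.node (-1) (.node (-1) .nil .nil) .nil))) (.node (-1)
    (.node 1 (.node 1 (.node 1 .nil .nil) (.node 1 .nil .nil)) (.node (-1) (.node 1 .nil .nil)
    (.node (-1) .nil .nil))) (.node (-1) (.node 1 (.node (-1) .nil .nil) (.node 1 .nil .nil))
    (.node (-1) (.node (-1) .nil .nil) .nil))))) (.node 1 (.node 1 (.node 1 (.node 1 (.node 1
    (.node 1 .nil .nil) (.node 1 .nil .nil)) (.node 1 (.node 1 .nil .nil) (.node 1 .nil .nil)))
    (.node (-1) (.node (-1) (.node 1 .nil .nil) (.node (-1) .nil .nil)) (.node (-1) (.node (-1)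
    .nil .nil) .nil))) (.node 1 (.node 1 (.node (-1) (.node 1 .nil .nil) (.node (-1) .nil .nil))
    (.node 1 (.node (-1) .nil .nil) (.node 1 .nil .nil))) (.node 1 (.node 1 (.node 1 .nil .nil)
    (.node (-1) .nil .nil)) (.node 1 (.node 1 .nil .nil) .nil)))) (.node 1 (.node 1 (.node (-1)
    (.node 1 (.node 1 .nil .nil) (.node 1 .nil .nil)) (.node (-1) (.node 1 .nil .nil) (.node (-1)
    .nil .nil))) (.node 1 (.node 1 (.node 1 .nil .nil) (.node 1 .nil .nil)) (.node 1 (.node 1 .nil
    .nil) .nil))) (.node 1 (.node 1 (.node 1 (.node 1 .nil .nil) (.node 1 .nil .nil)) (.node 1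
    (.node 1 .nil .nil) (.node 1 .nil .nil))) (.node 1 (.node 1 (.node (-1) .nil .nil) (.node 1
    .nil .nil)) (.node (-1) (.node (-1) .nil .nil) .nil)))))))

/-- table -/
noncomputable def auxE8Cart5 : Tr ℤ :=
    (.node 0 (.node 0 (.node 1 (.node 0 (.node 0 (.node (-1) (.node 0 (.node 1 .nil .nil) (.node 1
    .nil .nil)) (.node (-1) (.node 1 .nil .nil) (.node 0 .nil .nil))) (.node (-1) (.node (-1)
    (.node (-1) .nil .nil) (.node 1 .nil .nil)) (.node 0 (.node 1 .nil .nil) (.node 0 .nil .nil))))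
    (.node 1 (.node 0 (.node 0 (.node 0 .nil .nil) (.node 0 .nil .nil)) (.node 0 (.node 0 .nil
    .nil) (.node 0 .nil .nil))) (.node 1 (.node 1 (.node 0 .nil .nil) (.node 0 .nil .nil)) (.node 0
    (.node 0 .nil .nil) .nil)))) (.node 1 (.node 0 (.node 0 (.node 0 (.node (-1) .nil .nil) (.node
    (-1) .nil .nil)) (.node 0 (.node 0 .nil .nil) (.node 0 .nil .nil))) (.node 0 (.node 0 (.node 0
    .nil .nil) (.node 0 .nil .nil)) (.node (-1) (.node (-1) .nil .nil) .nil))) (.node 1 (.node 1
    (.node 0 (.node 0 .nil .nil) (.node 1 .nil .nil)) (.node (-1) (.node 1 .nil .nil) (.node 0 .nil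
    .nil))) (.node 1 (.node 1 (.node 0 .nil .nil) (.node 0 .nil .nil)) (.node 2 (.node 0 .nil .nil)
    .nil))))) (.node 0 (.node 0 (.node (-1) (.node 1 (.node 1 (.node 0 .nil .nil) (.node 0 .nil
    .nil)) (.node 0 (.node 0 .nil .nil) (.node 0 .nil .nil))) (.node 1 (.node 1 (.node 0 .nil .nil)
    (.node 0 .nil .nil)) (.node 1 (.node 0 .nil .nil) .nil))) (.node 0 (.node (-1) (.node (-1)
    (.node (-1) .nil .nil) (.node 0 .nil .nil)) (.node 0 (.node 0 .nil .nil) (.node 0 .nil .nil)))
    (.node (-1) (.node 0 (.node 1 .nil .nil) (.node 1 .nil .nil)) (.node (-1) (.node 1 .nil .nil)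
    .nil)))) (.node 0 (.node 0 (.node 1 (.node 1 (.node 0 .nil .nil) (.node 1 .nil .nil)) (.node
    (-1) (.node (-1) .nil .nil) (.node 1 .nil .nil))) (.node 0 (.node 0 (.node 1 .nil .nil) (.node
    1 .nil .nil)) (.node 1 (.node 1 .nil .nil) .nil))) (.node 0 (.node 0 (.node 0 (.node 0 .nil
    .nil) (.node (-1) .nil .nil)) (.node 0 (.node 0 .nil .nil) (.node 1 .nil .nil))) (.node 0
    (.node 0 (.node (-1) .nil .nil) (.node (-1) .nil .nil)) (.node 1 (.node (-1) .nil .nil)
    .nil)))))) (.node (-1) (.node 0 (.node 0 (.node 0 (.node (-1) (.node (-1) (.node 0 .nil .nil)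
    (.node 1 .nil .nil)) (.node 1 (.node 1 .nil .nil) (.node 0 .nil .nil))) (.node (-1) (.node (-1)
    (.node 1 .nil .nil) (.node 1 .nil .nil)) (.node (-1) (.node 0 .nil .nil) .nil))) (.node 0
    (.node 0 (.node 0 (.node 0 .nil .nil) (.node 0 .nil .nil)) (.node 0 (.node 0 .nil .nil) (.node
    0 .nil .nil))) (.node 0 (.node 0 (.node (-1) .nil .nil) (.node (-1) .nil .nil)) (.node 0 (.node
    (-1) .nil .nil) .nil)))) (.node 0 (.node 0 (.node (-1) (.node (-1) (.node 1 .nil .nil) (.node
    (-1) .nil .nil)) (.node 0 (.node 0 .nil .nil) (.node (-1) .nil .nil))) (.node 0 (.node 0 (.node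
    (-1) .nil .nil) (.node (-1) .nil .nil)) (.node (-2) (.node (-1) .nil .nil) .nil))) (.node 0
    (.node 1 (.node 0 (.node 0 .nil .nil) (.node 0 .nil .nil)) (.node 1 (.node 0 .nil .nil) (.node
    (-1) .nil .nil))) (.node 1 (.node 0 (.node 0 .nil .nil) (.node 0 .nil .nil)) (.node 1 (.node 0
    .nil .nil) .nil))))) (.node 0 (.node (-1) (.node 1 (.node 1 (.node 0 (.node 0 .nil .nil) (.node
    0 .nil .nil)) (.node 0 (.node 0 .nil .nil) (.node 0 .nil .nil))) (.node 1 (.node 1 (.node 0
    .nil .nil) (.node 0 .nil .nil)) (.node (-1) (.node 0 .nil .nil) .nil))) (.node (-1) (.node (-1)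
    (.node 1 (.node 1 .nil .nil) (.node (-1) .nil .nil)) (.node 0 (.node (-1) .nil .nil) (.node 0
    .nil .nil))) (.node (-1) (.node (-1) (.node 0 .nil .nil) (.node 0 .nil .nil)) (.node (-1)
    (.node 0 .nil .nil) .nil)))) (.node 0 (.node (-1) (.node 0 (.node 0 (.node 0 .nil .nil) (.node
    1 .nil .nil)) (.node 1 (.node 1 .nil .nil) (.node 0 .nil .nil))) (.node (-1) (.node (-1) (.node
    0 .nil .nil) (.node 0 .nil .nil)) (.node 1 (.node 1 .nil .nil) .nil))) (.node 0 (.node 0 (.node
    0 (.node 0 .nil .nil) (.node (-1) .nil .nil)) (.node 0 (.node (-1) .nil .nil) (.node 0 .nil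
    .nil))) (.node 0 (.node 0 (.node (-1) .nil .nil) (.node 1 .nil .nil)) (.node (-1) (.node (-1)
    .nil .nil) .nil)))))))

/-- table -/
noncomputable def auxE8Refl5 : Tr ℕ :=
    (.node 0 (.node 1 (.node 2 (.node 7 (.node 15 (.node 33 (.node 63 (.node 126 .nil .nil) (.node
    189 .nil .nil)) (.node 96 (.node 157 .nil .nil) (.node 223 .nil .nil))) (.node 49 (.node 81
    (.node 144 .nil .nil) (.node 205 .nil .nil)) (.node 111 (.node 174 .nil .nil) (.node 239 .nil
    .nil)))) (.node 22 (.node 39 (.node 71 (.node 135 .nil .nil) (.node 199 .nil .nil)) (.node 103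
    (.node 167 .nil .nil) (.node 231 .nil .nil))) (.node 54 (.node 86 (.node 151 .nil .nil) (.node
    215 .nil .nil)) (.node 119 (.node 183 .nil .nil) .nil)))) (.node 10 (.node 19 (.node 35 (.node
    67 (.node 132 .nil .nil) (.node 197 .nil .nil)) (.node 99 (.node 163 .nil .nil) (.node 227 .nil
    .nil))) (.node 51 (.node 83 (.node 147 .nil .nil) (.node 211 .nil .nil)) (.node 118 (.node 181
    .nil .nil) .nil))) (.node 26 (.node 41 (.node 75 (.node 139 .nil .nil) (.node 202 .nil .nil))
    (.node 108 (.node 170 .nil .nil) (.node 235 .nil .nil))) (.node 57 (.node 90 (.node 155 .nil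
    .nil) (.node 219 .nil .nil)) (.node 116 (.node 187 .nil .nil) .nil))))) (.node 5 (.node 9
    (.node 18 (.node 31 (.node 64 (.node 129 .nil .nil) (.node 193 .nil .nil)) (.node 97 (.node 161
    .nil .nil) (.node 225 .nil .nil))) (.node 47 (.node 79 (.node 145 .nil .nil) (.node 209 .nil
    .nil)) (.node 112 (.node 177 .nil .nil) .nil))) (.node 25 (.node 43 (.node 74 (.node 138 .nil
    .nil) (.node 201 .nil .nil)) (.node 105 (.node 169 .nil .nil) (.node 233 .nil .nil))) (.node 59
    (.node 89 (.node 152 .nil .nil) (.node 216 .nil .nil)) (.node 124 (.node 184 .nil .nil)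
    .nil)))) (.node 13 (.node 21 (.node 36 (.node 68 (.node 133 .nil .nil) (.node 195 .nil .nil))
    (.node 102 (.node 166 .nil .nil) (.node 228 .nil .nil))) (.node 53 (.node 85 (.node 148 .nil
    .nil) (.node 212 .nil .nil)) (.node 114 (.node 179 .nil .nil) .nil))) (.node 29 (.node 45
    (.node 77 (.node 141 .nil .nil) (.node 207 .nil .nil)) (.node 109 (.node 173 .nil .nil) (.node
    236 .nil .nil))) (.node 61 (.node 93 (.node 159 .nil .nil) (.node 222 .nil .nil)) (.node 122
    (.node 191 .nil .nil) .nil)))))) (.node 3 (.node 4 (.node 8 (.node 16 (.node 34 (.node 65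
    (.node 128 .nil .nil) (.node 190 .nil .nil)) (.node 95 (.node 158 .nil .nil) (.node 224 .nil
    .nil))) (.node 50 (.node 82 (.node 143 .nil .nil) (.node 206 .nil .nil)) (.node 113 (.node 176
    .nil .nil) .nil))) (.node 24 (.node 40 (.node 72 (.node 136 .nil .nil) (.node 200 .nil .nil))
    (.node 104 (.node 168 .nil .nil) (.node 232 .nil .nil))) (.node 56 (.node 88 (.node 153 .nil
    .nil) (.node 217 .nil .nil)) (.node 120 (.node 185 .nil .nil) .nil)))) (.node 12 (.node 20
    (.node 37 (.node 69 (.node 131 .nil .nil) (.node 198 .nil .nil)) (.node 100 (.node 164 .nil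
    .nil) (.node 229 .nil .nil))) (.node 52 (.node 84 (.node 149 .nil .nil) (.node 213 .nil .nil))
    (.node 123 (.node 182 .nil .nil) .nil))) (.node 28 (.node 42 (.node 76 (.node 140 .nil .nil)
    (.node 204 .nil .nil)) (.node 107 (.node 172 .nil .nil) (.node 237 .nil .nil))) (.node 58
    (.node 92 (.node 156 .nil .nil) (.node 220 .nil .nil)) (.node 121 (.node 188 .nil .nil)
    .nil))))) (.node 6 (.node 11 (.node 17 (.node 32 (.node 66 (.node 130 .nil .nil) (.node 194
    .nil .nil)) (.node 98 (.node 162 .nil .nil) (.node 226 .nil .nil))) (.node 48 (.node 80 (.node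
    146 .nil .nil) (.node 210 .nil .nil)) (.node 117 (.node 178 .nil .nil) .nil))) (.node 27 (.node
    44 (.node 73 (.node 137 .nil .nil) (.node 203 .nil .nil)) (.node 106 (.node 171 .nil .nil)
    (.node 234 .nil .nil))) (.node 60 (.node 91 (.node 154 .nil .nil) (.node 218 .nil .nil)) (.node
    125 (.node 186 .nil .nil) .nil)))) (.node 14 (.node 23 (.node 38 (.node 70 (.node 134 .nil
    .nil) (.node 196 .nil .nil)) (.node 101 (.node 165 .nil .nil) (.node 230 .nil .nil))) (.node 55
    (.node 87 (.node 150 .nil .nil) (.node 214 .nil .nil)) (.node 115 (.node 180 .nil .nil) .nil)))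
    (.node 30 (.node 46 (.node 78 (.node 142 .nil .nil) (.node 208 .nil .nil)) (.node 110 (.node
    175 .nil .nil) (.node 238 .nil .nil))) (.node 62 (.node 94 (.node 160 .nil .nil) (.node 221
    .nil .nil)) (.node 127 (.node 192 .nil .nil) .nil)))))))

/-- table -/
noncomputable def auxE8Eta5 : Tr ℤ :=
    (.node 1 (.node 1 (.node 1 (.node 1 (.node 1 (.node (-1) (.node 1 (.node (-1) .nil .nil) (.node
    (-1) .nil .nil)) (.node (-1) (.node (-1) .nil .nil) (.node 1 .nil .nil))) (.node (-1) (.node
    (-1) (.node 1 .nil .nil) (.node (-1) .nil .nil)) (.node 1 (.node (-1) .nil .nil) (.node 1 .nil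
    .nil)))) (.node 1 (.node 1 (.node 1 (.node 1 .nil .nil) (.node 1 .nil .nil)) (.node 1 (.node 1
    .nil .nil) (.node 1 .nil .nil))) (.node 1 (.node 1 (.node 1 .nil .nil) (.node 1 .nil .nil))
    (.node 1 (.node 1 .nil .nil) .nil)))) (.node 1 (.node 1 (.node 1 (.node 1 (.node 1 .nil .nil)
    (.node 1 .nil .nil)) (.node 1 (.node 1 .nil .nil) (.node 1 .nil .nil))) (.node 1 (.node 1
    (.node 1 .nil .nil) (.node 1 .nil .nil)) (.node 1 (.node 1 .nil .nil) .nil))) (.node 1 (.node 1
    (.node 1 (.node 1 .nil .nil) (.node (-1) .nil .nil)) (.node (-1) (.node (-1) .nil .nil) (.node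
    1 .nil .nil))) (.node 1 (.node 1 (.node 1 .nil .nil) (.node 1 .nil .nil)) (.node (-1) (.node 1
    .nil .nil) .nil))))) (.node 1 (.node 1 (.node (-1) (.node 1 (.node 1 (.node 1 .nil .nil) (.node
    1 .nil .nil)) (.node 1 (.node 1 .nil .nil) (.node 1 .nil .nil))) (.node 1 (.node 1 (.node 1
    .nil .nil) (.node 1 .nil .nil)) (.node 1 (.node 1 .nil .nil) .nil))) (.node 1 (.node (-1)
    (.node (-1) (.node 1 .nil .nil) (.node 1 .nil .nil)) (.node 1 (.node 1 .nil .nil) (.node 1 .nil
    .nil))) (.node (-1) (.node 1 (.node (-1) .nil .nil) (.node (-1) .nil .nil)) (.node (-1) (.node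
    (-1) .nil .nil) .nil)))) (.node 1 (.node 1 (.node 1 (.node 1 (.node 1 .nil .nil) (.node (-1)
    .nil .nil)) (.node (-1) (.node 1 .nil .nil) (.node (-1) .nil .nil))) (.node 1 (.node 1 (.node
    (-1) .nil .nil) (.node (-1) .nil .nil)) (.node (-1) (.node (-1) .nil .nil) .nil))) (.node 1
    (.node 1 (.node 1 (.node 1 .nil .nil) (.node 1 .nil .nil)) (.node 1 (.node 1 .nil .nil) (.node
    (-1) .nil .nil))) (.node 1 (.node 1 (.node 1 .nil .nil) (.node 1 .nil .nil)) (.node 1 (.node 1
    .nil .nil) .nil)))))) (.node (-1) (.node 1 (.node 1 (.node 1 (.node (-1) (.node (-1) (.node 1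
    .nil .nil) (.node (-1) .nil .nil)) (.node 1 (.node (-1) .nil .nil) (.node 1 .nil .nil))) (.node
    (-1) (.node (-1) (.node (-1) .nil .nil) (.node (-1) .nil .nil)) (.node (-1) (.node 1 .nil .nil)
    .nil))) (.node 1 (.node 1 (.node 1 (.node 1 .nil .nil) (.node 1 .nil .nil)) (.node 1 (.node 1
    .nil .nil) (.node 1 .nil .nil))) (.node 1 (.node 1 (.node 1 .nil .nil) (.node 1 .nil .nil))
    (.node 1 (.node 1 .nil .nil) .nil)))) (.node 1 (.node 1 (.node (-1) (.node (-1) (.node (-1)
    .nil .nil) (.node 1 .nil .nil)) (.node 1 (.node 1 .nil .nil) (.node 1 .nil .nil))) (.node 1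
    (.node 1 (.node 1 .nil .nil) (.node 1 .nil .nil)) (.node (-1) (.node 1 .nil .nil) .nil)))
    (.node 1 (.node 1 (.node 1 (.node 1 .nil .nil) (.node 1 .nil .nil)) (.node 1 (.node 1 .nil
    .nil) (.node 1 .nil .nil))) (.node 1 (.node 1 (.node 1 .nil .nil) (.node 1 .nil .nil)) (.node 1
    (.node 1 .nil .nil) .nil))))) (.node 1 (.node (-1) (.node 1 (.node 1 (.node 1 (.node 1 .nil
    .nil) (.node 1 .nil .nil)) (.node 1 (.node 1 .nil .nil) (.node 1 .nil .nil))) (.node 1 (.node 1
    (.node 1 .nil .nil) (.node 1 .nil .nil)) (.node 1 (.node 1 .nil .nil) .nil))) (.node (-1)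
    (.node (-1) (.node 1 (.node (-1) .nil .nil) (.node 1 .nil .nil)) (.node 1 (.node 1 .nil .nil)
    (.node 1 .nil .nil))) (.node (-1) (.node (-1) (.node 1 .nil .nil) (.node 1 .nil .nil)) (.node
    (-1) (.node 1 .nil .nil) .nil)))) (.node 1 (.node (-1) (.node 1 (.node 1 (.node 1 .nil .nil)
    (.node (-1) .nil .nil)) (.node 1 (.node (-1) .nil .nil) (.node 1 .nil .nil))) (.node (-1)
    (.node (-1) (.node 1 .nil .nil) (.node 1 .nil .nil)) (.node (-1) (.node (-1) .nil .nil) .nil)))
    (.node 1 (.node 1 (.node 1 (.node 1 .nil .nil) (.node 1 .nil .nil)) (.node 1 (.node 1 .nil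
    .nil) (.node 1 .nil .nil))) (.node 1 (.node 1 (.node 1 .nil .nil) (.node (-1) .nil .nil))
    (.node 1 (.node 1 .nil .nil) .nil)))))))

/-- table -/
noncomputable def auxE8Cart6 : Tr ℤ :=
    (.node 0 (.node (-1) (.node 0 (.node 0 (.node 0 (.node 1 (.node (-1) (.node (-1) .nil .nil)
    (.node 0 .nil .nil)) (.node 1 (.node 0 .nil .nil) (.node 0 .nil .nil))) (.node 1 (.node 1
    (.node 0 .nil .nil) (.node 0 .nil .nil)) (.node (-1) (.node (-1) .nil .nil) (.node 0 .nil
    .nil)))) (.node (-1) (.node 0 (.node 0 (.node 0 .nil .nil) (.node 1 .nil .nil)) (.node 0 (.node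
    1 .nil .nil) (.node 0 .nil .nil))) (.node 0 (.node 0 (.node 0 .nil .nil) (.node (-1) .nil
    .nil)) (.node 1 (.node 1 .nil .nil) .nil)))) (.node (-1) (.node 1 (.node 1 (.node (-1) (.node 0
    .nil .nil) (.node 1 .nil .nil)) (.node 0 (.node 0 .nil .nil) (.node (-1) .nil .nil))) (.node 1
    (.node 1 (.node 0 .nil .nil) (.node (-1) .nil .nil)) (.node (-1) (.node 1 .nil .nil) .nil)))
    (.node (-1) (.node 0 (.node 0 (.node 1 .nil .nil) (.node 0 .nil .nil)) (.node 1 (.node (-1)
    .nil .nil) (.node 0 .nil .nil))) (.node 0 (.node 0 (.node 0 .nil .nil) (.node 0 .nil .nil))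
    (.node (-1) (.node 0 .nil .nil) .nil))))) (.node 0 (.node 0 (.node 0 (.node 0 (.node 0 (.node 0
    .nil .nil) (.node 1 .nil .nil)) (.node 0 (.node 1 .nil .nil) (.node 0 .nil .nil))) (.node 0
    (.node 0 (.node 1 .nil .nil) (.node 1 .nil .nil)) (.node 0 (.node 0 .nil .nil) .nil))) (.node 0
    (.node 1 (.node 1 (.node 0 .nil .nil) (.node (-1) .nil .nil)) (.node 0 (.node 0 .nil .nil)
    (.node 0 .nil .nil))) (.node 1 (.node (-1) (.node (-1) .nil .nil) (.node 0 .nil .nil)) (.node 2
    (.node (-1) .nil .nil) .nil)))) (.node 0 (.node 0 (.node (-1) (.node 0 (.node 1 .nil .nil)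
    (.node 0 .nil .nil)) (.node 1 (.node 0 .nil .nil) (.node 0 .nil .nil))) (.node (-1) (.node (-1)
    (.node (-1) .nil .nil) (.node 0 .nil .nil)) (.node (-1) (.node 0 .nil .nil) .nil))) (.node 0
    (.node 1 (.node 0 (.node 0 .nil .nil) (.node 1 .nil .nil)) (.node 0 (.node 0 .nil .nil) (.node
    (-1) .nil .nil))) (.node 1 (.node 0 (.node 1 .nil .nil) (.node 1 .nil .nil)) (.node 0 (.node 1
    .nil .nil) .nil)))))) (.node 1 (.node 0 (.node 0 (.node 0 (.node 0 (.node 1 (.node 1 .nil .nil)
    (.node (-1) .nil .nil)) (.node 0 (.node (-1) .nil .nil) (.node 0 .nil .nil))) (.node 0 (.node 0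
    (.node (-1) .nil .nil) (.node (-1) .nil .nil)) (.node 1 (.node 1 .nil .nil) .nil))) (.node 1
    (.node (-1) (.node (-1) (.node 0 .nil .nil) (.node 0 .nil .nil)) (.node 0 (.node 0 .nil .nil)
    (.node 0 .nil .nil))) (.node (-1) (.node 0 (.node 0 .nil .nil) (.node 1 .nil .nil)) (.node (-1)
    (.node 0 .nil .nil) .nil)))) (.node 1 (.node 0 (.node 0 (.node 1 (.node (-1) .nil .nil) (.node
    0 .nil .nil)) (.node (-1) (.node 0 .nil .nil) (.node 1 .nil .nil))) (.node 0 (.node 0 (.node 0
    .nil .nil) (.node 1 .nil .nil)) (.node 1 (.node 0 .nil .nil) .nil))) (.node 1 (.node (-1)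
    (.node 0 (.node 0 .nil .nil) (.node (-1) .nil .nil)) (.node 0 (.node 1 .nil .nil) (.node 0 .nil
    .nil))) (.node (-1) (.node 0 (.node (-1) .nil .nil) (.node (-1) .nil .nil)) (.node 1 (.node
    (-1) .nil .nil) .nil))))) (.node 0 (.node 0 (.node (-1) (.node (-1) (.node 0 (.node 0 .nil
    .nil) (.node (-1) .nil .nil)) (.node 0 (.node 0 .nil .nil) (.node 0 .nil .nil))) (.node (-1)
    (.node (-1) (.node 0 .nil .nil) (.node 0 .nil .nil)) (.node 0 (.node (-1) .nil .nil) .nil)))
    (.node 0 (.node 0 (.node 0 (.node (-1) .nil .nil) (.node 1 .nil .nil)) (.node (-1) (.node 0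
    .nil .nil) (.node 0 .nil .nil))) (.node 0 (.node 1 (.node 1 .nil .nil) (.node 0 .nil .nil))
    (.node 1 (.node 1 .nil .nil) .nil)))) (.node 0 (.node 0 (.node 1 (.node 0 (.node 0 .nil .nil)
    (.node (-1) .nil .nil)) (.node 0 (.node (-1) .nil .nil) (.node 0 .nil .nil))) (.node 1 (.node 1
    (.node 1 .nil .nil) (.node 0 .nil .nil)) (.node (-2) (.node (-1) .nil .nil) .nil))) (.node (-1)
    (.node (-1) (.node (-1) (.node 0 .nil .nil) (.node 0 .nil .nil)) (.node 0 (.node 0 .nil .nil)
    (.node 1 .nil .nil))) (.node 0 (.node (-1) (.node 0 .nil .nil) (.node 0 .nil .nil)) (.node 0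
    (.node 0 .nil .nil) .nil)))))))

/-- table -/
noncomputable def auxE8Refl6 : Tr ℕ :=
    (.node 0 (.node 2 (.node 3 (.node 7 (.node 15 (.node 30 (.node 64 (.node 128 .nil .nil) (.node
    191 .nil .nil)) (.node 94 (.node 159 .nil .nil) (.node 223 .nil .nil))) (.node 46 (.node 78
    (.node 143 .nil .nil) (.node 207 .nil .nil)) (.node 112 (.node 176 .nil .nil) (.node 239 .nil
    .nil)))) (.node 24 (.node 39 (.node 71 (.node 135 .nil .nil) (.node 198 .nil .nil)) (.node 103
    (.node 166 .nil .nil) (.node 231 .nil .nil))) (.node 55 (.node 87 (.node 151 .nil .nil) (.node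
    216 .nil .nil)) (.node 117 (.node 182 .nil .nil) .nil)))) (.node 12 (.node 18 (.node 34 (.node
    68 (.node 131 .nil .nil) (.node 194 .nil .nil)) (.node 99 (.node 163 .nil .nil) (.node 228 .nil
    .nil))) (.node 50 (.node 82 (.node 147 .nil .nil) (.node 212 .nil .nil)) (.node 116 (.node 178
    .nil .nil) .nil))) (.node 28 (.node 43 (.node 75 (.node 138 .nil .nil) (.node 203 .nil .nil))
    (.node 106 (.node 172 .nil .nil) (.node 235 .nil .nil))) (.node 59 (.node 91 (.node 155 .nil
    .nil) (.node 219 .nil .nil)) (.node 124 (.node 187 .nil .nil) .nil))))) (.node 5 (.node 9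
    (.node 17 (.node 33 (.node 65 (.node 129 .nil .nil) (.node 192 .nil .nil)) (.node 97 (.node 160
    .nil .nil) (.node 225 .nil .nil))) (.node 49 (.node 81 (.node 144 .nil .nil) (.node 208 .nil
    .nil)) (.node 113 (.node 177 .nil .nil) .nil))) (.node 25 (.node 40 (.node 72 (.node 137 .nil
    .nil) (.node 202 .nil .nil)) (.node 105 (.node 169 .nil .nil) (.node 233 .nil .nil))) (.node 56
    (.node 90 (.node 154 .nil .nil) (.node 217 .nil .nil)) (.node 118 (.node 186 .nil .nil)
    .nil)))) (.node 13 (.node 21 (.node 38 (.node 69 (.node 132 .nil .nil) (.node 197 .nil .nil))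
    (.node 100 (.node 165 .nil .nil) (.node 229 .nil .nil))) (.node 54 (.node 86 (.node 150 .nil
    .nil) (.node 213 .nil .nil)) (.node 119 (.node 181 .nil .nil) .nil))) (.node 29 (.node 44
    (.node 77 (.node 141 .nil .nil) (.node 204 .nil .nil)) (.node 109 (.node 173 .nil .nil) (.node
    238 .nil .nil))) (.node 60 (.node 93 (.node 156 .nil .nil) (.node 220 .nil .nil)) (.node 125
    (.node 188 .nil .nil) .nil)))))) (.node 1 (.node 4 (.node 8 (.node 16 (.node 32 (.node 63
    (.node 127 .nil .nil) (.node 193 .nil .nil)) (.node 96 (.node 161 .nil .nil) (.node 224 .nil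
    .nil))) (.node 48 (.node 80 (.node 145 .nil .nil) (.node 209 .nil .nil)) (.node 111 (.node 175
    .nil .nil) .nil))) (.node 23 (.node 41 (.node 73 (.node 136 .nil .nil) (.node 200 .nil .nil))
    (.node 104 (.node 168 .nil .nil) (.node 232 .nil .nil))) (.node 57 (.node 88 (.node 152 .nil
    .nil) (.node 215 .nil .nil)) (.node 122 (.node 184 .nil .nil) .nil)))) (.node 11 (.node 20
    (.node 36 (.node 67 (.node 133 .nil .nil) (.node 196 .nil .nil)) (.node 101 (.node 164 .nil
    .nil) (.node 227 .nil .nil))) (.node 52 (.node 84 (.node 148 .nil .nil) (.node 211 .nil .nil))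
    (.node 115 (.node 180 .nil .nil) .nil))) (.node 27 (.node 45 (.node 76 (.node 140 .nil .nil)
    (.node 205 .nil .nil)) (.node 108 (.node 171 .nil .nil) (.node 236 .nil .nil))) (.node 61
    (.node 92 (.node 157 .nil .nil) (.node 221 .nil .nil)) (.node 123 (.node 189 .nil .nil)
    .nil))))) (.node 6 (.node 10 (.node 19 (.node 35 (.node 66 (.node 130 .nil .nil) (.node 195
    .nil .nil)) (.node 98 (.node 162 .nil .nil) (.node 226 .nil .nil))) (.node 51 (.node 83 (.node
    146 .nil .nil) (.node 210 .nil .nil)) (.node 114 (.node 179 .nil .nil) .nil))) (.node 26 (.node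
    42 (.node 74 (.node 139 .nil .nil) (.node 201 .nil .nil)) (.node 107 (.node 170 .nil .nil)
    (.node 234 .nil .nil))) (.node 58 (.node 89 (.node 153 .nil .nil) (.node 218 .nil .nil)) (.node
    120 (.node 185 .nil .nil) .nil)))) (.node 14 (.node 22 (.node 37 (.node 70 (.node 134 .nil
    .nil) (.node 199 .nil .nil)) (.node 102 (.node 167 .nil .nil) (.node 230 .nil .nil))) (.node 53
    (.node 85 (.node 149 .nil .nil) (.node 214 .nil .nil)) (.node 121 (.node 183 .nil .nil) .nil)))
    (.node 31 (.node 47 (.node 79 (.node 142 .nil .nil) (.node 206 .nil .nil)) (.node 110 (.node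
    174 .nil .nil) (.node 237 .nil .nil))) (.node 62 (.node 95 (.node 158 .nil .nil) (.node 222
    .nil .nil)) (.node 126 (.node 190 .nil .nil) .nil)))))))

/-- table -/
noncomputable def auxE8Eta6 : Tr ℤ :=
    (.node 1 (.node (-1) (.node 1 (.node 1 (.node 1 (.node 1 (.node (-1) (.node 1 .nil .nil) (.node
    1 .nil .nil)) (.node 1 (.node 1 .nil .nil) (.node 1 .nil .nil))) (.node 1 (.node 1 (.node 1
    .nil .nil) (.node 1 .nil .nil)) (.node (-1) (.node 1 .nil .nil) (.node 1 .nil .nil)))) (.node
    (-1) (.node 1 (.node 1 (.node 1 .nil .nil) (.node (-1) .nil .nil)) (.node 1 (.node (-1) .nil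
    .nil) (.node 1 .nil .nil))) (.node 1 (.node 1 (.node 1 .nil .nil) (.node 1 .nil .nil)) (.node
    (-1) (.node (-1) .nil .nil) .nil)))) (.node (-1) (.node 1 (.node 1 (.node (-1) (.node 1 .nil
    .nil) (.node (-1) .nil .nil)) (.node 1 (.node 1 .nil .nil) (.node 1 .nil .nil))) (.node 1
    (.node 1 (.node 1 .nil .nil) (.node 1 .nil .nil)) (.node (-1) (.node (-1) .nil .nil) .nil)))
    (.node (-1) (.node 1 (.node 1 (.node (-1) .nil .nil) (.node 1 .nil .nil)) (.node 1 (.node 1
    .nil .nil) (.node 1 .nil .nil))) (.node 1 (.node 1 (.node 1 .nil .nil) (.node 1 .nil .nil))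
    (.node 1 (.node 1 .nil .nil) .nil))))) (.node 1 (.node 1 (.node 1 (.node 1 (.node 1 (.node 1
    .nil .nil) (.node (-1) .nil .nil)) (.node 1 (.node (-1) .nil .nil) (.node 1 .nil .nil))) (.node
    1 (.node 1 (.node (-1) .nil .nil) (.node (-1) .nil .nil)) (.node 1 (.node 1 .nil .nil) .nil)))
    (.node 1 (.node 1 (.node 1 (.node 1 .nil .nil) (.node 1 .nil .nil)) (.node 1 (.node 1 .nil
    .nil) (.node 1 .nil .nil))) (.node 1 (.node (-1) (.node 1 .nil .nil) (.node 1 .nil .nil))
    (.node (-1) (.node 1 .nil .nil) .nil)))) (.node 1 (.node 1 (.node (-1) (.node 1 (.node (-1)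
    .nil .nil) (.node 1 .nil .nil)) (.node 1 (.node 1 .nil .nil) (.node 1 .nil .nil))) (.node (-1)
    (.node (-1) (.node 1 .nil .nil) (.node 1 .nil .nil)) (.node 1 (.node 1 .nil .nil) .nil)))
    (.node 1 (.node 1 (.node 1 (.node 1 .nil .nil) (.node (-1) .nil .nil)) (.node 1 (.node 1 .nil
    .nil) (.node 1 .nil .nil))) (.node 1 (.node 1 (.node (-1) .nil .nil) (.node (-1) .nil .nil))
    (.node 1 (.node (-1) .nil .nil) .nil)))))) (.node 1 (.node 1 (.node 1 (.node 1 (.node 1 (.node
    1 (.node (-1) .nil .nil) (.node 1 .nil .nil)) (.node 1 (.node 1 .nil .nil) (.node 1 .nil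
    .nil))) (.node 1 (.node 1 (.node 1 .nil .nil) (.node 1 .nil .nil)) (.node 1 (.node (-1) .nil
    .nil) .nil))) (.node 1 (.node (-1) (.node (-1) (.node 1 .nil .nil) (.node 1 .nil .nil)) (.node
    1 (.node 1 .nil .nil) (.node 1 .nil .nil))) (.node (-1) (.node 1 (.node 1 .nil .nil) (.node
    (-1) .nil .nil)) (.node (-1) (.node 1 .nil .nil) .nil)))) (.node 1 (.node 1 (.node 1 (.node 1
    (.node 1 .nil .nil) (.node 1 .nil .nil)) (.node (-1) (.node 1 .nil .nil) (.node (-1) .nil
    .nil))) (.node 1 (.node 1 (.node 1 .nil .nil) (.node (-1) .nil .nil)) (.node 1 (.node 1 .nil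
    .nil) .nil))) (.node 1 (.node (-1) (.node 1 (.node 1 .nil .nil) (.node 1 .nil .nil)) (.node 1
    (.node (-1) .nil .nil) (.node 1 .nil .nil))) (.node (-1) (.node 1 (.node 1 .nil .nil) (.node 1
    .nil .nil)) (.node (-1) (.node 1 .nil .nil) .nil))))) (.node 1 (.node 1 (.node (-1) (.node (-1)
    (.node 1 (.node 1 .nil .nil) (.node 1 .nil .nil)) (.node 1 (.node 1 .nil .nil) (.node 1 .nil
    .nil))) (.node (-1) (.node (-1) (.node 1 .nil .nil) (.node 1 .nil .nil)) (.node 1 (.node 1 .nil
    .nil) .nil))) (.node 1 (.node 1 (.node 1 (.node 1 .nil .nil) (.node (-1) .nil .nil)) (.node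
    (-1) (.node 1 .nil .nil) (.node 1 .nil .nil))) (.node 1 (.node 1 (.node (-1) .nil .nil) (.node
    1 .nil .nil)) (.node 1 (.node (-1) .nil .nil) .nil)))) (.node 1 (.node 1 (.node 1 (.node 1
    (.node 1 .nil .nil) (.node 1 .nil .nil)) (.node 1 (.node 1 .nil .nil) (.node 1 .nil .nil)))
    (.node 1 (.node 1 (.node (-1) .nil .nil) (.node 1 .nil .nil)) (.node (-1) (.node 1 .nil .nil)
    .nil))) (.node (-1) (.node (-1) (.node (-1) (.node 1 .nil .nil) (.node 1 .nil .nil)) (.node 1
    (.node 1 .nil .nil) (.node (-1) .nil .nil))) (.node 1 (.node (-1) (.node 1 .nil .nil) (.node 1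
    .nil .nil)) (.node 1 (.node 1 .nil .nil) .nil)))))))

/-- table -/
noncomputable def auxE8Cart7 : Tr ℤ :=
    (.node (-1) (.node 1 (.node 0 (.node 0 (.node 0 (.node (-1) (.node 1 (.node 0 .nil .nil) (.node
    (-1) .nil .nil)) (.node 0 (.node (-1) .nil .nil) (.node 0 .nil .nil))) (.node (-1) (.node (-1)
    (.node 0 .nil .nil) (.node (-1) .nil .nil)) (.node 1 (.node 0 .nil .nil) (.node 1 .nil .nil))))
    (.node 0 (.node 1 (.node (-1) (.node 0 .nil .nil) (.node 0 .nil .nil)) (.node 0 (.node (-1)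
    .nil .nil) (.node 0 .nil .nil))) (.node 0 (.node 0 (.node 1 .nil .nil) (.node 1 .nil .nil))
    (.node (-2) (.node 0 .nil .nil) .nil)))) (.node 0 (.node (-1) (.node 0 (.node 1 (.node 0 .nil
    .nil) (.node (-1) .nil .nil)) (.node (-1) (.node 0 .nil .nil) (.node 1 .nil .nil))) (.node 0
    (.node 0 (.node 0 .nil .nil) (.node 1 .nil .nil)) (.node 1 (.node (-1) .nil .nil) .nil)))
    (.node 0 (.node (-1) (.node 0 (.node (-1) .nil .nil) (.node 0 .nil .nil)) (.node 0 (.node 0
    .nil .nil) (.node 0 .nil .nil))) (.node (-1) (.node 0 (.node 1 .nil .nil) (.node (-1) .nil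
    .nil)) (.node 0 (.node 1 .nil .nil) .nil))))) (.node 0 (.node 0 (.node 0 (.node (-1) (.node 0
    (.node 1 .nil .nil) (.node 0 .nil .nil)) (.node 0 (.node 0 .nil .nil) (.node 0 .nil .nil)))
    (.node (-1) (.node (-1) (.node (-1) .nil .nil) (.node 0 .nil .nil)) (.node 0 (.node 1 .nil
    .nil) .nil))) (.node 1 (.node (-1) (.node 0 (.node 0 .nil .nil) (.node 1 .nil .nil)) (.node
    (-1) (.node 0 .nil .nil) (.node 0 .nil .nil))) (.node (-1) (.node 1 (.node 0 .nil .nil) (.node
    0 .nil .nil)) (.node (-1) (.node 0 .nil .nil) .nil)))) (.node 1 (.node 0 (.node 0 (.node 0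
    (.node (-1) .nil .nil) (.node (-1) .nil .nil)) (.node 0 (.node 0 .nil .nil) (.node 0 .nil
    .nil))) (.node 1 (.node 1 (.node 0 .nil .nil) (.node 0 .nil .nil)) (.node (-1) (.node (-1) .nil
    .nil) .nil))) (.node 1 (.node 0 (.node 0 (.node 0 .nil .nil) (.node (-1) .nil .nil)) (.node 0
    (.node 1 .nil .nil) (.node 0 .nil .nil))) (.node 0 (.node (-1) (.node (-1) .nil .nil) (.node 0
    .nil .nil)) (.node 1 (.node (-1) .nil .nil) .nil)))))) (.node 0 (.node 0 (.node 0 (.node 0
    (.node 1 (.node 0 (.node (-1) .nil .nil) (.node 1 .nil .nil)) (.node 0 (.node 1 .nil .nil)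
    (.node 0 .nil .nil))) (.node 1 (.node 1 (.node 0 .nil .nil) (.node 1 .nil .nil)) (.node 0
    (.node (-1) .nil .nil) .nil))) (.node (-1) (.node 0 (.node 1 (.node 0 .nil .nil) (.node (-1)
    .nil .nil)) (.node 0 (.node 1 .nil .nil) (.node 0 .nil .nil))) (.node 0 (.node (-1) (.node 0
    .nil .nil) (.node 0 .nil .nil)) (.node 2 (.node 0 .nil .nil) .nil)))) (.node (-1) (.node 1
    (.node 0 (.node 0 (.node 0 .nil .nil) (.node 1 .nil .nil)) (.node 1 (.node 0 .nil .nil) (.node
    0 .nil .nil))) (.node (-1) (.node (-1) (.node 0 .nil .nil) (.node 0 .nil .nil)) (.node 0 (.node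
    1 .nil .nil) .nil))) (.node (-1) (.node 1 (.node 0 (.node 1 .nil .nil) (.node 0 .nil .nil))
    (.node 0 (.node (-1) .nil .nil) (.node 0 .nil .nil))) (.node 1 (.node 0 (.node 0 .nil .nil)
    (.node 1 .nil .nil)) (.node (-1) (.node 0 .nil .nil) .nil))))) (.node 0 (.node 0 (.node 0
    (.node 1 (.node (-1) (.node 0 .nil .nil) (.node 0 .nil .nil)) (.node 0 (.node 0 .nil .nil)
    (.node (-1) .nil .nil))) (.node 1 (.node 1 (.node 1 .nil .nil) (.node (-1) .nil .nil)) (.node
    (-1) (.node 0 .nil .nil) .nil))) (.node 0 (.node 1 (.node 0 (.node 0 .nil .nil) (.node 0 .nil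
    .nil)) (.node 1 (.node 0 .nil .nil) (.node 0 .nil .nil))) (.node 1 (.node 0 (.node (-1) .nil
    .nil) (.node 0 .nil .nil)) (.node 1 (.node (-1) .nil .nil) .nil)))) (.node 0 (.node 0 (.node
    (-1) (.node 0 (.node 1 .nil .nil) (.node 1 .nil .nil)) (.node 0 (.node 0 .nil .nil) (.node 0
    .nil .nil))) (.node 0 (.node 0 (.node (-1) .nil .nil) (.node (-1) .nil .nil)) (.node 1 (.node 1
    .nil .nil) .nil))) (.node 0 (.node 0 (.node 0 (.node 0 .nil .nil) (.node 1 .nil .nil)) (.node
    (-1) (.node 0 .nil .nil) (.node (-1) .nil .nil))) (.node (-1) (.node 1 (.node 1 .nil .nil)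
    (.node 0 .nil .nil)) (.node 0 (.node 1 .nil .nil) .nil)))))))

/-- table -/
noncomputable def auxE8Refl7 : Tr ℕ :=
    (.node 1 (.node 0 (.node 3 (.node 7 (.node 15 (.node 32 (.node 62 (.node 127 .nil .nil) (.node
    192 .nil .nil)) (.node 95 (.node 160 .nil .nil) (.node 223 .nil .nil))) (.node 48 (.node 80
    (.node 143 .nil .nil) (.node 208 .nil .nil)) (.node 110 (.node 175 .nil .nil) (.node 238 .nil
    .nil)))) (.node 23 (.node 38 (.node 72 (.node 135 .nil .nil) (.node 199 .nil .nil)) (.node 103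
    (.node 168 .nil .nil) (.node 231 .nil .nil))) (.node 55 (.node 87 (.node 150 .nil .nil) (.node
    214 .nil .nil)) (.node 120 (.node 183 .nil .nil) .nil)))) (.node 11 (.node 20 (.node 35 (.node
    66 (.node 131 .nil .nil) (.node 196 .nil .nil)) (.node 100 (.node 163 .nil .nil) (.node 226
    .nil .nil))) (.node 51 (.node 83 (.node 147 .nil .nil) (.node 210 .nil .nil)) (.node 114 (.node
    180 .nil .nil) .nil))) (.node 27 (.node 44 (.node 75 (.node 140 .nil .nil) (.node 203 .nil
    .nil)) (.node 107 (.node 171 .nil .nil) (.node 235 .nil .nil))) (.node 60 (.node 91 (.node 154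
    .nil .nil) (.node 220 .nil .nil)) (.node 123 (.node 186 .nil .nil) .nil))))) (.node 5 (.node 9
    (.node 17 (.node 34 (.node 65 (.node 128 .nil .nil) (.node 193 .nil .nil)) (.node 97 (.node 161
    .nil .nil) (.node 225 .nil .nil))) (.node 50 (.node 82 (.node 146 .nil .nil) (.node 209 .nil
    .nil)) (.node 113 (.node 176 .nil .nil) .nil))) (.node 24 (.node 42 (.node 73 (.node 137 .nil
    .nil) (.node 200 .nil .nil)) (.node 106 (.node 169 .nil .nil) (.node 233 .nil .nil))) (.node 58
    (.node 88 (.node 153 .nil .nil) (.node 217 .nil .nil)) (.node 122 (.node 185 .nil .nil)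
    .nil)))) (.node 12 (.node 21 (.node 37 (.node 69 (.node 134 .nil .nil) (.node 198 .nil .nil))
    (.node 101 (.node 165 .nil .nil) (.node 229 .nil .nil))) (.node 52 (.node 84 (.node 149 .nil
    .nil) (.node 213 .nil .nil)) (.node 118 (.node 182 .nil .nil) .nil))) (.node 28 (.node 45
    (.node 77 (.node 141 .nil .nil) (.node 206 .nil .nil)) (.node 109 (.node 172 .nil .nil) (.node
    237 .nil .nil))) (.node 61 (.node 94 (.node 158 .nil .nil) (.node 221 .nil .nil)) (.node 124
    (.node 190 .nil .nil) .nil)))))) (.node 2 (.node 4 (.node 8 (.node 16 (.node 31 (.node 64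
    (.node 129 .nil .nil) (.node 191 .nil .nil)) (.node 96 (.node 159 .nil .nil) (.node 224 .nil
    .nil))) (.node 47 (.node 79 (.node 144 .nil .nil) (.node 207 .nil .nil)) (.node 112 (.node 177
    .nil .nil) .nil))) (.node 25 (.node 40 (.node 71 (.node 136 .nil .nil) (.node 201 .nil .nil))
    (.node 104 (.node 167 .nil .nil) (.node 232 .nil .nil))) (.node 56 (.node 89 (.node 152 .nil
    .nil) (.node 216 .nil .nil)) (.node 119 (.node 184 .nil .nil) .nil)))) (.node 13 (.node 19
    (.node 36 (.node 68 (.node 132 .nil .nil) (.node 195 .nil .nil)) (.node 99 (.node 164 .nil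
    .nil) (.node 228 .nil .nil))) (.node 53 (.node 85 (.node 148 .nil .nil) (.node 212 .nil .nil))
    (.node 116 (.node 179 .nil .nil) .nil))) (.node 29 (.node 43 (.node 76 (.node 139 .nil .nil)
    (.node 204 .nil .nil)) (.node 108 (.node 173 .nil .nil) (.node 236 .nil .nil))) (.node 59
    (.node 92 (.node 156 .nil .nil) (.node 219 .nil .nil)) (.node 125 (.node 188 .nil .nil)
    .nil))))) (.node 6 (.node 10 (.node 18 (.node 33 (.node 67 (.node 130 .nil .nil) (.node 194
    .nil .nil)) (.node 98 (.node 162 .nil .nil) (.node 227 .nil .nil))) (.node 49 (.node 81 (.node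
    145 .nil .nil) (.node 211 .nil .nil)) (.node 115 (.node 178 .nil .nil) .nil))) (.node 26 (.node
    41 (.node 74 (.node 138 .nil .nil) (.node 202 .nil .nil)) (.node 105 (.node 170 .nil .nil)
    (.node 234 .nil .nil))) (.node 57 (.node 90 (.node 155 .nil .nil) (.node 218 .nil .nil)) (.node
    121 (.node 187 .nil .nil) .nil)))) (.node 14 (.node 22 (.node 39 (.node 70 (.node 133 .nil
    .nil) (.node 197 .nil .nil)) (.node 102 (.node 166 .nil .nil) (.node 230 .nil .nil))) (.node 54
    (.node 86 (.node 151 .nil .nil) (.node 215 .nil .nil)) (.node 117 (.node 181 .nil .nil) .nil)))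
    (.node 30 (.node 46 (.node 78 (.node 142 .nil .nil) (.node 205 .nil .nil)) (.node 111 (.node
    174 .nil .nil) (.node 239 .nil .nil))) (.node 63 (.node 93 (.node 157 .nil .nil) (.node 222
    .nil .nil)) (.node 126 (.node 189 .nil .nil) .nil)))))))

/-- table -/
noncomputable def auxE8Eta7 : Tr ℤ :=
    (.node (-1) (.node 1 (.node 1 (.node 1 (.node 1 (.node (-1) (.node 1 (.node 1 .nil .nil) (.node
    1 .nil .nil)) (.node 1 (.node 1 .nil .nil) (.node 1 .nil .nil))) (.node (-1) (.node (-1) (.node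
    1 .nil .nil) (.node 1 .nil .nil)) (.node 1 (.node 1 .nil .nil) (.node (-1) .nil .nil)))) (.node
    1 (.node 1 (.node (-1) (.node 1 .nil .nil) (.node 1 .nil .nil)) (.node 1 (.node 1 .nil .nil)
    (.node 1 .nil .nil))) (.node 1 (.node 1 (.node (-1) .nil .nil) (.node (-1) .nil .nil)) (.node
    (-1) (.node 1 .nil .nil) .nil)))) (.node 1 (.node (-1) (.node 1 (.node 1 (.node 1 .nil .nil)
    (.node 1 .nil .nil)) (.node (-1) (.node 1 .nil .nil) (.node (-1) .nil .nil))) (.node 1 (.node 1
    (.node 1 .nil .nil) (.node (-1) .nil .nil)) (.node 1 (.node 1 .nil .nil) .nil))) (.node 1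
    (.node (-1) (.node 1 (.node 1 .nil .nil) (.node 1 .nil .nil)) (.node 1 (.node 1 .nil .nil)
    (.node 1 .nil .nil))) (.node (-1) (.node 1 (.node (-1) .nil .nil) (.node 1 .nil .nil)) (.node 1
    (.node (-1) .nil .nil) .nil))))) (.node 1 (.node 1 (.node 1 (.node (-1) (.node 1 (.node (-1)
    .nil .nil) (.node 1 .nil .nil)) (.node 1 (.node 1 .nil .nil) (.node 1 .nil .nil))) (.node (-1)
    (.node (-1) (.node 1 .nil .nil) (.node 1 .nil .nil)) (.node 1 (.node (-1) .nil .nil) .nil)))
    (.node 1 (.node (-1) (.node 1 (.node 1 .nil .nil) (.node (-1) .nil .nil)) (.node (-1) (.node 1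
    .nil .nil) (.node 1 .nil .nil))) (.node (-1) (.node 1 (.node 1 .nil .nil) (.node 1 .nil .nil))
    (.node 1 (.node 1 .nil .nil) .nil)))) (.node 1 (.node 1 (.node 1 (.node 1 (.node 1 .nil .nil)
    (.node 1 .nil .nil)) (.node 1 (.node 1 .nil .nil) (.node 1 .nil .nil))) (.node 1 (.node 1
    (.node 1 .nil .nil) (.node 1 .nil .nil)) (.node (-1) (.node 1 .nil .nil) .nil))) (.node 1
    (.node 1 (.node 1 (.node 1 .nil .nil) (.node 1 .nil .nil)) (.node 1 (.node (-1) .nil .nil)
    (.node 1 .nil .nil))) (.node 1 (.node (-1) (.node 1 .nil .nil) (.node 1 .nil .nil)) (.node (-1)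
    (.node 1 .nil .nil) .nil)))))) (.node 1 (.node 1 (.node 1 (.node 1 (.node 1 (.node 1 (.node 1
    .nil .nil) (.node (-1) .nil .nil)) (.node 1 (.node (-1) .nil .nil) (.node 1 .nil .nil))) (.node
    1 (.node 1 (.node 1 .nil .nil) (.node (-1) .nil .nil)) (.node 1 (.node 1 .nil .nil) .nil)))
    (.node (-1) (.node 1 (.node 1 (.node 1 .nil .nil) (.node 1 .nil .nil)) (.node 1 (.node (-1)
    .nil .nil) (.node 1 .nil .nil))) (.node 1 (.node (-1) (.node 1 .nil .nil) (.node 1 .nil .nil))
    (.node (-1) (.node 1 .nil .nil) .nil)))) (.node (-1) (.node 1 (.node 1 (.node 1 (.node 1 .nil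
    .nil) (.node (-1) .nil .nil)) (.node 1 (.node 1 .nil .nil) (.node 1 .nil .nil))) (.node (-1)
    (.node (-1) (.node 1 .nil .nil) (.node 1 .nil .nil)) (.node 1 (.node (-1) .nil .nil) .nil)))
    (.node (-1) (.node 1 (.node 1 (.node (-1) .nil .nil) (.node 1 .nil .nil)) (.node 1 (.node 1
    .nil .nil) (.node 1 .nil .nil))) (.node 1 (.node 1 (.node 1 .nil .nil) (.node (-1) .nil .nil))
    (.node 1 (.node 1 .nil .nil) .nil))))) (.node 1 (.node 1 (.node 1 (.node 1 (.node (-1) (.node 1
    .nil .nil) (.node 1 .nil .nil)) (.node 1 (.node 1 .nil .nil) (.node 1 .nil .nil))) (.node 1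
    (.node 1 (.node (-1) .nil .nil) (.node 1 .nil .nil)) (.node (-1) (.node 1 .nil .nil) .nil)))
    (.node 1 (.node 1 (.node 1 (.node 1 .nil .nil) (.node 1 .nil .nil)) (.node 1 (.node 1 .nil
    .nil) (.node 1 .nil .nil))) (.node 1 (.node 1 (.node 1 .nil .nil) (.node 1 .nil .nil)) (.node
    (-1) (.node 1 .nil .nil) .nil)))) (.node 1 (.node 1 (.node (-1) (.node 1 (.node (-1) .nil .nil)
    (.node (-1) .nil .nil)) (.node 1 (.node 1 .nil .nil) (.node 1 .nil .nil))) (.node 1 (.node 1
    (.node 1 .nil .nil) (.node 1 .nil .nil)) (.node 1 (.node (-1) .nil .nil) .nil))) (.node 1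
    (.node 1 (.node 1 (.node 1 .nil .nil) (.node (-1) .nil .nil)) (.node (-1) (.node 1 .nil .nil)
    (.node 1 .nil .nil))) (.node (-1) (.node 1 (.node (-1) .nil .nil) (.node 1 .nil .nil)) (.node 1
    (.node (-1) .nil .nil) .nil)))))))

/-- table -/
noncomputable def auxE8Chain0 : Tr (List (ℕ × ℤ)) :=
    (.node [] (.node [] (.node [] (.node [] (.node [] (.node [] .nil (.node [] .nil (.node
    [(62,(-1))] .nil .nil))) .nil) (.node [] (.node [] (.node [] .nil (.node [(28,(-1))] .nil
    .nil)) (.node [] .nil (.node [(88,1)] .nil .nil))) (.node [] (.node [] (.node [(8,(-1))] .nil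
    .nil) (.node [(46,(-1))] .nil .nil)) (.node [] (.node [(19,(-1))] .nil .nil) .nil)))) (.node []
    (.node [] (.node [] .nil (.node [] .nil (.node [(78,1)] .nil .nil))) (.node [] (.node [] .nil
    (.node [(40,1)] .nil .nil)) .nil)) (.node [] (.node [] (.node [] .nil (.node [(33,(-1))] .nil
    .nil)) (.node [] .nil (.node [(110,(-1))] .nil .nil))) (.node [] (.node [] (.node [(9,1)] .nil
    .nil) .nil) (.node [] (.node [(21,(-1))] .nil .nil) .nil))))) (.node [] (.node [] (.node []
    (.node [] (.node [] (.node [(4,1)] .nil .nil) (.node [(24,1)] .nil .nil)) (.node [] (.node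
    [(12,(-1))] .nil .nil) (.node [(71,(-1))] .nil .nil))) (.node [] (.node [] .nil (.node [(38,1)]
    .nil .nil)) (.node [] (.node [(16,1)] .nil .nil) .nil))) (.node [] (.node [] (.node [] .nil
    (.node [(30,(-1))] .nil .nil)) (.node [] .nil (.node [(99,(-1))] .nil .nil))) (.node [] (.node
    [] .nil (.node [(49,(-1))] .nil .nil)) .nil))) (.node [] (.node [] (.node [] .nil (.node []
    .nil (.node [(81,1)] .nil .nil))) (.node [] (.node [] .nil (.node [(43,1)] .nil .nil)) .nil))
    (.node [] (.node [] .nil (.node [] (.node [(15,(-1))] .nil .nil) (.node [(117,(-1))] .nil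
    .nil))) (.node [] (.node [] .nil (.node [(57,(-1))] .nil .nil)) (.node [(3,1)] .nil .nil))))))
    (.node [] (.node [] (.node [] (.node [] (.node [] (.node [] .nil (.node [(23,(-1))] .nil .nil))
    (.node [] (.node [(11,1)] .nil .nil) (.node [(66,1)] .nil .nil))) (.node [] (.node [] .nil
    (.node [(37,(-1))] .nil .nil)) .nil)) (.node [] (.node [] .nil (.node [] (.node [(14,1)] .nil
    .nil) (.node [(93,(-1))] .nil .nil))) (.node [] (.node [] .nil (.node [(47,1)] .nil .nil))
    (.node [(1,1)] .nil .nil)))) (.node [] (.node [] (.node [] (.node [] .nil (.node [(26,(-1))]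
    .nil .nil)) (.node [] .nil (.node [(79,(-1))] .nil .nil))) (.node [] (.node [] .nil (.node
    [(41,(-1))] .nil .nil)) (.node [] (.node [(17,(-1))] .nil .nil) .nil))) (.node [] (.node []
    (.node [] (.node [(6,1)] .nil .nil) .nil) (.node [] .nil (.node [(114,(-1))] .nil .nil)))
    (.node [] (.node [] .nil (.node [(56,1)] .nil .nil)) .nil)))) (.node [] (.node [] (.node []
    .nil (.node [] (.node [] (.node [(7,1)] .nil .nil) .nil) .nil)) (.node [] (.node [] (.node []
    .nil (.node [(31,1)] .nil .nil)) (.node [] .nil (.node [(105,(-1))] .nil .nil))) (.node []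
    (.node [] .nil (.node [(52,1)] .nil .nil)) (.node [(2,1)] .nil .nil)))) (.node [] (.node []
    (.node [] (.node [] (.node [(5,1)] .nil .nil) (.node [(27,1)] .nil .nil)) (.node [] .nil (.node
    [(84,(-1))] .nil .nil))) (.node [] .nil (.node [] (.node [(18,1)] .nil .nil) .nil))) (.node []
    (.node [] (.node [] .nil (.node [(36,1)] .nil .nil)) (.node [] .nil (.node [(119,(-1))] .nil
    .nil))) (.node [] (.node [] (.node [(10,(-1))] .nil .nil) (.node [(59,1)] .nil .nil)) (.node []
    (.node [(22,1)] .nil .nil) .nil)))))))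

/-- table -/
noncomputable def auxE8Chain1 : Tr (List (ℕ × ℤ)) :=
    (.node [] (.node [] (.node [] (.node [] (.node [] (.node [] (.node [] .nil (.node [(23,(-1))]
    .nil .nil)) (.node [] (.node [(11,1)] .nil .nil) (.node [(63,(-1))] .nil .nil))) (.node []
    (.node [] .nil (.node [(37,(-1))] .nil .nil)) (.node [] .nil (.node [(120,(-1))] .nil .nil))))
    (.node [] (.node [] (.node [] .nil (.node [(29,(-1))] .nil .nil)) (.node [] (.node [(14,1)]
    .nil .nil) (.node [(89,1)] .nil .nil))) (.node [] .nil (.node [(0,1)] (.node [(20,(-1))] .nil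
    .nil) .nil)))) (.node [] (.node [] (.node [] (.node [] .nil (.node [(26,(-1))] .nil .nil))
    .nil) (.node [] .nil (.node [] (.node [(17,(-1))] .nil .nil) .nil))) (.node [] (.node [] (.node
    [] (.node [(6,1)] .nil .nil) (.node [(34,(-1))] .nil .nil)) (.node [] .nil (.node [(111,(-1))]
    .nil .nil))) (.node [] (.node [] .nil (.node [(56,1)] .nil .nil)) .nil)))) (.node [] (.node []
    (.node [] (.node [] (.node [] .nil (.node [(25,1)] .nil .nil)) (.node [] (.node [(13,(-1))]
    .nil .nil) (.node [(72,(-1))] .nil .nil))) (.node [] (.node [] (.node [(7,1)] .nil .nil) (.node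
    [(39,1)] .nil .nil)) .nil)) (.node [] (.node [] .nil (.node [] .nil (.node [(100,(-1))] .nil
    .nil))) (.node [] (.node [] .nil (.node [(50,(-1))] .nil .nil)) (.node [(2,1)] .nil .nil))))
    (.node [] (.node [] (.node [] (.node [] (.node [(5,1)] .nil .nil) (.node [(27,1)] .nil .nil))
    (.node [] .nil (.node [(82,1)] .nil .nil))) (.node [] (.node [] .nil (.node [(44,1)] .nil
    .nil)) (.node [] (.node [(18,1)] .nil .nil) .nil))) (.node [] (.node [] (.node [] .nil (.node
    [(36,1)] .nil .nil)) (.node [] .nil (.node [(118,(-1))] .nil .nil))) (.node [] (.node [] (.node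
    [(10,(-1))] .nil .nil) (.node [(58,(-1))] .nil .nil)) (.node [] (.node [(22,1)] .nil .nil)
    .nil)))))) (.node [] (.node [] (.node [] (.node [] (.node [] (.node [] (.node [(4,1)] .nil
    .nil) .nil) (.node [] .nil (.node [(67,1)] .nil .nil))) (.node [] .nil (.node [] (.node
    [(16,1)] .nil .nil) .nil))) (.node [] (.node [] (.node [] .nil (.node [(30,(-1))] .nil .nil))
    (.node [] .nil (.node [(94,(-1))] .nil .nil))) (.node [] (.node [] .nil (.node [(48,1)] .nil
    .nil)) .nil))) (.node [] (.node [] (.node [] .nil (.node [] .nil (.node [(80,(-1))] .nil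
    .nil))) (.node [] (.node [] .nil (.node [(42,(-1))] .nil .nil)) .nil)) (.node [] (.node [] .nil
    (.node [] (.node [(15,(-1))] .nil .nil) (.node [(115,(-1))] .nil .nil))) (.node [] .nil (.node
    [(3,1)] .nil .nil))))) (.node [] (.node [] (.node [] (.node [] .nil (.node [] .nil (.node
    [(78,1)] .nil .nil))) (.node [] (.node [] .nil (.node [(40,1)] .nil .nil)) .nil)) (.node []
    (.node [] (.node [] .nil (.node [(32,1)] .nil .nil)) (.node [] .nil (.node [(106,(-1))] .nil
    .nil))) (.node [] (.node [] (.node [(9,1)] .nil .nil) (.node [(53,1)] .nil .nil)) (.node []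
    (.node [(21,(-1))] .nil .nil) .nil)))) (.node [] (.node [] (.node [] .nil (.node [] .nil (.node
    [(85,(-1))] .nil .nil))) (.node [] (.node [] (.node [(8,(-1))] .nil .nil) (.node [(46,(-1))]
    .nil .nil)) .nil)) (.node [] .nil (.node [] (.node [] .nil (.node [(60,1)] .nil .nil))
    .nil))))))

/-- table -/
noncomputable def auxE8Chain2 : Tr (List (ℕ × ℤ)) :=
    (.node [] (.node [] (.node [] (.node [] (.node [] (.node [] (.node [] (.node [(4,1)] .nil .nil)
    (.node [(24,(-1))] .nil .nil)) (.node [] (.node [(12,1)] .nil .nil) (.node [(64,(-1))] .nil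
    .nil))) (.node [] (.node [] .nil (.node [(38,(-1))] .nil .nil)) (.node [] (.node [(16,1)] .nil
    .nil) (.node [(122,(-1))] .nil .nil)))) (.node [] (.node [] .nil (.node [] .nil (.node [(90,1)]
    .nil .nil))) (.node [] (.node [] .nil (.node [(48,1)] .nil .nil)) .nil))) (.node [] (.node []
    (.node [] .nil (.node [] .nil (.node [(80,(-1))] .nil .nil))) (.node [] (.node [] .nil (.node
    [(42,(-1))] .nil .nil)) .nil)) (.node [] (.node [] (.node [] .nil (.node [(35,(-1))] .nil
    .nil)) (.node [] (.node [(15,(-1))] .nil .nil) (.node [(112,(-1))] .nil .nil))) (.node []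
    (.node [] .nil (.node [(57,1)] .nil .nil)) (.node [(3,1)] .nil .nil))))) (.node [] (.node []
    (.node [] (.node [] .nil (.node [] .nil (.node [(73,(-1))] .nil .nil))) .nil) (.node [] (.node
    [] (.node [] .nil (.node [(32,1)] .nil .nil)) (.node [] .nil (.node [(101,(-1))] .nil .nil)))
    (.node [] (.node [] (.node [(9,1)] .nil .nil) (.node [(51,(-1))] .nil .nil)) (.node [] (.node
    [(21,(-1))] .nil .nil) .nil)))) (.node [] (.node [] (.node [] (.node [] .nil (.node [(28,1)]
    .nil .nil)) (.node [] .nil (.node [(83,1)] .nil .nil))) (.node [] (.node [] (.node [(8,(-1))]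
    .nil .nil) (.node [(45,1)] .nil .nil)) (.node [(0,1)] (.node [(19,1)] .nil .nil) .nil)))
    .nil))) (.node [] (.node [] (.node [] (.node [] (.node [] (.node [] .nil (.node [(25,1)] .nil
    .nil)) (.node [] (.node [(13,(-1))] .nil .nil) (.node [(68,1)] .nil .nil))) (.node [] (.node []
    (.node [(7,1)] .nil .nil) (.node [(39,1)] .nil .nil)) .nil)) (.node [] (.node [] (.node [] .nil
    (.node [(31,(-1))] .nil .nil)) (.node [] .nil (.node [(95,(-1))] .nil .nil))) .nil)) (.node []
    (.node [] (.node [] (.node [] (.node [(5,1)] .nil .nil) .nil) .nil) .nil) (.node [] (.node []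
    (.node [] .nil (.node [(36,1)] .nil .nil)) (.node [] .nil (.node [(116,(-1))] .nil .nil)))
    (.node [] (.node [] (.node [(10,(-1))] .nil .nil) (.node [(58,(-1))] .nil .nil)) (.node []
    (.node [(22,1)] .nil .nil) .nil))))) (.node [] (.node [] (.node [] (.node [] (.node [] .nil
    (.node [(26,(-1))] .nil .nil)) (.node [] .nil (.node [(79,1)] .nil .nil))) (.node [] (.node []
    .nil (.node [(41,1)] .nil .nil)) (.node [] (.node [(17,(-1))] .nil .nil) .nil))) (.node []
    (.node [] (.node [] (.node [(6,1)] .nil .nil) .nil) (.node [] .nil (.node [(107,(-1))] .nil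
    .nil))) (.node [] (.node [] .nil (.node [(54,1)] .nil .nil)) .nil))) (.node [] (.node [] (.node
    [] (.node [] .nil (.node [(29,(-1))] .nil .nil)) (.node [] (.node [(14,1)] .nil .nil) (.node
    [(86,(-1))] .nil .nil))) (.node [] (.node [] .nil (.node [(47,(-1))] .nil .nil)) (.node [(1,1)]
    (.node [(20,(-1))] .nil .nil) .nil))) (.node [] (.node [] .nil (.node [] .nil (.node
    [(121,(-1))] .nil .nil))) (.node [] (.node [] .nil (.node [(61,1)] .nil .nil)) .nil))))))

/-- table -/
noncomputable def auxE8Chain3 : Tr (List (ℕ × ℤ)) :=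
    (.node [] (.node [] (.node [] (.node [] (.node [] (.node [] .nil (.node [] .nil (.node
    [(65,(-1))] .nil .nil))) (.node [] (.node [] (.node [(7,1)] .nil .nil) .nil) (.node [] .nil
    (.node [(125,(-1))] .nil .nil)))) (.node [] (.node [] .nil (.node [] .nil (.node [(91,1)] .nil
    .nil))) (.node [] (.node [] .nil (.node [(50,1)] .nil .nil)) .nil))) (.node [] (.node [] (.node
    [] (.node [] (.node [(5,1)] .nil .nil) (.node [(28,1)] .nil .nil)) (.node [] .nil (.node
    [(82,(-1))] .nil .nil))) (.node [] (.node [] .nil (.node [(44,(-1))] .nil .nil)) (.node [(1,1)]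
    (.node [(19,1)] .nil .nil) .nil))) (.node [] (.node [] .nil (.node [] .nil (.node [(113,(-1))]
    .nil .nil))) (.node [] (.node [] .nil (.node [(59,1)] .nil .nil)) .nil)))) (.node [] (.node []
    (.node [] (.node [] .nil (.node [] .nil (.node [(74,(-1))] .nil .nil))) .nil) (.node [] (.node
    [] (.node [] (.node [(6,1)] .nil .nil) (.node [(34,1)] .nil .nil)) (.node [] .nil (.node
    [(102,(-1))] .nil .nil))) .nil)) (.node [] (.node [] (.node [] .nil (.node [] (.node [(14,1)]
    .nil .nil) .nil)) .nil) (.node [] (.node [] (.node [] .nil (.node [(38,(-1))] .nil .nil))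
    (.node [] .nil (.node [(123,(-1))] .nil .nil))) (.node [] (.node [] (.node [(12,1)] .nil .nil)
    (.node [(61,1)] .nil .nil)) (.node [] (.node [(24,(-1))] .nil .nil) .nil)))))) (.node [] (.node
    [] (.node [] (.node [] (.node [] .nil (.node [] .nil (.node [(69,1)] .nil .nil))) .nil) (.node
    [] (.node [] (.node [] .nil (.node [(33,(-1))] .nil .nil)) (.node [] .nil (.node [(96,(-1))]
    .nil .nil))) (.node [] (.node [] (.node [(9,1)] .nil .nil) (.node [(51,(-1))] .nil .nil))
    (.node [] (.node [(21,(-1))] .nil .nil) .nil)))) (.node [] (.node [] (.node [] (.node [] .nil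
    (.node [(29,(-1))] .nil .nil)) (.node [] .nil (.node [(83,1)] .nil .nil))) (.node [] (.node []
    (.node [(8,(-1))] .nil .nil) (.node [(45,1)] .nil .nil)) (.node [(2,1)] (.node [(20,(-1))] .nil
    .nil) .nil))) (.node [] (.node [] (.node [] .nil (.node [(37,1)] .nil .nil)) .nil) (.node []
    (.node [] (.node [(11,(-1))] .nil .nil) (.node [(60,(-1))] .nil .nil)) (.node [] (.node
    [(23,1)] .nil .nil) .nil))))) (.node [] (.node [] (.node [] (.node [] (.node [] .nil (.node
    [(27,(-1))] .nil .nil)) (.node [] .nil (.node [(81,1)] .nil .nil))) (.node [] (.node [] .nil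
    (.node [(43,1)] .nil .nil)) (.node [(0,1)] (.node [(18,(-1))] .nil .nil) .nil))) (.node []
    (.node [] (.node [] .nil (.node [(35,(-1))] .nil .nil)) (.node [] (.node [(15,(-1))] .nil .nil)
    (.node [(108,(-1))] .nil .nil))) (.node [] (.node [] .nil (.node [(55,1)] .nil .nil)) .nil)))
    (.node [] (.node [] (.node [] .nil (.node [] .nil (.node [(87,(-1))] .nil .nil))) (.node []
    (.node [] .nil (.node [(49,(-1))] .nil .nil)) .nil)) (.node [] (.node [] (.node [] .nil (.node
    [(39,1)] .nil .nil)) (.node [] (.node [(16,1)] .nil .nil) (.node [(124,(-1))] .nil .nil)))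
    (.node [] (.node [] (.node [(13,(-1))] .nil .nil) .nil) (.node [(4,1)] (.node [(25,1)] .nil
    .nil) .nil)))))))

/-- table -/
noncomputable def auxE8Chain4 : Tr (List (ℕ × ℤ)) :=
    (.node [] (.node [] (.node [] (.node [] (.node [] .nil (.node [] (.node [] .nil (.node [(43,1)]
    .nil .nil)) (.node [(1,1)] (.node [(18,(-1))] .nil .nil) (.node [(129,(-1))] .nil .nil))))
    (.node [] (.node [] (.node [] .nil (.node [(35,(-1))] .nil .nil)) (.node [] .nil (.node
    [(92,1)] .nil .nil))) (.node [] (.node [] .nil (.node [(53,1)] .nil .nil)) .nil))) (.node []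
    (.node [] (.node [] (.node [] .nil (.node [(31,1)] .nil .nil)) (.node [] .nil (.node
    [(85,(-1))] .nil .nil))) (.node [] (.node [] (.node [(8,(-1))] .nil .nil) .nil) .nil)) (.node
    [] .nil (.node [] (.node [] (.node [(13,(-1))] .nil .nil) (.node [(62,1)] .nil .nil)) (.node []
    (.node [(25,1)] .nil .nil) .nil))))) (.node [] (.node [] (.node [] (.node [] .nil (.node []
    .nil (.node [(75,(-1))] .nil .nil))) (.node [] (.node [] .nil (.node [(45,1)] .nil .nil))
    (.node [(3,1)] (.node [(20,(-1))] .nil .nil) .nil))) (.node [] (.node [] .nil (.node [] (.node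
    [(15,(-1))] .nil .nil) (.node [(103,(-1))] .nil .nil))) (.node [] (.node [] (.node [(11,(-1))]
    .nil .nil) (.node [(55,1)] .nil .nil)) (.node [] (.node [(23,1)] .nil .nil) .nil)))) (.node []
    (.node [] (.node [] (.node [] .nil (.node [(33,(-1))] .nil .nil)) (.node [] .nil (.node
    [(87,(-1))] .nil .nil))) .nil) (.node [] (.node [] (.node [] .nil (.node [(41,(-1))] .nil
    .nil)) (.node [] .nil (.node [(127,(-1))] .nil .nil))) (.node [] (.node [] .nil (.node [(64,1)]
    .nil .nil)) .nil))))) (.node [] (.node [] (.node [] (.node [] (.node [] .nil (.node [] .nil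
    (.node [(70,1)] .nil .nil))) (.node [] (.node [] .nil (.node [(44,(-1))] .nil .nil)) (.node
    [(2,1)] (.node [(19,1)] .nil .nil) .nil))) (.node [] (.node [] (.node [] (.node [(6,1)] .nil
    .nil) .nil) (.node [] .nil (.node [(97,(-1))] .nil .nil))) (.node [] (.node [] (.node [(10,1)]
    .nil .nil) (.node [(54,(-1))] .nil .nil)) (.node [] (.node [(22,(-1))] .nil .nil) .nil))))
    (.node [] (.node [] (.node [] (.node [] .nil (.node [(32,(-1))] .nil .nil)) (.node [] (.node
    [(14,1)] .nil .nil) (.node [(86,1)] .nil .nil))) .nil) (.node [] (.node [] (.node [] .nil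
    (.node [(40,1)] .nil .nil)) (.node [] .nil (.node [(126,(-1))] .nil .nil))) (.node [] (.node []
    .nil (.node [(63,(-1))] .nil .nil)) .nil)))) (.node [] (.node [] (.node [] (.node [] (.node []
    (.node [(5,1)] .nil .nil) (.node [(30,(-1))] .nil .nil)) (.node [] .nil (.node [(84,1)] .nil
    .nil))) .nil) (.node [] (.node [] .nil (.node [] .nil (.node [(109,(-1))] .nil .nil))) (.node
    [] (.node [] (.node [(12,1)] .nil .nil) .nil) (.node [] (.node [(24,(-1))] .nil .nil) .nil))))
    (.node [] (.node [] (.node [] (.node [] .nil (.node [(34,1)] .nil .nil)) .nil) (.node [] (.node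
    [] .nil (.node [(52,(-1))] .nil .nil)) .nil)) (.node [] (.node [] (.node [] (.node [(7,1)] .nil
    .nil) (.node [(42,1)] .nil .nil)) (.node [(0,1)] (.node [(17,1)] .nil .nil) (.node [(128,(-1))]
    .nil .nil))) (.node [] (.node [] .nil (.node [(65,(-1))] .nil .nil)) .nil))))))

/-- table -/
noncomputable def auxE8Chain5 : Tr (List (ℕ × ℤ)) :=
    (.node [] (.node [] (.node [] (.node [] (.node [] (.node [] (.node [] .nil (.node [(33,(-1))]
    .nil .nil)) (.node [] .nil (.node [(70,1)] .nil .nil))) (.node [] (.node [] .nil (.node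
    [(49,1)] .nil .nil)) (.node [] .nil (.node [(134,(-1))] .nil .nil)))) (.node [] (.node []
    (.node [] (.node [(6,1)] .nil .nil) .nil) .nil) (.node [] (.node [] (.node [(13,(-1))] .nil
    .nil) .nil) .nil))) (.node [] (.node [] (.node [] .nil (.node [] (.node [(14,1)] .nil .nil)
    (.node [(89,(-1))] .nil .nil))) (.node [] (.node [] (.node [(9,(-1))] .nil .nil) (.node
    [(53,1)] .nil .nil)) .nil)) (.node [] (.node [] .nil (.node [(2,1)] (.node [(18,(-1))] .nil
    .nil) (.node [(130,(-1))] .nil .nil))) (.node [] (.node [] .nil (.node [(66,1)] .nil .nil))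
    (.node [] (.node [(29,1)] .nil .nil) .nil))))) (.node [] (.node [] (.node [] (.node [] (.node
    [] .nil (.node [(35,(-1))] .nil .nil)) (.node [] .nil (.node [(76,(-1))] .nil .nil))) (.node []
    (.node [] .nil (.node [(51,1)] .nil .nil)) .nil)) (.node [] (.node [] .nil (.node [(0,1)]
    (.node [(16,(-1))] .nil .nil) (.node [(104,(-1))] .nil .nil))) (.node [] .nil (.node [] (.node
    [(27,1)] .nil .nil) .nil)))) (.node [] (.node [] (.node [] .nil (.node [] .nil (.node
    [(91,(-1))] .nil .nil))) (.node [] (.node [] (.node [(11,(-1))] .nil .nil) (.node [(55,1)] .nil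
    .nil)) .nil)) (.node [] (.node [] (.node [] (.node [(7,1)] .nil .nil) (.node [(47,(-1))] .nil
    .nil)) (.node [(4,1)] (.node [(20,(-1))] .nil .nil) (.node [(132,(-1))] .nil .nil))) (.node []
    (.node [] .nil (.node [(68,1)] .nil .nil)) (.node [] (.node [(31,1)] .nil .nil) .nil))))))
    (.node [] (.node [] (.node [] (.node [] (.node [] (.node [] .nil (.node [(34,1)] .nil .nil))
    .nil) (.node [] (.node [] .nil (.node [(50,(-1))] .nil .nil)) .nil)) (.node [] (.node [] .nil
    (.node [] .nil (.node [(98,(-1))] .nil .nil))) (.node [] .nil (.node [] (.node [(26,(-1))] .nil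
    .nil) .nil)))) (.node [] (.node [] (.node [] .nil (.node [] .nil (.node [(90,1)] .nil .nil)))
    (.node [] (.node [] (.node [(10,1)] .nil .nil) (.node [(54,(-1))] .nil .nil)) .nil)) (.node []
    (.node [] (.node [] .nil (.node [(46,1)] .nil .nil)) (.node [(3,1)] (.node [(19,1)] .nil .nil)
    (.node [(131,(-1))] .nil .nil))) (.node [] (.node [] .nil (.node [(67,(-1))] .nil .nil)) (.node
    [] (.node [(30,(-1))] .nil .nil) .nil))))) (.node [] (.node [] (.node [] (.node [] .nil (.node
    [] .nil (.node [(88,1)] .nil .nil))) (.node [] (.node [] .nil (.node [(52,(-1))] .nil .nil))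
    .nil)) (.node [] (.node [] .nil (.node [(1,1)] (.node [(17,1)] .nil .nil) .nil)) (.node [] .nil
    (.node [] (.node [(28,(-1))] .nil .nil) .nil)))) (.node [] (.node [] (.node [] .nil (.node []
    .nil (.node [(92,1)] .nil .nil))) (.node [] (.node [] (.node [(12,1)] .nil .nil) .nil) .nil))
    (.node [] (.node [] (.node [] .nil (.node [(48,1)] .nil .nil)) (.node [] .nil (.node
    [(133,(-1))] .nil .nil))) (.node [] (.node [] .nil (.node [(69,(-1))] .nil .nil)) (.node []
    (.node [(32,(-1))] .nil .nil) .nil)))))))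

/-- table -/
noncomputable def auxE8Chain6 : Tr (List (ℕ × ℤ)) :=
    (.node [] (.node [] (.node [] (.node [] (.node [] .nil (.node [] (.node [] (.node [(10,1)] .nil
    .nil) (.node [(59,1)] .nil .nil)) (.node [] (.node [(27,1)] .nil .nil) (.node [(140,(-1))] .nil
    .nil)))) (.node [] (.node [] .nil (.node [(4,1)] .nil (.node [(98,(-1))] .nil .nil))) (.node []
    (.node [] .nil (.node [(67,(-1))] .nil .nil)) (.node [] (.node [(35,(-1))] .nil .nil) .nil))))
    (.node [] (.node [] (.node [] .nil (.node [(0,1)] .nil (.node [(94,(-1))] .nil .nil))) (.node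
    [] (.node [] .nil (.node [(63,1)] .nil .nil)) (.node [] (.node [(31,1)] .nil .nil) .nil)))
    (.node [] (.node [] .nil (.node [] (.node [(23,(-1))] .nil .nil) (.node [(136,(-1))] .nil
    .nil))) .nil))) (.node [] (.node [] (.node [] (.node [] .nil (.node [] .nil (.node [(77,(-1))]
    .nil .nil))) (.node [] (.node [] (.node [(12,1)] .nil .nil) (.node [(61,1)] .nil .nil)) (.node
    [] (.node [(29,1)] .nil .nil) .nil))) (.node [] (.node [] .nil (.node [] (.node [(21,(-1))]
    .nil .nil) .nil)) (.node [] (.node [] .nil (.node [(69,(-1))] .nil .nil)) .nil))) (.node []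
    (.node [] (.node [] .nil (.node [(2,1)] .nil (.node [(96,(-1))] .nil .nil))) (.node [] (.node
    [] .nil (.node [(65,1)] .nil .nil)) (.node [] (.node [(33,(-1))] .nil .nil) .nil))) (.node []
    (.node [] (.node [] (.node [(8,1)] .nil .nil) (.node [(57,(-1))] .nil .nil)) (.node [] (.node
    [(25,(-1))] .nil .nil) (.node [(138,(-1))] .nil .nil))) .nil)))) (.node [] (.node [] (.node []
    (.node [] .nil (.node [] (.node [] (.node [(11,(-1))] .nil .nil) (.node [(60,(-1))] .nil .nil))
    (.node [] (.node [(28,(-1))] .nil .nil) .nil))) (.node [] (.node [] .nil (.node [(5,1)] .nil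
    .nil)) (.node [] (.node [] .nil (.node [(68,1)] .nil .nil)) .nil))) (.node [] (.node [] (.node
    [] .nil (.node [(1,1)] .nil (.node [(95,1)] .nil .nil))) (.node [] (.node [] .nil (.node
    [(64,(-1))] .nil .nil)) (.node [] (.node [(32,(-1))] .nil .nil) .nil))) (.node [] (.node []
    (.node [] .nil (.node [(56,1)] .nil .nil)) (.node [] (.node [(24,1)] .nil .nil) (.node
    [(137,(-1))] .nil .nil))) .nil))) (.node [] (.node [] (.node [] (.node [] .nil (.node [] (.node
    [(14,1)] .nil .nil) (.node [(93,1)] .nil .nil))) (.node [] (.node [] (.node [(13,(-1))] .nil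
    .nil) (.node [(62,(-1))] .nil .nil)) (.node [] (.node [(30,(-1))] .nil .nil) .nil))) (.node []
    (.node [] .nil (.node [] (.node [(22,1)] .nil .nil) (.node [(135,(-1))] .nil .nil))) (.node []
    (.node [] .nil (.node [(70,1)] .nil .nil)) .nil))) (.node [] (.node [] (.node [] .nil (.node
    [(3,1)] .nil (.node [(97,1)] .nil .nil))) (.node [] (.node [] .nil (.node [(66,1)] .nil .nil))
    (.node [] (.node [(34,1)] .nil .nil) .nil))) (.node [] (.node [] (.node [] (.node [(9,(-1))]
    .nil .nil) (.node [(58,1)] .nil .nil)) (.node [] (.node [(26,(-1))] .nil .nil) (.node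
    [(139,(-1))] .nil .nil))) .nil)))))

/-- table -/
noncomputable def auxE8Chain7 : Tr (List (ℕ × ℤ)) :=
    (.node [] (.node [] (.node [] (.node [] (.node [] (.node [] (.node [] .nil (.node [(43,(-1))]
    .nil .nil)) (.node [(2,1)] .nil (.node [(75,1)] .nil .nil))) (.node [] .nil (.node [] .nil
    (.node [(146,(-1))] .nil .nil)))) (.node [] (.node [] (.node [] (.node [(8,1)] .nil .nil)
    (.node [(51,1)] .nil .nil)) (.node [] (.node [(19,1)] .nil .nil) (.node [(104,(-1))] .nil
    .nil))) .nil)) (.node [] (.node [] (.node [] (.node [] .nil (.node [(47,(-1))] .nil .nil))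
    (.node [] (.node [(15,1)] .nil .nil) (.node [(100,(-1))] .nil .nil))) .nil) (.node [] (.node []
    (.node [] (.node [(12,1)] .nil .nil) (.node [(55,1)] .nil .nil)) (.node [] .nil (.node
    [(142,(-1))] .nil .nil))) (.node [] (.node [] .nil (.node [(71,1)] .nil .nil)) (.node [] (.node
    [(39,1)] .nil .nil) .nil))))) (.node [] (.node [] (.node [] (.node [] (.node [] .nil (.node
    [(45,(-1))] .nil .nil)) (.node [(4,1)] .nil .nil)) .nil) (.node [] (.node [] (.node [] (.node
    [(10,1)] .nil .nil) (.node [(53,1)] .nil .nil)) .nil) (.node [] .nil (.node [] (.node [(37,1)]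
    .nil .nil) .nil)))) (.node [] (.node [] (.node [] (.node [] .nil (.node [(49,1)] .nil .nil))
    (.node [] (.node [(17,1)] .nil .nil) (.node [(102,(-1))] .nil .nil))) .nil) (.node [] (.node []
    .nil (.node [] .nil (.node [(144,(-1))] .nil .nil))) (.node [] (.node [(0,1)] .nil (.node
    [(73,1)] .nil .nil)) (.node [] (.node [(41,1)] .nil .nil) .nil)))))) (.node [] (.node [] (.node
    [] (.node [] (.node [] (.node [] .nil (.node [(44,1)] .nil .nil)) (.node [(3,1)] .nil (.node
    [(76,(-1))] .nil .nil))) .nil) (.node [] (.node [] (.node [] (.node [(9,(-1))] .nil .nil)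
    (.node [(52,(-1))] .nil .nil)) (.node [] (.node [(20,(-1))] .nil .nil) .nil)) (.node [] .nil
    (.node [] (.node [(36,(-1))] .nil .nil) .nil)))) (.node [] (.node [] (.node [] (.node [] .nil
    (.node [(48,1)] .nil .nil)) (.node [] (.node [(16,(-1))] .nil .nil) (.node [(101,1)] .nil
    .nil))) .nil) (.node [] (.node [] (.node [] (.node [(13,(-1))] .nil .nil) .nil) (.node [] .nil
    (.node [(143,(-1))] .nil .nil))) (.node [] (.node [] .nil (.node [(72,(-1))] .nil .nil)) (.node
    [] (.node [(40,(-1))] .nil .nil) .nil))))) (.node [] (.node [] (.node [] (.node [] (.node []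
    .nil (.node [(46,1)] .nil .nil)) (.node [(5,1)] .nil (.node [(99,1)] .nil .nil))) .nil) (.node
    [] (.node [] (.node [] (.node [(11,(-1))] .nil .nil) (.node [(54,(-1))] .nil .nil)) (.node []
    .nil (.node [(141,(-1))] .nil .nil))) (.node [] .nil (.node [] (.node [(38,(-1))] .nil .nil)
    .nil)))) (.node [] (.node [] (.node [] (.node [] .nil (.node [(50,(-1))] .nil .nil)) (.node []
    (.node [(18,(-1))] .nil .nil) (.node [(103,1)] .nil .nil))) .nil) (.node [] (.node [] .nil
    (.node [] .nil (.node [(145,(-1))] .nil .nil))) (.node [] (.node [(1,1)] .nil (.node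
    [(74,(-1))] .nil .nil)) (.node [] (.node [(42,(-1))] .nil .nil) .nil)))))))

/-- table -/
noncomputable def auxE8Chain8 : Tr (List (ℕ × ℤ)) :=
    (.node [] (.node [] (.node [] (.node [] (.node [] .nil (.node [] .nil (.node [] (.node [(37,1)]
    .nil .nil) (.node [(151,1)] .nil .nil)))) (.node [] (.node [] (.node [] .nil (.node [(61,1)]
    .nil .nil)) (.node [] (.node [(24,1)] .nil .nil) .nil)) (.node [] (.node [] .nil (.node
    [(72,(-1))] .nil .nil)) (.node [] (.node [(45,(-1))] .nil .nil) .nil)))) (.node [] (.node []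
    (.node [] (.node [] (.node [(10,(-1))] .nil .nil) (.node [(57,(-1))] .nil .nil)) (.node [] .nil
    (.node [(106,1)] .nil .nil))) (.node [] .nil (.node [] (.node [(41,1)] .nil .nil) .nil)))
    (.node [] (.node [] (.node [] .nil (.node [(65,1)] .nil .nil)) (.node [] .nil (.node [(147,1)]
    .nil .nil))) (.node [] (.node [(3,(-1))] .nil .nil) .nil)))) (.node [] (.node [] (.node [] .nil
    (.node [] .nil (.node [] (.node [(39,1)] .nil .nil) .nil))) (.node [] (.node [] (.node [] .nil
    (.node [(63,1)] .nil .nil)) (.node [] .nil (.node [(141,(-1))] .nil .nil))) (.node [] (.node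
    [(1,(-1))] .nil (.node [(74,(-1))] .nil .nil)) .nil))) (.node [] (.node [] (.node [] (.node []
    (.node [(12,(-1))] .nil .nil) (.node [(59,1)] .nil .nil)) (.node [] (.node [(22,1)] .nil .nil)
    (.node [(108,1)] .nil .nil))) (.node [] .nil (.node [] (.node [(43,(-1))] .nil .nil) .nil)))
    (.node [] (.node [] .nil (.node [] .nil (.node [(149,1)] .nil .nil))) .nil)))) (.node [] (.node
    [] (.node [] (.node [] (.node [] .nil (.node [] .nil (.node [(77,(-1))] .nil .nil))) (.node []
    .nil (.node [] (.node [(38,(-1))] .nil .nil) .nil))) (.node [] (.node [] (.node [] .nil (.node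
    [(62,(-1))] .nil .nil)) (.node [(7,1)] (.node [(25,(-1))] .nil .nil) (.node [(135,(-1))] .nil
    .nil))) (.node [] (.node [(0,(-1))] .nil (.node [(73,1)] .nil .nil)) .nil))) (.node [] (.node
    [] (.node [] (.node [] (.node [(11,1)] .nil .nil) (.node [(58,1)] .nil .nil)) (.node [] (.node
    [(21,(-1))] .nil .nil) (.node [(107,(-1))] .nil .nil))) (.node [] .nil (.node [] (.node
    [(42,(-1))] .nil .nil) .nil))) (.node [] (.node [] .nil (.node [] .nil (.node [(148,1)] .nil
    .nil))) (.node [] (.node [(4,(-1))] .nil .nil) .nil)))) (.node [] (.node [] (.node [] (.node []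
    (.node [] (.node [(9,1)] .nil .nil) (.node [(56,1)] .nil .nil)) (.node [(6,1)] (.node [(15,1)]
    .nil .nil) (.node [(105,(-1))] .nil .nil))) (.node [] .nil (.node [] (.node [(40,(-1))] .nil
    .nil) .nil))) (.node [] (.node [] (.node [] .nil (.node [(64,(-1))] .nil .nil)) .nil) (.node []
    (.node [(2,(-1))] .nil (.node [(75,1)] .nil .nil)) .nil))) (.node [] (.node [] (.node [] (.node
    [] (.node [(13,1)] .nil .nil) (.node [(60,(-1))] .nil .nil)) (.node [] (.node [(23,(-1))] .nil
    .nil) (.node [(109,(-1))] .nil .nil))) (.node [] (.node [] .nil (.node [(71,1)] .nil .nil))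
    (.node [] (.node [(44,1)] .nil .nil) .nil))) (.node [] (.node [] .nil (.node [] (.node
    [(36,(-1))] .nil .nil) (.node [(150,1)] .nil .nil))) .nil)))))

/-- table -/
noncomputable def auxE8Chain9 : Tr (List (ℕ × ℤ)) :=
    (.node [] (.node [] (.node [] (.node [] (.node [] (.node [] (.node [] (.node [(11,(-1))] .nil
    .nil) (.node [(59,1)] .nil .nil)) (.node [] .nil (.node [(77,(-1))] .nil .nil))) (.node [] .nil
    (.node [] .nil (.node [(155,(-1))] .nil .nil)))) (.node [] (.node [] .nil (.node [(7,(-1))]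
    (.node [(28,1)] .nil .nil) (.node [(130,(-1))] .nil .nil))) (.node [] (.node [(3,1)] .nil .nil)
    (.node [] (.node [(51,(-1))] .nil .nil) .nil)))) (.node [] (.node [] (.node [] .nil (.node []
    (.node [(21,(-1))] .nil .nil) (.node [(111,(-1))] .nil .nil))) (.node [] (.node [] .nil (.node
    [(72,(-1))] .nil .nil)) (.node [] (.node [(47,1)] .nil .nil) .nil))) (.node [] (.node [] (.node
    [] .nil (.node [(69,1)] .nil .nil)) (.node [] (.node [(37,1)] .nil .nil) .nil)) .nil))) (.node
    [] (.node [] (.node [] (.node [] (.node [] (.node [(13,(-1))] .nil .nil) (.node [(61,1)] .nil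
    .nil)) (.node [(6,(-1))] .nil .nil)) .nil) (.node [] (.node [] (.node [] .nil (.node [(67,1)]
    .nil .nil)) (.node [] .nil (.node [(142,1)] .nil .nil))) .nil)) (.node [] (.node [] (.node []
    .nil (.node [] (.node [(26,1)] .nil .nil) (.node [(113,(-1))] .nil .nil))) (.node [] (.node
    [(1,1)] .nil (.node [(74,(-1))] .nil .nil)) (.node [] (.node [(49,(-1))] .nil .nil) .nil)))
    (.node [] (.node [] .nil (.node [(8,1)] (.node [(39,1)] .nil .nil) (.node [(153,(-1))] .nil
    .nil))) (.node [] .nil (.node [] (.node [(57,(-1))] .nil .nil) .nil)))))) (.node [] (.node []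
    (.node [] (.node [] (.node [] (.node [] (.node [(12,1)] .nil .nil) (.node [(60,(-1))] .nil
    .nil)) .nil) .nil) (.node [] (.node [] (.node [] .nil (.node [(66,(-1))] .nil .nil)) (.node []
    (.node [(29,(-1))] .nil .nil) (.node [(136,1)] .nil .nil))) .nil)) (.node [] (.node [] (.node
    [] .nil (.node [] .nil (.node [(112,1)] .nil .nil))) (.node [] (.node [(0,1)] .nil (.node
    [(73,1)] .nil .nil)) (.node [] (.node [(48,(-1))] .nil .nil) .nil))) (.node [] (.node [] .nil
    (.node [] (.node [(38,(-1))] .nil .nil) (.node [(152,(-1))] .nil .nil))) (.node [] (.node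
    [(5,(-1))] .nil .nil) (.node [] (.node [(56,1)] .nil .nil) .nil))))) (.node [] (.node [] (.node
    [] (.node [] .nil (.node [] (.node [(16,1)] .nil .nil) (.node [(110,1)] .nil .nil))) (.node []
    (.node [] .nil (.node [(71,1)] .nil .nil)) (.node [] (.node [(46,(-1))] .nil .nil) .nil)))
    (.node [] (.node [] (.node [] .nil (.node [(68,(-1))] .nil .nil)) (.node [] (.node [(36,(-1))]
    .nil .nil) (.node [(147,1)] .nil .nil))) (.node [] (.node [] .nil (.node [(76,1)] .nil .nil))
    .nil))) (.node [] (.node [] (.node [] .nil (.node [] (.node [(27,(-1))] .nil .nil) .nil))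
    (.node [] (.node [(2,1)] .nil .nil) (.node [] (.node [(50,1)] .nil .nil) .nil))) (.node []
    (.node [] .nil (.node [] .nil (.node [(154,(-1))] .nil .nil))) (.node [] .nil (.node [(10,1)]
    (.node [(58,1)] .nil .nil) .nil)))))))

/-- table -/
noncomputable def auxE8Chain10 : Tr (List (ℕ × ℤ)) :=
    (.node [] (.node [] (.node [] (.node [] (.node [] (.node [] (.node [] .nil (.node [(62,1)] .nil
    .nil)) .nil) (.node [] (.node [] .nil (.node [(71,1)] .nil .nil)) (.node [] (.node [(46,(-1))]
    .nil .nil) (.node [(158,1)] .nil .nil)))) (.node [] (.node [] (.node [] .nil (.node [(68,(-1))]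
    .nil .nil)) (.node [] (.node [(31,1)] .nil .nil) (.node [(131,1)] .nil .nil))) (.node [] (.node
    [(4,1)] .nil .nil) (.node [] (.node [(54,(-1))] .nil .nil) .nil)))) (.node [] (.node [] (.node
    [] .nil (.node [] (.node [(22,(-1))] .nil .nil) (.node [(115,1)] .nil .nil))) (.node [] (.node
    [(2,(-1))] .nil .nil) .nil)) (.node [] (.node [] (.node [] .nil (.node [(70,1)] .nil .nil))
    (.node [] (.node [(40,1)] .nil .nil) (.node [(152,(-1))] .nil .nil))) (.node [] (.node [(5,1)]
    .nil .nil) (.node [(11,1)] (.node [(58,1)] .nil .nil) .nil))))) (.node [] (.node [] (.node []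
    (.node [] (.node [] .nil (.node [(64,1)] .nil .nil)) .nil) (.node [] (.node [(0,(-1))] .nil
    (.node [(73,1)] .nil .nil)) (.node [(9,1)] (.node [(48,(-1))] .nil .nil) .nil))) (.node []
    (.node [] .nil (.node [] (.node [(36,(-1))] .nil .nil) (.node [(143,(-1))] .nil .nil))) (.node
    [] (.node [] .nil (.node [(76,1)] .nil .nil)) (.node [] (.node [(56,1)] .nil .nil) .nil))))
    (.node [] (.node [] (.node [] (.node [] .nil (.node [(66,(-1))] .nil .nil)) .nil) (.node []
    (.node [] .nil (.node [(75,(-1))] .nil .nil)) (.node [] (.node [(52,(-1))] .nil .nil) .nil)))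
    (.node [] (.node [] .nil (.node [] (.node [(42,1)] .nil .nil) (.node [(156,1)] .nil .nil)))
    (.node [] .nil (.node [(13,1)] .nil .nil)))))) (.node [] (.node [] (.node [] (.node [] (.node
    [] (.node [] .nil (.node [(63,(-1))] .nil .nil)) (.node [(6,1)] .nil .nil)) (.node [] (.node []
    .nil (.node [(72,(-1))] .nil .nil)) (.node [] (.node [(47,1)] .nil .nil) .nil))) (.node []
    (.node [] .nil (.node [] (.node [(32,(-1))] .nil .nil) (.node [(137,(-1))] .nil .nil))) .nil))
    (.node [] (.node [] (.node [] .nil (.node [] (.node [(26,1)] .nil .nil) (.node [(116,(-1))]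
    .nil .nil))) .nil) (.node [] (.node [] .nil (.node [(8,(-1))] (.node [(41,(-1))] .nil .nil)
    .nil)) (.node [] .nil (.node [(12,(-1))] .nil .nil))))) (.node [] (.node [] (.node [] (.node []
    .nil (.node [] (.node [(17,1)] .nil .nil) (.node [(114,(-1))] .nil .nil))) (.node [] (.node
    [(1,(-1))] .nil .nil) .nil)) (.node [] (.node [] .nil (.node [] .nil (.node [(148,(-1))] .nil
    .nil))) (.node [] .nil (.node [] (.node [(57,(-1))] .nil .nil) .nil)))) (.node [] (.node []
    (.node [] (.node [] .nil (.node [(67,1)] .nil .nil)) (.node [(7,1)] (.node [(30,(-1))] .nil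
    .nil) (.node [(126,(-1))] .nil .nil))) (.node [] .nil (.node [] (.node [(53,1)] .nil .nil)
    .nil))) (.node [] (.node [] .nil (.node [] .nil (.node [(157,1)] .nil .nil))) (.node [] (.node
    [] .nil (.node [(77,(-1))] .nil .nil)) .nil))))))

/-- table -/
noncomputable def auxE8Chain11 : Tr (List (ℕ × ℤ)) :=
    (.node [] (.node [] (.node [] (.node [] (.node [] (.node [] .nil (.node [(6,(-1))] .nil .nil))
    (.node [] (.node [(0,1)] .nil .nil) (.node [] .nil (.node [(160,(-1))] .nil .nil)))) (.node []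
    (.node [] (.node [] .nil (.node [(69,(-1))] .nil .nil)) (.node [] (.node [(33,1)] .nil .nil)
    (.node [(132,(-1))] .nil .nil))) (.node [] .nil (.node [] (.node [(55,(-1))] .nil .nil)
    .nil)))) (.node [] (.node [] (.node [] (.node [] .nil (.node [(66,(-1))] .nil .nil)) (.node []
    (.node [(23,(-1))] .nil .nil) (.node [(118,(-1))] .nil .nil))) (.node [] (.node [(3,(-1))] .nil
    .nil) (.node [] (.node [(52,(-1))] .nil .nil) .nil))) (.node [] (.node [] .nil (.node [(8,1)]
    .nil (.node [(153,1)] .nil .nil))) (.node [] .nil (.node [] (.node [(60,1)] .nil .nil)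
    .nil))))) (.node [] (.node [] (.node [] (.node [] (.node [] .nil (.node [(65,1)] .nil .nil))
    .nil) (.node [] (.node [] .nil (.node [(74,1)] .nil .nil)) (.node [] (.node [(50,(-1))] .nil
    .nil) .nil))) (.node [] (.node [] .nil (.node [] (.node [(37,(-1))] .nil .nil) (.node [(144,1)]
    .nil .nil))) (.node [] .nil (.node [(12,1)] .nil .nil)))) (.node [] (.node [] (.node [] .nil
    (.node [(7,(-1))] (.node [(30,(-1))] .nil .nil) (.node [(123,(-1))] .nil .nil))) .nil) (.node
    [] (.node [] (.node [] .nil (.node [(71,1)] .nil .nil)) (.node [] (.node [(44,1)] .nil .nil)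
    .nil)) (.node [] (.node [] .nil (.node [(77,(-1))] .nil .nil)) (.node [] (.node [(62,1)] .nil
    .nil) .nil)))))) (.node [] (.node [] (.node [] (.node [] .nil (.node [] (.node [(1,1)] .nil
    .nil) (.node [(9,(-1))] (.node [(49,1)] .nil .nil) .nil))) (.node [] (.node [] .nil (.node []
    (.node [(34,(-1))] .nil .nil) (.node [(138,1)] .nil .nil))) (.node [] (.node [] .nil (.node
    [(76,1)] .nil .nil)) (.node [] (.node [(56,1)] .nil .nil) .nil)))) (.node [] (.node [] (.node
    [] (.node [] .nil (.node [(67,1)] .nil .nil)) (.node [] (.node [(27,1)] .nil .nil) .nil))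
    (.node [] (.node [] .nil (.node [(75,(-1))] .nil .nil)) (.node [(10,1)] (.node [(53,1)] .nil
    .nil) .nil))) (.node [] (.node [] .nil (.node [] (.node [(43,(-1))] .nil .nil) (.node [(156,1)]
    .nil .nil))) .nil))) (.node [] (.node [] (.node [] (.node [] .nil (.node [] (.node [(18,1)]
    .nil .nil) (.node [(117,1)] .nil .nil))) .nil) (.node [] (.node [] (.node [] .nil (.node
    [(70,1)] .nil .nil)) (.node [] (.node [(40,1)] .nil .nil) (.node [(149,1)] .nil .nil))) (.node
    [] (.node [(5,(-1))] .nil .nil) (.node [(13,(-1))] (.node [(59,(-1))] .nil .nil) .nil))))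
    (.node [] (.node [] (.node [] .nil (.node [] .nil (.node [(127,1)] .nil .nil))) (.node []
    (.node [(4,(-1))] .nil .nil) .nil)) (.node [] (.node [] (.node [] .nil (.node [(72,(-1))] .nil
    .nil)) (.node [] (.node [(46,(-1))] .nil .nil) (.node [(159,(-1))] .nil .nil))) (.node [] .nil
    (.node [] (.node [(63,(-1))] .nil .nil) .nil)))))))

/-- table -/
noncomputable def auxE8Chain12 : Tr (List (ℕ × ℤ)) :=
    (.node [] (.node [] (.node [] (.node [] (.node [] .nil (.node [] .nil (.node [(9,1)] (.node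
    [(49,1)] .nil .nil) (.node [(161,1)] .nil .nil)))) (.node [] (.node [] .nil (.node [] .nil
    (.node [(133,1)] .nil .nil))) (.node [] (.node [] .nil (.node [(76,1)] .nil .nil)) .nil)))
    (.node [] (.node [] (.node [] .nil (.node [] (.node [(24,(-1))] .nil .nil) .nil)) (.node []
    (.node [] .nil (.node [(75,(-1))] .nil .nil)) (.node [(10,(-1))] .nil .nil))) (.node [] (.node
    [] .nil (.node [] (.node [(43,(-1))] .nil .nil) (.node [(154,(-1))] .nil .nil))) (.node [] .nil
    (.node [] (.node [(61,1)] .nil .nil) .nil))))) (.node [] (.node [] (.node [] .nil (.node []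
    .nil (.node [] (.node [(51,(-1))] .nil .nil) .nil))) (.node [] (.node [] (.node [] .nil (.node
    [(70,1)] .nil .nil)) (.node [] (.node [(38,(-1))] .nil .nil) (.node [(145,(-1))] .nil .nil)))
    (.node [] (.node [(5,1)] .nil .nil) (.node [] (.node [(59,(-1))] .nil .nil) .nil)))) (.node []
    (.node [] (.node [] .nil (.node [] (.node [(31,(-1))] .nil .nil) (.node [(124,1)] .nil .nil)))
    (.node [] (.node [(4,1)] .nil .nil) .nil)) (.node [] (.node [] .nil (.node [] (.node [(45,1)]
    .nil .nil) (.node [(159,(-1))] .nil .nil))) .nil)))) (.node [] (.node [] (.node [] (.node []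
    (.node [] (.node [] .nil (.node [(65,1)] .nil .nil)) .nil) (.node [] (.node [(2,1)] .nil (.node
    [(74,1)] .nil .nil)) .nil)) (.node [] (.node [] .nil (.node [] (.node [(35,(-1))] .nil .nil)
    (.node [(139,(-1))] .nil .nil))) (.node [] .nil (.node [(13,1)] (.node [(57,1)] .nil .nil)
    .nil)))) (.node [] (.node [] (.node [] (.node [] .nil (.node [(68,1)] .nil .nil)) (.node
    [(7,1)] (.node [(28,1)] .nil .nil) (.node [(121,(-1))] .nil .nil))) (.node [] .nil (.node []
    (.node [(54,1)] .nil .nil) .nil))) (.node [] (.node [] (.node [] .nil (.node [(71,1)] .nil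
    .nil)) (.node [] .nil (.node [(157,(-1))] .nil .nil))) (.node [] (.node [] .nil (.node
    [(77,(-1))] .nil .nil)) (.node [] (.node [(62,1)] .nil .nil) .nil))))) (.node [] (.node []
    (.node [] (.node [] (.node [] .nil (.node [(66,(-1))] .nil .nil)) (.node [] (.node [(19,1)]
    .nil .nil) (.node [(119,(-1))] .nil .nil))) (.node [] (.node [(3,1)] .nil .nil) (.node []
    (.node [(52,(-1))] .nil .nil) .nil))) (.node [] (.node [] .nil (.node [(8,(-1))] (.node
    [(41,1)] .nil .nil) (.node [(150,(-1))] .nil .nil))) .nil)) (.node [] (.node [] (.node []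
    (.node [] .nil (.node [(69,(-1))] .nil .nil)) (.node [] (.node [(33,1)] .nil .nil) (.node
    [(128,(-1))] .nil .nil))) (.node [] .nil (.node [(11,1)] (.node [(55,(-1))] .nil .nil) .nil)))
    (.node [] (.node [] (.node [(0,(-1))] .nil (.node [(73,(-1))] .nil .nil)) (.node [] (.node
    [(47,(-1))] .nil .nil) .nil)) (.node [] (.node [(6,1)] .nil .nil) (.node [] (.node [(64,(-1))]
    .nil .nil) .nil)))))))

/-- table -/
noncomputable def auxE8Chain13 : Tr (List (ℕ × ℤ)) :=
    (.node [] (.node [] (.node [] (.node [] (.node [] (.node [] (.node [] .nil (.node [(65,1)] .nil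
    .nil)) .nil) (.node [] (.node [(2,(-1))] .nil (.node [(74,1)] .nil .nil)) (.node [] (.node
    [(50,1)] .nil .nil) .nil))) (.node [] (.node [] .nil (.node [] (.node [(35,(-1))] .nil .nil)
    (.node [(134,(-1))] .nil .nil))) (.node [] .nil (.node [(12,1)] .nil .nil)))) (.node [] (.node
    [] (.node [] (.node [] .nil (.node [(68,1)] .nil .nil)) (.node [(7,(-1))] (.node [(25,(-1))]
    .nil .nil) (.node [(120,(-1))] .nil .nil))) (.node [] .nil (.node [] (.node [(54,1)] .nil .nil)
    .nil))) (.node [] (.node [] .nil (.node [] (.node [(44,(-1))] .nil .nil) (.node [(155,1)] .nil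
    .nil))) (.node [] (.node [] .nil (.node [(77,(-1))] .nil .nil)) .nil)))) (.node [] (.node []
    (.node [] .nil (.node [] (.node [(3,(-1))] .nil .nil) .nil)) (.node [] (.node [] .nil (.node
    [(8,1)] (.node [(39,(-1))] .nil .nil) (.node [(146,1)] .nil .nil))) (.node [] .nil (.node []
    (.node [(60,(-1))] .nil .nil) .nil)))) (.node [] (.node [] (.node [] (.node [] .nil (.node
    [(69,(-1))] .nil .nil)) (.node [] (.node [(32,(-1))] .nil .nil) (.node [(125,(-1))] .nil
    .nil))) (.node [] .nil (.node [(11,(-1))] (.node [(55,(-1))] .nil .nil) .nil))) (.node []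
    (.node [] (.node [] .nil (.node [(73,(-1))] .nil .nil)) (.node [] .nil (.node [(160,1)] .nil
    .nil))) (.node [] (.node [(6,(-1))] .nil .nil) (.node [] (.node [(64,(-1))] .nil .nil)
    .nil)))))) (.node [] (.node [] (.node [] (.node [] .nil (.node [] .nil (.node [] (.node
    [(51,(-1))] .nil .nil) .nil))) (.node [] (.node [] (.node [] .nil (.node [(70,1)] .nil .nil))
    (.node [] .nil (.node [(140,1)] .nil .nil))) (.node [] (.node [(5,(-1))] .nil .nil) (.node []
    (.node [(58,1)] .nil .nil) .nil)))) (.node [] (.node [] (.node [] .nil (.node [] (.node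
    [(29,1)] .nil .nil) (.node [(122,1)] .nil .nil))) (.node [] (.node [(4,(-1))] .nil .nil) .nil))
    (.node [] (.node [] (.node [] .nil (.node [(72,1)] .nil .nil)) (.node [] (.node [(45,1)] .nil
    .nil) (.node [(158,1)] .nil .nil))) (.node [] .nil (.node [] (.node [(63,1)] .nil .nil)
    .nil))))) (.node [] (.node [] (.node [] (.node [] (.node [] .nil (.node [(67,(-1))] .nil .nil))
    (.node [] (.node [(20,1)] .nil .nil) .nil)) (.node [] (.node [] .nil (.node [(75,(-1))] .nil
    .nil)) (.node [(10,1)] (.node [(53,(-1))] .nil .nil) .nil))) (.node [] (.node [] .nil (.node []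
    (.node [(42,1)] .nil .nil) (.node [(151,1)] .nil .nil))) (.node [] .nil (.node [] (.node
    [(61,1)] .nil .nil) .nil)))) (.node [] (.node [] (.node [] .nil (.node [] (.node [(34,1)] .nil
    .nil) (.node [(129,1)] .nil .nil))) (.node [] (.node [] .nil (.node [(76,1)] .nil .nil)) .nil))
    (.node [] (.node [] (.node [(1,(-1))] .nil .nil) (.node [(9,(-1))] (.node [(48,(-1))] .nil
    .nil) (.node [(161,1)] .nil .nil))) .nil)))))

/-- table -/
noncomputable def auxE8Chain14 : Tr (List (ℕ × ℤ)) :=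
    (.node [] (.node [] (.node [] (.node [] (.node [] (.node [] .nil (.node [] (.node [(33,1)] .nil
    .nil) (.node [(97,1)] .nil .nil))) (.node [] (.node [] (.node [(17,1)] .nil .nil) (.node
    [(81,(-1))] .nil .nil)) (.node [] .nil (.node [(168,(-1))] .nil .nil)))) (.node [] (.node []
    (.node [(0,1)] .nil .nil) .nil) (.node [] (.node [] (.node [(25,1)] .nil .nil) (.node [(89,1)]
    .nil .nil)) .nil))) (.node [] (.node [] .nil (.node [] (.node [] (.node [(21,1)] .nil .nil)
    (.node [(85,(-1))] .nil .nil)) .nil)) (.node [] (.node [] (.node [(4,1)] .nil .nil) (.node []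
    .nil (.node [(164,(-1))] .nil .nil))) (.node [] (.node [] (.node [(29,(-1))] .nil .nil) (.node
    [(93,1)] .nil .nil)) .nil)))) (.node [] (.node [] (.node [] (.node [] .nil (.node [] (.node
    [(35,1)] .nil .nil) .nil)) (.node [] (.node [] (.node [(19,1)] .nil .nil) (.node [(83,(-1))]
    .nil .nil)) .nil)) (.node [] (.node [] (.node [(2,1)] .nil .nil) (.node [] .nil (.node
    [(162,(-1))] .nil .nil))) (.node [] (.node [] (.node [(27,(-1))] .nil .nil) (.node [(91,1)]
    .nil .nil)) .nil))) (.node [] (.node [] .nil (.node [] (.node [] (.node [(23,1)] .nil .nil)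
    (.node [(87,(-1))] .nil .nil)) .nil)) (.node [] (.node [] (.node [(6,1)] (.node [(15,1)] .nil
    .nil) (.node [(79,1)] .nil .nil)) (.node [] .nil (.node [(166,(-1))] .nil .nil))) (.node []
    (.node [] (.node [(31,(-1))] .nil .nil) (.node [(95,1)] .nil .nil)) .nil))))) (.node [] (.node
    [] (.node [] (.node [] (.node [] .nil (.node [] (.node [(34,(-1))] .nil .nil) (.node
    [(98,(-1))] .nil .nil))) (.node [] (.node [] (.node [(18,(-1))] .nil .nil) (.node [(82,1)] .nil
    .nil)) .nil)) (.node [] (.node [] (.node [(1,1)] .nil .nil) .nil) (.node [] (.node [] (.node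
    [(26,1)] .nil .nil) (.node [(90,(-1))] .nil .nil)) .nil))) (.node [] (.node [] .nil (.node []
    (.node [] (.node [(22,(-1))] .nil .nil) (.node [(86,1)] .nil .nil)) .nil)) (.node [] (.node []
    (.node [(5,1)] .nil (.node [(78,(-1))] .nil .nil)) (.node [] .nil (.node [(165,(-1))] .nil
    .nil))) (.node [] (.node [] (.node [(30,1)] .nil .nil) (.node [(94,(-1))] .nil .nil)) .nil))))
    (.node [] (.node [] (.node [] .nil (.node [] (.node [] (.node [(20,(-1))] .nil .nil) (.node
    [(84,1)] .nil .nil)) .nil)) (.node [] (.node [] (.node [(3,1)] .nil .nil) (.node [] .nil (.node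
    [(163,(-1))] .nil .nil))) (.node [] (.node [] (.node [(28,1)] .nil .nil) (.node [(92,(-1))]
    .nil .nil)) .nil))) (.node [] (.node [] .nil (.node [] (.node [] (.node [(24,(-1))] .nil .nil)
    (.node [(88,(-1))] .nil .nil)) .nil)) (.node [] (.node [] (.node [] (.node [(16,(-1))] .nil
    .nil) (.node [(80,(-1))] .nil .nil)) (.node [] .nil (.node [(167,(-1))] .nil .nil))) (.node []
    (.node [] (.node [(32,1)] .nil .nil) (.node [(96,(-1))] .nil .nil)) .nil))))))

/-- table -/
noncomputable def auxE8Chain15 : Tr (List (ℕ × ℤ)) :=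
    (.node [] (.node [] (.node [] (.node [] (.node [] (.node [] .nil (.node [] (.node [(43,1)] .nil
    .nil) (.node [(109,(-1))] .nil .nil))) (.node [] .nil (.node [] .nil (.node [(173,1)] .nil
    .nil)))) (.node [] (.node [] (.node [] .nil (.node [(83,(-1))] .nil .nil)) (.node [] .nil
    (.node [(162,(-1))] .nil .nil))) (.node [] (.node [] .nil (.node [(100,1)] .nil .nil)) .nil)))
    (.node [] (.node [] (.node [] (.node [(1,(-1))] (.node [(17,(-1))] .nil .nil) (.node [(79,1)]
    .nil .nil)) .nil) .nil) (.node [] (.node [] (.node [] (.node [(24,(-1))] .nil .nil) (.node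
    [(87,(-1))] .nil .nil)) (.node [] .nil (.node [(169,1)] .nil .nil))) (.node [] (.node [] (.node
    [(39,(-1))] .nil .nil) (.node [(105,(-1))] .nil .nil)) .nil)))) (.node [] (.node [] (.node []
    (.node [] .nil (.node [] (.node [(45,1)] .nil .nil) (.node [(141,(-1))] .nil .nil))) .nil)
    (.node [] (.node [] (.node [] (.node [(22,(-1))] .nil .nil) (.node [(85,(-1))] .nil .nil))
    .nil) (.node [] (.node [] (.node [(37,(-1))] .nil .nil) (.node [(102,1)] .nil .nil)) .nil)))
    (.node [] (.node [] (.node [] (.node [(3,(-1))] (.node [(19,(-1))] .nil .nil) (.node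
    [(81,(-1))] .nil .nil)) .nil) .nil) (.node [] (.node [] (.node [(8,1)] .nil .nil) (.node []
    .nil (.node [(171,1)] .nil .nil))) (.node [] (.node [] (.node [(41,(-1))] .nil .nil) (.node
    [(107,(-1))] .nil .nil)) .nil))))) (.node [] (.node [] (.node [] (.node [] (.node [] .nil
    (.node [] (.node [(44,(-1))] .nil .nil) .nil)) .nil) (.node [] (.node [] (.node [] (.node
    [(21,1)] .nil .nil) (.node [(84,1)] .nil .nil)) (.node [] .nil (.node [(163,(-1))] .nil .nil)))
    (.node [] (.node [] (.node [(36,1)] .nil .nil) (.node [(101,(-1))] .nil .nil)) .nil))) (.node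
    [] (.node [] (.node [] (.node [(2,(-1))] (.node [(18,1)] .nil .nil) (.node [(80,(-1))] .nil
    .nil)) .nil) .nil) (.node [] (.node [] (.node [(7,1)] (.node [(25,1)] .nil .nil) .nil) (.node
    [] .nil (.node [(170,1)] .nil .nil))) (.node [] (.node [] (.node [(40,1)] .nil .nil) (.node
    [(106,1)] .nil .nil)) .nil)))) (.node [] (.node [] (.node [] (.node [] (.node [(0,(-1))] (.node
    [(16,1)] .nil .nil) (.node [(78,(-1))] .nil .nil)) (.node [(14,1)] .nil .nil)) .nil) (.node []
    (.node [] (.node [] (.node [(23,1)] .nil .nil) (.node [(86,1)] .nil .nil)) .nil) (.node []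
    (.node [] (.node [(38,1)] .nil .nil) (.node [(103,(-1))] .nil .nil)) .nil))) (.node [] (.node
    [] (.node [] (.node [(4,(-1))] (.node [(20,1)] .nil .nil) (.node [(82,1)] .nil .nil)) .nil)
    (.node [] (.node [] .nil (.node [(99,(-1))] .nil .nil)) .nil)) (.node [] (.node [] .nil (.node
    [] .nil (.node [(172,1)] .nil .nil))) (.node [] (.node [] (.node [(42,1)] .nil .nil) (.node
    [(108,1)] .nil .nil)) .nil))))))

/-- table -/
noncomputable def auxE8Chain16 : Tr (List (ℕ × ℤ)) :=
    (.node [] (.node [] (.node [] (.node [] (.node [] (.node [] (.node [(1,1)] (.node [(18,(-1))]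
    .nil .nil) (.node [(81,(-1))] .nil .nil)) (.node [] (.node [(49,1)] .nil .nil) .nil)) (.node []
    .nil (.node [] .nil (.node [(177,(-1))] .nil .nil)))) (.node [] (.node [] (.node [] (.node
    [(21,1)] .nil .nil) .nil) .nil) (.node [] (.node [] (.node [(39,(-1))] .nil .nil) .nil) .nil)))
    (.node [] (.node [] .nil (.node [] (.node [] .nil (.node [(100,1)] .nil .nil)) .nil)) (.node []
    (.node [] (.node [(7,(-1))] (.node [(28,(-1))] .nil .nil) (.node [(91,(-1))] .nil .nil)) .nil)
    (.node [] (.node [] .nil (.node [(110,1)] .nil .nil)) .nil)))) (.node [] (.node [] (.node []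
    (.node [] (.node [(3,1)] (.node [(20,(-1))] .nil .nil) (.node [(83,(-1))] .nil .nil)) (.node
    [(14,(-1))] (.node [(51,1)] .nil .nil) (.node [(142,1)] .nil .nil))) .nil) (.node [] (.node []
    (.node [] (.node [(26,(-1))] .nil .nil) (.node [(89,(-1))] .nil .nil)) .nil) .nil)) (.node []
    (.node [] .nil (.node [] (.node [] (.node [(37,(-1))] .nil .nil) (.node [(102,1)] .nil .nil))
    .nil)) (.node [] (.node [] (.node [(9,1)] .nil .nil) (.node [(15,1)] .nil (.node [(175,(-1))]
    .nil .nil))) (.node [] (.node [] (.node [(47,(-1))] .nil .nil) (.node [(112,1)] .nil .nil))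
    (.node [] (.node [(79,1)] .nil .nil) .nil)))))) (.node [] (.node [] (.node [] (.node [] (.node
    [] (.node [(2,1)] (.node [(19,1)] .nil .nil) (.node [(82,1)] .nil .nil)) (.node [] (.node
    [(50,(-1))] .nil .nil) (.node [(130,(-1))] .nil .nil))) .nil) (.node [] (.node [] (.node []
    .nil (.node [(88,1)] .nil .nil)) (.node [] .nil (.node [(164,1)] .nil .nil))) .nil)) (.node []
    (.node [] .nil (.node [] (.node [] (.node [(36,1)] .nil .nil) (.node [(101,(-1))] .nil .nil))
    .nil)) (.node [] (.node [] (.node [] (.node [(29,1)] .nil .nil) .nil) (.node [] .nil (.node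
    [(174,(-1))] .nil .nil))) (.node [] (.node [] (.node [(46,1)] .nil .nil) (.node [(111,(-1))]
    .nil .nil)) (.node [] (.node [(78,(-1))] .nil .nil) .nil))))) (.node [] (.node [] (.node []
    .nil (.node [] (.node [] .nil (.node [(99,(-1))] .nil .nil)) .nil)) (.node [] (.node [] (.node
    [] (.node [(27,1)] .nil .nil) (.node [(90,1)] .nil .nil)) (.node [] .nil (.node [(169,1)] .nil
    .nil))) (.node [] (.node [] .nil (.node [(104,(-1))] .nil .nil)) .nil))) (.node [] (.node []
    (.node [] (.node [(5,(-1))] .nil .nil) (.node [] .nil (.node [(162,(-1))] .nil .nil))) (.node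
    [] (.node [] (.node [(38,1)] .nil .nil) .nil) .nil)) (.node [] (.node [] .nil (.node [] .nil
    (.node [(176,(-1))] .nil .nil))) (.node [(0,1)] (.node [] (.node [(48,1)] .nil .nil) (.node
    [(113,(-1))] .nil .nil)) (.node [(17,1)] (.node [(80,(-1))] .nil .nil) .nil)))))))

/-- table -/
noncomputable def auxE8Chain17 : Tr (List (ℕ × ℤ)) :=
    (.node [] (.node [] (.node [] (.node [] (.node [] (.node [] (.node [] .nil (.node [(84,(-1))]
    .nil .nil)) (.node [] (.node [(52,1)] .nil .nil) (.node [(126,(-1))] .nil .nil))) (.node []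
    (.node [] .nil (.node [(99,(-1))] .nil .nil)) (.node [] .nil (.node [(180,1)] .nil .nil))))
    (.node [] (.node [] (.node [] (.node [(22,1)] .nil .nil) (.node [(90,1)] .nil .nil)) .nil)
    (.node [] (.node [] (.node [(42,(-1))] .nil .nil) .nil) .nil))) (.node [] (.node [] .nil (.node
    [] (.node [] (.node [(36,1)] .nil .nil) .nil) .nil)) (.node [] (.node [] (.node [] (.node
    [(31,(-1))] .nil .nil) (.node [(92,(-1))] .nil .nil)) (.node [] .nil (.node [(174,(-1))] .nil
    .nil))) (.node [(0,(-1))] (.node [] (.node [(48,1)] .nil .nil) (.node [(114,(-1))] .nil .nil))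
    (.node [(18,1)] (.node [(80,(-1))] .nil .nil) .nil))))) (.node [] (.node [] (.node [] (.node []
    (.node [(4,1)] .nil (.node [(86,(-1))] .nil .nil)) (.node [] (.node [(54,1)] .nil .nil) (.node
    [(143,(-1))] .nil .nil))) (.node [] (.node [] .nil (.node [(101,(-1))] .nil .nil)) (.node
    [(16,1)] .nil .nil))) (.node [] .nil (.node [] (.node [] (.node [(46,1)] .nil .nil) (.node
    [(104,(-1))] .nil .nil)) (.node [] (.node [(78,(-1))] .nil .nil) .nil)))) (.node [] (.node []
    (.node [] (.node [(5,1)] .nil (.node [(88,1)] .nil .nil)) (.node [] .nil (.node [(162,(-1))]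
    .nil .nil))) (.node [] (.node [] (.node [(40,(-1))] .nil .nil) (.node [(103,1)] .nil .nil))
    .nil)) (.node [] (.node [] (.node [(10,1)] .nil .nil) (.node [] .nil (.node [(178,1)] .nil
    .nil))) (.node [(2,(-1))] (.node [] .nil (.node [(116,(-1))] .nil .nil)) (.node [(20,1)] .nil
    .nil)))))) (.node [] (.node [] (.node [] (.node [] (.node [] (.node [] .nil (.node [(85,1)]
    .nil .nil)) (.node [(14,1)] (.node [(53,(-1))] .nil .nil) (.node [(131,1)] .nil .nil))) (.node
    [] (.node [] .nil (.node [(100,1)] .nil .nil)) .nil)) (.node [] (.node [] (.node [] (.node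
    [(26,(-1))] .nil .nil) .nil) (.node [] .nil (.node [(165,(-1))] .nil .nil))) .nil)) (.node []
    .nil (.node [] (.node [] (.node [] (.node [(32,1)] .nil .nil) .nil) (.node [(15,(-1))] .nil
    .nil)) (.node [(1,(-1))] (.node [] .nil (.node [(115,1)] .nil .nil)) (.node [(19,(-1))] .nil
    .nil))))) (.node [] (.node [] .nil (.node [] (.node [] (.node [(7,1)] (.node [(30,1)] .nil
    .nil) .nil) (.node [] .nil (.node [(170,(-1))] .nil .nil))) (.node [] (.node [] (.node
    [(47,(-1))] .nil .nil) .nil) (.node [] (.node [(79,1)] .nil .nil) .nil)))) (.node [] (.node []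
    (.node [] (.node [] .nil (.node [(89,(-1))] .nil .nil)) .nil) (.node [] (.node [] (.node
    [(41,1)] .nil .nil) .nil) .nil)) (.node [] (.node [] .nil (.node [] .nil (.node [(179,1)] .nil
    .nil))) .nil)))))

/-- table -/
noncomputable def auxE8Chain18 : Tr (List (ℕ × ℤ)) :=
    (.node [] (.node [] (.node [] (.node [] (.node [] (.node [] .nil (.node [(14,(-1))] .nil (.node
    [(127,1)] .nil .nil))) (.node [] .nil (.node [] .nil (.node [(182,(-1))] .nil .nil)))) (.node
    [] (.node [] (.node [] (.node [(23,1)] .nil .nil) (.node [(91,1)] .nil .nil)) .nil) (.node []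
    (.node [] (.node [(44,(-1))] .nil .nil) .nil) .nil))) (.node [] (.node [] (.node [] (.node []
    .nil (.node [(88,1)] .nil .nil)) .nil) (.node [] (.node [] (.node [(37,1)] .nil .nil) .nil)
    .nil)) (.node [] (.node [] (.node [] (.node [(33,(-1))] .nil .nil) .nil) (.node [(15,1)] .nil
    (.node [(175,1)] .nil .nil))) (.node [] (.node [] (.node [(50,1)] .nil .nil) (.node [(117,1)]
    .nil .nil)) (.node [] (.node [(82,(-1))] .nil .nil) .nil))))) (.node [] (.node [] (.node []
    (.node [] (.node [] .nil (.node [(87,(-1))] .nil .nil)) (.node [] (.node [(55,1)] .nil .nil)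
    (.node [(144,1)] .nil .nil))) (.node [] (.node [] .nil (.node [(102,(-1))] .nil .nil)) .nil))
    (.node [] (.node [] (.node [(7,(-1))] (.node [(30,1)] .nil .nil) .nil) .nil) (.node [(0,1)]
    .nil (.node [(19,1)] .nil .nil)))) (.node [] .nil (.node [] (.node [] (.node [(11,1)] .nil
    (.node [(99,(-1))] .nil .nil)) .nil) (.node [(3,(-1))] (.node [] (.node [(52,1)] .nil .nil)
    .nil) (.node [] (.node [(84,(-1))] .nil .nil) .nil)))))) (.node [] (.node [] (.node [] (.node
    [] (.node [] (.node [(4,(-1))] .nil .nil) (.node [] .nil (.node [(132,(-1))] .nil .nil)))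
    (.node [] .nil (.node [(16,(-1))] .nil .nil))) (.node [] (.node [] (.node [] (.node [(27,(-1))]
    .nil .nil) .nil) (.node [] .nil (.node [(166,1)] .nil .nil))) (.node [] (.node [] (.node
    [(46,1)] .nil .nil) (.node [(104,(-1))] .nil .nil)) (.node [] (.node [(78,(-1))] .nil .nil)
    .nil)))) (.node [] (.node [] (.node [] (.node [(5,(-1))] .nil (.node [(89,(-1))] .nil .nil))
    (.node [] .nil (.node [(162,(-1))] .nil .nil))) (.node [] (.node [] (.node [(40,(-1))] .nil
    .nil) (.node [(103,1)] .nil .nil)) (.node [(17,1)] .nil .nil))) (.node [] (.node [] (.node []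
    (.node [(34,1)] .nil .nil) .nil) (.node [] .nil (.node [(178,1)] .nil .nil))) (.node [] (.node
    [] .nil (.node [(118,(-1))] .nil .nil)) .nil)))) (.node [] (.node [] .nil (.node [] (.node []
    (.node [] .nil (.node [(92,(-1))] .nil .nil)) (.node [] .nil (.node [(171,1)] .nil .nil)))
    (.node [(1,1)] (.node [] (.node [(49,(-1))] .nil .nil) .nil) (.node [(20,(-1))] (.node [(81,1)]
    .nil .nil) .nil)))) (.node [] (.node [] .nil (.node [] (.node [] (.node [(43,1)] .nil .nil)
    .nil) .nil)) (.node [] (.node [] (.node [] .nil (.node [(100,1)] .nil .nil)) (.node [] .nil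
    (.node [(181,(-1))] .nil .nil))) (.node [] (.node [] (.node [(53,(-1))] .nil .nil) (.node
    [(123,(-1))] .nil .nil)) (.node [] (.node [(85,1)] .nil .nil) .nil)))))))

/-- table -/
noncomputable def auxE8Chain19 : Tr (List (ℕ × ℤ)) :=
    (.node [] (.node [] (.node [] (.node [] (.node [] (.node [] (.node [(4,1)] .nil .nil) (.node []
    .nil (.node [(128,(-1))] .nil .nil))) (.node [] .nil (.node [(16,1)] .nil (.node [(183,1)] .nil
    .nil)))) (.node [] (.node [] (.node [] (.node [(24,1)] .nil .nil) .nil) .nil) (.node [] (.node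
    [] (.node [(45,(-1))] .nil .nil) (.node [(104,(-1))] .nil .nil)) .nil))) (.node [] (.node []
    (.node [] (.node [(5,1)] .nil .nil) (.node [] .nil (.node [(162,(-1))] .nil .nil))) (.node []
    (.node [] (.node [(38,1)] .nil .nil) (.node [(103,1)] .nil .nil)) (.node [(17,(-1))] .nil
    .nil))) (.node [] (.node [] .nil (.node [] .nil (.node [(176,(-1))] .nil .nil))) (.node []
    (.node [] (.node [(51,1)] .nil .nil) (.node [(119,(-1))] .nil .nil)) (.node [] (.node
    [(83,(-1))] .nil .nil) .nil))))) (.node [] (.node [] (.node [] (.node [] .nil (.node [] .nil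
    (.node [(145,(-1))] .nil .nil))) .nil) (.node [] (.node [] (.node [] (.node [(31,1)] .nil .nil)
    (.node [(92,(-1))] .nil .nil)) .nil) (.node [] (.node [] (.node [(49,(-1))] .nil .nil) .nil)
    (.node [] (.node [(81,1)] .nil .nil) .nil)))) (.node [] (.node [] .nil (.node [] (.node []
    (.node [(43,1)] .nil .nil) .nil) .nil)) (.node [] (.node [] (.node [(12,1)] .nil .nil) (.node
    [] .nil (.node [(181,(-1))] .nil .nil))) (.node [] (.node [] .nil (.node [(121,(-1))] .nil
    .nil)) .nil))))) (.node [] (.node [] (.node [] (.node [] (.node [] (.node [] .nil (.node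
    [(87,(-1))] .nil .nil)) (.node [] (.node [(55,1)] .nil .nil) (.node [(133,1)] .nil .nil)))
    (.node [] (.node [] .nil (.node [(102,(-1))] .nil .nil)) .nil)) (.node [] (.node [] (.node
    [(7,1)] (.node [(28,(-1))] .nil .nil) .nil) (.node [] .nil (.node [(167,(-1))] .nil .nil)))
    (.node [(0,(-1))] (.node [] (.node [(47,1)] .nil .nil) .nil) (.node [(20,1)] (.node [(79,(-1))]
    .nil .nil) .nil)))) (.node [] (.node [] (.node [] (.node [] .nil (.node [(90,(-1))] .nil .nil))
    .nil) (.node [] (.node [] (.node [(41,(-1))] .nil .nil) .nil) .nil)) (.node [] (.node [] (.node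
    [] (.node [(35,1)] .nil .nil) (.node [(99,(-1))] .nil .nil)) (.node [] .nil (.node [(179,(-1))]
    .nil .nil))) (.node [(3,1)] (.node [] (.node [(52,1)] .nil .nil) .nil) (.node [] (.node
    [(84,(-1))] .nil .nil) .nil))))) (.node [] (.node [] (.node [] (.node [] (.node [] .nil (.node
    [(88,1)] .nil .nil)) .nil) .nil) (.node [] (.node [] (.node [] (.node [(33,(-1))] .nil .nil)
    .nil) (.node [(15,(-1))] .nil (.node [(172,(-1))] .nil .nil))) (.node [(2,1)] .nil .nil)))
    (.node [] (.node [] (.node [] (.node [] .nil (.node [(91,1)] .nil .nil)) .nil) (.node [] .nil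
    (.node [(18,1)] .nil .nil))) (.node [] (.node [] (.node [] .nil (.node [(101,1)] .nil .nil))
    .nil) (.node [] (.node [(14,1)] (.node [(54,(-1))] .nil .nil) (.node [(124,1)] .nil .nil))
    (.node [] (.node [(86,1)] .nil .nil) .nil)))))))

/-- table -/
noncomputable def auxE8Chain20 : Tr (List (ℕ × ℤ)) :=
    (.node [] (.node [] (.node [] (.node [] (.node [] (.node [] (.node [] .nil (.node [(87,(-1))]
    .nil .nil)) (.node [] (.node [(55,1)] .nil .nil) (.node [(129,1)] .nil .nil))) (.node [] (.node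
    [] .nil (.node [(102,(-1))] .nil .nil)) .nil)) (.node [] (.node [] (.node [(7,(-1))] (.node
    [(25,1)] .nil .nil) .nil) .nil) (.node [] .nil (.node [(19,1)] .nil .nil)))) (.node [] (.node
    [] (.node [] (.node [] .nil (.node [(90,(-1))] .nil .nil)) .nil) (.node [] (.node [] (.node
    [(39,1)] .nil .nil) .nil) .nil)) (.node [] (.node [] (.node [] (.node [(35,1)] .nil .nil) .nil)
    (.node [] .nil (.node [(177,1)] .nil .nil))) (.node [(3,(-1))] .nil .nil)))) (.node [] (.node
    [] (.node [] (.node [] .nil (.node [] .nil (.node [(146,1)] .nil .nil))) .nil) (.node [] (.node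
    [] (.node [] (.node [(32,1)] .nil .nil) .nil) (.node [(15,1)] .nil .nil)) (.node [(2,(-1))]
    (.node [] (.node [(50,(-1))] .nil .nil) .nil) (.node [] (.node [(82,1)] .nil .nil) .nil))))
    (.node [] (.node [] (.node [] (.node [] .nil (.node [(91,1)] .nil .nil)) .nil) (.node [] (.node
    [] (.node [(44,1)] .nil .nil) .nil) (.node [(18,(-1))] .nil .nil))) (.node [] (.node [] (.node
    [(13,1)] .nil (.node [(101,1)] .nil .nil)) (.node [] .nil (.node [(182,1)] .nil .nil))) (.node
    [] (.node [(14,(-1))] (.node [(54,(-1))] .nil .nil) (.node [(122,1)] .nil .nil)) (.node []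
    (.node [(86,1)] .nil .nil) .nil)))))) (.node [] (.node [] (.node [] (.node [] (.node [] .nil
    (.node [] .nil (.node [(134,(-1))] .nil .nil))) .nil) (.node [] (.node [] (.node [] (.node
    [(29,(-1))] .nil .nil) (.node [(92,(-1))] .nil .nil)) (.node [] .nil (.node [(168,1)] .nil
    .nil))) (.node [(1,(-1))] (.node [] (.node [(48,1)] .nil .nil) .nil) (.node [] (.node
    [(80,(-1))] .nil .nil) .nil)))) (.node [] (.node [] .nil (.node [] (.node [] (.node [(42,(-1))]
    .nil .nil) .nil) .nil)) (.node [] (.node [] (.node [] .nil (.node [(100,(-1))] .nil .nil))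
    (.node [] .nil (.node [(180,1)] .nil .nil))) (.node [] (.node [] (.node [(53,1)] .nil .nil)
    (.node [(120,(-1))] .nil .nil)) (.node [] (.node [(85,(-1))] .nil .nil) .nil))))) (.node []
    (.node [] (.node [] (.node [] (.node [(5,(-1))] .nil (.node [(89,1)] .nil .nil)) (.node [] .nil
    (.node [(162,(-1))] .nil .nil))) (.node [] (.node [] .nil (.node [(103,1)] .nil .nil)) (.node
    [(17,1)] .nil .nil))) (.node [] (.node [] (.node [] (.node [(34,(-1))] .nil .nil) .nil) (.node
    [] .nil (.node [(173,1)] .nil .nil))) (.node [] (.node [] (.node [(51,1)] .nil .nil) .nil)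
    (.node [] (.node [(83,(-1))] .nil .nil) .nil)))) (.node [] (.node [] .nil (.node [] (.node []
    (.node [(45,(-1))] .nil .nil) (.node [(104,(-1))] .nil .nil)) .nil)) (.node [] (.node [] .nil
    (.node [(16,(-1))] .nil (.node [(183,1)] .nil .nil))) (.node [(4,(-1))] (.node [] .nil (.node
    [(125,(-1))] .nil .nil)) .nil))))))

/-- table -/
noncomputable def auxE8Chain21 : Tr (List (ℕ × ℤ)) :=
    (.node [] (.node [] (.node [] (.node [] (.node [] (.node [] (.node [] (.node [(23,(-1))] .nil
    .nil) .nil) (.node [] (.node [(59,1)] .nil .nil) (.node [(135,(-1))] .nil .nil))) (.node []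
    (.node [] (.node [(36,1)] .nil .nil) .nil) (.node [] .nil (.node [(187,1)] .nil .nil)))) (.node
    [] (.node [] .nil (.node [(15,1)] .nil (.node [(164,1)] .nil .nil))) (.node [(3,(-1))] (.node
    [] .nil (.node [(111,(-1))] .nil .nil)) (.node [] (.node [(83,(-1))] .nil .nil) .nil)))) (.node
    [] (.node [] (.node [] (.node [] (.node [(26,1)] .nil .nil) .nil) .nil) (.node [] (.node []
    .nil (.node [(106,(-1))] .nil .nil)) (.node [] (.node [(79,1)] .nil .nil) .nil))) (.node []
    (.node [] (.node [(8,(-1))] .nil (.node [(96,(-1))] .nil .nil)) .nil) .nil))) (.node [] (.node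
    [] (.node [] (.node [] (.node [] (.node [(25,(-1))] .nil .nil) .nil) (.node [] (.node [(61,1)]
    .nil .nil) (.node [(147,(-1))] .nil .nil))) (.node [] (.node [] (.node [(38,1)] .nil .nil)
    .nil) .nil)) (.node [] (.node [] (.node [] .nil (.node [(94,(-1))] .nil .nil)) (.node [] .nil
    (.node [(169,1)] .nil .nil))) (.node [] (.node [] .nil (.node [(113,(-1))] .nil .nil)) .nil)))
    (.node [] (.node [] (.node [] (.node [] (.node [(28,1)] .nil .nil) .nil) .nil) (.node
    [(1,(-1))] (.node [] .nil (.node [(108,(-1))] .nil .nil)) (.node [] (.node [(81,(-1))] .nil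
    .nil) .nil))) (.node [] (.node [] .nil (.node [] .nil (.node [(185,1)] .nil .nil))) (.node []
    (.node [] (.node [(57,(-1))] .nil .nil) .nil) .nil))))) (.node [] (.node [] (.node [] (.node []
    (.node [] (.node [] (.node [(24,1)] .nil .nil) .nil) (.node [] (.node [(60,(-1))] .nil .nil)
    (.node [(136,(-1))] .nil .nil))) (.node [] (.node [] (.node [(37,(-1))] .nil .nil) .nil) .nil))
    (.node [] (.node [] (.node [] .nil (.node [(93,1)] .nil .nil)) (.node [(16,1)] .nil .nil))
    (.node [] (.node [] .nil (.node [(112,1)] .nil .nil)) .nil))) (.node [] (.node [] (.node []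
    (.node [] (.node [(27,(-1))] .nil .nil) .nil) .nil) (.node [(0,(-1))] (.node [] .nil (.node
    [(107,1)] .nil .nil)) (.node [] (.node [(80,(-1))] .nil .nil) .nil))) (.node [] (.node []
    (.node [(9,(-1))] .nil .nil) (.node [] .nil (.node [(184,1)] .nil .nil))) (.node [] (.node
    [(14,1)] (.node [(56,1)] .nil .nil) .nil) .nil)))) (.node [] (.node [] (.node [] .nil (.node []
    (.node [] (.node [(39,(-1))] .nil .nil) (.node [(105,1)] .nil .nil)) (.node [] (.node
    [(78,(-1))] .nil .nil) .nil))) (.node [] (.node [] (.node [] .nil (.node [(95,1)] .nil .nil))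
    .nil) .nil)) (.node [] (.node [] (.node [] (.node [(6,(-1))] (.node [(29,(-1))] .nil .nil)
    .nil) (.node [] .nil (.node [(163,1)] .nil .nil))) (.node [(2,(-1))] (.node [] .nil (.node
    [(110,1)] .nil .nil)) (.node [] (.node [(82,1)] .nil .nil) .nil))) (.node [] (.node [] .nil
    (.node [] .nil (.node [(186,1)] .nil .nil))) (.node [] (.node [] (.node [(58,1)] .nil .nil)
    .nil) (.node [(22,1)] .nil .nil)))))))

/-- table -/
noncomputable def auxE8Chain22 : Tr (List (ℕ × ℤ)) :=
    (.node [] (.node [] (.node [] (.node [] (.node [] (.node [] .nil (.node [] (.node [(62,1)] .nil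
    .nil) .nil)) (.node [] (.node [] .nil (.node [(105,1)] .nil .nil)) (.node [] (.node [(78,(-1))]
    .nil .nil) (.node [(190,(-1))] .nil .nil)))) (.node [] (.node [] (.node [] .nil (.node [(95,1)]
    .nil .nil)) (.node [] .nil (.node [(165,(-1))] .nil .nil))) (.node [(4,(-1))] (.node [] .nil
    (.node [(115,1)] .nil .nil)) (.node [] (.node [(86,(-1))] .nil .nil) .nil)))) (.node [] (.node
    [] .nil (.node [(2,1)] .nil .nil)) (.node [] (.node [] (.node [] .nil (.node [(97,(-1))] .nil
    .nil)) (.node [] .nil (.node [(184,1)] .nil .nil))) (.node [] (.node [(14,(-1))] (.node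
    [(58,1)] .nil .nil) .nil) (.node [(23,1)] .nil .nil))))) (.node [] (.node [] (.node [] (.node
    [] .nil (.node [] (.node [(64,1)] .nil .nil) (.node [(148,1)] .nil .nil))) (.node [(0,1)]
    (.node [] (.node [(41,1)] .nil .nil) (.node [(107,1)] .nil .nil)) (.node [(21,1)] (.node
    [(80,(-1))] .nil .nil) .nil))) (.node [] (.node [] .nil (.node [] .nil (.node [(170,(-1))] .nil
    .nil))) (.node [] (.node [] (.node [(56,1)] .nil .nil) .nil) .nil))) (.node [] (.node [] (.node
    [] (.node [(6,1)] (.node [(31,1)] .nil .nil) (.node [(93,1)] .nil .nil)) (.node [] .nil (.node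
    [(163,1)] .nil .nil))) (.node [] (.node [] .nil (.node [(109,(-1))] .nil .nil)) (.node []
    (.node [(84,(-1))] .nil .nil) .nil))) (.node [] (.node [] .nil (.node [] .nil (.node
    [(188,(-1))] .nil .nil))) (.node [] .nil (.node [(25,1)] .nil .nil)))))) (.node [] (.node []
    (.node [] (.node [] (.node [] .nil (.node [] (.node [(63,(-1))] .nil .nil) (.node [(137,1)]
    .nil .nil))) (.node [] (.node [] (.node [(40,(-1))] .nil .nil) (.node [(106,(-1))] .nil .nil))
    (.node [] (.node [(79,1)] .nil .nil) .nil))) (.node [] (.node [] .nil (.node [(17,1)] .nil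
    .nil)) (.node [] (.node [] .nil (.node [(116,(-1))] .nil .nil)) .nil))) (.node [] (.node []
    (.node [] (.node [] (.node [(30,(-1))] .nil .nil) .nil) .nil) .nil) (.node [] (.node [] (.node
    [(10,(-1))] .nil .nil) .nil) (.node [] .nil (.node [(24,(-1))] .nil .nil))))) (.node [] (.node
    [] (.node [] (.node [] (.node [] (.node [(26,1)] .nil .nil) .nil) .nil) (.node [(1,1)] (.node
    [] (.node [(42,(-1))] .nil .nil) .nil) .nil)) (.node [] (.node [] (.node [(8,1)] .nil .nil)
    .nil) (.node [] (.node [] (.node [(57,(-1))] .nil .nil) (.node [(126,(-1))] .nil .nil)) .nil)))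
    (.node [] (.node [] (.node [] (.node [] (.node [(32,(-1))] .nil .nil) (.node [(94,(-1))] .nil
    .nil)) (.node [(15,(-1))] .nil .nil)) (.node [] (.node [] .nil (.node [(114,(-1))] .nil .nil))
    (.node [] (.node [(85,1)] .nil .nil) .nil))) (.node [] (.node [] (.node [] (.node [(36,1)] .nil
    .nil) .nil) (.node [] .nil (.node [(189,(-1))] .nil .nil))) (.node [] (.node [] .nil (.node
    [(135,(-1))] .nil .nil)) .nil))))))

/-- table -/
noncomputable def auxE8Chain23 : Tr (List (ℕ × ℤ)) :=
    (.node [] (.node [] (.node [] (.node [] (.node [] .nil (.node [(0,(-1))] (.node [] (.node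
    [(40,(-1))] .nil .nil) .nil) (.node [] .nil (.node [(192,1)] .nil .nil)))) (.node [] (.node []
    (.node [] .nil (.node [(96,1)] .nil .nil)) (.node [] .nil (.node [(166,1)] .nil .nil))) (.node
    [] (.node [] .nil (.node [(118,(-1))] .nil .nil)) (.node [] (.node [(87,(-1))] .nil .nil)
    .nil)))) (.node [] (.node [] (.node [] (.node [] (.node [(30,(-1))] .nil .nil) (.node [(93,1)]
    .nil .nil)) .nil) (.node [(3,1)] .nil (.node [] (.node [(84,(-1))] .nil .nil) .nil))) (.node []
    (.node [] .nil (.node [] .nil (.node [(185,(-1))] .nil .nil))) (.node [] (.node [] (.node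
    [(60,1)] .nil .nil) .nil) .nil)))) (.node [] (.node [] (.node [] (.node [] .nil (.node []
    (.node [(65,1)] .nil .nil) (.node [(149,(-1))] .nil .nil))) (.node [] (.node [] (.node [(43,1)]
    .nil .nil) (.node [(108,1)] .nil .nil)) (.node [] (.node [(82,(-1))] .nil .nil) .nil))) (.node
    [] (.node [] (.node [(8,(-1))] .nil .nil) (.node [] .nil (.node [(171,1)] .nil .nil))) (.node
    [] (.node [] .nil (.node [(123,(-1))] .nil .nil)) (.node [(24,1)] .nil .nil)))) (.node []
    (.node [] (.node [] (.node [] (.node [(33,1)] .nil .nil) .nil) (.node [(15,1)] .nil .nil))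
    .nil) (.node [] (.node [] (.node [] .nil (.node [(105,1)] .nil .nil)) .nil) (.node [] (.node []
    (.node [(62,1)] .nil .nil) (.node [(135,(-1))] .nil .nil)) .nil))))) (.node [] (.node [] (.node
    [] (.node [] (.node [] .nil (.node [] .nil (.node [(138,(-1))] .nil .nil))) (.node [(1,(-1))]
    .nil (.node [(21,(-1))] (.node [(81,1)] .nil .nil) .nil))) (.node [] (.node [] .nil (.node
    [(18,1)] .nil .nil)) (.node [] (.node [] (.node [(56,1)] .nil .nil) .nil) .nil))) (.node []
    (.node [] (.node [] (.node [(6,(-1))] .nil (.node [(94,(-1))] .nil .nil)) (.node [] .nil (.node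
    [(163,1)] .nil .nil))) (.node [] (.node [] .nil (.node [(109,(-1))] .nil .nil)) (.node [(22,1)]
    (.node [(85,1)] .nil .nil) .nil))) (.node [] (.node [] (.node [(11,(-1))] .nil .nil) (.node []
    .nil (.node [(188,(-1))] .nil .nil))) .nil))) (.node [] (.node [] (.node [] (.node [] (.node []
    (.node [(27,1)] .nil .nil) .nil) .nil) (.node [] (.node [] (.node [(44,(-1))] .nil .nil) .nil)
    .nil)) (.node [] (.node [] (.node [] .nil (.node [(97,(-1))] .nil .nil)) .nil) (.node [] (.node
    [(14,1)] (.node [(59,(-1))] .nil .nil) (.node [(127,1)] .nil .nil)) (.node [(25,(-1))] .nil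
    .nil)))) (.node [] (.node [] (.node [] (.node [] (.node [(34,(-1))] .nil .nil) .nil) .nil)
    (.node [(4,1)] (.node [] .nil (.node [(117,1)] .nil .nil)) .nil)) (.node [] (.node [] (.node []
    (.node [(37,1)] .nil .nil) (.node [(106,(-1))] .nil .nil)) (.node [] (.node [(78,(-1))] .nil
    .nil) (.node [(191,1)] .nil .nil))) (.node [] (.node [] (.node [(63,(-1))] .nil .nil) .nil)
    .nil))))))

/-- table -/
noncomputable def auxE8Chain24 : Tr (List (ℕ × ℤ)) :=
    (.node [] (.node [] (.node [] (.node [] (.node [] .nil (.node [] (.node [] (.node [(41,(-1))]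
    .nil .nil) .nil) (.node [(21,1)] (.node [(81,1)] .nil .nil) (.node [(193,(-1))] .nil .nil))))
    (.node [] (.node [] .nil (.node [] .nil (.node [(167,(-1))] .nil .nil))) .nil)) (.node []
    (.node [] (.node [] (.node [(6,1)] (.node [(31,(-1))] .nil .nil) .nil) (.node [] .nil (.node
    [(163,1)] .nil .nil))) (.node [] (.node [] .nil (.node [(109,(-1))] .nil .nil)) (.node
    [(22,(-1))] .nil .nil))) (.node [] (.node [] .nil (.node [] .nil (.node [(186,1)] .nil .nil)))
    (.node [] (.node [] (.node [(61,1)] .nil .nil) .nil) .nil)))) (.node [] (.node [] (.node []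
    (.node [] .nil (.node [] .nil (.node [(150,1)] .nil .nil))) (.node [] .nil (.node [] (.node
    [(83,(-1))] .nil .nil) .nil))) (.node [] (.node [] (.node [] .nil (.node [(97,(-1))] .nil
    .nil)) (.node [] .nil (.node [(172,(-1))] .nil .nil))) (.node [] (.node [(14,(-1))] (.node
    [(59,(-1))] .nil .nil) (.node [(124,1)] .nil .nil)) .nil))) (.node [] (.node [] .nil (.node
    [(4,(-1))] .nil .nil)) (.node [] (.node [] .nil (.node [] .nil (.node [(191,1)] .nil .nil)))
    .nil)))) (.node [] (.node [] (.node [] (.node [] (.node [] .nil (.node [] (.node [(65,1)] .nil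
    .nil) (.node [(139,1)] .nil .nil))) (.node [(2,(-1))] (.node [] (.node [(43,1)] .nil .nil)
    (.node [(108,1)] .nil .nil)) .nil)) (.node [] (.node [] (.node [(8,1)] .nil .nil) (.node
    [(19,1)] .nil .nil)) (.node [] (.node [] (.node [(57,1)] .nil .nil) (.node [(121,(-1))] .nil
    .nil)) (.node [(25,1)] .nil .nil)))) (.node [] (.node [] (.node [] (.node [] (.node [(33,1)]
    .nil .nil) (.node [(95,(-1))] .nil .nil)) (.node [(15,(-1))] .nil .nil)) (.node [] .nil (.node
    [] (.node [(86,1)] .nil .nil) .nil))) (.node [] (.node [] (.node [(12,(-1))] .nil (.node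
    [(105,1)] .nil .nil)) (.node [] .nil (.node [(189,1)] .nil .nil))) (.node [] (.node [] (.node
    [(62,1)] .nil .nil) (.node [(135,(-1))] .nil .nil)) .nil)))) (.node [] (.node [] (.node []
    (.node [] (.node [] (.node [(28,1)] .nil .nil) (.node [(93,1)] .nil .nil)) .nil) (.node
    [(3,(-1))] (.node [] (.node [(45,(-1))] .nil .nil) .nil) (.node [] (.node [(84,(-1))] .nil
    .nil) .nil))) (.node [] .nil (.node [] (.node [] .nil (.node [(128,(-1))] .nil .nil)) .nil)))
    (.node [] (.node [] (.node [] (.node [] (.node [(35,(-1))] .nil .nil) (.node [(96,1)] .nil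
    .nil)) .nil) (.node [] (.node [] .nil (.node [(119,(-1))] .nil .nil)) (.node [(23,1)] (.node
    [(87,(-1))] .nil .nil) .nil))) (.node [] (.node [(0,1)] (.node [] (.node [(38,1)] .nil .nil)
    (.node [(107,(-1))] .nil .nil)) (.node [] (.node [(79,(-1))] .nil .nil) .nil)) (.node [] (.node
    [] (.node [(64,(-1))] .nil .nil) .nil) .nil))))))

/-- table -/
noncomputable def auxE8Chain25 : Tr (List (ℕ × ℤ)) :=
    (.node [] (.node [] (.node [] (.node [] (.node [] (.node [] .nil (.node [] (.node [(65,1)] .nil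
    .nil) .nil)) (.node [(2,1)] (.node [] (.node [(42,(-1))] .nil .nil) (.node [(108,1)] .nil
    .nil)) (.node [] (.node [(82,1)] .nil .nil) .nil))) (.node [] (.node [] (.node [(8,(-1))] .nil
    .nil) (.node [] .nil (.node [(168,1)] .nil .nil))) (.node [] (.node [] .nil (.node [(120,(-1))]
    .nil .nil)) (.node [(24,1)] .nil .nil)))) (.node [] (.node [] (.node [] (.node [] (.node
    [(32,(-1))] .nil .nil) (.node [(95,(-1))] .nil .nil)) (.node [(15,1)] .nil .nil)) (.node []
    .nil (.node [] (.node [(86,1)] .nil .nil) .nil))) (.node [] (.node [] .nil (.node [] .nil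
    (.node [(187,(-1))] .nil .nil))) (.node [] (.node [] .nil (.node [(135,(-1))] .nil .nil))
    .nil)))) (.node [] (.node [] (.node [] (.node [] .nil (.node [] .nil (.node [(151,(-1))] .nil
    .nil))) (.node [(3,1)] (.node [] (.node [(45,(-1))] .nil .nil) .nil) .nil)) (.node [] (.node []
    .nil (.node [] .nil (.node [(173,1)] .nil .nil))) (.node [] (.node [] (.node [(60,(-1))] .nil
    .nil) (.node [(125,(-1))] .nil .nil)) .nil))) (.node [] (.node [] (.node [] (.node [] (.node
    [(35,(-1))] .nil .nil) (.node [(96,1)] .nil .nil)) .nil) (.node [] .nil (.node [(23,(-1))]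
    (.node [(87,(-1))] .nil .nil) .nil))) (.node [] (.node [] (.node [] .nil (.node [(107,(-1))]
    .nil .nil)) (.node [] .nil (.node [(192,(-1))] .nil .nil))) (.node [] (.node [] (.node
    [(64,(-1))] .nil .nil) .nil) .nil))))) (.node [] (.node [] (.node [] (.node [] (.node [] .nil
    (.node [] .nil (.node [(140,(-1))] .nil .nil))) (.node [] (.node [] (.node [(44,1)] .nil .nil)
    .nil) (.node [] (.node [(83,(-1))] .nil .nil) .nil))) (.node [] (.node [] (.node [] .nil (.node
    [(97,(-1))] .nil .nil)) (.node [(20,1)] .nil .nil)) (.node [] (.node [(14,1)] (.node [(58,1)]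
    .nil .nil) (.node [(122,1)] .nil .nil)) .nil))) (.node [] (.node [] (.node [] (.node [] (.node
    [(34,1)] .nil .nil) .nil) .nil) (.node [(4,1)] .nil .nil)) (.node [] (.node [] (.node
    [(13,(-1))] .nil (.node [(106,1)] .nil .nil)) (.node [] .nil (.node [(190,(-1))] .nil .nil)))
    (.node [] (.node [] (.node [(63,1)] .nil .nil) .nil) .nil)))) (.node [] (.node [] (.node []
    (.node [] (.node [(6,(-1))] (.node [(29,1)] .nil .nil) (.node [(94,1)] .nil .nil)) (.node []
    .nil (.node [(163,1)] .nil .nil))) (.node [] (.node [] .nil (.node [(109,(-1))] .nil .nil))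
    (.node [(22,1)] (.node [(85,(-1))] .nil .nil) .nil))) (.node [] .nil (.node [] (.node [] (.node
    [(61,1)] .nil .nil) (.node [(129,1)] .nil .nil)) .nil))) (.node [] .nil (.node [] (.node
    [(1,1)] (.node [] (.node [(39,1)] .nil .nil) .nil) (.node [(21,(-1))] (.node [(80,(-1))] .nil
    .nil) (.node [(193,(-1))] .nil .nil))) .nil)))))

/-- table -/
noncomputable def auxE8Chain26 : Tr (List (ℕ × ℤ)) :=
    (.node [] (.node [] (.node [] (.node [] (.node [] (.node [] (.node [] (.node [(30,1)] .nil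
    .nil) (.node [(93,1)] .nil .nil)) (.node [] (.node [(66,1)] .nil .nil) (.node [(137,1)] .nil
    .nil))) (.node [] (.node [] .nil (.node [(110,(-1))] .nil .nil)) (.node [] .nil (.node
    [(196,1)] .nil .nil)))) (.node [] (.node [] .nil (.node [(17,(-1))] .nil .nil)) (.node
    [(5,(-1))] (.node [(14,1)] (.node [(58,1)] .nil .nil) .nil) (.node [] (.node [(90,(-1))] .nil
    .nil) .nil)))) (.node [] (.node [] .nil (.node [] (.node [] .nil (.node [(115,1)] .nil .nil))
    .nil)) (.node [] (.node [(0,(-1))] (.node [(10,1)] .nil (.node [(98,(-1))] .nil .nil)) (.node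
    [] (.node [(78,(-1))] .nil .nil) .nil)) (.node [] .nil (.node [(27,1)] .nil .nil))))) (.node []
    (.node [] (.node [] (.node [] (.node [(6,(-1))] (.node [(32,1)] .nil .nil) (.node [(95,1)] .nil
    .nil)) (.node [] (.node [(68,1)] .nil .nil) (.node [(152,(-1))] .nil .nil))) (.node [] (.node
    [] (.node [(47,1)] .nil .nil) (.node [(112,(-1))] .nil .nil)) .nil)) (.node [] (.node [] .nil
    (.node [] .nil (.node [(174,1)] .nil .nil))) (.node [] (.node [] .nil (.node [(130,(-1))] .nil
    .nil)) .nil))) (.node [] (.node [] (.node [] .nil (.node [] .nil (.node [(164,(-1))] .nil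
    .nil))) (.node [] (.node [] (.node [(56,1)] .nil .nil) .nil) (.node [] (.node [(88,(-1))] .nil
    .nil) .nil))) (.node [] (.node [(2,(-1))] (.node [] (.node [(36,1)] .nil .nil) .nil) (.node
    [(22,1)] (.node [(80,(-1))] .nil .nil) (.node [(194,1)] .nil .nil))) (.node [] .nil (.node
    [(29,1)] .nil .nil)))))) (.node [] (.node [] (.node [] (.node [] (.node [] (.node [] (.node
    [(31,(-1))] .nil .nil) (.node [(94,(-1))] .nil .nil)) (.node [] (.node [(67,(-1))] .nil .nil)
    .nil)) (.node [] (.node [] (.node [(46,(-1))] .nil .nil) (.node [(111,1)] .nil .nil)) .nil))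
    .nil) (.node [] (.node [] .nil (.node [] (.node [] .nil (.node [(116,(-1))] .nil .nil)) .nil))
    (.node [] (.node [(1,(-1))] .nil (.node [(21,1)] (.node [(79,1)] .nil .nil) .nil)) (.node []
    .nil (.node [(28,(-1))] .nil .nil))))) (.node [] (.node [] (.node [] .nil (.node [] (.node []
    (.node [(48,(-1))] .nil .nil) (.node [(114,(-1))] .nil .nil)) .nil)) (.node [] (.node [] (.node
    [(9,1)] .nil .nil) (.node [] .nil (.node [(184,1)] .nil .nil))) (.node [] (.node [] .nil (.node
    [(131,(-1))] .nil .nil)) .nil))) (.node [] (.node [] (.node [] .nil (.node [(16,(-1))] .nil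
    (.node [(165,(-1))] .nil .nil))) (.node [] (.node [] (.node [(57,(-1))] .nil .nil) .nil) (.node
    [] (.node [(89,1)] .nil .nil) .nil))) (.node [] (.node [] .nil (.node [] .nil (.node [(195,1)]
    .nil .nil))) (.node [] (.node [] .nil (.node [(136,1)] .nil .nil)) .nil))))))

/-- table -/
noncomputable def auxE8Chain27 : Tr (List (ℕ × ℤ)) :=
    (.node [] (.node [] (.node [] (.node [] (.node [] (.node [] .nil (.node [] .nil (.node
    [(138,(-1))] .nil .nil))) (.node [] (.node [] (.node [(46,(-1))] .nil .nil) .nil) (.node []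
    .nil (.node [(198,(-1))] .nil .nil)))) (.node [] (.node [] .nil (.node [(18,(-1))] .nil .nil))
    (.node [] (.node [] (.node [(60,1)] .nil .nil) .nil) (.node [] (.node [(91,(-1))] .nil .nil)
    .nil)))) (.node [] (.node [] .nil (.node [] (.node [] .nil (.node [(118,(-1))] .nil .nil))
    (.node [] (.node [(88,(-1))] .nil .nil) .nil))) (.node [] (.node [] (.node [(11,1)] .nil .nil)
    (.node [(21,(-1))] .nil .nil)) .nil))) (.node [] (.node [] (.node [] (.node [] (.node [] (.node
    [(34,1)] .nil .nil) (.node [(96,1)] .nil .nil)) (.node [] (.node [(69,1)] .nil .nil) (.node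
    [(153,1)] .nil .nil))) (.node [] (.node [] (.node [(49,1)] .nil .nil) (.node [(113,(-1))] .nil
    .nil)) .nil)) (.node [] (.node [(0,1)] (.node [(9,(-1))] .nil .nil) (.node [] .nil (.node
    [(175,(-1))] .nil .nil))) (.node [] .nil (.node [(28,1)] .nil .nil)))) (.node [] (.node []
    (.node [] .nil (.node [(16,1)] .nil .nil)) (.node [] (.node [] .nil (.node [(123,(-1))] .nil
    .nil)) .nil)) (.node [] (.node [(3,(-1))] (.node [] (.node [(37,1)] .nil .nil) (.node
    [(110,(-1))] .nil .nil)) (.node [(23,1)] (.node [(82,(-1))] .nil .nil) .nil)) (.node [] (.node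
    [] (.node [(66,1)] .nil .nil) (.node [(136,1)] .nil .nil)) (.node [] (.node [(93,1)] .nil .nil)
    .nil)))))) (.node [] (.node [] (.node [] (.node [] (.node [] (.node [(6,1)] (.node [(33,(-1))]
    .nil .nil) .nil) .nil) .nil) (.node [] .nil (.node [] (.node [] .nil (.node [(130,(-1))] .nil
    .nil)) .nil))) (.node [] (.node [] (.node [] .nil (.node [] .nil (.node [(164,(-1))] .nil
    .nil))) (.node [] (.node [] (.node [(56,1)] .nil .nil) .nil) (.node [(26,1)] (.node [(89,1)]
    .nil .nil) .nil))) (.node [] (.node [] .nil (.node [] (.node [(81,1)] .nil .nil) (.node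
    [(194,1)] .nil .nil))) .nil))) (.node [] (.node [] (.node [] .nil (.node [] (.node [] (.node
    [(50,(-1))] .nil .nil) (.node [(117,1)] .nil .nil)) .nil)) (.node [] (.node [(1,1)] (.node []
    .nil (.node [(98,(-1))] .nil .nil)) (.node [] (.node [(78,(-1))] .nil .nil) (.node [(185,(-1))]
    .nil .nil))) (.node [] (.node [] .nil (.node [(132,1)] .nil .nil)) (.node [(29,(-1))] .nil
    .nil)))) (.node [] (.node [] (.node [] .nil (.node [] .nil (.node [(166,1)] .nil .nil))) (.node
    [(5,1)] (.node [(14,(-1))] (.node [(59,(-1))] .nil .nil) .nil) .nil)) (.node [] (.node []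
    (.node [] .nil (.node [(111,1)] .nil .nil)) (.node [] .nil (.node [(197,(-1))] .nil .nil)))
    (.node [] (.node [] (.node [(67,(-1))] .nil .nil) .nil) (.node [(30,1)] (.node [(94,(-1))] .nil
    .nil) .nil)))))))

/-- table -/
noncomputable def auxE8Chain28 : Tr (List (ℕ × ℤ)) :=
    (.node [] (.node [] (.node [] (.node [] (.node [] (.node [] (.node [(6,(-1))] (.node
    [(33,(-1))] .nil .nil) .nil) (.node [] .nil (.node [(139,1)] .nil .nil))) (.node [] (.node []
    (.node [(47,(-1))] .nil .nil) .nil) (.node [] .nil (.node [(199,1)] .nil .nil)))) (.node []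
    (.node [] .nil (.node [(19,(-1))] .nil .nil)) (.node [] (.node [] (.node [(61,1)] .nil .nil)
    (.node [(130,(-1))] .nil .nil)) .nil))) (.node [] (.node [] (.node [] .nil (.node [] .nil
    (.node [(164,(-1))] .nil .nil))) (.node [] .nil (.node [(26,(-1))] .nil .nil))) (.node []
    (.node [] (.node [(12,1)] .nil .nil) (.node [] (.node [(81,1)] .nil .nil) .nil)) .nil))) (.node
    [] (.node [] (.node [] (.node [] (.node [] (.node [(35,1)] .nil .nil) .nil) (.node [] .nil
    (.node [(154,(-1))] .nil .nil))) .nil) (.node [] (.node [] (.node [] .nil (.node [(98,(-1))]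
    .nil .nil)) (.node [] .nil (.node [(176,1)] .nil .nil))) .nil)) (.node [] (.node [] .nil (.node
    [(5,(-1))] (.node [(14,1)] (.node [(59,(-1))] .nil .nil) (.node [(124,1)] .nil .nil)) .nil))
    (.node [] (.node [] (.node [] (.node [(38,1)] .nil .nil) .nil) (.node [(24,1)] (.node
    [(83,(-1))] .nil .nil) (.node [(197,(-1))] .nil .nil))) .nil)))) (.node [] (.node [] (.node []
    (.node [] (.node [] (.node [] .nil (.node [(96,1)] .nil .nil)) (.node [] (.node [(69,1)] .nil
    .nil) .nil)) (.node [] (.node [] (.node [(49,1)] .nil .nil) (.node [(113,(-1))] .nil .nil))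
    .nil)) (.node [] (.node [(0,(-1))] (.node [(9,1)] .nil .nil) .nil) (.node [] .nil (.node
    [(29,1)] .nil .nil)))) (.node [] (.node [] (.node [] .nil (.node [(16,(-1))] .nil .nil)) (.node
    [] (.node [] (.node [(57,1)] .nil .nil) (.node [(121,(-1))] .nil .nil)) (.node [] (.node
    [(90,1)] .nil .nil) .nil))) (.node [] (.node [(3,1)] (.node [] .nil (.node [(110,(-1))] .nil
    .nil)) (.node [] .nil (.node [(195,(-1))] .nil .nil))) (.node [] (.node [] (.node [(66,1)] .nil
    .nil) (.node [(136,1)] .nil .nil)) (.node [] (.node [(93,1)] .nil .nil) .nil))))) (.node []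
    (.node [] (.node [] .nil (.node [] (.node [] (.node [(51,(-1))] .nil .nil) (.node [(119,(-1))]
    .nil .nil)) (.node [] (.node [(88,(-1))] .nil .nil) .nil))) (.node [] (.node [(2,1)] .nil
    (.node [(21,1)] (.node [(79,(-1))] .nil .nil) (.node [(186,1)] .nil .nil))) (.node [] (.node []
    .nil (.node [(133,(-1))] .nil .nil)) .nil))) (.node [] (.node [] (.node [] .nil (.node [] .nil
    (.node [(167,(-1))] .nil .nil))) (.node [] .nil (.node [(27,1)] (.node [(91,(-1))] .nil .nil)
    .nil))) (.node [] (.node [] (.node [] .nil (.node [(112,1)] .nil .nil)) .nil) (.node [] (.node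
    [] (.node [(68,(-1))] .nil .nil) .nil) (.node [(31,1)] (.node [(95,(-1))] .nil .nil)
    .nil)))))))

/-- table -/
noncomputable def auxE8Chain29 : Tr (List (ℕ × ℤ)) :=
    (.node [] (.node [] (.node [] (.node [] (.node [] (.node [] (.node [] (.node [(34,(-1))] .nil
    .nil) (.node [(96,1)] .nil .nil)) (.node [] (.node [(69,1)] .nil .nil) (.node [(140,(-1))] .nil
    .nil))) (.node [] (.node [] (.node [(48,(-1))] .nil .nil) (.node [(113,(-1))] .nil .nil))
    .nil)) (.node [] (.node [] (.node [(9,(-1))] .nil .nil) (.node [(20,(-1))] .nil .nil)) (.node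
    [] .nil (.node [(28,1)] .nil .nil)))) (.node [] (.node [] (.node [] .nil (.node [(16,1)] .nil
    .nil)) (.node [] (.node [] .nil (.node [(120,(-1))] .nil .nil)) (.node [] (.node [(90,1)] .nil
    .nil) .nil))) (.node [] (.node [(3,(-1))] (.node [(13,1)] .nil .nil) (.node [] (.node [(82,1)]
    .nil .nil) .nil)) (.node [] (.node [] .nil (.node [(136,1)] .nil .nil)) .nil)))) (.node []
    (.node [] (.node [] (.node [] .nil (.node [] .nil (.node [(155,1)] .nil .nil))) (.node []
    (.node [] (.node [(51,(-1))] .nil .nil) .nil) .nil)) (.node [] (.node [(2,(-1))] .nil (.node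
    [(21,(-1))] .nil (.node [(177,(-1))] .nil .nil))) .nil)) (.node [] (.node [] .nil (.node []
    (.node [] (.node [(60,(-1))] .nil .nil) (.node [(125,(-1))] .nil .nil)) (.node [(27,(-1))]
    (.node [(91,(-1))] .nil .nil) .nil))) (.node [] (.node [] (.node [] (.node [(39,1)] .nil .nil)
    (.node [(112,1)] .nil .nil)) (.node [(25,1)] .nil (.node [(198,1)] .nil .nil))) (.node []
    (.node [] (.node [(68,(-1))] .nil .nil) .nil) (.node [] (.node [(95,(-1))] .nil .nil)
    .nil)))))) (.node [] (.node [] (.node [] (.node [] (.node [] (.node [] (.node [(35,1)] .nil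
    .nil) .nil) .nil) (.node [] (.node [] (.node [(50,1)] .nil .nil) .nil) .nil)) (.node [] (.node
    [(1,(-1))] (.node [] .nil (.node [(98,(-1))] .nil .nil)) .nil) .nil)) (.node [] (.node [] .nil
    (.node [(5,1)] (.node [(14,(-1))] (.node [(58,1)] .nil .nil) (.node [(122,1)] .nil .nil))
    .nil)) (.node [] (.node [] (.node [] .nil (.node [(111,(-1))] .nil .nil)) (.node [] (.node
    [(83,(-1))] .nil .nil) (.node [(196,1)] .nil .nil))) (.node [] (.node [] (.node [(67,1)] .nil
    .nil) .nil) (.node [] (.node [(94,1)] .nil .nil) .nil))))) (.node [] (.node [] (.node [] (.node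
    [] .nil (.node [] .nil (.node [(164,(-1))] .nil .nil))) (.node [] .nil (.node [(26,1)] (.node
    [(89,(-1))] .nil .nil) .nil))) (.node [] (.node [] .nil (.node [] (.node [(80,(-1))] .nil .nil)
    (.node [(187,(-1))] .nil .nil))) (.node [] (.node [] .nil (.node [(134,1)] .nil .nil)) .nil)))
    (.node [] (.node [] (.node [] .nil (.node [] .nil (.node [(168,1)] .nil .nil))) (.node []
    (.node [] (.node [(61,1)] .nil .nil) (.node [(130,(-1))] .nil .nil)) .nil)) (.node [] (.node []
    .nil (.node [] .nil (.node [(199,1)] .nil .nil))) (.node [(6,1)] .nil (.node [(32,1)] .nil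
    .nil)))))))

/-- table -/
noncomputable def auxE8Chain30 : Tr (List (ℕ × ℤ)) :=
    (.node [] (.node [] (.node [] (.node [] (.node [] .nil (.node [] (.node [] .nil (.node
    [(117,1)] .nil .nil)) (.node [] .nil (.node [(201,1)] .nil .nil)))) (.node [] (.node [(1,(-1))]
    (.node [] .nil (.node [(98,(-1))] .nil .nil)) .nil) (.node [] (.node [] (.node [(63,1)] .nil
    .nil) .nil) (.node [] (.node [(92,(-1))] .nil .nil) .nil)))) (.node [] (.node [] .nil (.node
    [(5,(-1))] (.node [(14,1)] (.node [(56,1)] .nil .nil) .nil) .nil)) (.node [] (.node [] .nil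
    (.node [(22,(-1))] .nil (.node [(194,1)] .nil .nil))) (.node [] (.node [] (.node [(67,(-1))]
    .nil .nil) .nil) (.node [] (.node [(94,(-1))] .nil .nil) .nil))))) (.node [] (.node [] (.node
    [] (.node [] (.node [] .nil (.node [(97,1)] .nil .nil)) (.node [] (.node [(70,1)] .nil .nil)
    (.node [(156,(-1))] .nil .nil))) (.node [] (.node [] (.node [(52,1)] .nil .nil) .nil) (.node
    [(27,1)] (.node [(89,1)] .nil .nil) .nil))) (.node [] (.node [] (.node [(10,(-1))] .nil .nil)
    (.node [] (.node [(78,(-1))] .nil .nil) (.node [(178,1)] .nil .nil))) (.node [] (.node [] .nil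
    (.node [(132,1)] .nil .nil)) (.node [(31,1)] .nil .nil)))) (.node [] (.node [] (.node [] .nil
    (.node [(17,1)] .nil (.node [(166,1)] .nil .nil))) (.node [] (.node [] .nil (.node [(127,(-1))]
    .nil .nil)) .nil)) (.node [] (.node [(4,(-1))] (.node [] (.node [(40,1)] .nil .nil) (.node
    [(114,1)] .nil .nil)) (.node [] (.node [(85,(-1))] .nil .nil) .nil)) (.node [(6,(-1))] (.node
    [] .nil (.node [(137,(-1))] .nil .nil)) (.node [(34,(-1))] .nil .nil)))))) (.node [] (.node []
    (.node [] (.node [] .nil (.node [] (.node [] .nil (.node [(118,(-1))] .nil .nil)) (.node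
    [(26,1)] (.node [(88,(-1))] .nil .nil) .nil))) (.node [] .nil (.node [] (.node [] .nil (.node
    [(131,1)] .nil .nil)) .nil))) (.node [] (.node [] (.node [] .nil (.node [] .nil (.node
    [(165,1)] .nil .nil))) (.node [] (.node [] .nil (.node [(126,(-1))] .nil .nil)) .nil)) (.node
    [] (.node [] .nil (.node [(23,(-1))] (.node [(84,1)] .nil .nil) .nil)) (.node [] .nil (.node
    [(33,1)] .nil .nil))))) (.node [] (.node [] (.node [] .nil (.node [] (.node [] (.node
    [(53,(-1))] .nil .nil) .nil) .nil)) (.node [] (.node [] (.node [(11,(-1))] .nil .nil) (.node []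
    .nil (.node [(188,1)] .nil .nil))) (.node [] (.node [] (.node [(66,1)] .nil .nil) .nil) (.node
    [(32,(-1))] (.node [(93,1)] .nil .nil) .nil)))) (.node [] (.node [] (.node [(0,(-1))] .nil
    (.node [(18,1)] .nil .nil)) (.node [] (.node [] (.node [(62,(-1))] .nil .nil) .nil) .nil))
    (.node [] (.node [] (.node [] (.node [(46,(-1))] .nil .nil) (.node [(115,(-1))] .nil .nil))
    (.node [] .nil (.node [(200,1)] .nil .nil))) (.node [] (.node [] .nil (.node [(138,(-1))] .nil
    .nil)) .nil))))))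

/-- table -/
noncomputable def auxE8Chain31 : Tr (List (ℕ × ℤ)) :=
    (.node [] (.node [] (.node [] (.node [] (.node [] .nil (.node [] (.node [] .nil (.node
    [(119,(-1))] .nil .nil)) (.node [(26,(-1))] (.node [(88,(-1))] .nil .nil) (.node [(202,(-1))]
    .nil .nil)))) (.node [] (.node [(2,(-1))] .nil .nil) (.node [] (.node [] (.node [(64,1)] .nil
    .nil) (.node [(131,1)] .nil .nil)) .nil))) (.node [] (.node [] (.node [] .nil (.node [] .nil
    (.node [(165,1)] .nil .nil))) (.node [] (.node [] (.node [(57,1)] .nil .nil) (.node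
    [(126,(-1))] .nil .nil)) .nil)) (.node [] (.node [] .nil (.node [] (.node [(84,1)] .nil .nil)
    (.node [(195,(-1))] .nil .nil))) (.node [] (.node [] (.node [(68,(-1))] .nil .nil) .nil) (.node
    [(33,1)] (.node [(95,(-1))] .nil .nil) .nil))))) (.node [] (.node [] (.node [] (.node [] .nil
    (.node [] .nil (.node [(157,1)] .nil .nil))) (.node [] (.node [] .nil (.node [(121,(-1))] .nil
    .nil)) (.node [(28,1)] (.node [(90,1)] .nil .nil) .nil))) (.node [] (.node [] .nil (.node []
    (.node [(79,(-1))] .nil .nil) (.node [(179,(-1))] .nil .nil))) (.node [] (.node [] (.node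
    [(66,1)] .nil .nil) (.node [(133,(-1))] .nil .nil)) (.node [] (.node [(93,1)] .nil .nil)
    .nil)))) (.node [] (.node [] (.node [(0,1)] .nil (.node [] .nil (.node [(167,(-1))] .nil
    .nil))) (.node [] (.node [] (.node [(62,(-1))] .nil .nil) (.node [(128,1)] .nil .nil)) .nil))
    (.node [] (.node [] (.node [] (.node [(41,1)] .nil .nil) .nil) (.node [] (.node [(86,(-1))]
    .nil .nil) (.node [(200,1)] .nil .nil))) (.node [] .nil (.node [(35,(-1))] .nil .nil))))))
    (.node [] (.node [] (.node [] (.node [] (.node [] (.node [] .nil (.node [(97,1)] .nil .nil))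
    (.node [] (.node [(70,1)] .nil .nil) .nil)) (.node [] (.node [] (.node [(52,1)] .nil .nil)
    .nil) .nil)) (.node [] (.node [] (.node [(10,1)] .nil .nil) .nil) (.node [] .nil (.node
    [(32,1)] .nil .nil)))) (.node [] (.node [] (.node [] .nil (.node [(17,(-1))] .nil .nil)) .nil)
    (.node [] (.node [(4,1)] (.node [] .nil (.node [(114,1)] .nil .nil)) (.node [(24,(-1))] .nil
    .nil)) (.node [(6,1)] (.node [] .nil (.node [(137,(-1))] .nil .nil)) .nil)))) (.node [] (.node
    [] (.node [] .nil (.node [(5,1)] (.node [(14,(-1))] (.node [(54,(-1))] .nil .nil) .nil) .nil))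
    (.node [] (.node [] (.node [(12,(-1))] .nil .nil) (.node [(22,1)] .nil (.node [(189,(-1))] .nil
    .nil))) .nil)) (.node [] (.node [] (.node [] (.node [] .nil (.node [(98,(-1))] .nil .nil))
    (.node [(19,1)] .nil .nil)) (.node [] .nil (.node [(30,1)] (.node [(92,(-1))] .nil .nil)
    .nil))) (.node [] (.node [] (.node [] (.node [(47,(-1))] .nil .nil) (.node [(116,(-1))] .nil
    .nil)) .nil) (.node [] (.node [] .nil (.node [(139,1)] .nil .nil)) .nil))))))

/-- table -/
noncomputable def auxE8Chain32 : Tr (List (ℕ × ℤ)) :=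
    (.node [] (.node [] (.node [] (.node [] (.node [] (.node [] (.node [] .nil (.node [(97,1)] .nil
    .nil)) (.node [] (.node [(70,1)] .nil .nil) .nil)) (.node [] .nil (.node [] (.node [(89,(-1))]
    .nil .nil) .nil))) (.node [] (.node [] (.node [(10,(-1))] .nil .nil) .nil) (.node [] .nil
    (.node [(31,1)] .nil .nil)))) (.node [] (.node [] (.node [] .nil (.node [(17,1)] .nil .nil))
    (.node [] (.node [] (.node [(58,1)] .nil .nil) .nil) .nil)) (.node [] (.node [(4,(-1))] .nil
    (.node [] (.node [(85,1)] .nil .nil) (.node [(196,1)] .nil .nil))) (.node [(6,(-1))] (.node []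
    .nil (.node [(137,(-1))] .nil .nil)) (.node [(34,1)] .nil .nil))))) (.node [] (.node [] (.node
    [] (.node [] .nil (.node [] .nil (.node [(158,(-1))] .nil .nil))) (.node [(5,(-1))] (.node
    [(14,1)] (.node [(54,(-1))] .nil .nil) (.node [(122,1)] .nil .nil)) (.node [(29,1)] .nil
    .nil))) (.node [] (.node [] .nil (.node [(22,(-1))] (.node [(80,(-1))] .nil .nil) (.node
    [(180,1)] .nil .nil))) (.node [] (.node [] (.node [(67,1)] .nil .nil) (.node [(134,1)] .nil
    .nil)) (.node [] (.node [(94,1)] .nil .nil) .nil)))) (.node [] (.node [] (.node [(1,1)] (.node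
    [] .nil (.node [(98,(-1))] .nil .nil)) (.node [] .nil (.node [(168,1)] .nil .nil))) (.node []
    (.node [] (.node [(63,(-1))] .nil .nil) (.node [(129,(-1))] .nil .nil)) (.node [(30,(-1))]
    (.node [(92,(-1))] .nil .nil) .nil))) (.node [] (.node [] (.node [] (.node [(42,1)] .nil .nil)
    (.node [(116,(-1))] .nil .nil)) (.node [] .nil (.node [(201,(-1))] .nil .nil))) .nil)))) (.node
    [] (.node [] (.node [] (.node [] .nil (.node [] (.node [] (.node [(53,1)] .nil .nil) (.node
    [(120,(-1))] .nil .nil)) (.node [] (.node [(90,1)] .nil .nil) .nil))) .nil) (.node [] .nil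
    (.node [] (.node [] (.node [] .nil (.node [(115,1)] .nil .nil)) (.node [(25,(-1))] (.node
    [(86,(-1))] .nil .nil) .nil)) (.node [] .nil (.node [(35,(-1))] .nil .nil))))) (.node [] (.node
    [] (.node [] (.node [] .nil (.node [] .nil (.node [(165,1)] .nil .nil))) (.node [] (.node []
    .nil (.node [(126,(-1))] .nil .nil)) .nil)) (.node [] (.node [] (.node [(13,(-1))] .nil .nil)
    (.node [] .nil (.node [(190,1)] .nil .nil))) (.node [] (.node [] (.node [(68,(-1))] .nil .nil)
    .nil) (.node [] (.node [(95,(-1))] .nil .nil) .nil)))) (.node [] (.node [] (.node [(2,1)] .nil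
    (.node [(20,1)] .nil .nil)) (.node [] (.node [] (.node [(64,1)] .nil .nil) (.node [(131,1)]
    .nil .nil)) .nil)) (.node [] (.node [] (.node [] (.node [(48,(-1))] .nil .nil) .nil) (.node
    [(26,1)] .nil (.node [(202,(-1))] .nil .nil))) (.node [] (.node [] .nil (.node [(140,(-1))]
    .nil .nil)) .nil))))))

/-- table -/
noncomputable def auxE8Chain33 : Tr (List (ℕ × ℤ)) :=
    (.node [] (.node [] (.node [] (.node [] (.node [] .nil (.node [] (.node [] (.node [(52,1)] .nil
    .nil) .nil) (.node [(27,(-1))] .nil (.node [(203,1)] .nil .nil)))) (.node [] (.node [(3,(-1))]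
    .nil .nil) (.node [] (.node [] (.node [(65,1)] .nil .nil) (.node [(132,(-1))] .nil .nil))
    .nil))) (.node [] (.node [] (.node [] .nil (.node [] .nil (.node [(166,(-1))] .nil .nil)))
    (.node [] (.node [] (.node [(59,1)] .nil .nil) (.node [(127,1)] .nil .nil)) (.node [(30,1)]
    .nil .nil))) (.node [] (.node [] .nil (.node [(24,1)] .nil (.node [(197,1)] .nil .nil))) (.node
    [] (.node [] (.node [(69,(-1))] .nil .nil) .nil) (.node [] (.node [(96,(-1))] .nil .nil)
    .nil))))) (.node [] (.node [] (.node [] (.node [] .nil (.node [] .nil (.node [(159,(-1))] .nil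
    .nil))) (.node [] (.node [] .nil (.node [(124,(-1))] .nil .nil)) (.node [] (.node [(91,1)] .nil
    .nil) .nil))) (.node [] (.node [] (.node [(12,1)] .nil .nil) (.node [] (.node [(81,(-1))] .nil
    .nil) (.node [(181,1)] .nil .nil))) .nil)) (.node [] (.node [] (.node [] .nil (.node
    [(19,(-1))] .nil .nil)) .nil) (.node [] (.node [] (.node [] (.node [(43,1)] .nil .nil) (.node
    [(119,(-1))] .nil .nil)) (.node [] (.node [(87,(-1))] .nil .nil) .nil)) (.node [] (.node []
    .nil (.node [(139,1)] .nil .nil)) .nil))))) (.node [] (.node [] (.node [] (.node [] .nil (.node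
    [(5,(-1))] (.node [(14,1)] .nil (.node [(123,(-1))] .nil .nil)) (.node [(28,(-1))] .nil .nil)))
    (.node [] (.node [] (.node [(11,1)] .nil .nil) .nil) (.node [] (.node [] (.node [(66,1)] .nil
    .nil) (.node [(133,(-1))] .nil .nil)) (.node [(34,1)] (.node [(93,1)] .nil .nil) .nil))))
    (.node [] (.node [] (.node [(0,(-1))] (.node [] .nil (.node [(98,(-1))] .nil .nil)) (.node
    [(18,(-1))] .nil (.node [(167,(-1))] .nil .nil))) (.node [] (.node [] (.node [(62,(-1))] .nil
    .nil) (.node [(128,1)] .nil .nil)) (.node [(31,1)] (.node [(92,(-1))] .nil .nil) .nil))) (.node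
    [] (.node [] (.node [] .nil (.node [(117,(-1))] .nil .nil)) (.node [] .nil (.node [(200,1)]
    .nil .nil))) (.node [] (.node [] .nil (.node [(138,1)] .nil .nil)) .nil)))) (.node [] (.node []
    (.node [] .nil (.node [] (.node [] (.node [(55,(-1))] .nil .nil) .nil) .nil)) (.node [] (.node
    [(4,(-1))] .nil (.node [(23,1)] (.node [(84,1)] .nil .nil) (.node [(191,1)] .nil .nil))) (.node
    [(6,(-1))] .nil (.node [(35,1)] .nil .nil)))) (.node [] .nil (.node [] (.node [] (.node []
    (.node [(49,(-1))] .nil .nil) .nil) (.node [] (.node [(88,(-1))] .nil .nil) .nil)) (.node []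
    (.node [] (.node [(70,1)] .nil .nil) .nil) (.node [] (.node [(97,1)] .nil .nil) .nil)))))))

/-- table -/
noncomputable def auxE8Chain34 : Tr (List (ℕ × ℤ)) :=
    (.node [] (.node [] (.node [] (.node [] (.node [] .nil (.node [(5,1)] (.node [(14,(-1))] (.node
    [(53,1)] .nil .nil) (.node [(123,(-1))] .nil .nil)) .nil)) (.node [] (.node [] (.node
    [(11,(-1))] .nil .nil) .nil) (.node [] .nil (.node [(33,1)] .nil .nil)))) (.node [] (.node []
    (.node [] (.node [] .nil (.node [(98,(-1))] .nil .nil)) (.node [(18,1)] .nil .nil)) (.node []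
    (.node [] (.node [(60,1)] .nil .nil) .nil) (.node [] (.node [(92,(-1))] .nil .nil) .nil)))
    (.node [] (.node [] .nil (.node [(25,1)] .nil (.node [(198,(-1))] .nil .nil))) (.node [] (.node
    [] .nil (.node [(138,1)] .nil .nil)) .nil)))) (.node [] (.node [] (.node [] (.node [] .nil
    (.node [] .nil (.node [(160,1)] .nil .nil))) (.node [] (.node [] (.node [(55,(-1))] .nil .nil)
    (.node [(125,1)] .nil .nil)) .nil)) (.node [] (.node [(4,1)] (.node [(13,1)] .nil .nil) (.node
    [(23,(-1))] (.node [(82,(-1))] .nil .nil) (.node [(182,(-1))] .nil .nil))) (.node [(6,1)] .nil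
    (.node [(35,1)] .nil .nil)))) (.node [] (.node [] (.node [] .nil (.node [(20,(-1))] .nil .nil))
    .nil) (.node [] (.node [] (.node [] (.node [(44,1)] .nil .nil) .nil) .nil) (.node [] (.node []
    (.node [(70,1)] .nil .nil) (.node [(140,(-1))] .nil .nil)) (.node [] (.node [(97,1)] .nil .nil)
    .nil)))))) (.node [] (.node [] (.node [] (.node [] .nil (.node [] .nil (.node [(29,(-1))]
    (.node [(91,1)] .nil .nil) .nil))) (.node [] .nil (.node [] (.node [] (.node [(67,1)] .nil
    .nil) (.node [(134,1)] .nil .nil)) (.node [] (.node [(94,1)] .nil .nil) .nil)))) (.node []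
    (.node [] (.node [(1,(-1))] .nil (.node [] .nil (.node [(168,1)] .nil .nil))) (.node [] (.node
    [] (.node [(63,(-1))] .nil .nil) (.node [(129,(-1))] .nil .nil)) (.node [(32,1)] .nil .nil)))
    (.node [] (.node [] (.node [] .nil (.node [(118,(-1))] .nil .nil)) (.node [] (.node [(87,(-1))]
    .nil .nil) (.node [(201,(-1))] .nil .nil))) .nil))) (.node [] (.node [] (.node [] (.node []
    .nil (.node [] .nil (.node [(166,(-1))] .nil .nil))) (.node [] (.node [] .nil (.node [(127,1)]
    .nil .nil)) (.node [(30,(-1))] .nil .nil))) (.node [] (.node [] .nil (.node [] (.node [(85,1)]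
    .nil .nil) (.node [(192,(-1))] .nil .nil))) (.node [] (.node [] (.node [(69,(-1))] .nil .nil)
    .nil) (.node [] (.node [(96,(-1))] .nil .nil) .nil)))) (.node [] (.node [] (.node [(3,1)] .nil
    .nil) (.node [] (.node [] (.node [(65,1)] .nil .nil) (.node [(132,(-1))] .nil .nil)) .nil))
    (.node [] (.node [] (.node [] (.node [(50,(-1))] .nil .nil) (.node [(120,(-1))] .nil .nil))
    (.node [(27,1)] (.node [(89,(-1))] .nil .nil) (.node [(203,1)] .nil .nil))) .nil)))))

/-- table -/
noncomputable def auxE8Chain35 : Tr (List (ℕ × ℤ)) :=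
    (.node [] (.node [] (.node [] (.node [] (.node [] .nil (.node [] (.node [] (.node [(54,1)] .nil
    .nil) (.node [(124,1)] .nil .nil)) (.node [(29,1)] (.node [(91,1)] .nil .nil) .nil))) (.node []
    (.node [] (.node [(12,(-1))] .nil .nil) .nil) (.node [] (.node [] .nil (.node [(134,1)] .nil
    .nil)) .nil))) (.node [] (.node [] (.node [] .nil (.node [(19,1)] .nil (.node [(168,1)] .nil
    .nil))) (.node [] (.node [] (.node [(61,1)] .nil .nil) (.node [(129,(-1))] .nil .nil)) (.node
    [(32,(-1))] .nil .nil))) (.node [] (.node [] .nil (.node [] (.node [(87,(-1))] .nil .nil)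
    (.node [(199,1)] .nil .nil))) (.node [] (.node [] .nil (.node [(139,(-1))] .nil .nil)) .nil))))
    (.node [] (.node [] (.node [] (.node [] .nil (.node [] .nil (.node [(161,(-1))] .nil .nil)))
    .nil) (.node [] (.node [] .nil (.node [(24,(-1))] (.node [(83,(-1))] .nil .nil) (.node
    [(183,1)] .nil .nil))) (.node [] (.node [] (.node [(69,(-1))] .nil .nil) .nil) (.node [] (.node
    [(96,(-1))] .nil .nil) .nil)))) (.node [] (.node [] (.node [(3,(-1))] .nil .nil) (.node []
    (.node [] (.node [(65,1)] .nil .nil) .nil) (.node [(33,1)] .nil .nil))) (.node [] (.node []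
    (.node [] (.node [(45,1)] .nil .nil) (.node [(121,(-1))] .nil .nil)) (.node [] .nil (.node
    [(203,1)] .nil .nil))) .nil)))) (.node [] (.node [] (.node [] (.node [] .nil (.node [] (.node
    [] (.node [(55,(-1))] .nil .nil) (.node [(125,1)] .nil .nil)) .nil)) (.node [] (.node
    [(4,(-1))] (.node [(13,(-1))] .nil .nil) .nil) (.node [(6,(-1))] (.node [] (.node [(68,1)] .nil
    .nil) .nil) (.node [] (.node [(95,1)] .nil .nil) .nil)))) (.node [] (.node [] (.node [(2,(-1))]
    .nil (.node [(20,1)] .nil .nil)) (.node [] (.node [] (.node [(64,(-1))] .nil .nil) .nil) .nil))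
    (.node [] (.node [] .nil (.node [] .nil (.node [(202,1)] .nil .nil))) (.node [] (.node []
    (.node [(70,1)] .nil .nil) (.node [(140,(-1))] .nil .nil)) (.node [] (.node [(97,1)] .nil .nil)
    .nil))))) (.node [] (.node [] (.node [] (.node [] (.node [] .nil (.node [(98,(-1))] .nil .nil))
    (.node [] .nil (.node [(167,1)] .nil .nil))) (.node [] (.node [] .nil (.node [(128,(-1))] .nil
    .nil)) (.node [(31,(-1))] (.node [(92,(-1))] .nil .nil) .nil))) (.node [] (.node [] .nil (.node
    [(25,(-1))] (.node [(86,1)] .nil .nil) (.node [(193,1)] .nil .nil))) .nil)) (.node [] (.node []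
    .nil (.node [] (.node [] .nil (.node [(133,1)] .nil .nil)) (.node [(34,1)] .nil .nil))) (.node
    [] (.node [(5,(-1))] (.node [(14,1)] (.node [(51,(-1))] .nil .nil) (.node [(122,(-1))] .nil
    .nil)) (.node [(28,1)] (.node [(90,(-1))] .nil .nil) .nil)) .nil)))))

/-- table -/
noncomputable def auxE8Chain36 : Tr (List (ℕ × ℤ)) :=
    (.node [] (.node [] (.node [] (.node [] (.node [] (.node [] (.node [] (.node [(40,1)] .nil
    .nil) (.node [(105,(-1))] .nil .nil)) (.node [] (.node [(71,1)] .nil .nil) (.node [(148,(-1))]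
    .nil .nil))) (.node [] .nil (.node [] .nil (.node [(206,(-1))] .nil .nil)))) (.node [] (.node
    [] (.node [] .nil (.node [(112,(-1))] .nil .nil)) (.node [] (.node [(79,1)] .nil .nil) (.node
    [(174,1)] .nil .nil))) (.node [(7,(-1))] (.node [(15,1)] .nil .nil) (.node [] (.node
    [(101,(-1))] .nil .nil) .nil)))) (.node [] (.node [] (.node [(2,1)] .nil .nil) .nil) (.node []
    (.node [] (.node [] (.node [(57,(-1))] .nil .nil) .nil) .nil) (.node [] (.node [(16,1)] .nil
    .nil) (.node [(37,1)] .nil .nil))))) (.node [] (.node [] (.node [] (.node [(0,1)] (.node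
    [(8,(-1))] (.node [(42,1)] .nil .nil) (.node [(107,(-1))] .nil .nil)) (.node [(22,1)] (.node
    [(73,1)] .nil .nil) .nil)) .nil) (.node [] (.node [] (.node [] .nil (.node [(115,1)] .nil
    .nil)) .nil) (.node [] (.node [] .nil (.node [(142,(-1))] .nil .nil)) .nil))) (.node [] (.node
    [] (.node [] (.node [(9,(-1))] (.node [(47,(-1))] .nil .nil) (.node [(110,(-1))] .nil .nil))
    (.node [] .nil (.node [(169,1)] .nil .nil))) (.node [] (.node [] .nil (.node [(141,(-1))] .nil
    .nil)) (.node [] (.node [(99,(-1))] .nil .nil) .nil))) (.node [] (.node [] .nil (.node [] .nil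
    (.node [(204,(-1))] .nil .nil))) (.node [] .nil (.node [(39,1)] .nil .nil)))))) (.node []
    (.node [] (.node [] (.node [] (.node [] (.node [] (.node [(41,(-1))] .nil .nil) (.node
    [(106,1)] .nil .nil)) (.node [(21,1)] (.node [(72,(-1))] .nil .nil) (.node [(152,(-1))] .nil
    .nil))) .nil) (.node [] (.node [] (.node [] .nil (.node [(114,(-1))] .nil .nil)) (.node []
    (.node [(80,(-1))] .nil .nil) (.node [(184,1)] .nil .nil))) .nil)) (.node [] (.node [] (.node
    [] (.node [] (.node [(46,1)] .nil .nil) .nil) .nil) .nil) (.node [] (.node [] (.node [] (.node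
    [(58,1)] .nil .nil) .nil) .nil) (.node [] (.node [(17,1)] .nil .nil) (.node [(38,(-1))] .nil
    .nil))))) (.node [] (.node [] (.node [] (.node [(1,1)] .nil (.node [(26,1)] .nil .nil)) .nil)
    (.node [] (.node [] (.node [] (.node [(56,1)] .nil .nil) (.node [(116,(-1))] .nil .nil)) .nil)
    (.node [] (.node [] .nil (.node [(143,(-1))] .nil .nil)) .nil))) (.node [] (.node [] (.node []
    (.node [(10,(-1))] (.node [(48,1)] .nil .nil) (.node [(111,1)] .nil .nil)) (.node [] (.node
    [(78,(-1))] .nil .nil) (.node [(170,1)] .nil .nil))) (.node [] .nil (.node [] (.node [(100,1)]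
    .nil .nil) .nil))) (.node [] (.node [] .nil (.node [] .nil (.node [(205,(-1))] .nil .nil)))
    (.node [] (.node [] .nil (.node [(147,(-1))] .nil .nil)) .nil))))))

/-- table -/
noncomputable def auxE8Chain37 : Tr (List (ℕ × ℤ)) :=
    (.node [] (.node [] (.node [] (.node [] (.node [] (.node [(0,(-1))] .nil (.node [(21,(-1))]
    .nil (.node [(149,1)] .nil .nil))) (.node [] .nil (.node [] .nil (.node [(208,1)] .nil .nil))))
    (.node [] (.node [] (.node [] .nil (.node [(113,(-1))] .nil .nil)) (.node [] (.node [(81,1)]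
    .nil .nil) (.node [(175,(-1))] .nil .nil))) (.node [] .nil (.node [] (.node [(102,(-1))] .nil
    .nil) .nil)))) (.node [] (.node [] (.node [(3,1)] (.node [] (.node [(46,1)] .nil .nil) (.node
    [(110,(-1))] .nil .nil)) .nil) (.node [] .nil (.node [] (.node [(99,(-1))] .nil .nil) .nil)))
    (.node [] (.node [] (.node [] (.node [(59,(-1))] .nil .nil) (.node [(123,(-1))] .nil .nil))
    .nil) .nil))) (.node [] (.node [] (.node [] (.node [] (.node [] (.node [(44,1)] .nil .nil)
    (.node [(108,(-1))] .nil .nil)) (.node [(23,1)] (.node [(74,1)] .nil .nil) .nil)) .nil) (.node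
    [] (.node [] (.node [] (.node [(56,1)] .nil .nil) (.node [(118,(-1))] .nil .nil)) .nil) (.node
    [] .nil (.node [(38,1)] .nil .nil)))) (.node [] (.node [] (.node [] (.node [] (.node
    [(49,(-1))] .nil .nil) .nil) (.node [] (.node [(78,(-1))] .nil .nil) .nil)) .nil) (.node []
    .nil (.node [] (.node [] (.node [(71,1)] .nil .nil) (.node [(147,(-1))] .nil .nil)) (.node []
    (.node [(105,(-1))] .nil .nil) .nil)))))) (.node [] (.node [] (.node [] (.node [] (.node
    [(1,(-1))] (.node [(8,1)] (.node [(43,(-1))] .nil .nil) .nil) (.node [] .nil (.node [(153,1)]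
    .nil .nil))) .nil) (.node [] (.node [] (.node [] .nil (.node [(117,1)] .nil .nil)) (.node []
    (.node [(82,(-1))] .nil .nil) (.node [(185,(-1))] .nil .nil))) (.node [] (.node [] .nil (.node
    [(142,(-1))] .nil .nil)) .nil))) (.node [] (.node [] (.node [] (.node [(9,1)] .nil (.node
    [(111,1)] .nil .nil)) (.node [] .nil (.node [(169,1)] .nil .nil))) (.node [] (.node [] .nil
    (.node [(141,(-1))] .nil .nil)) (.node [(36,1)] (.node [(100,1)] .nil .nil) .nil))) (.node []
    (.node [] (.node [] (.node [(60,1)] .nil .nil) .nil) (.node [] .nil (.node [(204,(-1))] .nil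
    .nil))) (.node [] (.node [(18,1)] .nil .nil) .nil)))) (.node [] (.node [] (.node [] (.node []
    .nil (.node [(27,1)] .nil .nil)) .nil) (.node [] .nil (.node [] (.node [(16,(-1))] .nil (.node
    [(144,1)] .nil .nil)) (.node [(39,(-1))] .nil .nil)))) (.node [] (.node [] (.node [] (.node
    [(11,(-1))] (.node [(50,1)] .nil .nil) .nil) (.node [] .nil (.node [(171,(-1))] .nil .nil)))
    (.node [(7,1)] (.node [(15,(-1))] .nil .nil) .nil)) (.node [] (.node [] .nil (.node [] .nil
    (.node [(207,1)] .nil .nil))) (.node [] (.node [] (.node [(72,(-1))] .nil .nil) .nil) (.node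
    [(40,1)] (.node [(106,1)] .nil .nil) .nil)))))))

/-- table -/
noncomputable def auxE8Chain38 : Tr (List (ℕ × ℤ)) :=
    (.node [] (.node [] (.node [] (.node [] (.node [] (.node [] (.node [(8,(-1))] (.node
    [(43,(-1))] .nil .nil) .nil) (.node [] .nil (.node [(150,(-1))] .nil .nil))) (.node [] .nil
    (.node [] .nil (.node [(209,(-1))] .nil .nil)))) (.node [] (.node [] .nil (.node [] .nil (.node
    [(176,1)] .nil .nil))) (.node [] (.node [] .nil (.node [(142,(-1))] .nil .nil)) .nil))) (.node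
    [] (.node [] (.node [] (.node [(9,(-1))] (.node [(47,1)] .nil .nil) .nil) (.node [] .nil (.node
    [(169,1)] .nil .nil))) (.node [] (.node [] .nil (.node [(141,(-1))] .nil .nil)) (.node
    [(36,(-1))] .nil .nil))) (.node [] (.node [] (.node [] .nil (.node [(124,1)] .nil .nil)) .nil)
    .nil))) (.node [] (.node [] (.node [] (.node [] (.node [] (.node [(45,1)] .nil .nil) .nil)
    (.node [(24,1)] .nil .nil)) .nil) (.node [] (.node [] (.node [] (.node [(57,1)] .nil .nil)
    .nil) .nil) (.node [] (.node [(16,1)] .nil .nil) .nil))) (.node [] (.node [] (.node [] .nil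
    (.node [] (.node [(79,(-1))] .nil .nil) .nil)) (.node [(7,(-1))] (.node [(15,1)] .nil .nil)
    .nil)) (.node [] (.node [] .nil (.node [] .nil (.node [(207,1)] .nil .nil))) .nil)))) (.node []
    (.node [] (.node [] (.node [] (.node [(2,(-1))] (.node [] .nil (.node [(108,(-1))] .nil .nil))
    (.node [] (.node [(74,1)] .nil .nil) (.node [(154,(-1))] .nil .nil))) .nil) (.node [] (.node []
    (.node [] .nil (.node [(119,(-1))] .nil .nil)) (.node [] (.node [(83,(-1))] .nil .nil) (.node
    [(186,1)] .nil .nil))) (.node [] .nil (.node [(39,1)] .nil .nil)))) (.node [] (.node [] (.node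
    [] (.node [] (.node [(49,(-1))] .nil .nil) (.node [(112,1)] .nil .nil)) .nil) (.node [] .nil
    (.node [] (.node [(101,1)] .nil .nil) .nil))) (.node [] (.node [] (.node [] (.node [(61,1)]
    .nil .nil) .nil) (.node [] .nil (.node [(205,1)] .nil .nil))) (.node [] (.node [(19,1)] (.node
    [(71,1)] .nil .nil) (.node [(147,(-1))] .nil .nil)) (.node [] (.node [(105,(-1))] .nil .nil)
    .nil))))) (.node [] (.node [] (.node [] (.node [(3,(-1))] (.node [] .nil (.node [(110,(-1))]
    .nil .nil)) (.node [(28,1)] .nil .nil)) (.node [] .nil (.node [] (.node [(99,(-1))] .nil .nil)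
    .nil))) (.node [] (.node [] (.node [] (.node [(59,(-1))] .nil .nil) (.node [(121,(-1))] .nil
    .nil)) .nil) (.node [] (.node [] .nil (.node [(145,(-1))] .nil .nil)) .nil))) (.node [] (.node
    [] (.node [] (.node [(12,(-1))] (.node [(51,1)] .nil .nil) (.node [(113,(-1))] .nil .nil))
    (.node [] (.node [(81,1)] .nil .nil) (.node [(172,1)] .nil .nil))) (.node [] .nil (.node
    [(37,1)] (.node [(102,(-1))] .nil .nil) .nil))) (.node [(0,1)] .nil (.node [] (.node [(21,1)]
    (.node [(73,(-1))] .nil .nil) .nil) (.node [(41,1)] (.node [(107,1)] .nil .nil) .nil)))))))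

/-- table -/
noncomputable def auxE8Chain39 : Tr (List (ℕ × ℤ)) :=
    (.node [] (.node [] (.node [] (.node [] (.node [] (.node [(2,1)] (.node [] (.node [(44,(-1))]
    .nil .nil) (.node [(108,(-1))] .nil .nil)) (.node [] (.node [(74,1)] .nil .nil) (.node
    [(151,1)] .nil .nil))) .nil) (.node [] (.node [] .nil (.node [] (.node [(83,(-1))] .nil .nil)
    (.node [(177,(-1))] .nil .nil))) (.node [] .nil (.node [(38,1)] .nil .nil)))) (.node [] (.node
    [] (.node [] (.node [] (.node [(48,1)] .nil .nil) (.node [(112,1)] .nil .nil)) .nil) (.node []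
    .nil (.node [] (.node [(101,1)] .nil .nil) .nil))) (.node [] (.node [] (.node [] (.node
    [(61,1)] .nil .nil) (.node [(125,(-1))] .nil .nil)) .nil) (.node [] (.node [] .nil (.node
    [(147,(-1))] .nil .nil)) .nil)))) (.node [] (.node [] (.node [] (.node [(3,1)] .nil (.node
    [(25,1)] .nil .nil)) .nil) (.node [] (.node [] (.node [] (.node [(58,1)] .nil .nil) (.node
    [(120,(-1))] .nil .nil)) .nil) .nil)) (.node [] (.node [] (.node [] (.node [] (.node [(51,1)]
    .nil .nil) (.node [(113,(-1))] .nil .nil)) (.node [] (.node [(80,(-1))] .nil .nil) .nil))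
    (.node [] .nil (.node [(37,(-1))] (.node [(102,(-1))] .nil .nil) .nil))) (.node [] (.node []
    .nil (.node [] .nil (.node [(208,(-1))] .nil .nil))) (.node [] (.node [(21,(-1))] (.node
    [(73,(-1))] .nil .nil) .nil) (.node [] (.node [(107,1)] .nil .nil) .nil)))))) (.node [] (.node
    [] (.node [] (.node [] (.node [] (.node [] (.node [(45,1)] .nil .nil) .nil) (.node [] .nil
    (.node [(155,1)] .nil .nil))) .nil) (.node [] (.node [] .nil (.node [] .nil (.node [(187,(-1))]
    .nil .nil))) (.node [] (.node [(16,(-1))] .nil .nil) .nil))) (.node [] (.node [] (.node []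
    (.node [] (.node [(50,(-1))] .nil .nil) .nil) .nil) (.node [(7,1)] (.node [(15,(-1))] .nil
    .nil) .nil)) (.node [] (.node [] .nil (.node [] .nil (.node [(206,(-1))] .nil .nil))) (.node []
    (.node [(20,1)] (.node [(72,1)] .nil .nil) .nil) (.node [] (.node [(106,(-1))] .nil .nil)
    .nil))))) (.node [] (.node [] (.node [] (.node [] (.node [(9,1)] .nil (.node [(111,(-1))] .nil
    .nil)) (.node [(29,1)] .nil (.node [(169,1)] .nil .nil))) (.node [] (.node [] .nil (.node
    [(141,(-1))] .nil .nil)) (.node [(36,1)] (.node [(100,(-1))] .nil .nil) .nil))) (.node []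
    (.node [] (.node [] (.node [(60,(-1))] .nil .nil) (.node [(122,1)] .nil .nil)) .nil) (.node []
    (.node [] .nil (.node [(146,1)] .nil .nil)) .nil))) (.node [] (.node [] (.node [] (.node
    [(13,(-1))] .nil .nil) (.node [] (.node [(82,1)] .nil .nil) (.node [(173,(-1))] .nil .nil)))
    (.node [] (.node [] .nil (.node [(142,(-1))] .nil .nil)) .nil)) (.node [(1,1)] (.node [] .nil
    (.node [] .nil (.node [(209,(-1))] .nil .nil))) (.node [(8,1)] .nil (.node [(42,1)] .nil
    .nil)))))))

/-- table -/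
noncomputable def auxE8Chain40 : Tr (List (ℕ × ℤ)) :=
    (.node [] (.node [] (.node [] (.node [] (.node [] (.node [] .nil (.node [(22,(-1))] .nil .nil))
    (.node [] .nil (.node [] .nil (.node [(211,(-1))] .nil .nil)))) (.node [] (.node [] .nil (.node
    [] (.node [(84,1)] .nil .nil) (.node [(178,1)] .nil .nil))) (.node [] .nil (.node [] (.node
    [(103,(-1))] .nil .nil) .nil)))) (.node [] (.node [] (.node [(4,1)] (.node [] .nil (.node
    [(114,1)] .nil .nil)) .nil) (.node [(7,(-1))] (.node [(15,1)] .nil .nil) .nil)) (.node []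
    (.node [] (.node [] (.node [(62,(-1))] .nil .nil) (.node [(127,(-1))] .nil .nil)) (.node []
    .nil (.node [(204,(-1))] .nil .nil))) (.node [] (.node [(18,(-1))] (.node [(72,(-1))] .nil
    .nil) .nil) (.node [] (.node [(106,1)] .nil .nil) .nil))))) (.node [] (.node [] (.node []
    (.node [] (.node [] .nil (.node [(109,(-1))] .nil .nil)) (.node [] (.node [(75,1)] .nil .nil)
    .nil)) (.node [] (.node [] .nil (.node [(141,(-1))] .nil .nil)) (.node [(37,1)] (.node
    [(100,1)] .nil .nil) .nil))) (.node [] .nil (.node [] (.node [] .nil (.node [(144,1)] .nil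
    .nil)) (.node [(41,1)] .nil .nil)))) (.node [] (.node [] (.node [] (.node [(11,1)] (.node
    [(52,(-1))] .nil .nil) (.node [(117,1)] .nil .nil)) (.node [] .nil (.node [(171,(-1))] .nil
    .nil))) .nil) (.node [(1,1)] .nil (.node [(8,(-1))] (.node [] .nil (.node [(148,1)] .nil .nil))
    (.node [(44,(-1))] .nil .nil)))))) (.node [] (.node [] (.node [] (.node [] (.node [] .nil
    (.node [(23,(-1))] .nil (.node [(156,(-1))] .nil .nil))) (.node [] .nil (.node [(36,1)] (.node
    [(99,(-1))] .nil .nil) .nil))) (.node [] (.node [] (.node [] (.node [(56,1)] .nil .nil) .nil)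
    (.node [] (.node [(85,(-1))] .nil .nil) (.node [(188,1)] .nil .nil))) (.node [] (.node [] .nil
    (.node [(143,1)] .nil .nil)) .nil))) (.node [] (.node [] (.node [] (.node [(10,1)] .nil (.node
    [(115,(-1))] .nil .nil)) (.node [] (.node [(78,(-1))] .nil .nil) (.node [(170,(-1))] .nil
    .nil))) .nil) (.node [(0,1)] (.node [] (.node [] (.node [(63,1)] .nil .nil) .nil) .nil) (.node
    [] .nil (.node [(43,1)] .nil .nil))))) (.node [] (.node [] (.node [] (.node [] (.node [] (.node
    [(46,1)] .nil .nil) .nil) (.node [(30,1)] .nil .nil)) .nil) (.node [] (.node [] (.node [] .nil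
    (.node [(126,(-1))] .nil .nil)) .nil) (.node [] (.node [(17,(-1))] (.node [(71,1)] .nil .nil)
    .nil) (.node [(42,(-1))] (.node [(105,(-1))] .nil .nil) .nil)))) (.node [] (.node [] (.node []
    (.node [] (.node [(53,1)] .nil .nil) (.node [(118,(-1))] .nil .nil)) .nil) .nil) (.node []
    (.node [] .nil (.node [] .nil (.node [(210,(-1))] .nil .nil))) (.node [] (.node [] .nil (.node
    [(149,1)] .nil .nil)) .nil))))))

/-- table -/
noncomputable def auxE8Chain41 : Tr (List (ℕ × ℤ)) :=
    (.node [] (.node [] (.node [] (.node [] (.node [] .nil (.node [] .nil (.node [(36,(-1))] (.node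
    [(99,(-1))] .nil .nil) (.node [(212,1)] .nil .nil)))) (.node [] (.node [] (.node [] .nil (.node
    [(121,(-1))] .nil .nil)) (.node [] .nil (.node [(179,(-1))] .nil .nil))) (.node [] (.node []
    .nil (.node [(143,1)] .nil .nil)) .nil))) (.node [] (.node [] (.node [] (.node [(10,(-1))] .nil
    .nil) (.node [] .nil (.node [(170,(-1))] .nil .nil))) .nil) (.node [(0,(-1))] (.node [] (.node
    [] .nil (.node [(128,1)] .nil .nil)) (.node [] .nil (.node [(205,1)] .nil .nil))) (.node []
    (.node [(19,(-1))] (.node [(73,(-1))] .nil .nil) .nil) (.node [(43,1)] (.node [(107,1)] .nil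
    .nil) .nil))))) (.node [] (.node [] (.node [] .nil (.node [] .nil (.node [(38,1)] (.node
    [(101,1)] .nil .nil) .nil))) (.node [] (.node [] (.node [] .nil (.node [(126,(-1))] .nil .nil))
    .nil) (.node [] (.node [(17,1)] (.node [(71,1)] .nil .nil) (.node [(145,(-1))] .nil .nil))
    (.node [] (.node [(105,(-1))] .nil .nil) .nil)))) (.node [] (.node [] (.node [] (.node [(12,1)]
    .nil (.node [(119,(-1))] .nil .nil)) (.node [] .nil (.node [(172,1)] .nil .nil))) .nil) (.node
    [(2,1)] (.node [] .nil (.node [] .nil (.node [(210,(-1))] .nil .nil))) (.node [] .nil (.node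
    [(45,(-1))] .nil .nil)))))) (.node [] (.node [] (.node [] (.node [] (.node [] (.node [] .nil
    (.node [(109,(-1))] .nil .nil)) (.node [(24,(-1))] (.node [(75,1)] .nil .nil) (.node [(157,1)]
    .nil .nil))) (.node [] (.node [] .nil (.node [(141,(-1))] .nil .nil)) .nil)) (.node [] (.node
    [] (.node [] (.node [(57,1)] .nil .nil) .nil) (.node [] (.node [(86,(-1))] .nil .nil) (.node
    [(189,(-1))] .nil .nil))) (.node [] .nil (.node [(42,1)] .nil .nil)))) (.node [] (.node []
    (.node [] (.node [] (.node [(52,(-1))] .nil .nil) (.node [(116,(-1))] .nil .nil)) (.node []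
    (.node [(79,(-1))] .nil .nil) .nil)) .nil) (.node [] (.node [] (.node [] (.node [(64,1)] .nil
    .nil) .nil) .nil) (.node [(8,1)] (.node [] .nil (.node [(148,1)] .nil .nil)) .nil)))) (.node []
    (.node [] (.node [] (.node [(4,(-1))] (.node [] (.node [(47,1)] .nil .nil) (.node [(114,1)]
    .nil .nil)) (.node [(31,1)] .nil .nil)) (.node [(7,1)] (.node [(15,(-1))] .nil .nil) .nil))
    (.node [] (.node [] (.node [] (.node [(62,(-1))] .nil .nil) .nil) .nil) .nil)) (.node [] (.node
    [] (.node [] (.node [] (.node [(54,1)] .nil .nil) .nil) (.node [] (.node [(84,1)] .nil .nil)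
    .nil)) (.node [] .nil (.node [(40,1)] (.node [(103,(-1))] .nil .nil) .nil))) (.node [] .nil
    (.node [] (.node [(22,1)] .nil (.node [(150,(-1))] .nil .nil)) .nil))))))

/-- table -/
noncomputable def auxE8Chain42 : Tr (List (ℕ × ℤ)) :=
    (.node [] (.node [] (.node [] (.node [] (.node [] (.node [] (.node [] .nil (.node [(109,(-1))]
    .nil .nil)) (.node [] (.node [(75,1)] .nil .nil) .nil)) (.node [] (.node [] .nil (.node
    [(141,(-1))] .nil .nil)) (.node [] (.node [(100,(-1))] .nil .nil) .nil))) (.node [] (.node []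
    (.node [] .nil (.node [(122,1)] .nil .nil)) (.node [] (.node [(86,(-1))] .nil .nil) (.node
    [(180,1)] .nil .nil))) (.node [] .nil (.node [(41,1)] .nil .nil)))) (.node [] (.node [] (.node
    [] (.node [] .nil (.node [(116,(-1))] .nil .nil)) .nil) .nil) (.node [(1,(-1))] (.node []
    (.node [] (.node [(64,1)] .nil .nil) (.node [(129,(-1))] .nil .nil)) (.node [] .nil (.node
    [(206,(-1))] .nil .nil))) (.node [(8,(-1))] (.node [(20,(-1))] .nil (.node [(148,1)] .nil
    .nil)) (.node [(44,1)] .nil .nil))))) (.node [] (.node [] (.node [] (.node [(4,1)] .nil .nil)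
    (.node [(7,(-1))] (.node [(15,1)] .nil .nil) (.node [(39,1)] .nil .nil))) (.node [] .nil (.node
    [] (.node [] (.node [(72,1)] .nil .nil) (.node [(146,1)] .nil .nil)) (.node [] (.node
    [(106,(-1))] .nil .nil) .nil)))) (.node [] (.node [] (.node [] (.node [(13,1)] (.node [(54,1)]
    .nil .nil) .nil) (.node [] .nil (.node [(173,(-1))] .nil .nil))) (.node [] .nil (.node
    [(40,(-1))] (.node [(103,(-1))] .nil .nil) .nil))) (.node [] (.node [] .nil (.node [] .nil
    (.node [(211,1)] .nil .nil))) (.node [] (.node [(22,(-1))] .nil .nil) .nil))))) (.node []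
    (.node [] (.node [] (.node [] (.node [] .nil (.node [(25,(-1))] .nil (.node [(158,(-1))] .nil
    .nil))) (.node [] .nil (.node [] (.node [(101,1)] .nil .nil) .nil))) (.node [] (.node [] (.node
    [] (.node [(58,1)] .nil .nil) (.node [(126,(-1))] .nil .nil)) (.node [] .nil (.node [(190,1)]
    .nil .nil))) (.node [] (.node [(17,(-1))] .nil .nil) .nil))) (.node [] (.node [] (.node []
    (.node [] (.node [(53,(-1))] .nil .nil) .nil) (.node [] (.node [(80,(-1))] .nil .nil) .nil))
    .nil) (.node [(2,(-1))] .nil (.node [] .nil (.node [(45,(-1))] .nil .nil))))) (.node [] (.node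
    [] (.node [] (.node [] (.node [(10,1)] (.node [(48,1)] .nil .nil) (.node [(115,1)] .nil .nil))
    (.node [(32,1)] .nil (.node [(170,(-1))] .nil .nil))) .nil) (.node [] (.node [] (.node []
    (.node [(63,(-1))] .nil .nil) .nil) .nil) (.node [] (.node [] (.node [(73,(-1))] .nil .nil)
    .nil) (.node [] (.node [(107,1)] .nil .nil) .nil)))) (.node [] (.node [] (.node [] (.node []
    .nil (.node [(120,(-1))] .nil .nil)) (.node [] (.node [(85,1)] .nil .nil) .nil)) (.node []
    (.node [] .nil (.node [(143,1)] .nil .nil)) .nil)) (.node [] (.node [] .nil (.node [(36,1)]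
    .nil (.node [(212,1)] .nil .nil))) (.node [] (.node [] .nil (.node [(151,1)] .nil .nil))
    .nil))))))

/-- table -/
noncomputable def auxE8Chain43 : Tr (List (ℕ × ℤ)) :=
    (.node [] (.node [] (.node [] (.node [] (.node [] (.node [] .nil (.node [(24,1)] .nil .nil))
    (.node [] .nil (.node [(37,(-1))] .nil (.node [(213,(-1))] .nil .nil)))) (.node [] (.node []
    (.node [] .nil (.node [(124,(-1))] .nil .nil)) (.node [] .nil (.node [(181,1)] .nil .nil)))
    (.node [] (.node [] .nil (.node [(144,(-1))] .nil .nil)) .nil))) (.node [] (.node [] (.node []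
    (.node [(11,(-1))] (.node [(52,(-1))] .nil .nil) (.node [(119,(-1))] .nil .nil)) (.node [] .nil
    (.node [(171,1)] .nil .nil))) (.node [] .nil (.node [(40,1)] .nil .nil))) (.node [] (.node []
    .nil (.node [] .nil (.node [(207,(-1))] .nil .nil))) (.node [] (.node [] (.node [(74,(-1))]
    .nil .nil) .nil) (.node [] (.node [(108,1)] .nil .nil) .nil))))) (.node [] (.node [] (.node []
    .nil (.node [] .nil (.node [] (.node [(102,1)] .nil .nil) .nil))) (.node [] (.node [] (.node []
    (.node [(62,(-1))] .nil .nil) (.node [(127,1)] .nil .nil)) .nil) (.node [] (.node [(18,1)] .nil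
    .nil) .nil))) (.node [] (.node [] (.node [] .nil (.node [] (.node [(84,1)] .nil .nil) .nil))
    .nil) (.node [(3,1)] .nil (.node [] (.node [] .nil (.node [(150,(-1))] .nil .nil)) .nil)))))
    (.node [] (.node [] (.node [] (.node [] (.node [(4,1)] .nil (.node [] .nil (.node [(159,(-1))]
    .nil .nil))) (.node [(7,(-1))] (.node [(15,1)] .nil .nil) (.node [(38,(-1))] .nil .nil)))
    (.node [] (.node [] (.node [] (.node [(59,1)] .nil .nil) .nil) (.node [] (.node [(87,(-1))]
    .nil .nil) (.node [(191,1)] .nil .nil))) (.node [] (.node [] (.node [(71,1)] .nil .nil) (.node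
    [(145,(-1))] .nil .nil)) (.node [(44,1)] (.node [(105,(-1))] .nil .nil) .nil)))) (.node []
    (.node [] (.node [] (.node [(12,(-1))] .nil .nil) (.node [] (.node [(81,(-1))] .nil .nil)
    (.node [(172,1)] .nil .nil))) (.node [] .nil (.node [(41,1)] (.node [(103,(-1))] .nil .nil)
    .nil))) (.node [] (.node [] (.node [] (.node [(65,1)] .nil .nil) .nil) (.node [] .nil (.node
    [(210,(-1))] .nil .nil))) (.node [] (.node [] .nil (.node [(149,(-1))] .nil .nil)) .nil))))
    (.node [] (.node [] (.node [] (.node [] (.node [] (.node [(49,1)] .nil .nil) (.node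
    [(117,(-1))] .nil .nil)) (.node [(33,1)] .nil .nil)) .nil) (.node [(0,1)] (.node [] (.node []
    .nil (.node [(128,1)] .nil .nil)) .nil) (.node [(8,(-1))] (.node [(19,1)] .nil .nil) (.node
    [(45,1)] .nil .nil)))) (.node [] (.node [] (.node [] (.node [] (.node [(55,1)] .nil .nil)
    (.node [(123,(-1))] .nil .nil)) .nil) .nil) (.node [] (.node [] (.node [] .nil (.node
    [(141,(-1))] .nil .nil)) (.node [] (.node [(99,(-1))] .nil .nil) .nil)) (.node [] (.node
    [(23,1)] (.node [(75,1)] .nil .nil) .nil) (.node [] (.node [(109,(-1))] .nil .nil) .nil)))))))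

/-- table -/
noncomputable def auxE8Chain44 : Tr (List (ℕ × ℤ)) :=
    (.node [] (.node [] (.node [] (.node [] (.node [] (.node [(4,(-1))] .nil (.node [(25,1)] .nil
    .nil)) (.node [(7,1)] (.node [(15,(-1))] .nil .nil) .nil)) (.node [] (.node [] (.node [] .nil
    (.node [(125,1)] .nil .nil)) (.node [] (.node [(87,(-1))] .nil .nil) (.node [(182,(-1))] .nil
    .nil))) (.node [] .nil (.node [(43,1)] .nil .nil)))) (.node [] (.node [] (.node [] (.node []
    (.node [(53,(-1))] .nil .nil) .nil) .nil) (.node [] .nil (.node [] (.node [(103,(-1))] .nil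
    .nil) .nil))) (.node [] (.node [] (.node [] (.node [(65,1)] .nil .nil) .nil) (.node [] .nil
    (.node [(208,1)] .nil .nil))) (.node [] (.node [] .nil (.node [(149,(-1))] .nil .nil)) .nil))))
    (.node [] (.node [] .nil (.node [] (.node [] (.node [] (.node [(63,(-1))] .nil .nil) .nil)
    .nil) (.node [(8,1)] .nil (.node [(45,1)] .nil .nil)))) (.node [] (.node [] (.node [] (.node []
    (.node [(55,1)] .nil .nil) (.node [(123,(-1))] .nil .nil)) (.node [] (.node [(85,1)] .nil .nil)
    .nil)) .nil) (.node [] (.node [] (.node [] .nil (.node [(141,(-1))] .nil .nil)) .nil) (.node []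
    (.node [(23,(-1))] (.node [(75,1)] .nil .nil) (.node [(151,1)] .nil .nil)) (.node [] (.node
    [(109,(-1))] .nil .nil) .nil)))))) (.node [] (.node [] (.node [] (.node [] (.node [] .nil
    (.node [] .nil (.node [(160,1)] .nil .nil))) (.node [] .nil (.node [(39,(-1))] (.node [(102,1)]
    .nil .nil) .nil))) (.node [] (.node [] (.node [] (.node [(60,1)] .nil .nil) (.node [(127,1)]
    .nil .nil)) (.node [] .nil (.node [(192,(-1))] .nil .nil))) (.node [] (.node [(18,(-1))] (.node
    [(72,1)] .nil .nil) (.node [(146,1)] .nil .nil)) (.node [] (.node [(106,(-1))] .nil .nil)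
    .nil)))) (.node [] (.node [] (.node [] (.node [(13,(-1))] .nil (.node [(120,(-1))] .nil .nil))
    (.node [] (.node [(82,(-1))] .nil .nil) (.node [(173,(-1))] .nil .nil))) (.node [] .nil (.node
    [(42,1)] .nil .nil))) (.node [(3,(-1))] (.node [] .nil (.node [] .nil (.node [(211,1)] .nil
    .nil))) .nil))) (.node [] (.node [] (.node [] (.node [] (.node [(11,1)] (.node [(50,1)] .nil
    .nil) (.node [(118,(-1))] .nil .nil)) (.node [(34,1)] .nil (.node [(171,1)] .nil .nil))) (.node
    [] .nil (.node [(40,(-1))] .nil .nil))) (.node [(1,1)] (.node [] (.node [] .nil (.node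
    [(129,(-1))] .nil .nil)) .nil) (.node [] (.node [(20,1)] (.node [(74,(-1))] .nil .nil) .nil)
    (.node [] (.node [(108,1)] .nil .nil) .nil)))) (.node [] (.node [] .nil (.node [] (.node []
    .nil (.node [(144,(-1))] .nil .nil)) .nil)) (.node [] (.node [] .nil (.node [(37,1)] (.node
    [(100,(-1))] .nil .nil) (.node [(213,(-1))] .nil .nil))) .nil)))))

/-- table -/
noncomputable def auxE8Chain45 : Tr (List (ℕ × ℤ)) :=
    (.node [] (.node [] (.node [] (.node [] (.node [] .nil (.node [] .nil (.node [(39,1)] (.node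
    [(102,1)] .nil .nil) .nil))) (.node [] (.node [] .nil (.node [] .nil (.node [(183,1)] .nil
    .nil))) (.node [] (.node [] .nil (.node [(146,1)] .nil .nil)) .nil))) (.node [] (.node []
    (.node [] (.node [(13,1)] (.node [(54,(-1))] .nil .nil) (.node [(121,(-1))] .nil .nil)) (.node
    [] .nil (.node [(173,(-1))] .nil .nil))) (.node [] .nil (.node [(42,(-1))] .nil .nil))) (.node
    [(3,1)] (.node [] .nil (.node [] .nil (.node [(209,(-1))] .nil .nil))) (.node [] (.node [] .nil
    (.node [(150,1)] .nil .nil)) .nil)))) (.node [] (.node [] .nil (.node [] (.node [] (.node []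
    (.node [(64,(-1))] .nil .nil) (.node [(129,(-1))] .nil .nil)) .nil) (.node [] (.node
    [(20,(-1))] (.node [(74,(-1))] .nil .nil) .nil) (.node [] (.node [(108,1)] .nil .nil) .nil))))
    (.node [] (.node [] (.node [] (.node [] .nil (.node [(124,1)] .nil .nil)) (.node [] (.node
    [(86,1)] .nil .nil) .nil)) (.node [] .nil (.node [(43,1)] .nil .nil))) (.node [] (.node [] .nil
    (.node [] .nil (.node [(213,(-1))] .nil .nil))) (.node [] (.node [(24,(-1))] .nil .nil)
    .nil))))) (.node [] (.node [] (.node [] (.node [] (.node [] .nil (.node [] .nil (.node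
    [(161,(-1))] .nil .nil))) .nil) (.node [] (.node [] (.node [] (.node [(61,1)] .nil .nil) (.node
    [(128,(-1))] .nil .nil)) (.node [] .nil (.node [(193,1)] .nil .nil))) (.node [(8,(-1))] (.node
    [(19,(-1))] (.node [(73,1)] .nil .nil) .nil) (.node [] (.node [(107,(-1))] .nil .nil) .nil))))
    (.node [] (.node [] (.node [] (.node [] (.node [(55,1)] .nil .nil) (.node [(122,(-1))] .nil
    .nil)) (.node [] (.node [(83,(-1))] .nil .nil) .nil)) .nil) (.node [] (.node [] (.node [] .nil
    (.node [(141,(-1))] .nil .nil)) (.node [] .nil (.node [(212,(-1))] .nil .nil))) (.node []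
    (.node [] (.node [(75,1)] .nil .nil) (.node [(151,1)] .nil .nil)) (.node [] (.node [(109,(-1))]
    .nil .nil) .nil))))) (.node [] (.node [] (.node [] (.node [] (.node [(12,1)] (.node [(51,1)]
    .nil .nil) .nil) (.node [(35,1)] .nil (.node [(172,(-1))] .nil .nil))) (.node [] .nil (.node
    [(41,(-1))] (.node [(103,(-1))] .nil .nil) .nil))) (.node [(2,1)] (.node [] (.node [] (.node
    [(65,1)] .nil .nil) .nil) .nil) .nil)) (.node [] (.node [] (.node [] (.node [] .nil (.node
    [(125,1)] .nil .nil)) (.node [] (.node [(87,(-1))] .nil .nil) .nil)) (.node [] (.node [] .nil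
    (.node [(145,1)] .nil .nil)) (.node [(44,1)] .nil .nil))) (.node [(4,1)] (.node [(7,(-1))]
    (.node [(15,1)] .nil .nil) (.node [(38,1)] (.node [(101,(-1))] .nil .nil) .nil)) (.node []
    (.node [(25,(-1))] .nil .nil) .nil))))))

/-- table -/
noncomputable def auxE8Chain46 : Tr (List (ℕ × ℤ)) :=
    (.node [] (.node [] (.node [] (.node [] (.node [] (.node [] (.node [] .nil (.node [(117,1)]
    .nil .nil)) (.node [(26,(-1))] .nil (.node [(156,(-1))] .nil .nil))) (.node [] .nil (.node []
    .nil (.node [(215,1)] .nil .nil)))) (.node [] (.node [] (.node [] (.node [(56,1)] .nil .nil)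
    (.node [(130,(-1))] .nil .nil)) (.node [] (.node [(88,1)] .nil .nil) .nil)) (.node [] (.node
    [(18,1)] (.node [(72,(-1))] .nil .nil) .nil) (.node [] (.node [(104,(-1))] .nil .nil) .nil))))
    (.node [] (.node [] (.node [(5,1)] .nil (.node [] (.node [(78,(-1))] .nil .nil) .nil)) (.node
    [] (.node [(16,1)] .nil .nil) .nil)) (.node [] (.node [] (.node [] (.node [(66,(-1))] .nil
    .nil) (.node [(132,(-1))] .nil .nil)) (.node [(36,1)] .nil .nil)) (.node [] .nil (.node []
    (.node [(111,(-1))] .nil .nil) .nil))))) (.node [] (.node [] (.node [] (.node [] (.node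
    [(11,(-1))] (.node [(53,(-1))] .nil .nil) .nil) (.node [(30,(-1))] (.node [(76,1)] .nil .nil)
    .nil)) (.node [] (.node [] .nil (.node [(142,1)] .nil .nil)) .nil)) (.node [(1,(-1))] .nil
    (.node [] .nil (.node [(47,1)] .nil .nil)))) (.node [] (.node [] (.node [] .nil (.node [] .nil
    (.node [(175,1)] .nil .nil))) (.node [] (.node [] .nil (.node [(144,1)] .nil .nil)) .nil))
    (.node [] (.node [(7,1)] .nil (.node [(40,1)] (.node [(100,1)] .nil .nil) .nil)) (.node
    [(9,(-1))] (.node [] .nil (.node [(152,(-1))] .nil .nil)) (.node [(50,(-1))] (.node [(114,1)]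
    .nil .nil) .nil)))))) (.node [] (.node [] (.node [] (.node [] (.node [] (.node [(10,(-1))]
    (.node [(52,1)] .nil .nil) (.node [(118,(-1))] .nil .nil)) (.node [(27,(-1))] .nil .nil)) .nil)
    (.node [(0,(-1))] (.node [] .nil (.node [] (.node [(89,(-1))] .nil .nil) (.node [(194,(-1))]
    .nil .nil))) .nil)) (.node [] (.node [] (.node [] .nil (.node [] .nil (.node [(174,1)] .nil
    .nil))) (.node [] (.node [] .nil (.node [(143,1)] .nil .nil)) .nil)) (.node [] (.node [] (.node
    [] (.node [(67,1)] .nil .nil) .nil) (.node [(37,1)] (.node [(99,(-1))] .nil .nil) .nil)) (.node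
    [] .nil (.node [(49,1)] .nil .nil))))) (.node [] (.node [] .nil (.node [] (.node [] (.node []
    .nil (.node [(131,(-1))] .nil .nil)) (.node [] .nil (.node [(204,(-1))] .nil .nil))) (.node []
    .nil (.node [(48,(-1))] (.node [(110,1)] .nil .nil) .nil)))) (.node [] (.node [] (.node [] .nil
    (.node [] .nil (.node [(178,1)] .nil .nil))) (.node [] (.node [(17,1)] (.node [(71,1)] .nil
    .nil) .nil) .nil)) (.node [] (.node [] .nil (.node [] .nil (.node [(214,1)] .nil .nil))) (.node
    [] (.node [] .nil (.node [(153,(-1))] .nil .nil)) (.node [] (.node [(115,(-1))] .nil .nil)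
    .nil)))))))

/-- table -/
noncomputable def auxE8Chain47 : Tr (List (ℕ × ℤ)) :=
    (.node [] (.node [] (.node [] (.node [] (.node [] (.node [] (.node [(10,1)] (.node [(52,1)]
    .nil .nil) (.node [(119,(-1))] .nil .nil)) (.node [] .nil (.node [(157,1)] .nil .nil))) (.node
    [] .nil (.node [] .nil (.node [(216,(-1))] .nil .nil)))) (.node [(0,1)] (.node [] (.node []
    (.node [(57,1)] .nil .nil) .nil) .nil) (.node [] (.node [(19,1)] (.node [(73,(-1))] .nil .nil)
    .nil) .nil))) (.node [] (.node [] (.node [] .nil (.node [] (.node [(79,(-1))] .nil .nil) (.node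
    [(174,1)] .nil .nil))) (.node [] (.node [] .nil (.node [(143,1)] .nil .nil)) .nil)) (.node []
    (.node [] (.node [] .nil (.node [(133,1)] .nil .nil)) (.node [] (.node [(99,(-1))] .nil .nil)
    .nil)) (.node [] .nil (.node [(49,1)] (.node [(112,(-1))] .nil .nil) .nil))))) (.node [] (.node
    [] (.node [] (.node [] (.node [(12,(-1))] (.node [(54,(-1))] .nil .nil) (.node [(121,(-1))]
    .nil .nil)) (.node [(31,(-1))] .nil .nil)) .nil) (.node [(2,(-1))] (.node [] (.node [] .nil
    (.node [(131,(-1))] .nil .nil)) .nil) (.node [] .nil (.node [] (.node [(110,1)] .nil .nil)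
    .nil)))) (.node [] (.node [] (.node [] .nil (.node [] .nil (.node [(176,(-1))] .nil .nil)))
    (.node [] (.node [(17,(-1))] (.node [(71,1)] .nil .nil) (.node [(145,(-1))] .nil .nil)) .nil))
    (.node [] (.node [] .nil (.node [(41,1)] (.node [(101,1)] .nil .nil) (.node [(214,1)] .nil
    .nil))) (.node [] .nil (.node [(51,(-1))] .nil .nil)))))) (.node [] (.node [] (.node [] (.node
    [] (.node [] .nil (.node [(28,(-1))] (.node [(76,1)] .nil .nil) .nil)) (.node [] (.node [] .nil
    (.node [(142,1)] .nil .nil)) .nil)) (.node [] (.node [] .nil (.node [] (.node [(90,(-1))] .nil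
    .nil) (.node [(195,1)] .nil .nil))) (.node [] .nil (.node [(48,1)] .nil .nil)))) (.node [] .nil
    (.node [] (.node [(7,(-1))] (.node [] (.node [(68,1)] .nil .nil) .nil) (.node [(38,1)] .nil
    .nil)) (.node [(9,1)] (.node [] .nil (.node [(152,(-1))] .nil .nil)) (.node [] (.node [(114,1)]
    .nil .nil) .nil))))) (.node [] (.node [] (.node [] (.node [(5,(-1))] .nil .nil) (.node []
    (.node [(16,(-1))] .nil .nil) .nil)) (.node [] (.node [] (.node [] (.node [(66,(-1))] .nil
    .nil) .nil) (.node [(36,(-1))] .nil (.node [(205,1)] .nil .nil))) .nil)) (.node [] (.node []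
    (.node [] (.node [] .nil (.node [(130,(-1))] .nil .nil)) (.node [] (.node [(88,1)] .nil .nil)
    (.node [(179,(-1))] .nil .nil))) (.node [] .nil (.node [(46,1)] (.node [(104,(-1))] .nil .nil)
    .nil))) (.node [] .nil (.node [] (.node [(26,1)] .nil (.node [(154,1)] .nil .nil)) (.node []
    (.node [(116,(-1))] .nil .nil) .nil)))))))

/-- table -/
noncomputable def auxE8Chain48 : Tr (List (ℕ × ℤ)) :=
    (.node [] (.node [] (.node [] (.node [] (.node [] (.node [] (.node [] (.node [(53,1)] .nil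
    .nil) .nil) (.node [] (.node [(76,1)] .nil .nil) (.node [(158,(-1))] .nil .nil))) (.node []
    (.node [] .nil (.node [(142,1)] .nil .nil)) .nil)) (.node [(1,1)] (.node [] (.node [] (.node
    [(58,1)] .nil .nil) .nil) (.node [] (.node [(90,(-1))] .nil .nil) .nil)) (.node [] (.node
    [(20,1)] .nil .nil) (.node [(47,1)] .nil .nil)))) (.node [] (.node [] (.node [] .nil (.node []
    (.node [(80,(-1))] .nil .nil) .nil)) .nil) (.node [] (.node [(7,1)] (.node [] (.node [(68,1)]
    .nil .nil) (.node [(134,(-1))] .nil .nil)) (.node [] (.node [(100,(-1))] .nil .nil) .nil))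
    (.node [(9,(-1))] (.node [] .nil (.node [(152,(-1))] .nil .nil)) (.node [(50,1)] .nil .nil)))))
    (.node [] (.node [] (.node [] (.node [(5,1)] (.node [(13,(-1))] .nil (.node [(122,1)] .nil
    .nil)) (.node [(32,(-1))] .nil .nil)) (.node [] (.node [(16,1)] .nil .nil) .nil)) (.node []
    (.node [] .nil (.node [(36,1)] .nil .nil)) (.node [] .nil (.node [] (.node [(111,1)] .nil .nil)
    .nil)))) (.node [] (.node [] (.node [] (.node [] .nil (.node [(130,(-1))] .nil .nil)) (.node []
    .nil (.node [(177,1)] .nil .nil))) (.node [] (.node [] (.node [(72,1)] .nil .nil) (.node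
    [(146,1)] .nil .nil)) (.node [(46,(-1))] (.node [(104,(-1))] .nil .nil) .nil))) (.node []
    (.node [] .nil (.node [(42,1)] .nil (.node [(215,(-1))] .nil .nil))) (.node [] (.node
    [(26,(-1))] .nil .nil) (.node [] (.node [(116,(-1))] .nil .nil) .nil)))))) (.node [] (.node []
    (.node [] (.node [] (.node [] (.node [] (.node [(54,(-1))] .nil .nil) (.node [(120,(-1))] .nil
    .nil)) (.node [(29,(-1))] .nil .nil)) .nil) (.node [(2,1)] (.node [] (.node [] .nil (.node
    [(131,(-1))] .nil .nil)) (.node [] .nil (.node [(196,(-1))] .nil .nil))) .nil)) (.node []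
    (.node [] .nil (.node [] (.node [(17,1)] .nil .nil) .nil)) (.node [] (.node [] .nil (.node
    [(39,1)] (.node [(101,1)] .nil .nil) .nil)) (.node [] .nil (.node [(51,(-1))] (.node [(115,1)]
    .nil .nil) .nil))))) (.node [] (.node [] (.node [] (.node [] .nil (.node [] .nil (.node
    [(174,1)] .nil .nil))) (.node [] (.node [] .nil (.node [(143,1)] .nil .nil)) .nil)) (.node []
    (.node [] (.node [] (.node [(67,(-1))] .nil .nil) .nil) (.node [] .nil (.node [(206,(-1))] .nil
    .nil))) (.node [] .nil (.node [] (.node [(112,(-1))] .nil .nil) .nil)))) (.node [] (.node []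
    (.node [] .nil (.node [] (.node [(89,1)] .nil .nil) (.node [(180,1)] .nil .nil))) (.node []
    (.node [] (.node [(73,(-1))] .nil .nil) .nil) .nil)) (.node [] (.node [] .nil (.node [] .nil
    (.node [(216,(-1))] .nil .nil))) (.node [(10,(-1))] (.node [] .nil (.node [(155,(-1))] .nil
    .nil)) .nil))))))

/-- table -/
noncomputable def auxE8Chain49 : Tr (List (ℕ × ℤ)) :=
    (.node [] (.node [] (.node [] (.node [] (.node [] (.node [] (.node [(11,1)] .nil .nil) (.node
    [(28,1)] .nil (.node [(159,(-1))] .nil .nil))) (.node [] .nil (.node [] .nil (.node [(217,1)]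
    .nil .nil)))) (.node [] (.node [] (.node [] (.node [(59,1)] .nil .nil) .nil) .nil) (.node []
    (.node [] (.node [(74,(-1))] .nil .nil) .nil) .nil))) (.node [] (.node [] (.node [] .nil (.node
    [] (.node [(81,(-1))] .nil .nil) (.node [(175,(-1))] .nil .nil))) (.node [] (.node [] .nil
    (.node [(144,(-1))] .nil .nil)) (.node [(46,1)] .nil .nil))) (.node [] (.node [] .nil (.node
    [(38,(-1))] .nil .nil)) (.node [] .nil (.node [] (.node [(113,(-1))] .nil .nil) .nil)))))
    (.node [] (.node [] (.node [] (.node [] (.node [] (.node [(55,(-1))] .nil .nil) (.node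
    [(124,(-1))] .nil .nil)) (.node [(33,(-1))] .nil .nil)) .nil) (.node [(3,(-1))] (.node []
    (.node [] (.node [(66,(-1))] .nil .nil) (.node [(132,1)] .nil .nil)) .nil) .nil)) (.node []
    (.node [] (.node [] .nil (.node [] (.node [(88,1)] .nil .nil) .nil)) (.node [] (.node
    [(18,(-1))] .nil .nil) .nil)) (.node [] (.node [] .nil (.node [(43,1)] (.node [(102,1)] .nil
    .nil) .nil)) (.node [] (.node [] .nil (.node [(154,1)] .nil .nil)) (.node [] (.node
    [(119,(-1))] .nil .nil) .nil)))))) (.node [] (.node [] (.node [] (.node [] (.node [(5,1)]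
    (.node [(12,1)] .nil (.node [(123,(-1))] .nil .nil)) .nil) (.node [] (.node [(16,1)] .nil .nil)
    .nil)) (.node [] (.node [] .nil (.node [] (.node [(91,(-1))] .nil .nil) (.node [(197,(-1))]
    .nil .nil))) (.node [] .nil (.node [(50,1)] (.node [(110,1)] .nil .nil) .nil)))) (.node []
    (.node [] (.node [] (.node [] .nil (.node [(130,(-1))] .nil .nil)) (.node [] .nil (.node
    [(176,(-1))] .nil .nil))) (.node [] (.node [] (.node [(71,1)] .nil .nil) (.node [(145,(-1))]
    .nil .nil)) (.node [(47,1)] (.node [(104,(-1))] .nil .nil) .nil))) (.node [] (.node [] (.node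
    [] (.node [(69,1)] .nil .nil) .nil) (.node [] .nil (.node [(214,1)] .nil .nil))) (.node []
    (.node [] .nil (.node [(153,1)] .nil .nil)) (.node [] (.node [(117,(-1))] .nil .nil) .nil)))))
    (.node [] (.node [] .nil (.node [] (.node [(7,1)] (.node [] .nil (.node [(133,1)] .nil .nil))
    (.node [(37,(-1))] (.node [(99,(-1))] .nil .nil) (.node [(207,(-1))] .nil .nil))) (.node
    [(9,(-1))] .nil (.node [(51,1)] .nil .nil)))) (.node [] (.node [(0,(-1))] (.node [] .nil (.node
    [] .nil (.node [(181,1)] .nil .nil))) (.node [] (.node [(19,(-1))] .nil .nil) .nil)) (.node []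
    (.node [] (.node [] .nil (.node [(142,1)] .nil .nil)) .nil) (.node [] (.node [(27,1)] (.node
    [(76,1)] .nil .nil) .nil) (.node [(52,1)] .nil .nil)))))))

/-- table -/
noncomputable def auxE8Chain50 : Tr (List (ℕ × ℤ)) :=
    (.node [] (.node [] (.node [] (.node [] (.node [] (.node [(5,(-1))] (.node [] .nil (.node
    [(123,(-1))] .nil .nil)) (.node [(29,1)] .nil (.node [(160,1)] .nil .nil))) (.node [] (.node
    [(16,(-1))] .nil .nil) .nil)) (.node [] (.node [] (.node [] (.node [(60,1)] .nil .nil) .nil)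
    (.node [] (.node [(91,(-1))] .nil .nil) .nil)) (.node [] .nil (.node [(49,1)] .nil .nil))))
    (.node [] (.node [] (.node [] (.node [] .nil (.node [(130,(-1))] .nil .nil)) (.node [] (.node
    [(82,(-1))] .nil .nil) .nil)) (.node [] .nil (.node [] (.node [(104,(-1))] .nil .nil) .nil)))
    (.node [] (.node [] (.node [] (.node [(69,1)] .nil .nil) .nil) (.node [(39,(-1))] .nil .nil))
    (.node [] (.node [] .nil (.node [(153,1)] .nil .nil)) .nil)))) (.node [] (.node [] (.node []
    (.node [] (.node [] .nil (.node [(125,1)] .nil .nil)) (.node [(34,(-1))] .nil .nil)) .nil)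
    (.node [] (.node [(7,(-1))] (.node [] (.node [(67,(-1))] .nil .nil) .nil) (.node [(37,1)] .nil
    .nil)) (.node [(9,1)] .nil (.node [(51,1)] .nil .nil)))) (.node [] (.node [] (.node [] .nil
    (.node [] (.node [(89,1)] .nil .nil) .nil)) .nil) (.node [] (.node [] (.node [] .nil (.node
    [(142,1)] .nil .nil)) (.node [(44,1)] .nil .nil)) (.node [] (.node [(27,(-1))] (.node [(76,1)]
    .nil .nil) (.node [(155,(-1))] .nil .nil)) .nil))))) (.node [] (.node [] (.node [] (.node []
    (.node [] (.node [(13,1)] (.node [(55,(-1))] .nil .nil) .nil) .nil) .nil) (.node [(3,1)] (.node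
    [] (.node [] .nil (.node [(132,1)] .nil .nil)) (.node [] .nil (.node [(198,1)] .nil .nil)))
    (.node [] .nil (.node [] (.node [(111,1)] .nil .nil) .nil)))) (.node [] (.node [] (.node []
    .nil (.node [] .nil (.node [(177,1)] .nil .nil))) (.node [] (.node [(18,1)] (.node [(72,1)]
    .nil .nil) (.node [(146,1)] .nil .nil)) (.node [(48,1)] .nil .nil))) (.node [] (.node [] .nil
    (.node [] (.node [(102,1)] .nil .nil) (.node [(215,(-1))] .nil .nil))) (.node [] .nil (.node []
    (.node [(118,(-1))] .nil .nil) .nil))))) (.node [] (.node [] (.node [] (.node [] .nil (.node []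
    .nil (.node [(175,(-1))] .nil .nil))) (.node [] (.node [] .nil (.node [(144,(-1))] .nil .nil))
    (.node [(46,(-1))] .nil .nil))) (.node [] (.node [] (.node [] .nil (.node [(134,(-1))] .nil
    .nil)) (.node [] (.node [(100,(-1))] .nil .nil) (.node [(208,1)] .nil .nil))) (.node [] .nil
    (.node [] (.node [(113,(-1))] .nil .nil) .nil)))) (.node [] (.node [(1,(-1))] (.node [] .nil
    (.node [] .nil (.node [(182,(-1))] .nil .nil))) (.node [] (.node [(20,(-1))] (.node [(74,(-1))]
    .nil .nil) .nil) .nil)) (.node [] (.node [] .nil (.node [] .nil (.node [(217,1)] .nil .nil)))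
    (.node [(11,(-1))] .nil (.node [(53,1)] (.node [(120,(-1))] .nil .nil) .nil)))))))

/-- table -/
noncomputable def auxE8Chain51 : Tr (List (ℕ × ℤ)) :=
    (.node [] (.node [] (.node [] (.node [] (.node [] (.node [] (.node [(13,(-1))] (.node
    [(55,(-1))] .nil .nil) (.node [(124,1)] .nil .nil)) (.node [] .nil (.node [(161,(-1))] .nil
    .nil))) .nil) (.node [(3,(-1))] (.node [] (.node [] (.node [(61,1)] .nil .nil) .nil) .nil)
    .nil)) (.node [] (.node [] (.node [] .nil (.node [] (.node [(83,(-1))] .nil .nil) (.node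
    [(177,1)] .nil .nil))) (.node [] (.node [] .nil (.node [(146,1)] .nil .nil)) (.node [(48,(-1))]
    .nil .nil))) (.node [] (.node [] .nil (.node [] (.node [(102,1)] .nil .nil) .nil)) (.node []
    (.node [] .nil (.node [(154,(-1))] .nil .nil)) .nil)))) (.node [] (.node [] (.node [] (.node []
    .nil (.node [(35,(-1))] .nil .nil)) .nil) (.node [] (.node [] (.node [] (.node [(68,(-1))] .nil
    .nil) (.node [(134,(-1))] .nil .nil)) (.node [(38,1)] .nil .nil)) (.node [] .nil (.node []
    (.node [(113,(-1))] .nil .nil) .nil)))) (.node [] (.node [] (.node [] .nil (.node [] (.node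
    [(90,1)] .nil .nil) .nil)) (.node [] (.node [(20,1)] (.node [(74,(-1))] .nil .nil) .nil) (.node
    [(49,1)] .nil .nil))) (.node [] (.node [] .nil (.node [(45,1)] .nil (.node [(217,1)] .nil
    .nil))) (.node [] (.node [(28,(-1))] .nil .nil) (.node [] (.node [(121,(-1))] .nil .nil)
    .nil)))))) (.node [] (.node [] (.node [] (.node [] (.node [] (.node [] .nil (.node [(125,1)]
    .nil .nil)) .nil) .nil) (.node [] (.node [(7,1)] (.node [] .nil (.node [(133,(-1))] .nil .nil))
    (.node [] .nil (.node [(199,(-1))] .nil .nil))) (.node [(9,(-1))] .nil (.node [] (.node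
    [(112,1)] .nil .nil) .nil)))) (.node [] (.node [] .nil (.node [] (.node [(19,1)] (.node
    [(73,1)] .nil .nil) .nil) .nil)) (.node [] (.node [] (.node [] .nil (.node [(142,1)] .nil
    .nil)) (.node [] .nil (.node [(216,1)] .nil .nil))) (.node [] (.node [] (.node [(76,1)] .nil
    .nil) (.node [(155,(-1))] .nil .nil)) .nil)))) (.node [] (.node [] (.node [] (.node [] (.node
    [] .nil (.node [(130,(-1))] .nil .nil)) (.node [] .nil (.node [(176,1)] .nil .nil))) (.node []
    (.node [] .nil (.node [(145,1)] .nil .nil)) (.node [(47,(-1))] (.node [(104,(-1))] .nil .nil)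
    .nil))) (.node [] (.node [] (.node [] (.node [(69,1)] .nil .nil) .nil) (.node [(39,1)] (.node
    [(101,(-1))] .nil .nil) (.node [(209,(-1))] .nil .nil))) .nil)) (.node [] (.node [(2,(-1))]
    (.node [] .nil (.node [] (.node [(91,(-1))] .nil .nil) (.node [(183,1)] .nil .nil))) (.node []
    .nil (.node [(50,1)] .nil .nil))) (.node [(5,1)] (.node [] (.node [(16,1)] .nil .nil) .nil)
    (.node [(12,(-1))] (.node [(29,(-1))] .nil .nil) (.node [(54,1)] (.node [(122,(-1))] .nil .nil)
    .nil)))))))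

/-- table -/
noncomputable def auxE8Chain52 : Tr (List (ℕ × ℤ)) :=
    (.node [] (.node [] (.node [] (.node [] (.node [] (.node [] .nil (.node [(31,1)] .nil .nil))
    (.node [] .nil (.node [(46,1)] .nil (.node [(218,(-1))] .nil .nil)))) (.node [] (.node
    [(7,(-1))] (.node [] (.node [(62,1)] .nil .nil) (.node [(133,1)] .nil .nil)) .nil) (.node []
    (.node [] (.node [(75,(-1))] .nil .nil) .nil) .nil))) (.node [] (.node [] (.node [] .nil (.node
    [] (.node [(84,(-1))] .nil .nil) (.node [(178,1)] .nil .nil))) (.node [] (.node [(19,1)] (.node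
    [(71,1)] .nil .nil) .nil) .nil)) (.node [] (.node [] .nil (.node [(41,(-1))] .nil (.node
    [(214,1)] .nil .nil))) (.node [] (.node [] (.node [(76,1)] .nil .nil) .nil) .nil)))) (.node []
    (.node [] (.node [] (.node [] (.node [] .nil (.node [(128,(-1))] .nil .nil)) .nil) (.node []
    (.node [] .nil (.node [(145,(-1))] .nil .nil)) (.node [(49,1)] (.node [(104,(-1))] .nil .nil)
    .nil))) (.node [(4,(-1))] (.node [] .nil (.node [] (.node [(99,(-1))] .nil .nil) .nil)) (.node
    [] .nil (.node [] (.node [(117,(-1))] .nil .nil) .nil)))) (.node [] (.node [(0,1)] (.node []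
    .nil (.node [] .nil (.node [(181,1)] .nil .nil))) .nil) (.node [(5,(-1))] (.node [] .nil (.node
    [] (.node [(103,1)] .nil .nil) .nil)) (.node [(12,(-1))] (.node [] .nil (.node [(157,(-1))]
    .nil .nil)) (.node [(55,1)] .nil .nil)))))) (.node [] (.node [] (.node [] (.node [] (.node []
    (.node [] .nil (.node [(127,(-1))] .nil .nil)) (.node [(33,1)] .nil .nil)) (.node [] (.node
    [(17,1)] .nil (.node [(144,(-1))] .nil .nil)) (.node [(47,1)] .nil .nil))) (.node [] (.node []
    (.node [] (.node [(66,(-1))] .nil .nil) .nil) (.node [] (.node [(92,(-1))] .nil .nil) (.node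
    [(200,1)] .nil .nil))) (.node [] .nil (.node [(53,1)] (.node [(114,(-1))] .nil .nil) .nil))))
    (.node [] (.node [] (.node [] (.node [] .nil (.node [(131,1)] .nil .nil)) (.node [] (.node
    [(88,1)] .nil .nil) (.node [(179,1)] .nil .nil))) .nil) (.node [] (.node [] (.node [] (.node
    [(70,1)] .nil .nil) .nil) (.node [(43,(-1))] .nil .nil)) (.node [(11,(-1))] (.node [] .nil
    (.node [(156,(-1))] .nil .nil)) .nil)))) (.node [] (.node [] (.node [] .nil (.node [] (.node
    [(18,1)] .nil .nil) .nil)) (.node [] (.node [] .nil (.node [(40,(-1))] .nil (.node [(210,1)]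
    .nil .nil))) (.node [(10,(-1))] .nil (.node [(54,1)] (.node [(119,(-1))] .nil .nil) .nil))))
    (.node [] (.node [] (.node [] (.node [] .nil (.node [(132,1)] .nil .nil)) .nil) .nil) (.node []
    (.node [] (.node [] .nil (.node [(143,(-1))] .nil .nil)) .nil) (.node [] (.node [(30,1)] .nil
    (.node [(159,(-1))] .nil .nil)) (.node [] (.node [(126,(-1))] .nil .nil) .nil)))))))

/-- table -/
noncomputable def auxE8Chain53 : Tr (List (ℕ × ℤ)) :=
    (.node [] (.node [] (.node [] (.node [] (.node [] (.node [] (.node [] .nil (.node [(127,(-1))]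
    .nil .nil)) (.node [(32,1)] .nil .nil)) (.node [] (.node [(17,(-1))] .nil (.node [(144,(-1))]
    .nil .nil)) .nil)) (.node [] (.node [] (.node [] (.node [(63,1)] .nil .nil) (.node [(134,(-1))]
    .nil .nil)) (.node [] (.node [(92,(-1))] .nil .nil) .nil)) (.node [] .nil (.node [(52,1)] .nil
    .nil)))) (.node [] (.node [] (.node [] (.node [] .nil (.node [(131,1)] .nil .nil)) (.node []
    (.node [(85,(-1))] .nil .nil) .nil)) (.node [] (.node [(20,1)] (.node [(72,1)] .nil .nil) .nil)
    .nil)) (.node [] (.node [] (.node [] (.node [(70,1)] .nil .nil) .nil) (.node [(42,(-1))] .nil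
    (.node [(215,(-1))] .nil .nil))) (.node [(11,1)] (.node [] .nil (.node [(156,(-1))] .nil .nil))
    (.node [] (.node [(120,(-1))] .nil .nil) .nil))))) (.node [] (.node [] (.node [] (.node []
    (.node [] .nil (.node [(129,1)] .nil .nil)) .nil) (.node [] (.node [(18,(-1))] .nil (.node
    [(146,1)] .nil .nil)) (.node [(50,1)] .nil .nil))) (.node [] (.node [] .nil (.node [(40,1)]
    (.node [(100,(-1))] .nil .nil) .nil)) (.node [(10,1)] .nil (.node [(54,1)] (.node [(118,(-1))]
    .nil .nil) .nil)))) (.node [] (.node [(1,1)] (.node [] (.node [] .nil (.node [(132,1)] .nil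
    .nil)) (.node [] .nil (.node [(182,(-1))] .nil .nil))) .nil) (.node [] (.node [] (.node [] .nil
    (.node [(143,(-1))] .nil .nil)) .nil) (.node [(13,(-1))] (.node [(30,(-1))] .nil (.node
    [(158,1)] .nil .nil)) (.node [] (.node [(126,(-1))] .nil .nil) .nil)))))) (.node [] (.node []
    (.node [] (.node [] (.node [] .nil (.node [(34,1)] .nil .nil)) (.node [] .nil (.node [(48,1)]
    (.node [(104,(-1))] .nil .nil) .nil))) (.node [(4,1)] (.node [] (.node [] (.node [(67,(-1))]
    .nil .nil) .nil) (.node [] .nil (.node [(201,(-1))] .nil .nil))) (.node [] .nil (.node []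
    (.node [(115,(-1))] .nil .nil) .nil)))) (.node [] (.node [] (.node [] .nil (.node [] (.node
    [(89,1)] .nil .nil) (.node [(180,(-1))] .nil .nil))) .nil) (.node [(5,1)] (.node [] .nil (.node
    [(44,(-1))] (.node [(103,1)] .nil .nil) .nil)) (.node [] .nil (.node [(55,1)] .nil .nil)))))
    (.node [] (.node [] (.node [] (.node [] .nil (.node [] .nil (.node [(178,1)] .nil .nil))) .nil)
    (.node [] (.node [] .nil (.node [] .nil (.node [(211,(-1))] .nil .nil))) (.node [] (.node []
    (.node [(76,1)] .nil .nil) .nil) .nil))) (.node [] (.node [] (.node [(7,1)] .nil .nil) (.node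
    [] (.node [] (.node [(75,(-1))] .nil .nil) .nil) .nil)) (.node [] (.node [] .nil (.node
    [(46,(-1))] .nil (.node [(218,(-1))] .nil .nil))) (.node [] (.node [] .nil (.node [(160,1)]
    .nil .nil)) .nil))))))

/-- table -/
noncomputable def auxE8Chain54 : Tr (List (ℕ × ℤ)) :=
    (.node [] (.node [] (.node [] (.node [] (.node [] (.node [] (.node [] .nil (.node [(128,1)]
    .nil .nil)) .nil) (.node [] (.node [] .nil (.node [(145,1)] .nil .nil)) (.node [(48,(-1))]
    (.node [(104,(-1))] .nil .nil) .nil))) (.node [(4,(-1))] (.node [] (.node [] (.node [(64,1)]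
    .nil .nil) .nil) .nil) .nil)) (.node [] (.node [] (.node [] .nil (.node [] (.node [(86,(-1))]
    .nil .nil) (.node [(180,(-1))] .nil .nil))) (.node [] (.node [] (.node [(73,1)] .nil .nil)
    .nil) .nil)) (.node [(5,(-1))] (.node [] .nil (.node [] (.node [(103,1)] .nil .nil) (.node
    [(216,1)] .nil .nil))) (.node [(12,1)] (.node [] .nil (.node [(157,1)] .nil .nil)) (.node
    [(55,1)] (.node [(122,(-1))] .nil .nil) .nil))))) (.node [] (.node [] (.node [] .nil (.node []
    (.node [(19,(-1))] .nil .nil) (.node [(51,1)] .nil .nil))) (.node [] (.node [] .nil (.node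
    [(41,1)] (.node [(101,(-1))] .nil .nil) .nil)) (.node [] (.node [] (.node [(76,1)] .nil .nil)
    .nil) .nil))) (.node [] (.node [(2,1)] (.node [(7,(-1))] (.node [] .nil (.node [(133,(-1))]
    .nil .nil)) (.node [] .nil (.node [(183,1)] .nil .nil))) (.node [] (.node [] (.node [(75,(-1))]
    .nil .nil) .nil) (.node [(52,1)] .nil .nil))) (.node [] (.node [] .nil (.node [] .nil (.node
    [(218,(-1))] .nil .nil))) (.node [] (.node [(31,(-1))] .nil .nil) .nil))))) (.node [] (.node []
    (.node [] (.node [] (.node [] (.node [] .nil (.node [(129,1)] .nil .nil)) (.node [(35,1)] .nil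
    .nil)) (.node [] (.node [] .nil (.node [(146,1)] .nil .nil)) .nil)) (.node [] (.node [] (.node
    [] (.node [(68,(-1))] .nil .nil) .nil) (.node [] .nil (.node [(202,1)] .nil .nil))) (.node
    [(10,(-1))] .nil (.node [] (.node [(116,(-1))] .nil .nil) .nil)))) (.node [] (.node [] (.node
    [] .nil (.node [] (.node [(90,1)] .nil .nil) .nil)) .nil) (.node [] (.node [] (.node [] .nil
    (.node [(143,(-1))] .nil .nil)) (.node [(45,(-1))] .nil .nil)) (.node [(13,1)] (.node [] .nil
    (.node [(158,1)] .nil .nil)) (.node [] (.node [(126,(-1))] .nil .nil) .nil))))) (.node []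
    (.node [] (.node [] (.node [] (.node [] .nil (.node [(131,1)] .nil .nil)) (.node [] .nil (.node
    [(179,(-1))] .nil .nil))) (.node [] (.node [(20,(-1))] .nil .nil) .nil)) (.node [] (.node []
    (.node [] (.node [(70,1)] .nil .nil) .nil) (.node [(42,1)] .nil (.node [(212,1)] .nil .nil)))
    (.node [] .nil (.node [] (.node [(121,(-1))] .nil .nil) .nil)))) (.node [] (.node [] (.node []
    (.node [] .nil (.node [(134,(-1))] .nil .nil)) (.node [] (.node [(92,(-1))] .nil .nil) .nil))
    (.node [] .nil (.node [(53,1)] .nil .nil))) (.node [] (.node [] (.node [(17,1)] .nil .nil)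
    (.node [(47,(-1))] .nil .nil)) (.node [] (.node [(32,(-1))] .nil (.node [(161,(-1))] .nil
    .nil)) .nil))))))

/-- table -/
noncomputable def auxE8Chain55 : Tr (List (ℕ × ℤ)) :=
    (.node [] (.node [] (.node [] (.node [] (.node [] (.node [] .nil (.node [(35,(-1))] .nil .nil))
    (.node [] (.node [(19,1)] .nil .nil) (.node [(50,(-1))] .nil .nil))) (.node [] (.node [] (.node
    [] (.node [(65,1)] .nil .nil) .nil) .nil) .nil)) (.node [] (.node [] (.node [] (.node [] .nil
    (.node [(133,(-1))] .nil .nil)) (.node [] (.node [(87,(-1))] .nil .nil) (.node [(182,1)] .nil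
    .nil))) (.node [] (.node [] (.node [(74,1)] .nil .nil) .nil) (.node [(53,1)] .nil .nil)))
    (.node [] (.node [] .nil (.node [(45,1)] .nil (.node [(217,(-1))] .nil .nil))) (.node [] (.node
    [] .nil (.node [(159,(-1))] .nil .nil)) (.node [] (.node [(125,(-1))] .nil .nil) .nil)))))
    (.node [] (.node [] .nil (.node [] (.node [] (.node [] (.node [(70,1)] .nil .nil) .nil) (.node
    [(43,1)] (.node [(102,(-1))] .nil .nil) .nil)) (.node [(12,(-1))] .nil (.node [] (.node
    [(123,(-1))] .nil .nil) .nil)))) (.node [] (.node [(3,1)] (.node [] .nil (.node [] (.node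
    [(92,(-1))] .nil .nil) .nil)) .nil) (.node [] (.node [] (.node [] .nil (.node [(145,1)] .nil
    .nil)) .nil) (.node [] (.node [(33,(-1))] .nil (.node [(161,(-1))] .nil .nil)) (.node [] (.node
    [(128,1)] .nil .nil) .nil)))))) (.node [] (.node [] (.node [] (.node [] .nil (.node [] (.node
    [(20,1)] .nil .nil) (.node [(51,(-1))] .nil .nil))) (.node [] (.node [] (.node [] (.node
    [(69,(-1))] .nil .nil) .nil) (.node [] .nil (.node [(203,(-1))] .nil .nil))) (.node [(11,(-1))]
    (.node [] (.node [(76,1)] .nil .nil) .nil) .nil))) (.node [] (.node [] (.node [(7,1)] (.node []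
    .nil (.node [(134,(-1))] .nil .nil)) (.node [] (.node [(91,1)] .nil .nil) (.node [(183,1)] .nil
    .nil))) (.node [] (.node [] (.node [(75,(-1))] .nil .nil) .nil) (.node [(54,1)] .nil .nil)))
    (.node [] (.node [] (.node [] .nil (.node [(144,1)] .nil .nil)) (.node [] .nil (.node
    [(218,(-1))] .nil .nil))) (.node [] (.node [] .nil (.node [(160,(-1))] .nil .nil)) (.node []
    (.node [(127,1)] .nil .nil) .nil))))) (.node [] (.node [] (.node [] (.node [] (.node [] .nil
    (.node [(132,(-1))] .nil .nil)) (.node [] .nil (.node [(181,1)] .nil .nil))) (.node [] .nil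
    (.node [(52,1)] .nil .nil))) (.node [(5,1)] (.node [] .nil (.node [(44,1)] (.node [(103,1)]
    .nil .nil) (.node [(213,(-1))] .nil .nil))) (.node [(13,(-1))] .nil (.node [] (.node
    [(124,(-1))] .nil .nil) .nil)))) (.node [] (.node [(4,1)] .nil .nil) (.node [] (.node [] (.node
    [(18,1)] .nil (.node [(146,1)] .nil .nil)) (.node [(49,(-1))] (.node [(104,(-1))] .nil .nil)
    .nil)) (.node [] (.node [(34,(-1))] .nil .nil) (.node [] (.node [(129,1)] .nil .nil)
    .nil)))))))

/-- table -/
noncomputable def auxE8Chain56 : Tr (List (ℕ × ℤ)) :=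
    (.node [] (.node [] (.node [] (.node [] (.node [] .nil (.node [] .nil (.node [] .nil (.node
    [(220,(-1))] .nil .nil)))) (.node [] (.node [] (.node [] .nil (.node [(136,(-1))] .nil .nil))
    (.node [(40,1)] (.node [(93,1)] .nil .nil) (.node [(194,(-1))] .nil .nil))) (.node [(11,1)]
    (.node [(23,1)] .nil .nil) .nil))) (.node [] (.node [(0,1)] (.node [(6,1)] .nil .nil) (.node
    [(9,1)] (.node [(21,1)] .nil .nil) (.node [] (.node [(114,1)] .nil .nil) .nil))) (.node []
    (.node [] (.node [] .nil (.node [(138,(-1))] .nil .nil)) .nil) (.node [] (.node [(27,1)] .nil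
    .nil) .nil)))) (.node [] (.node [] (.node [] (.node [] (.node [] (.node [(63,(-1))] .nil .nil)
    (.node [(135,(-1))] .nil .nil)) (.node [] (.node [(77,1)] .nil .nil) .nil)) (.node [] (.node []
    (.node [(71,1)] .nil .nil) (.node [(147,(-1))] .nil .nil)) (.node [] (.node [(111,(-1))] .nil
    .nil) .nil))) (.node [] (.node [] .nil (.node [] .nil (.node [(204,(-1))] .nil .nil))) (.node
    [] (.node [] .nil (.node [(153,(-1))] .nil .nil)) (.node [(57,1)] .nil .nil)))) (.node []
    (.node [] (.node [] (.node [] (.node [(66,1)] .nil .nil) .nil) (.node [(36,1)] .nil (.node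
    [(185,(-1))] .nil .nil))) (.node [] (.node [] .nil (.node [(149,(-1))] .nil .nil)) (.node []
    (.node [(117,1)] .nil .nil) .nil))) (.node [] (.node [(8,1)] .nil (.node [] (.node [(106,(-1))]
    .nil .nil) .nil)) (.node [] .nil (.node [(60,(-1))] .nil .nil)))))) (.node [] (.node [] (.node
    [] (.node [] (.node [] (.node [] (.node [(62,1)] .nil .nil) .nil) .nil) (.node [] .nil (.node
    [] (.node [(110,1)] .nil .nil) .nil))) (.node [] (.node [] .nil (.node [(46,1)] (.node
    [(94,(-1))] .nil .nil) .nil)) (.node [] (.node [] .nil (.node [(152,(-1))] .nil .nil)) .nil)))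
    (.node [] (.node [(1,1)] (.node [] .nil (.node [] .nil (.node [(184,(-1))] .nil .nil))) (.node
    [] (.node [] .nil (.node [(148,(-1))] .nil .nil)) (.node [] (.node [(115,(-1))] .nil .nil)
    .nil))) (.node [] (.node [] .nil (.node [] (.node [(105,1)] .nil .nil) .nil)) (.node [] (.node
    [(30,1)] .nil .nil) (.node [(59,1)] .nil .nil))))) (.node [] (.node [] (.node [] (.node [] .nil
    (.node [] (.node [(78,(-1))] .nil .nil) .nil)) (.node [] (.node [] (.node [(72,(-1))] .nil
    .nil) .nil) .nil)) (.node [] (.node [] (.node [] .nil (.node [(137,(-1))] .nil .nil)) .nil)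
    (.node [] (.node [(26,1)] .nil (.node [(156,(-1))] .nil .nil)) (.node [(58,(-1))] .nil .nil))))
    (.node [] (.node [] (.node [] (.node [] (.node [(67,(-1))] .nil .nil) .nil) (.node [(37,1)]
    .nil (.node [(188,(-1))] .nil .nil))) (.node [(10,1)] (.node [(22,1)] .nil .nil) (.node []
    (.node [(118,(-1))] .nil .nil) .nil))) (.node [] (.node [] .nil (.node [] .nil (.node
    [(219,(-1))] .nil .nil))) .nil)))))

/-- table -/
noncomputable def auxE8Chain57 : Tr (List (ℕ × ℤ)) :=
    (.node [] (.node [] (.node [] (.node [] (.node [] (.node [] (.node [] (.node [(62,1)] .nil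
    .nil) .nil) .nil) (.node [] .nil (.node [] (.node [(110,1)] .nil .nil) (.node [(221,1)] .nil
    .nil)))) (.node [] (.node [] .nil (.node [(41,1)] .nil (.node [(195,1)] .nil .nil))) (.node
    [(12,1)] (.node [(24,1)] .nil (.node [(152,(-1))] .nil .nil)) (.node [] (.node [(121,(-1))]
    .nil .nil) .nil)))) (.node [] (.node [] (.node [] .nil (.node [] .nil (.node [(184,(-1))] .nil
    .nil))) (.node [] (.node [] .nil (.node [(148,(-1))] .nil .nil)) .nil)) (.node [] (.node []
    (.node [] .nil (.node [(139,1)] .nil .nil)) (.node [] (.node [(105,1)] .nil .nil) .nil)) (.node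
    [] (.node [(28,1)] .nil .nil) (.node [(59,1)] .nil .nil))))) (.node [] (.node [] (.node []
    (.node [] (.node [] (.node [(64,(-1))] .nil .nil) .nil) .nil) (.node [] .nil (.node [] (.node
    [(112,(-1))] .nil .nil) .nil))) (.node [] (.node [] (.node [] .nil (.node [(137,(-1))] .nil
    .nil)) (.node [] .nil (.node [(205,1)] .nil .nil))) (.node [] (.node [(26,(-1))] .nil (.node
    [(154,1)] .nil .nil)) .nil))) (.node [] (.node [] (.node [] .nil (.node [] .nil (.node
    [(186,1)] .nil .nil))) (.node [(10,(-1))] (.node [(22,(-1))] .nil (.node [(150,1)] .nil .nil))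
    (.node [] (.node [(119,(-1))] .nil .nil) .nil))) (.node [] (.node [] .nil (.node [] (.node
    [(107,(-1))] .nil .nil) (.node [(219,(-1))] .nil .nil))) (.node [] .nil (.node [(61,(-1))] .nil
    .nil)))))) (.node [] (.node [] (.node [] (.node [] (.node [] (.node [] .nil (.node [(135,(-1))]
    .nil .nil)) (.node [] (.node [(77,1)] .nil .nil) .nil)) (.node [] (.node [] (.node [(71,1)]
    .nil .nil) (.node [(147,(-1))] .nil .nil)) .nil)) (.node [] (.node [] .nil (.node [(47,1)]
    (.node [(95,(-1))] .nil .nil) .nil)) (.node [] .nil (.node [(58,1)] .nil .nil)))) (.node []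
    (.node [(2,1)] (.node [] (.node [] (.node [(66,1)] .nil .nil) .nil) (.node [(36,(-1))] .nil
    .nil)) (.node [] .nil (.node [] (.node [(116,(-1))] .nil .nil) .nil))) (.node [] (.node
    [(8,(-1))] .nil .nil) (.node [] (.node [(31,1)] .nil .nil) .nil)))) (.node [] (.node [] (.node
    [(0,(-1))] (.node [(6,(-1))] .nil (.node [] (.node [(79,(-1))] .nil .nil) .nil)) (.node
    [(9,(-1))] (.node [(21,(-1))] (.node [(73,(-1))] .nil .nil) .nil) (.node [] (.node [(114,1)]
    .nil .nil) .nil))) (.node [] .nil (.node [] (.node [] .nil (.node [(157,1)] .nil .nil)) .nil)))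
    (.node [] (.node [] (.node [] (.node [] (.node [(68,(-1))] .nil .nil) (.node [(136,(-1))] .nil
    .nil)) (.node [(38,1)] (.node [(93,1)] .nil .nil) (.node [(189,1)] .nil .nil))) (.node [] .nil
    (.node [(56,1)] .nil .nil))) .nil))))

/-- table -/
noncomputable def auxE8Chain58 : Tr (List (ℕ × ℤ)) :=
    (.node [] (.node [] (.node [] (.node [] (.node [] (.node [] (.node [] (.node [(63,1)] .nil
    .nil) (.node [(135,(-1))] .nil .nil)) (.node [] (.node [(77,1)] .nil .nil) .nil)) (.node []
    (.node [] .nil (.node [(147,(-1))] .nil .nil)) (.node [] (.node [(111,1)] .nil .nil) .nil)))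
    (.node [] (.node [] .nil (.node [(42,1)] (.node [(95,(-1))] .nil .nil) (.node [(196,(-1))] .nil
    .nil))) (.node [(13,1)] (.node [(25,1)] .nil .nil) (.node [(57,1)] (.node [(122,1)] .nil .nil)
    .nil)))) (.node [] (.node [(2,(-1))] (.node [] .nil (.node [(36,1)] .nil .nil)) (.node [] .nil
    (.node [] (.node [(116,(-1))] .nil .nil) .nil))) (.node [] (.node [(8,1)] (.node [] .nil (.node
    [(140,(-1))] .nil .nil)) (.node [] (.node [(106,1)] .nil .nil) .nil)) (.node [] (.node [(29,1)]
    .nil .nil) (.node [(60,1)] .nil .nil))))) (.node [] (.node [] (.node [] (.node [(6,1)] .nil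
    .nil) (.node [(9,1)] (.node [(21,1)] (.node [(73,(-1))] .nil .nil) .nil) .nil)) (.node []
    (.node [] .nil (.node [] .nil (.node [(206,(-1))] .nil .nil))) (.node [] (.node [] .nil (.node
    [(155,(-1))] .nil .nil)) .nil))) (.node [] (.node [] (.node [] (.node [] (.node [(68,(-1))]
    .nil .nil) (.node [(136,(-1))] .nil .nil)) (.node [] .nil (.node [(187,(-1))] .nil .nil)))
    (.node [] (.node [] .nil (.node [(151,(-1))] .nil .nil)) (.node [(56,(-1))] .nil .nil))) (.node
    [] (.node [] .nil (.node [] .nil (.node [(220,1)] .nil .nil))) .nil)))) (.node [] (.node []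
    (.node [] (.node [] (.node [] (.node [] (.node [(64,(-1))] .nil .nil) .nil) .nil) (.node []
    (.node [] (.node [(72,1)] .nil .nil) .nil) (.node [] (.node [(112,(-1))] .nil .nil) .nil)))
    (.node [] (.node [] (.node [] .nil (.node [(137,(-1))] .nil .nil)) (.node [(48,1)] .nil .nil))
    (.node [] (.node [(26,1)] .nil .nil) .nil))) (.node [] (.node [] (.node [] (.node [] (.node
    [(67,1)] .nil .nil) .nil) .nil) (.node [(10,1)] (.node [(22,1)] .nil .nil) .nil)) (.node []
    (.node [] .nil (.node [] (.node [(107,(-1))] .nil .nil) .nil)) (.node [] (.node [(32,1)] .nil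
    .nil) (.node [(61,(-1))] .nil .nil))))) (.node [] (.node [] (.node [(1,(-1))] (.node [] .nil
    (.node [] (.node [(80,(-1))] .nil .nil) (.node [(184,(-1))] .nil .nil))) (.node [] (.node []
    .nil (.node [(148,(-1))] .nil .nil)) (.node [] (.node [(115,1)] .nil .nil) .nil))) (.node []
    .nil (.node [] (.node [] .nil (.node [(158,(-1))] .nil .nil)) .nil))) (.node [] (.node []
    (.node [] .nil (.node [(39,1)] (.node [(94,1)] .nil .nil) (.node [(190,(-1))] .nil .nil)))
    (.node [] (.node [] .nil (.node [(152,(-1))] .nil .nil)) (.node [] (.node [(120,(-1))] .nil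
    .nil) .nil))) (.node [] (.node [] .nil (.node [] .nil (.node [(221,1)] .nil .nil))) .nil)))))

/-- table -/
noncomputable def auxE8Chain59 : Tr (List (ℕ × ℤ)) :=
    (.node [] (.node [] (.node [] (.node [] (.node [] .nil (.node [] (.node [] (.node [(71,1)] .nil
    .nil) .nil) (.node [] .nil (.node [(222,(-1))] .nil .nil)))) (.node [] (.node [] .nil (.node
    [(43,1)] .nil (.node [(197,(-1))] .nil .nil))) (.node [] (.node [] .nil (.node [(153,1)] .nil
    .nil)) (.node [] (.node [(124,(-1))] .nil .nil) .nil)))) (.node [] (.node [] (.node [] (.node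
    [] (.node [(66,1)] .nil .nil) .nil) (.node [] .nil (.node [(185,1)] .nil .nil))) (.node []
    (.node [] .nil (.node [(149,1)] .nil .nil)) (.node [(56,1)] (.node [(119,(-1))] .nil .nil)
    .nil))) .nil)) (.node [] (.node [] (.node [(0,1)] (.node [] (.node [] (.node [(65,(-1))] .nil
    .nil) .nil) .nil) (.node [] .nil (.node [] (.node [(113,(-1))] .nil .nil) .nil))) (.node []
    (.node [] (.node [] .nil (.node [(138,1)] .nil .nil)) (.node [] .nil (.node [(207,(-1))] .nil
    .nil))) (.node [] (.node [(27,(-1))] .nil .nil) .nil))) (.node [] (.node [] (.node [] .nil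
    (.node [(38,(-1))] (.node [(93,1)] .nil .nil) .nil)) (.node [(11,(-1))] (.node [(23,(-1))] .nil
    .nil) .nil)) (.node [] (.node [] .nil (.node [] (.node [(108,(-1))] .nil .nil) .nil)) .nil))))
    (.node [] (.node [] (.node [] (.node [] (.node [(6,1)] .nil .nil) (.node [(9,1)] (.node
    [(21,1)] .nil .nil) .nil)) (.node [] (.node [] .nil (.node [(49,1)] (.node [(96,(-1))] .nil
    .nil) .nil)) (.node [] (.node [] .nil (.node [(154,1)] .nil .nil)) (.node [(60,1)] .nil
    .nil)))) (.node [] (.node [(3,1)] (.node [] (.node [] .nil (.node [(136,(-1))] .nil .nil))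
    (.node [(37,(-1))] .nil (.node [(186,1)] .nil .nil))) (.node [] (.node [] .nil (.node [(150,1)]
    .nil .nil)) (.node [(57,1)] .nil .nil))) (.node [] (.node [] .nil (.node [] .nil (.node
    [(219,(-1))] .nil .nil))) (.node [] (.node [(33,1)] .nil .nil) .nil)))) (.node [] (.node []
    (.node [] (.node [] .nil (.node [] (.node [(81,(-1))] .nil .nil) .nil)) (.node [] (.node []
    (.node [(74,(-1))] .nil .nil) .nil) (.node [] (.node [(117,(-1))] .nil .nil) .nil))) (.node []
    (.node [(8,1)] (.node [] .nil (.node [(139,1)] .nil .nil)) (.node [] (.node [(105,1)] .nil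
    .nil) .nil)) (.node [] (.node [(28,(-1))] .nil (.node [(159,(-1))] .nil .nil)) (.node [(61,1)]
    .nil .nil)))) (.node [] (.node [] (.node [] (.node [] (.node [(69,(-1))] .nil .nil) .nil)
    (.node [] .nil (.node [(191,(-1))] .nil .nil))) (.node [(12,(-1))] (.node [(24,(-1))] .nil
    .nil) (.node [] (.node [(123,(-1))] .nil .nil) .nil))) (.node [] (.node [] (.node [] .nil
    (.node [(147,(-1))] .nil .nil)) (.node [] (.node [(110,1)] .nil .nil) .nil)) (.node [] (.node
    [] (.node [(77,1)] .nil .nil) .nil) (.node [(62,1)] (.node [(135,(-1))] .nil .nil) .nil)))))))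

/-- table -/
noncomputable def auxE8Chain60 : Tr (List (ℕ × ℤ)) :=
    (.node [] (.node [] (.node [] (.node [] (.node [] (.node [(6,(-1))] .nil .nil) (.node
    [(9,(-1))] (.node [(21,(-1))] (.node [(72,1)] .nil .nil) .nil) .nil)) (.node [] (.node [] .nil
    (.node [(44,1)] (.node [(96,(-1))] .nil .nil) (.node [(198,1)] .nil .nil))) (.node [] .nil
    (.node [(59,1)] (.node [(125,1)] .nil .nil) .nil)))) (.node [] (.node [(3,(-1))] (.node []
    (.node [] (.node [(67,1)] .nil .nil) (.node [(136,(-1))] .nil .nil)) (.node [(37,1)] .nil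
    .nil)) .nil) .nil)) (.node [] (.node [] (.node [(1,1)] .nil (.node [] (.node [] (.node
    [(74,(-1))] .nil .nil) .nil) .nil)) (.node [] (.node [(8,(-1))] .nil (.node [] .nil (.node
    [(208,1)] .nil .nil))) (.node [] .nil (.node [(61,1)] .nil .nil)))) (.node [] (.node [] (.node
    [] (.node [] (.node [(69,(-1))] .nil .nil) .nil) (.node [(39,(-1))] (.node [(94,1)] .nil .nil)
    .nil)) (.node [] .nil (.node [] (.node [(123,(-1))] .nil .nil) .nil))) (.node [] (.node []
    (.node [] .nil (.node [(147,(-1))] .nil .nil)) .nil) (.node [] (.node [] (.node [(77,1)] .nil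
    .nil) .nil) (.node [] (.node [(135,(-1))] .nil .nil) .nil)))))) (.node [] (.node [] (.node []
    (.node [] (.node [] (.node [] (.node [(65,(-1))] .nil .nil) .nil) .nil) (.node [] .nil (.node
    [] (.node [(113,(-1))] .nil .nil) .nil))) (.node [] (.node [] (.node [] .nil (.node [(138,1)]
    .nil .nil)) (.node [(50,1)] .nil .nil)) (.node [] (.node [(27,1)] .nil (.node [(155,(-1))] .nil
    .nil)) .nil))) (.node [] (.node [] (.node [] .nil (.node [] .nil (.node [(187,(-1))] .nil
    .nil))) (.node [(11,1)] (.node [(23,1)] .nil (.node [(151,(-1))] .nil .nil)) (.node [(58,1)]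
    (.node [(120,(-1))] .nil .nil) .nil))) (.node [] (.node [] .nil (.node [] (.node [(108,(-1))]
    .nil .nil) (.node [(220,1)] .nil .nil))) (.node [] (.node [(34,1)] .nil .nil) .nil)))) (.node
    [] (.node [] (.node [] (.node [] .nil (.node [] (.node [(82,(-1))] .nil .nil) (.node [(185,1)]
    .nil .nil))) (.node [] (.node [] .nil (.node [(149,1)] .nil .nil)) (.node [(56,(-1))] (.node
    [(118,(-1))] .nil .nil) .nil))) (.node [] (.node [] (.node [] .nil (.node [(140,(-1))] .nil
    .nil)) (.node [] (.node [(106,1)] .nil .nil) .nil)) (.node [] (.node [(29,(-1))] .nil (.node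
    [(160,1)] .nil .nil)) .nil))) (.node [] (.node [] (.node [] .nil (.node [] .nil (.node
    [(192,1)] .nil .nil))) (.node [(13,(-1))] (.node [(25,(-1))] .nil (.node [(153,1)] .nil .nil))
    .nil)) (.node [] (.node [] .nil (.node [] (.node [(111,1)] .nil .nil) (.node [(222,(-1))] .nil
    .nil))) (.node [] .nil (.node [(63,1)] .nil .nil)))))))

/-- table -/
noncomputable def auxE8Chain61 : Tr (List (ℕ × ℤ)) :=
    (.node [] (.node [] (.node [] (.node [] (.node [] (.node [] (.node [] (.node [(65,(-1))] .nil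
    .nil) .nil) .nil) (.node [] (.node [] (.node [(73,1)] .nil .nil) .nil) (.node [] (.node
    [(113,(-1))] .nil .nil) .nil))) (.node [] (.node [] .nil (.node [(45,1)] .nil (.node
    [(199,(-1))] .nil .nil))) (.node [] (.node [] .nil (.node [(155,(-1))] .nil .nil)) .nil)))
    (.node [] (.node [] (.node [] (.node [] (.node [(68,1)] .nil .nil) .nil) (.node [(38,1)] .nil
    (.node [(187,(-1))] .nil .nil))) (.node [] (.node [] .nil (.node [(151,(-1))] .nil .nil))
    (.node [(58,(-1))] (.node [(121,(-1))] .nil .nil) .nil))) (.node [] (.node [] .nil (.node []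
    (.node [(108,(-1))] .nil .nil) .nil)) .nil))) (.node [] (.node [] (.node [(2,1)] .nil .nil)
    (.node [] (.node [] (.node [] .nil (.node [(140,(-1))] .nil .nil)) (.node [] .nil (.node
    [(209,(-1))] .nil .nil))) (.node [] (.node [(29,1)] .nil .nil) .nil))) (.node [] (.node []
    (.node [] .nil (.node [] (.node [(95,1)] .nil .nil) .nil)) (.node [(13,1)] (.node [(25,1)] .nil
    .nil) (.node [(59,1)] (.node [(124,1)] .nil .nil) .nil))) (.node [] (.node [] .nil (.node []
    .nil (.node [(222,(-1))] .nil .nil))) .nil)))) (.node [] (.node [] (.node [] (.node [] .nil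
    (.node [] (.node [] (.node [(74,(-1))] .nil .nil) .nil) .nil)) (.node [] (.node [(8,1)] (.node
    [] .nil (.node [(139,(-1))] .nil .nil)) (.node [(51,1)] .nil .nil)) (.node [] (.node [(28,1)]
    .nil .nil) .nil))) (.node [] (.node [] (.node [] (.node [] (.node [(69,(-1))] .nil .nil) .nil)
    (.node [(39,1)] .nil .nil)) (.node [(12,1)] (.node [(24,1)] .nil .nil) (.node [] (.node
    [(122,(-1))] .nil .nil) .nil))) (.node [] (.node [] (.node [] .nil (.node [(147,(-1))] .nil
    .nil)) (.node [] .nil (.node [(221,(-1))] .nil .nil))) (.node [] (.node [(35,1)] (.node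
    [(77,1)] .nil .nil) .nil) (.node [] (.node [(135,(-1))] .nil .nil) .nil))))) (.node [] (.node
    [] (.node [(3,1)] (.node [] (.node [] .nil (.node [(136,(-1))] .nil .nil)) (.node [] (.node
    [(83,(-1))] .nil .nil) (.node [(186,(-1))] .nil .nil))) (.node [] (.node [] .nil (.node
    [(150,(-1))] .nil .nil)) (.node [(57,(-1))] .nil .nil))) (.node [] (.node [] .nil (.node []
    (.node [(107,1)] .nil .nil) .nil)) (.node [] (.node [] .nil (.node [(161,(-1))] .nil .nil))
    .nil))) (.node [] (.node [] (.node [] .nil (.node [] (.node [(96,(-1))] .nil .nil) (.node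
    [(193,(-1))] .nil .nil))) (.node [] (.node [] .nil (.node [(154,(-1))] .nil .nil)) (.node
    [(60,1)] (.node [(125,1)] .nil .nil) .nil))) (.node [(6,1)] (.node [(9,1)] (.node [(21,1)] .nil
    .nil) (.node [] (.node [(112,1)] .nil .nil) .nil)) (.node [] .nil (.node [(64,1)] .nil
    .nil)))))))

/-- table -/
noncomputable def auxE8Chain62 : Tr (List (ℕ × ℤ)) :=
    (.node [] (.node [] (.node [] (.node [] (.node [] .nil (.node [] .nil (.node [(56,1)] (.node
    [(117,(-1))] .nil .nil) (.node [(223,1)] .nil .nil)))) (.node [] (.node [(8,(-1))] (.node []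
    .nil (.node [(139,1)] .nil .nil)) (.node [] .nil (.node [(200,1)] .nil .nil))) (.node [] (.node
    [] .nil (.node [(156,(-1))] .nil .nil)) (.node [] (.node [(128,(-1))] .nil .nil) .nil))))
    (.node [] (.node [] (.node [] .nil (.node [] .nil (.node [(188,(-1))] .nil .nil))) (.node
    [(12,1)] (.node [(24,1)] .nil .nil) .nil)) (.node [] (.node [] .nil (.node [] .nil (.node
    [(219,(-1))] .nil .nil))) (.node [] (.node [(33,(-1))] (.node [(77,1)] .nil .nil) .nil) (.node
    [] (.node [(135,(-1))] .nil .nil) .nil))))) (.node [] (.node [] (.node [] .nil (.node [] (.node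
    [] .nil (.node [(150,1)] .nil .nil)) (.node [(59,1)] .nil .nil))) (.node [] (.node [] .nil
    (.node [] (.node [(105,1)] .nil .nil) (.node [(210,1)] .nil .nil))) (.node [] (.node
    [(30,(-1))] .nil (.node [(159,(-1))] .nil .nil)) .nil))) (.node [] (.node [] (.node [] .nil
    (.node [(41,(-1))] .nil (.node [(191,(-1))] .nil .nil))) .nil) (.node [(6,(-1))] (.node [] .nil
    (.node [] (.node [(109,(-1))] .nil .nil) .nil)) (.node [] .nil (.node [(65,1)] .nil .nil))))))
    (.node [] (.node [] (.node [] (.node [(0,(-1))] .nil (.node [(10,1)] (.node [(22,1)] .nil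
    (.node [(149,1)] .nil .nil)) (.node [(57,1)] (.node [(119,(-1))] .nil .nil) .nil))) (.node []
    (.node [] .nil (.node [(52,1)] (.node [(97,(-1))] .nil .nil) .nil)) (.node [] (.node [] .nil
    (.node [(157,(-1))] .nil .nil)) (.node [(63,1)] .nil .nil)))) (.node [] (.node [(4,1)] (.node
    [] (.node [] .nil (.node [(137,1)] .nil .nil)) (.node [(40,(-1))] (.node [(93,1)] .nil .nil)
    (.node [(189,(-1))] .nil .nil))) (.node [] .nil (.node [] (.node [(126,(-1))] .nil .nil)
    .nil))) .nil)) (.node [] (.node [] (.node [] (.node [] (.node [] (.node [(66,1)] .nil .nil)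
    .nil) (.node [] (.node [(84,(-1))] .nil .nil) .nil)) (.node [(11,1)] (.node [(23,1)] (.node
    [(75,(-1))] .nil .nil) .nil) .nil)) (.node [] .nil (.node [] (.node [(31,(-1))] .nil .nil)
    (.node [(64,1)] .nil .nil)))) (.node [] (.node [] (.node [] (.node [] (.node [(70,(-1))] .nil
    .nil) (.node [(138,1)] .nil .nil)) (.node [(43,(-1))] .nil .nil)) (.node [] .nil (.node []
    (.node [(127,(-1))] .nil .nil) .nil))) (.node [] (.node [] (.node [] (.node [(71,1)] .nil .nil)
    (.node [(148,1)] .nil .nil)) (.node [] (.node [(114,(-1))] .nil .nil) .nil)) .nil)))))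

/-- table -/
noncomputable def auxE8Chain63 : Tr (List (ℕ × ℤ)) :=
    (.node [] (.node [] (.node [] (.node [] (.node [] .nil (.node [(10,(-1))] (.node [(22,(-1))]
    .nil (.node [(149,1)] .nil .nil)) (.node [] (.node [(118,(-1))] .nil .nil) .nil))) (.node []
    (.node [] (.node [] .nil (.node [(140,(-1))] .nil .nil)) (.node [] (.node [(97,(-1))] .nil
    .nil) (.node [(201,(-1))] .nil .nil))) (.node [] .nil (.node [(62,1)] (.node [(129,1)] .nil
    .nil) .nil)))) (.node [] (.node [(4,(-1))] (.node [] (.node [] .nil (.node [(137,1)] .nil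
    .nil)) (.node [(40,1)] .nil .nil)) (.node [(13,1)] (.node [(25,1)] .nil .nil) (.node [] (.node
    [(126,(-1))] .nil .nil) .nil))) (.node [] (.node [] .nil (.node [] .nil (.node [(220,1)] .nil
    .nil))) (.node [] (.node [(34,(-1))] .nil .nil) .nil)))) (.node [] (.node [] (.node [] .nil
    (.node [(11,(-1))] (.node [(23,(-1))] (.node [(75,(-1))] .nil .nil) (.node [(151,(-1))] .nil
    .nil)) (.node [(60,1)] (.node [(120,(-1))] .nil .nil) .nil))) (.node [] (.node [] .nil (.node
    [] (.node [(106,1)] .nil .nil) (.node [(211,(-1))] .nil .nil))) (.node [] (.node [] .nil (.node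
    [(160,1)] .nil .nil)) (.node [(64,1)] .nil .nil)))) (.node [] (.node [] (.node [] (.node []
    (.node [(70,(-1))] .nil .nil) (.node [(138,1)] .nil .nil)) (.node [(42,(-1))] .nil (.node
    [(192,1)] .nil .nil))) (.node [] .nil (.node [] (.node [(127,(-1))] .nil .nil) .nil))) (.node
    [] (.node [] (.node [] .nil (.node [(148,1)] .nil .nil)) .nil) .nil)))) (.node [] (.node []
    (.node [] (.node [(1,(-1))] .nil (.node [] .nil (.node [(58,1)] .nil .nil))) (.node [] (.node
    [] .nil (.node [(53,1)] .nil .nil)) (.node [] (.node [(30,1)] .nil (.node [(158,1)] .nil .nil))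
    .nil))) (.node [] (.node [] (.node [] .nil (.node [] (.node [(94,1)] .nil .nil) (.node
    [(190,1)] .nil .nil))) .nil) (.node [(6,1)] (.node [] .nil (.node [] (.node [(109,(-1))] .nil
    .nil) .nil)) (.node [] .nil (.node [(65,1)] .nil .nil))))) (.node [] (.node [] (.node [] (.node
    [] (.node [] (.node [(67,1)] .nil .nil) .nil) (.node [] (.node [(85,(-1))] .nil .nil) (.node
    [(188,(-1))] .nil .nil))) .nil) (.node [] .nil (.node [] (.node [(32,(-1))] (.node [(77,1)]
    .nil .nil) .nil) (.node [] (.node [(135,(-1))] .nil .nil) .nil)))) (.node [] (.node [] (.node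
    [(8,1)] .nil (.node [(44,(-1))] .nil .nil)) (.node [] (.node [] .nil (.node [(156,(-1))] .nil
    .nil)) .nil)) (.node [] (.node [] (.node [] (.node [(72,1)] .nil .nil) .nil) (.node [(56,(-1))]
    (.node [(115,(-1))] .nil .nil) (.node [(223,1)] .nil .nil))) .nil)))))

/-- table -/
noncomputable def auxE8Chain64 : Tr (List (ℕ × ℤ)) :=
    (.node [] (.node [] (.node [] (.node [] (.node [] .nil (.node [] (.node [] .nil (.node
    [(150,(-1))] .nil .nil)) (.node [(58,(-1))] .nil .nil))) (.node [] (.node [] .nil (.node []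
    .nil (.node [(202,1)] .nil .nil))) (.node [] (.node [] .nil (.node [(158,1)] .nil .nil))
    .nil))) (.node [] (.node [] (.node [] .nil (.node [(41,1)] .nil (.node [(190,1)] .nil .nil)))
    .nil) (.node [(6,(-1))] (.node [] .nil (.node [] (.node [(109,(-1))] .nil .nil) (.node
    [(221,(-1))] .nil .nil))) (.node [] (.node [(35,(-1))] .nil .nil) (.node [(65,1)] .nil
    .nil))))) (.node [] (.node [] (.node [] .nil (.node [(12,(-1))] (.node [(24,(-1))] .nil .nil)
    (.node [(61,1)] (.node [(122,(-1))] .nil .nil) .nil))) (.node [] (.node [] .nil (.node []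
    (.node [(107,1)] .nil .nil) (.node [(212,1)] .nil .nil))) (.node [] (.node [(32,1)] (.node
    [(77,1)] .nil .nil) (.node [(161,(-1))] .nil .nil)) (.node [] (.node [(135,(-1))] .nil .nil)
    .nil)))) (.node [] (.node [] (.node [(8,(-1))] (.node [] .nil (.node [(139,(-1))] .nil .nil))
    (.node [] .nil (.node [(193,(-1))] .nil .nil))) (.node [] .nil (.node [(62,1)] (.node [(128,1)]
    .nil .nil) .nil))) (.node [] (.node [] .nil (.node [] .nil (.node [(223,1)] .nil .nil)))
    .nil)))) (.node [] (.node [] (.node [] (.node [(2,(-1))] .nil (.node [] (.node [] (.node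
    [(75,(-1))] .nil .nil) (.node [(151,(-1))] .nil .nil)) (.node [] (.node [(121,(-1))] .nil .nil)
    .nil))) (.node [] (.node [] .nil (.node [(54,1)] .nil .nil)) (.node [] (.node [(31,1)] .nil
    .nil) .nil))) (.node [] (.node [] (.node [] (.node [] (.node [(70,(-1))] .nil .nil) .nil)
    (.node [(42,1)] (.node [(95,1)] .nil .nil) .nil)) .nil) (.node [] (.node [] (.node [] .nil
    (.node [(148,1)] .nil .nil)) .nil) .nil))) (.node [] (.node [] (.node [(4,1)] (.node [] (.node
    [] (.node [(68,1)] .nil .nil) (.node [(137,1)] .nil .nil)) (.node [] (.node [(86,(-1))] .nil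
    .nil) (.node [(189,1)] .nil .nil))) (.node [(13,(-1))] (.node [(25,(-1))] .nil .nil) (.node []
    (.node [(126,(-1))] .nil .nil) .nil))) .nil) (.node [] (.node [] (.node [] (.node [] .nil
    (.node [(140,(-1))] .nil .nil)) (.node [(45,(-1))] (.node [(97,(-1))] .nil .nil) .nil)) (.node
    [] (.node [] .nil (.node [(157,1)] .nil .nil)) (.node [(63,1)] (.node [(129,1)] .nil .nil)
    .nil))) (.node [] (.node [(10,1)] (.node [(22,1)] (.node [(73,1)] .nil .nil) .nil) (.node
    [(57,(-1))] (.node [(116,(-1))] .nil .nil) .nil)) .nil)))))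

/-- table -/
noncomputable def auxE8Chain65 : Tr (List (ℕ × ℤ)) :=
    (.node [] (.node [] (.node [] (.node [] (.node [] .nil (.node [(12,1)] (.node [(24,1)] (.node
    [(75,(-1))] .nil .nil) .nil) (.node [(60,(-1))] (.node [(123,(-1))] .nil .nil) .nil))) (.node
    [] (.node [] .nil (.node [] .nil (.node [(203,(-1))] .nil .nil))) (.node [] (.node [] .nil
    (.node [(160,(-1))] .nil .nil)) .nil))) (.node [] (.node [] (.node [] (.node [] (.node
    [(70,(-1))] .nil .nil) (.node [(139,(-1))] .nil .nil)) (.node [(43,1)] .nil (.node [(192,(-1))]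
    .nil .nil))) (.node [] .nil (.node [(63,1)] (.node [(128,1)] .nil .nil) .nil))) (.node []
    (.node [] .nil (.node [] .nil (.node [(222,1)] .nil .nil))) .nil))) (.node [] (.node [] (.node
    [(4,(-1))] .nil (.node [] .nil (.node [] (.node [(125,(-1))] .nil .nil) .nil))) (.node []
    (.node [] .nil (.node [] (.node [(108,1)] .nil .nil) (.node [(213,(-1))] .nil .nil))) (.node []
    (.node [(34,1)] .nil .nil) .nil))) (.node [] (.node [] (.node [] .nil (.node [(45,1)] (.node
    [(97,(-1))] .nil .nil) .nil)) .nil) (.node [] (.node [] (.node [] .nil (.node [(150,(-1))] .nil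
    .nil)) .nil) .nil)))) (.node [] (.node [] (.node [] (.node [(3,(-1))] .nil (.node [(13,1)]
    (.node [(25,1)] .nil .nil) (.node [(61,(-1))] (.node [(124,(-1))] .nil .nil) .nil))) (.node []
    (.node [] .nil (.node [(55,1)] .nil .nil)) (.node [] (.node [(33,1)] (.node [(77,1)] .nil .nil)
    (.node [(161,(-1))] .nil .nil)) (.node [] (.node [(135,(-1))] .nil .nil) .nil)))) (.node []
    (.node [] (.node [(8,1)] (.node [] .nil (.node [(140,(-1))] .nil .nil)) (.node [(44,1)] (.node
    [(96,1)] .nil .nil) (.node [(193,(-1))] .nil .nil))) (.node [] .nil (.node [(64,1)] (.node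
    [(129,1)] .nil .nil) .nil))) (.node [] (.node [] (.node [] .nil (.node [(149,(-1))] .nil .nil))
    (.node [] .nil (.node [(223,1)] .nil .nil))) .nil))) (.node [] (.node [] (.node [] (.node []
    (.node [] (.node [(69,1)] .nil .nil) (.node [(138,(-1))] .nil .nil)) (.node [] (.node
    [(87,(-1))] .nil .nil) (.node [(191,(-1))] .nil .nil))) (.node [] .nil (.node [(62,1)] (.node
    [(127,1)] .nil .nil) .nil))) (.node [(6,1)] (.node [] .nil (.node [] (.node [(109,(-1))] .nil
    .nil) .nil)) (.node [] (.node [(35,1)] .nil .nil) .nil))) (.node [] (.node [] .nil (.node []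
    (.node [] .nil (.node [(159,(-1))] .nil .nil)) .nil)) (.node [] (.node [(11,1)] (.node [(23,1)]
    (.node [(74,1)] .nil .nil) (.node [(151,(-1))] .nil .nil)) (.node [(59,(-1))] .nil .nil))
    .nil)))))

/-- table -/
noncomputable def auxE8Chain66 : Tr (List (ℕ × ℤ)) :=
    (.node [] (.node [] (.node [] (.node [] (.node [(0,1)] .nil (.node [] .nil (.node [] .nil
    (.node [(224,(-1))] .nil .nil)))) (.node [] (.node [(9,(-1))] .nil (.node [(52,(-1))] .nil
    .nil)) (.node [] (.node [(33,1)] (.node [(77,1)] .nil .nil) .nil) (.node [] (.node [(133,(-1))]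
    .nil .nil) .nil)))) (.node [] (.node [] (.node [] .nil (.node [] (.node [(93,1)] .nil .nil)
    (.node [(194,1)] .nil .nil))) (.node [] (.node [(28,1)] .nil (.node [(156,(-1))] .nil .nil))
    .nil)) (.node [] (.node [] .nil (.node [(57,1)] (.node [(117,(-1))] .nil .nil) .nil)) (.node []
    .nil (.node [] (.node [(136,1)] .nil .nil) .nil))))) (.node [] (.node [] (.node [] (.node []
    (.node [] (.node [(70,1)] .nil .nil) (.node [(139,1)] .nil .nil)) .nil) (.node [] (.node []
    .nil (.node [(154,(-1))] .nil .nil)) (.node [] (.node [(130,(-1))] .nil .nil) .nil))) (.node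
    [(6,1)] (.node [] .nil (.node [] (.node [(110,(-1))] .nil .nil) (.node [(214,(-1))] .nil
    .nil))) .nil)) (.node [] (.node [] (.node [] .nil (.node [(47,(-1))] .nil (.node [(197,1)] .nil
    .nil))) (.node [] (.node [(30,1)] .nil (.node [(159,(-1))] .nil .nil)) .nil)) (.node [] (.node
    [(12,(-1))] (.node [] (.node [(71,1)] .nil .nil) .nil) (.node [(62,1)] .nil .nil)) (.node []
    .nil (.node [(69,1)] .nil .nil)))))) (.node [] (.node [] (.node [] (.node [] (.node [] (.node
    [] .nil (.node [(138,1)] .nil .nil)) .nil) (.node [] (.node [(26,1)] .nil (.node [(153,(-1))]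
    .nil .nil)) .nil)) (.node [] (.node [] .nil (.node [] (.node [(98,(-1))] .nil .nil) .nil))
    (.node [] .nil (.node [(67,1)] .nil .nil)))) (.node [] (.node [(5,1)] (.node [] .nil (.node
    [(46,(-1))] .nil (.node [(195,1)] .nil .nil))) (.node [] (.node [] .nil (.node [(157,(-1))]
    .nil .nil)) (.node [] (.node [(131,(-1))] .nil .nil) .nil))) (.node [] (.node [(11,(-1))] .nil
    (.node [(59,1)] (.node [(119,(-1))] .nil .nil) .nil)) .nil))) (.node [] (.node [] (.node []
    (.node [] .nil (.node [] (.node [(88,(-1))] .nil .nil) .nil)) (.node [] (.node [(27,1)] (.node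
    [(76,(-1))] .nil .nil) .nil) .nil)) (.node [] (.node [(10,(-1))] .nil (.node [(56,1)] (.node
    [(114,(-1))] .nil .nil) (.node [(219,(-1))] .nil .nil))) (.node [] .nil (.node [(68,1)] .nil
    .nil)))) (.node [] (.node [] (.node [] .nil (.node [(49,(-1))] .nil (.node [(200,1)] .nil
    .nil))) (.node [] (.node [(31,1)] .nil .nil) (.node [] (.node [(132,(-1))] .nil .nil) .nil)))
    (.node [] (.node [] (.node [] .nil (.node [(152,(-1))] .nil .nil)) .nil) (.node [] .nil (.node
    [] (.node [(137,1)] .nil .nil) .nil)))))))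

/-- table -/
noncomputable def auxE8Chain67 : Tr (List (ℕ × ℤ)) :=
    (.node [] (.node [] (.node [] (.node [] (.node [(1,1)] (.node [] (.node [] .nil (.node
    [(138,1)] .nil .nil)) .nil) (.node [] (.node [(26,(-1))] .nil (.node [(153,(-1))] .nil .nil))
    .nil)) (.node [] (.node [] .nil (.node [(53,(-1))] (.node [(98,(-1))] .nil .nil) .nil)) (.node
    [] (.node [(34,1)] .nil .nil) (.node [(66,1)] (.node [(134,1)] .nil .nil) .nil)))) (.node []
    (.node [(5,(-1))] (.node [] .nil (.node [(46,1)] (.node [(94,1)] .nil .nil) .nil)) (.node []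
    (.node [(29,1)] .nil .nil) (.node [] (.node [(131,(-1))] .nil .nil) .nil))) (.node [] (.node
    [(11,1)] .nil (.node [(58,1)] (.node [(118,(-1))] .nil .nil) .nil)) .nil))) (.node [] (.node []
    (.node [] (.node [] (.node [] .nil (.node [(140,(-1))] .nil .nil)) .nil) (.node [] (.node
    [(27,(-1))] (.node [(76,(-1))] .nil .nil) (.node [(155,1)] .nil .nil)) .nil)) (.node [] (.node
    [(10,1)] .nil (.node [(56,(-1))] (.node [(111,(-1))] .nil .nil) (.node [(215,1)] .nil .nil)))
    (.node [] .nil (.node [(68,1)] .nil .nil)))) (.node [] (.node [] (.node [] .nil (.node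
    [(48,(-1))] .nil (.node [(198,(-1))] .nil .nil))) (.node [] (.node [] .nil (.node [(160,1)]
    .nil .nil)) (.node [] (.node [(132,(-1))] .nil .nil) .nil))) (.node [] (.node [(13,(-1))]
    (.node [] (.node [(72,1)] .nil .nil) (.node [(152,(-1))] .nil .nil)) (.node [(63,1)] (.node
    [(120,(-1))] .nil .nil) .nil)) (.node [] .nil (.node [] (.node [(137,1)] .nil .nil) .nil))))))
    (.node [] (.node [] (.node [] (.node [] (.node [] (.node [] (.node [(70,1)] .nil .nil) .nil)
    .nil) (.node [] .nil (.node [] (.node [(130,(-1))] .nil .nil) .nil))) (.node [(6,(-1))] .nil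
    .nil)) (.node [] (.node [] (.node [] .nil (.node [] .nil (.node [(196,(-1))] .nil .nil)))
    (.node [] (.node [(30,(-1))] .nil (.node [(158,1)] .nil .nil)) .nil)) (.node [] (.node [] .nil
    (.node [(60,1)] .nil .nil)) (.node [] .nil (.node [(69,1)] .nil .nil))))) (.node [] (.node []
    (.node [] (.node [] .nil (.node [] (.node [(89,(-1))] .nil .nil) (.node [(194,1)] .nil .nil)))
    (.node [] (.node [] .nil (.node [(156,(-1))] .nil .nil)) .nil)) (.node [] (.node [] .nil (.node
    [] (.node [(115,(-1))] .nil .nil) (.node [(220,1)] .nil .nil))) (.node [] .nil (.node [] (.node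
    [(136,1)] .nil .nil) .nil)))) (.node [] (.node [] (.node [(9,1)] .nil (.node [(50,(-1))] .nil
    (.node [(201,(-1))] .nil .nil))) (.node [] (.node [(32,1)] (.node [(77,1)] .nil .nil) .nil)
    .nil)) (.node [] (.node [] .nil (.node [] .nil (.node [(224,(-1))] .nil .nil))) .nil)))))

/-- table -/
noncomputable def auxE8Chain68 : Tr (List (ℕ × ℤ)) :=
    (.node [] (.node [] (.node [] (.node [] (.node [(2,1)] (.node [] (.node [] (.node [(70,1)] .nil
    .nil) (.node [(139,(-1))] .nil .nil)) .nil) (.node [] (.node [] .nil (.node [(154,1)] .nil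
    .nil)) (.node [] (.node [(130,(-1))] .nil .nil) .nil))) (.node [(6,1)] (.node [] .nil (.node
    [(54,(-1))] .nil .nil)) (.node [] (.node [(35,1)] .nil .nil) .nil))) (.node [] (.node [] (.node
    [] .nil (.node [(47,1)] (.node [(95,1)] .nil .nil) (.node [(196,(-1))] .nil .nil))) (.node []
    (.node [] .nil (.node [(158,1)] .nil .nil)) .nil)) (.node [] (.node [(12,1)] .nil .nil) (.node
    [] .nil (.node [(69,1)] .nil .nil))))) (.node [] (.node [] (.node [] .nil (.node [] (.node
    [(28,(-1))] .nil .nil) .nil)) (.node [] (.node [] .nil (.node [(57,(-1))] (.node [(112,(-1))]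
    .nil .nil) (.node [(216,(-1))] .nil .nil))) (.node [] .nil (.node [] (.node [(136,1)] .nil
    .nil) .nil)))) (.node [] (.node [] (.node [(9,(-1))] .nil (.node [] .nil (.node [(199,1)] .nil
    .nil))) (.node [] (.node [(32,(-1))] (.node [(77,1)] .nil .nil) (.node [(161,(-1))] .nil .nil))
    (.node [(66,1)] (.node [(133,1)] .nil .nil) .nil))) (.node [] (.node [] (.node [] (.node
    [(73,1)] .nil .nil) .nil) (.node [(64,1)] (.node [(122,(-1))] .nil .nil) (.node [(224,(-1))]
    .nil .nil))) .nil)))) (.node [] (.node [] (.node [] (.node [] (.node [] (.node [] .nil (.node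
    [(140,(-1))] .nil .nil)) .nil) (.node [] (.node [] (.node [(76,(-1))] .nil .nil) (.node
    [(155,1)] .nil .nil)) .nil)) (.node [] (.node [(10,(-1))] .nil .nil) .nil)) (.node [] (.node []
    (.node [] .nil (.node [(48,1)] .nil .nil)) (.node [] (.node [(31,(-1))] .nil .nil) .nil))
    (.node [] (.node [(13,1)] (.node [] .nil (.node [(152,(-1))] .nil .nil)) (.node [(61,1)] (.node
    [(121,(-1))] .nil .nil) .nil)) (.node [] .nil (.node [] (.node [(137,1)] .nil .nil) .nil)))))
    (.node [] (.node [] (.node [(5,1)] (.node [] .nil (.node [] (.node [(90,(-1))] .nil .nil)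
    (.node [(195,(-1))] .nil .nil))) (.node [] (.node [(29,(-1))] .nil (.node [(157,1)] .nil .nil))
    (.node [] (.node [(131,(-1))] .nil .nil) .nil))) (.node [] (.node [] .nil (.node [(58,(-1))]
    (.node [(116,(-1))] .nil .nil) (.node [(221,(-1))] .nil .nil))) .nil)) (.node [] (.node []
    (.node [] .nil (.node [(51,(-1))] (.node [(98,(-1))] .nil .nil) (.node [(202,1)] .nil .nil)))
    (.node [] .nil (.node [(67,1)] (.node [(134,1)] .nil .nil) .nil))) (.node [] (.node [] (.node
    [(26,1)] .nil .nil) .nil) .nil)))))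

/-- table -/
noncomputable def auxE8Chain69 : Tr (List (ℕ × ℤ)) :=
    (.node [] (.node [] (.node [] (.node [] (.node [(3,1)] .nil (.node [] (.node [(28,1)] (.node
    [(76,(-1))] .nil .nil) .nil) .nil)) (.node [] (.node [] .nil (.node [(55,(-1))] .nil .nil))
    .nil)) (.node [] (.node [] (.node [] .nil (.node [(49,1)] (.node [(96,1)] .nil .nil) (.node
    [(198,1)] .nil .nil))) (.node [] (.node [] .nil (.node [(160,(-1))] .nil .nil)) (.node [(67,1)]
    (.node [(133,1)] .nil .nil) .nil))) (.node [] (.node [] .nil (.node [(61,(-1))] (.node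
    [(123,(-1))] .nil .nil) .nil)) .nil))) (.node [] (.node [] (.node [(5,(-1))] .nil .nil) (.node
    [] (.node [(12,(-1))] .nil (.node [(59,(-1))] (.node [(113,(-1))] .nil .nil) (.node [(217,1)]
    .nil .nil))) .nil)) (.node [] (.node [] (.node [] .nil (.node [(51,1)] (.node [(98,(-1))] .nil
    .nil) .nil)) (.node [] (.node [(34,(-1))] .nil .nil) .nil)) (.node [] (.node [] (.node []
    (.node [(74,1)] .nil .nil) (.node [(154,1)] .nil .nil)) (.node [(65,1)] (.node [(125,(-1))]
    .nil .nil) .nil)) (.node [] .nil (.node [] (.node [(139,(-1))] .nil .nil) .nil)))))) (.node []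
    (.node [] (.node [] (.node [] .nil (.node [] (.node [(29,1)] .nil .nil) .nil)) (.node [] (.node
    [(11,(-1))] .nil .nil) (.node [] .nil (.node [] (.node [(136,1)] .nil .nil) .nil)))) (.node []
    (.node [] (.node [(9,1)] .nil (.node [(50,1)] .nil (.node [(199,1)] .nil .nil))) (.node []
    (.node [(33,(-1))] (.node [(77,1)] .nil .nil) (.node [(161,(-1))] .nil .nil)) (.node [(68,1)]
    (.node [(134,1)] .nil .nil) .nil))) (.node [] (.node [] (.node [] .nil (.node [(153,1)] .nil
    .nil)) (.node [] (.node [(124,(-1))] .nil .nil) (.node [(224,(-1))] .nil .nil))) (.node [] .nil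
    (.node [] (.node [(138,(-1))] .nil .nil) .nil))))) (.node [] (.node [] (.node [] (.node [] .nil
    (.node [] (.node [(91,(-1))] .nil .nil) (.node [(197,1)] .nil .nil))) (.node [] (.node [] .nil
    (.node [(159,(-1))] .nil .nil)) (.node [(66,1)] (.node [(132,1)] .nil .nil) .nil))) (.node []
    (.node [(13,(-1))] .nil (.node [(60,(-1))] .nil (.node [(222,1)] .nil .nil))) .nil)) (.node []
    (.node [(6,(-1))] (.node [] .nil (.node [] .nil (.node [(203,(-1))] .nil .nil))) (.node []
    (.node [(35,(-1))] .nil .nil) .nil)) (.node [] (.node [] (.node [(27,1)] .nil (.node [(155,1)]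
    .nil .nil)) (.node [] (.node [(130,(-1))] .nil .nil) .nil)) (.node [] .nil (.node [(70,1)]
    (.node [(140,(-1))] .nil .nil) .nil)))))))

/-- table -/
noncomputable def auxE8Chain70 : Tr (List (ℕ × ℤ)) :=
    (.node [] (.node [] (.node [] (.node [] (.node [(4,1)] .nil (.node [] (.node [(31,1)] .nil
    (.node [(159,(-1))] .nil .nil)) (.node [(67,1)] (.node [(132,1)] .nil .nil) .nil))) (.node []
    (.node [(13,1)] .nil .nil) .nil)) (.node [] (.node [] (.node [] .nil (.node [(52,1)] (.node
    [(97,1)] .nil .nil) (.node [(201,(-1))] .nil .nil))) (.node [] (.node [(35,1)] (.node [(77,1)]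
    .nil .nil) .nil) .nil)) (.node [] (.node [] .nil (.node [(64,(-1))] (.node [(127,(-1))] .nil
    .nil) (.node [(224,(-1))] .nil .nil))) (.node [] .nil (.node [] (.node [(140,(-1))] .nil .nil)
    .nil))))) (.node [] (.node [] (.node [] .nil (.node [] (.node [(33,1)] .nil (.node [(161,(-1))]
    .nil .nil)) (.node [(69,1)] (.node [(134,1)] .nil .nil) .nil))) (.node [] (.node [] .nil (.node
    [(62,(-1))] .nil (.node [(218,(-1))] .nil .nil))) (.node [] .nil (.node [] (.node [(138,(-1))]
    .nil .nil) .nil)))) (.node [] (.node [(6,1)] (.node [(11,1)] .nil (.node [(54,1)] .nil (.node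
    [(203,(-1))] .nil .nil))) .nil) (.node [] (.node [] (.node [] (.node [(75,1)] .nil .nil) (.node
    [(157,(-1))] .nil .nil)) (.node [] (.node [(129,(-1))] .nil .nil) .nil)) .nil)))) (.node []
    (.node [] (.node [] (.node [(5,1)] .nil (.node [] (.node [(32,1)] .nil (.node [(160,(-1))] .nil
    .nil)) (.node [(68,1)] (.node [(133,1)] .nil .nil) .nil))) (.node [] .nil (.node [] .nil (.node
    [] (.node [(137,(-1))] .nil .nil) .nil)))) (.node [] (.node [] (.node [(10,1)] .nil (.node
    [(53,1)] (.node [(98,(-1))] .nil .nil) (.node [(202,(-1))] .nil .nil))) .nil) (.node [] (.node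
    [] (.node [] .nil (.node [(156,(-1))] .nil .nil)) (.node [(65,(-1))] (.node [(128,(-1))] .nil
    .nil) .nil)) .nil))) (.node [] (.node [] (.node [] (.node [] .nil (.node [] (.node [(92,(-1))]
    .nil .nil) (.node [(200,(-1))] .nil .nil))) (.node [] (.node [(34,1)] .nil .nil) .nil)) (.node
    [] (.node [] .nil (.node [(63,(-1))] (.node [(126,(-1))] .nil .nil) (.node [(223,(-1))] .nil
    .nil))) (.node [] .nil (.node [] (.node [(139,(-1))] .nil .nil) .nil)))) (.node [] (.node []
    (.node [(12,1)] .nil (.node [(55,1)] .nil .nil)) .nil) (.node [] (.node [] (.node [(30,1)]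
    (.node [(76,(-1))] .nil .nil) (.node [(158,(-1))] .nil .nil)) (.node [(66,1)] (.node [(131,1)]
    .nil .nil) .nil)) .nil)))))

/-- table -/
noncomputable def auxE8Chain71 : Tr (List (ℕ × ℤ)) :=
    (.node [] (.node [] (.node [] (.node [] (.node [] (.node [] .nil (.node [(57,1)] .nil .nil))
    (.node [] .nil (.node [] .nil (.node [(225,1)] .nil .nil)))) (.node [] (.node [] (.node [] .nil
    (.node [(154,(-1))] .nil .nil)) (.node [] (.node [(119,(-1))] .nil .nil) (.node [(214,(-1))]
    .nil .nil))) (.node [] (.node [(43,1)] .nil .nil) (.node [] (.node [(145,(-1))] .nil .nil)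
    .nil)))) (.node [] (.node [] (.node [(12,1)] .nil (.node [] (.node [(105,(-1))] .nil .nil)
    (.node [(204,(-1))] .nil .nil))) (.node [] (.node [(38,1)] .nil .nil) .nil)) (.node [] (.node
    [] (.node [] .nil (.node [(159,(-1))] .nil .nil)) .nil) (.node [] (.node [(49,1)] .nil .nil)
    (.node [] (.node [(147,(-1))] .nil .nil) .nil))))) (.node [] (.node [] (.node [] (.node []
    (.node [] (.node [(75,1)] .nil .nil) (.node [(150,(-1))] .nil .nil)) (.node [(62,1)] .nil
    .nil)) (.node [] .nil (.node [] (.node [(142,(-1))] .nil .nil) .nil))) (.node [(8,1)] (.node []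
    (.node [] .nil (.node [(156,(-1))] .nil .nil)) .nil) (.node [] (.node [(46,1)] .nil .nil)
    .nil))) (.node [] (.node [] (.node [] .nil (.node [] (.node [(114,(-1))] .nil .nil) (.node
    [(207,(-1))] .nil .nil))) (.node [] (.node [(40,1)] .nil .nil) .nil)) (.node [(9,1)] (.node []
    .nil (.node [] (.node [(141,(-1))] .nil .nil) .nil)) (.node [] .nil (.node [(74,1)] .nil
    .nil)))))) (.node [] (.node [] (.node [] (.node [] (.node [(10,1)] (.node [] .nil (.node
    [(149,(-1))] .nil .nil)) (.node [(59,1)] .nil .nil)) (.node [] (.node [(36,1)] .nil .nil)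
    .nil)) (.node [] (.node [] .nil (.node [] .nil (.node [(219,(-1))] .nil .nil))) (.node [] .nil
    (.node [(72,1)] .nil .nil)))) (.node [] (.node [(7,1)] (.node [] (.node [] .nil (.node
    [(152,(-1))] .nil .nil)) (.node [] (.node [(110,(-1))] .nil .nil) (.node [(205,(-1))] .nil
    .nil))) (.node [] .nil (.node [] (.node [(143,(-1))] .nil .nil) .nil))) (.node [] (.node []
    (.node [] (.node [(77,1)] .nil .nil) .nil) .nil) (.node [] (.node [(52,1)] .nil .nil) .nil))))
    (.node [] (.node [] (.node [] (.node [(11,1)] .nil (.node [(66,1)] (.node [(99,(-1))] .nil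
    .nil) .nil)) (.node [] (.node [(37,1)] .nil .nil) .nil)) (.node [] (.node [] (.node [] .nil
    (.node [(157,(-1))] .nil .nil)) .nil) (.node [] (.node [(47,1)] .nil .nil) (.node [(73,1)] .nil
    .nil)))) (.node [(0,(-1))] (.node [] (.node [] (.node [] (.node [(76,1)] .nil .nil) (.node
    [(153,(-1))] .nil .nil)) (.node [] (.node [(117,(-1))] .nil .nil) (.node [(210,(-1))] .nil
    .nil))) (.node [] (.node [(41,1)] .nil .nil) (.node [] (.node [(144,(-1))] .nil .nil) .nil)))
    (.node [] .nil (.node [] (.node [(56,1)] .nil .nil) (.node [] (.node [(148,(-1))] .nil .nil)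
    .nil)))))))

/-- table -/
noncomputable def auxE8Chain72 : Tr (List (ℕ × ℤ)) :=
    (.node [] (.node [] (.node [] (.node [] (.node [] (.node [(10,(-1))] (.node [] .nil (.node
    [(149,(-1))] .nil .nil)) (.node [(58,1)] .nil .nil)) (.node [] (.node [(36,(-1))] .nil .nil)
    .nil)) (.node [] (.node [] (.node [] .nil (.node [(155,1)] .nil .nil)) (.node [] .nil (.node
    [(215,1)] .nil .nil))) (.node [] (.node [(44,1)] .nil .nil) (.node [(71,1)] (.node [(146,1)]
    .nil .nil) .nil)))) (.node [] (.node [(7,(-1))] (.node [(13,1)] (.node [] .nil (.node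
    [(152,(-1))] .nil .nil)) (.node [] (.node [(106,(-1))] .nil .nil) .nil)) (.node [] (.node
    [(39,1)] .nil .nil) (.node [] (.node [(143,(-1))] .nil .nil) .nil))) (.node [] (.node [] (.node
    [] (.node [(77,1)] .nil .nil) (.node [(160,1)] .nil .nil)) .nil) (.node [] (.node [(50,1)] .nil
    .nil) .nil)))) (.node [] (.node [] (.node [] (.node [(11,(-1))] (.node [] .nil (.node [(151,1)]
    .nil .nil)) (.node [(63,1)] .nil .nil)) (.node [] (.node [(37,(-1))] .nil .nil) .nil)) (.node
    [] .nil (.node [] .nil (.node [(73,1)] .nil .nil)))) (.node [] (.node [] (.node [] (.node []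
    (.node [(76,1)] .nil .nil) (.node [(153,(-1))] .nil .nil)) (.node [] (.node [(115,(-1))] .nil
    .nil) (.node [(208,1)] .nil .nil))) (.node [] .nil (.node [] (.node [(144,(-1))] .nil .nil)
    .nil))) (.node [] .nil (.node [] (.node [(56,(-1))] .nil .nil) (.node [] (.node [(148,(-1))]
    .nil .nil) .nil)))))) (.node [] (.node [] (.node [] (.node [] (.node [] (.node [] (.node
    [(75,1)] .nil .nil) .nil) (.node [(60,1)] .nil .nil)) (.node [] .nil (.node [] (.node
    [(142,(-1))] .nil .nil) .nil))) (.node [(8,(-1))] (.node [] (.node [] .nil (.node [(156,(-1))]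
    .nil .nil)) (.node [] (.node [(120,(-1))] .nil .nil) (.node [(220,1)] .nil .nil))) (.node []
    (.node [(46,(-1))] .nil .nil) .nil))) (.node [] (.node [] (.node [] .nil (.node [] (.node
    [(111,(-1))] .nil .nil) (.node [(206,1)] .nil .nil))) (.node [] (.node [(40,(-1))] .nil .nil)
    .nil)) (.node [(9,(-1))] (.node [] .nil (.node [] (.node [(141,(-1))] .nil .nil) .nil)) (.node
    [] (.node [(53,1)] .nil .nil) (.node [(74,1)] .nil .nil))))) (.node [] (.node [] (.node []
    (.node [] .nil (.node [(67,1)] (.node [(100,(-1))] .nil .nil) (.node [(204,(-1))] .nil .nil)))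
    .nil) (.node [] (.node [] (.node [] .nil (.node [(158,1)] .nil .nil)) .nil) (.node [] (.node
    [(48,1)] .nil .nil) (.node [] (.node [(147,(-1))] .nil .nil) .nil)))) (.node [(1,(-1))] (.node
    [] (.node [] .nil (.node [] (.node [(118,(-1))] .nil .nil) (.node [(211,1)] .nil .nil))) (.node
    [] (.node [(42,1)] .nil .nil) .nil)) (.node [] (.node [] .nil (.node [] .nil (.node [(225,1)]
    .nil .nil))) .nil)))))

/-- table -/
noncomputable def auxE8Chain73 : Tr (List (ℕ × ℤ)) :=
    (.node [] (.node [] (.node [] (.node [] (.node [] (.node [] (.node [] (.node [(75,1)] .nil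
    .nil) (.node [(150,1)] .nil .nil)) .nil) (.node [] .nil (.node [] (.node [(142,(-1))] .nil
    .nil) .nil))) (.node [(8,1)] (.node [] .nil (.node [] (.node [(121,(-1))] .nil .nil) (.node
    [(216,(-1))] .nil .nil))) (.node [] (.node [(45,1)] .nil .nil) .nil))) (.node [] (.node []
    (.node [] .nil (.node [] (.node [(107,(-1))] .nil .nil) (.node [(206,1)] .nil .nil))) .nil)
    (.node [(9,1)] (.node [] (.node [] .nil (.node [(161,(-1))] .nil .nil)) (.node [] (.node
    [(141,(-1))] .nil .nil) .nil)) (.node [] (.node [(51,1)] .nil .nil) (.node [(74,1)] .nil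
    .nil))))) (.node [] (.node [] (.node [] (.node [(12,(-1))] .nil (.node [(64,1)] .nil .nil))
    (.node [] (.node [(38,(-1))] .nil .nil) .nil)) (.node [] (.node [] (.node [] .nil (.node
    [(158,1)] .nil .nil)) .nil) (.node [] (.node [(48,(-1))] .nil .nil) (.node [] (.node
    [(147,(-1))] .nil .nil) .nil)))) (.node [] (.node [] (.node [] (.node [] .nil (.node [(154,1)]
    .nil .nil)) (.node [] (.node [(116,(-1))] .nil .nil) (.node [(209,(-1))] .nil .nil))) (.node []
    (.node [(42,(-1))] .nil .nil) (.node [(71,1)] (.node [(145,1)] .nil .nil) .nil))) (.node []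
    (.node [] .nil (.node [] .nil (.node [(225,1)] .nil .nil))) (.node [] (.node [(57,(-1))] .nil
    .nil) .nil))))) (.node [] (.node [] (.node [] (.node [] (.node [] (.node [] .nil (.node
    [(151,1)] .nil .nil)) (.node [(61,1)] .nil .nil)) .nil) (.node [] (.node [] (.node [] .nil
    (.node [(157,1)] .nil .nil)) (.node [] (.node [(122,(-1))] .nil .nil) (.node [(221,(-1))] .nil
    .nil))) (.node [] (.node [(47,(-1))] .nil .nil) .nil))) (.node [] (.node [] (.node [] (.node []
    (.node [(76,1)] .nil .nil) .nil) (.node [] (.node [(112,(-1))] .nil .nil) .nil)) (.node []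
    (.node [(41,(-1))] .nil .nil) .nil)) (.node [] .nil (.node [] (.node [(54,1)] .nil .nil) (.node
    [] (.node [(148,(-1))] .nil .nil) .nil))))) (.node [] (.node [] (.node [(7,1)] (.node
    [(13,(-1))] (.node [] .nil (.node [(152,(-1))] .nil .nil)) (.node [(68,1)] (.node [(101,(-1))]
    .nil .nil) (.node [(205,1)] .nil .nil))) (.node [] (.node [(39,(-1))] .nil .nil) (.node []
    (.node [(143,(-1))] .nil .nil) .nil))) (.node [] (.node [] (.node [] (.node [(77,1)] .nil .nil)
    .nil) .nil) .nil)) (.node [(2,(-1))] (.node [] (.node [] (.node [] .nil (.node [(155,1)] .nil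
    .nil)) (.node [] .nil (.node [(212,(-1))] .nil .nil))) (.node [] .nil (.node [(72,1)] (.node
    [(146,1)] .nil .nil) .nil))) (.node [(10,1)] (.node [] (.node [(36,1)] .nil .nil) .nil) (.node
    [] (.node [(58,(-1))] .nil .nil) .nil))))))

/-- table -/
noncomputable def auxE8Chain74 : Tr (List (ℕ × ℤ)) :=
    (.node [] (.node [] (.node [] (.node [] (.node [] (.node [(12,1)] .nil (.node [(61,(-1))] .nil
    .nil)) (.node [] (.node [(38,1)] .nil .nil) .nil)) (.node [] (.node [] .nil (.node [] (.node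
    [(124,(-1))] .nil .nil) (.node [(217,1)] .nil .nil))) .nil)) (.node [] (.node [] (.node []
    (.node [] (.node [(76,1)] .nil .nil) (.node [(154,1)] .nil .nil)) (.node [] (.node [(108,(-1))]
    .nil .nil) (.node [(208,(-1))] .nil .nil))) (.node [] .nil (.node [(72,1)] (.node [(145,1)]
    .nil .nil) .nil))) .nil)) (.node [] (.node [] (.node [(7,(-1))] (.node [] .nil (.node [(65,1)]
    .nil .nil)) .nil) (.node [] (.node [] (.node [] (.node [(77,1)] .nil .nil) (.node [(160,(-1))]
    .nil .nil)) .nil) (.node [] (.node [(50,(-1))] .nil .nil) .nil))) (.node [] (.node [] .nil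
    (.node [] (.node [(44,(-1))] .nil .nil) .nil)) (.node [] .nil (.node [] (.node [(59,(-1))] .nil
    .nil) (.node [] (.node [(150,1)] .nil .nil) .nil)))))) (.node [] (.node [] (.node [] (.node []
    (.node [(13,1)] .nil .nil) (.node [] (.node [(39,1)] .nil .nil) .nil)) (.node [] (.node []
    (.node [] .nil (.node [(159,(-1))] .nil .nil)) (.node [] (.node [(125,(-1))] .nil .nil) (.node
    [(222,1)] .nil .nil))) (.node [] (.node [(49,(-1))] .nil .nil) (.node [] (.node [(147,(-1))]
    .nil .nil) .nil)))) (.node [] (.node [] (.node [] (.node [] .nil (.node [(155,1)] .nil .nil))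
    (.node [] (.node [(113,(-1))] .nil .nil) (.node [(209,(-1))] .nil .nil))) (.node [] (.node
    [(43,(-1))] .nil .nil) (.node [(73,1)] (.node [(146,1)] .nil .nil) .nil))) (.node [] (.node []
    .nil (.node [] .nil (.node [(225,1)] .nil .nil))) (.node [] (.node [(55,1)] .nil .nil) (.node
    [] (.node [(149,1)] .nil .nil) .nil))))) (.node [] (.node [] (.node [] (.node [] (.node [] .nil
    (.node [(153,1)] .nil .nil)) (.node [(69,1)] (.node [(102,(-1))] .nil .nil) (.node [(207,(-1))]
    .nil .nil))) (.node [] .nil (.node [(71,1)] (.node [(144,1)] .nil .nil) .nil))) (.node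
    [(9,(-1))] (.node [] (.node [] .nil (.node [(161,(-1))] .nil .nil)) (.node [] (.node
    [(141,(-1))] .nil .nil) .nil)) (.node [] (.node [(51,(-1))] .nil .nil) .nil))) (.node
    [(3,(-1))] (.node [(8,(-1))] (.node [] .nil (.node [] (.node [(123,(-1))] .nil .nil) (.node
    [(213,1)] .nil .nil))) (.node [] (.node [(45,(-1))] .nil .nil) .nil)) (.node [(11,1)] (.node []
    (.node [(37,1)] .nil .nil) (.node [] (.node [(142,(-1))] .nil .nil) .nil)) (.node [] (.node
    [(60,(-1))] .nil .nil) (.node [(75,1)] (.node [(151,1)] .nil .nil) .nil)))))))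

/-- table -/
noncomputable def auxE8Chain75 : Tr (List (ℕ × ℤ)) :=
    (.node [] (.node [] (.node [] (.node [] (.node [] (.node [] .nil (.node [(64,(-1))] .nil .nil))
    (.node [] (.node [(41,1)] .nil .nil) (.node [(72,1)] (.node [(144,1)] .nil .nil) .nil))) (.node
    [] (.node [] (.node [] .nil (.node [(161,(-1))] .nil .nil)) (.node [] (.node [(128,(-1))] .nil
    .nil) (.node [(218,(-1))] .nil .nil))) .nil)) (.node [] (.node [] (.node [] (.node [] .nil
    (.node [(157,(-1))] .nil .nil)) (.node [] (.node [(109,(-1))] .nil .nil) (.node [(211,1)] .nil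
    .nil))) (.node [] (.node [(45,1)] .nil .nil) .nil)) (.node [(11,(-1))] (.node [] .nil (.node []
    .nil (.node [(225,1)] .nil .nil))) (.node [] (.node [(55,(-1))] .nil .nil) (.node [] (.node
    [(151,1)] .nil .nil) .nil))))) (.node [] (.node [] (.node [] .nil (.node [] (.node [(43,1)]
    .nil .nil) (.node [(74,1)] (.node [(146,1)] .nil .nil) .nil))) (.node [] (.node [] .nil (.node
    [] (.node [(141,(-1))] .nil .nil) .nil)) (.node [] (.node [(53,(-1))] .nil .nil) (.node []
    (.node [(149,1)] .nil .nil) .nil)))) (.node [] (.node [(8,1)] (.node [] (.node [] .nil (.node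
    [(159,(-1))] .nil .nil)) (.node [] (.node [(126,(-1))] .nil .nil) (.node [(213,1)] .nil .nil)))
    .nil) (.node [(13,(-1))] .nil (.node [] (.node [(62,(-1))] .nil .nil) .nil))))) (.node []
    (.node [] (.node [] (.node [(7,1)] (.node [] .nil (.node [(65,(-1))] .nil .nil)) (.node []
    (.node [(42,1)] .nil .nil) (.node [(73,1)] (.node [(145,1)] .nil .nil) .nil))) (.node [] (.node
    [] (.node [] (.node [(77,1)] .nil .nil) .nil) (.node [] (.node [(129,(-1))] .nil .nil) (.node
    [(223,(-1))] .nil .nil))) (.node [] (.node [(52,(-1))] .nil .nil) (.node [] (.node [(148,1)]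
    .nil .nil) .nil)))) (.node [] (.node [] (.node [] (.node [] .nil (.node [(158,(-1))] .nil
    .nil)) (.node [] .nil (.node [(212,1)] .nil .nil))) .nil) (.node [(12,(-1))] .nil .nil)))
    (.node [] (.node [] (.node [] (.node [] (.node [] (.node [(76,1)] .nil .nil) (.node
    [(156,(-1))] .nil .nil)) (.node [(70,1)] (.node [(103,(-1))] .nil .nil) (.node [(210,1)] .nil
    .nil))) (.node [] (.node [(44,1)] .nil .nil) .nil)) (.node [(10,(-1))] .nil (.node [] (.node
    [(54,(-1))] .nil .nil) (.node [] (.node [(150,1)] .nil .nil) .nil)))) (.node [(4,(-1))] (.node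
    [] (.node [] (.node [] .nil (.node [(160,(-1))] .nil .nil)) (.node [] (.node [(127,(-1))] .nil
    .nil) .nil)) .nil) (.node [] (.node [] (.node [(40,1)] .nil .nil) (.node [(71,1)] (.node
    [(143,1)] .nil .nil) .nil)) (.node [] (.node [(63,(-1))] .nil .nil) .nil))))))

/-- table -/
noncomputable def auxE8Chain76 : Tr (List (ℕ × ℤ)) :=
    (.node [] (.node [] (.node [] (.node [] (.node [(7,(-1))] (.node [] (.node [] .nil (.node
    [(159,(-1))] .nil .nil)) (.node [(68,(-1))] .nil .nil)) (.node [] (.node [(47,1)] .nil .nil)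
    .nil)) (.node [(11,1)] (.node [] (.node [] (.node [(77,1)] .nil .nil) .nil) (.node [] (.node
    [(133,(-1))] .nil .nil) .nil)) (.node [] (.node [(55,1)] .nil .nil) .nil))) (.node [] (.node []
    (.node [] .nil (.node [] .nil (.node [(215,(-1))] .nil .nil))) (.node [] (.node [(51,1)] .nil
    .nil) .nil)) (.node [] (.node [] .nil (.node [(73,1)] (.node [(144,1)] .nil .nil) .nil)) (.node
    [] .nil (.node [] (.node [(155,(-1))] .nil .nil) .nil))))) (.node [] (.node [] (.node [] (.node
    [] (.node [] .nil (.node [(161,(-1))] .nil .nil)) (.node [(70,(-1))] .nil .nil)) (.node []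
    (.node [(49,1)] .nil .nil) .nil)) (.node [(13,1)] (.node [] .nil (.node [(71,1)] (.node
    [(142,1)] .nil .nil) .nil)) (.node [] .nil (.node [] (.node [(153,(-1))] .nil .nil) .nil))))
    (.node [] (.node [(9,1)] (.node [] .nil (.node [] (.node [(131,(-1))] .nil .nil) (.node
    [(217,(-1))] .nil .nil))) (.node [] (.node [(53,1)] .nil .nil) .nil)) (.node [] (.node [] .nil
    (.node [(75,1)] (.node [(146,1)] .nil .nil) .nil)) (.node [] (.node [(66,(-1))] .nil .nil)
    (.node [] (.node [(157,(-1))] .nil .nil) .nil)))))) (.node [] (.node [] (.node [] (.node []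
    (.node [] (.node [] .nil (.node [(160,(-1))] .nil .nil)) (.node [(69,(-1))] .nil .nil)) (.node
    [] (.node [(48,1)] .nil .nil) .nil)) (.node [(12,1)] (.node [] .nil (.node [] (.node
    [(134,(-1))] .nil .nil) (.node [(224,1)] .nil .nil))) (.node [] .nil (.node [] (.node
    [(152,(-1))] .nil .nil) .nil)))) (.node [] (.node [] (.node [] .nil (.node [] (.node
    [(130,(-1))] .nil .nil) (.node [(216,(-1))] .nil .nil))) (.node [] (.node [(52,1)] .nil .nil)
    .nil)) (.node [] (.node [] .nil (.node [(74,1)] (.node [(145,1)] .nil .nil) .nil)) (.node []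
    .nil (.node [] (.node [(156,(-1))] .nil .nil) .nil))))) (.node [] (.node [] (.node [] (.node []
    .nil (.node [] (.node [(104,(-1))] .nil .nil) (.node [(214,(-1))] .nil .nil))) (.node [] (.node
    [(50,1)] .nil .nil) .nil)) (.node [] (.node [] .nil (.node [(72,1)] (.node [(143,1)] .nil .nil)
    (.node [(225,1)] .nil .nil))) (.node [] .nil (.node [] (.node [(154,(-1))] .nil .nil) .nil))))
    (.node [(5,(-1))] (.node [(10,1)] (.node [] .nil (.node [] (.node [(132,(-1))] .nil .nil)
    (.node [(218,(-1))] .nil .nil))) (.node [] (.node [(54,1)] .nil .nil) .nil)) (.node [] (.node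
    [] (.node [(46,1)] .nil .nil) .nil) (.node [] (.node [(67,(-1))] .nil .nil) (.node [] (.node
    [(158,(-1))] .nil .nil) .nil)))))))

/-- table -/
noncomputable def auxE8Chain77 : Tr (List (ℕ × ℤ)) :=
    (.node [] (.node [] (.node [] (.node [] (.node [(8,(-1))] .nil (.node [] (.node [(57,1)] .nil
    .nil) (.node [] (.node [(153,(-1))] .nil .nil) .nil))) (.node [] (.node [] .nil (.node [(75,1)]
    (.node [(139,(-1))] .nil .nil) (.node [(224,1)] .nil .nil))) (.node [] (.node [(65,1)] .nil
    .nil) (.node [] (.node [(161,(-1))] .nil .nil) .nil)))) (.node [] (.node [(12,(-1))] (.node []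
    .nil (.node [(71,1)] (.node [(135,(-1))] .nil .nil) (.node [(220,1)] .nil .nil))) (.node []
    (.node [(61,1)] .nil .nil) (.node [] (.node [(157,(-1))] .nil .nil) .nil))) (.node [] (.node []
    .nil (.node [] (.node [(149,(-1))] .nil .nil) .nil)) (.node [] (.node [(69,1)] .nil .nil)
    .nil)))) (.node [] (.node [] (.node [(10,(-1))] .nil (.node [] (.node [(59,1)] .nil .nil)
    (.node [] (.node [(155,(-1))] .nil .nil) .nil))) (.node [] (.node [] .nil (.node [] (.node
    [(147,(-1))] .nil .nil) (.node [(225,1)] .nil .nil))) (.node [] (.node [(67,1)] .nil .nil)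
    .nil))) (.node [] (.node [] (.node [] .nil (.node [(73,1)] (.node [(137,(-1))] .nil .nil)
    (.node [(222,1)] .nil .nil))) (.node [] (.node [(63,1)] .nil .nil) (.node [] (.node
    [(159,(-1))] .nil .nil) .nil))) (.node [] (.node [] .nil (.node [] (.node [(151,(-1))] .nil
    .nil) .nil)) .nil)))) (.node [] (.node [] (.node [] (.node [(9,(-1))] .nil (.node [] (.node
    [(58,1)] .nil .nil) (.node [] (.node [(154,(-1))] .nil .nil) .nil))) (.node [] (.node [] .nil
    (.node [(76,1)] (.node [(140,(-1))] .nil .nil) .nil)) (.node [] (.node [(66,1)] .nil .nil)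
    .nil))) (.node [] (.node [(13,(-1))] (.node [] .nil (.node [(72,1)] (.node [(136,(-1))] .nil
    .nil) (.node [(221,1)] .nil .nil))) (.node [] (.node [(62,1)] .nil .nil) (.node [] (.node
    [(158,(-1))] .nil .nil) .nil))) (.node [] (.node [] .nil (.node [] (.node [(150,(-1))] .nil
    .nil) .nil)) (.node [] (.node [(70,1)] .nil .nil) .nil)))) (.node [] (.node [] (.node
    [(11,(-1))] (.node [] .nil (.node [] .nil (.node [(219,1)] .nil .nil))) (.node [] (.node
    [(60,1)] .nil .nil) (.node [] (.node [(156,(-1))] .nil .nil) .nil))) (.node [] (.node [] .nil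
    (.node [] (.node [(148,(-1))] .nil .nil) .nil)) (.node [] (.node [(68,1)] .nil .nil) .nil)))
    (.node [(6,(-1))] (.node [] (.node [] .nil (.node [(74,1)] (.node [(138,(-1))] .nil .nil)
    (.node [(223,1)] .nil .nil))) (.node [] (.node [(64,1)] .nil .nil) (.node [] (.node
    [(160,(-1))] .nil .nil) .nil))) (.node [] (.node [] (.node [(56,1)] .nil .nil) (.node [] (.node
    [(152,(-1))] .nil .nil) .nil)) .nil)))))

/-- table -/
noncomputable def auxE8Chain78 : Tr (List (ℕ × ℤ)) :=
    (.node [] (.node [] (.node [] (.node [] (.node [] (.node [] .nil (.node [] (.node [(117,1)]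
    .nil .nil) (.node [(188,1)] .nil .nil))) (.node [] .nil (.node [] .nil (.node [(227,(-1))] .nil
    .nil)))) (.node [] (.node [] (.node [] .nil (.node [(164,1)] .nil .nil)) .nil) (.node
    [(18,(-1))] (.node [] (.node [(106,(-1))] .nil .nil) .nil) (.node [] (.node [(162,1)] .nil
    .nil) .nil)))) (.node [] (.node [] (.node [(14,(-1))] .nil .nil) (.node [(16,(-1))] .nil .nil))
    (.node [] (.node [] (.node [(40,(-1))] (.node [(93,1)] .nil .nil) (.node [(166,1)] .nil .nil))
    .nil) (.node [] (.node [] (.node [(111,(-1))] .nil .nil) .nil) .nil)))) (.node [] (.node []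
    (.node [] (.node [] (.node [(23,(-1))] (.node [(85,(-1))] .nil .nil) (.node [(163,1)] .nil
    .nil)) (.node [] .nil (.node [(204,1)] .nil .nil))) (.node [] (.node [] (.node [(99,1)] .nil
    .nil) (.node [(169,1)] .nil .nil)) .nil)) (.node [] (.node [] (.node [(36,(-1))] .nil .nil)
    .nil) (.node [] (.node [] .nil (.node [(175,1)] .nil .nil)) (.node [(79,1)] .nil .nil))))
    (.node [(1,1)] (.node [] (.node [] (.node [(27,(-1))] (.node [(88,1)] .nil .nil) .nil) .nil)
    (.node [] (.node [] .nil (.node [(171,1)] .nil .nil)) .nil)) (.node [] (.node [(15,(-1))]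
    (.node [(56,(-1))] .nil .nil) .nil) (.node [(21,(-1))] (.node [] (.node [(114,1)] .nil .nil)
    (.node [(184,1)] .nil .nil)) (.node [(82,(-1))] .nil .nil)))))) (.node [] (.node [] (.node []
    (.node [] (.node [] (.node [(22,(-1))] (.node [(84,1)] .nil .nil) .nil) (.node [] (.node
    [(118,(-1))] .nil .nil) (.node [(194,1)] .nil .nil))) .nil) (.node [] .nil (.node [] (.node []
    .nil (.node [(174,1)] .nil .nil)) .nil))) (.node [(0,1)] (.node [] (.node [] (.node [(26,(-1))]
    .nil .nil) .nil) (.node [] (.node [] .nil (.node [(170,1)] .nil .nil)) .nil)) (.node [] (.node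
    [] (.node [(46,(-1))] (.node [(94,(-1))] .nil .nil) .nil) .nil) (.node [] .nil (.node [(81,1)]
    .nil .nil))))) (.node [] (.node [] (.node [] .nil (.node [] (.node [] (.node [(100,(-1))] .nil
    .nil) .nil) .nil)) (.node [] (.node [] (.node [(37,(-1))] .nil (.node [(165,1)] .nil .nil))
    .nil) (.node [] (.node [] (.node [(110,1)] .nil .nil) (.node [(178,1)] .nil .nil)) (.node
    [(80,(-1))] .nil .nil)))) (.node [] (.node [] (.node [] (.node [(30,(-1))] (.node [(89,(-1))]
    .nil .nil) .nil) .nil) (.node [(17,(-1))] (.node [] (.node [(105,1)] .nil .nil) .nil) .nil))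
    (.node [] (.node [] .nil (.node [] .nil (.node [(226,(-1))] .nil .nil))) (.node [] (.node []
    (.node [(115,(-1))] .nil .nil) (.node [(185,1)] .nil .nil)) .nil))))))

/-- table -/
noncomputable def auxE8Chain79 : Tr (List (ℕ × ℤ)) :=
    (.node [] (.node [] (.node [] (.node [] (.node [] (.node [] (.node [(22,1)] (.node [(84,1)]
    .nil .nil) .nil) (.node [] (.node [(119,(-1))] .nil .nil) (.node [(189,(-1))] .nil .nil)))
    (.node [] .nil (.node [] .nil (.node [(228,1)] .nil .nil)))) (.node [] .nil (.node [(19,(-1))]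
    (.node [] (.node [(107,(-1))] .nil .nil) (.node [(174,1)] .nil .nil)) .nil))) (.node [(0,(-1))]
    (.node [] (.node [] (.node [(26,1)] .nil .nil) .nil) (.node [] (.node [] .nil (.node [(170,1)]
    .nil .nil)) .nil)) (.node [] (.node [] (.node [(41,(-1))] .nil (.node [(167,(-1))] .nil .nil))
    .nil) (.node [] (.node [] (.node [(112,(-1))] .nil .nil) .nil) (.node [(81,1)] .nil .nil)))))
    (.node [] (.node [] (.node [] (.node [] (.node [(24,(-1))] (.node [(86,(-1))] .nil .nil) .nil)
    (.node [] (.node [(121,(-1))] .nil .nil) (.node [(205,(-1))] .nil .nil))) .nil) (.node []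
    (.node [] (.node [] .nil (.node [(165,1)] .nil .nil)) .nil) (.node [] (.node [] (.node
    [(110,1)] .nil .nil) (.node [(176,(-1))] .nil .nil)) .nil))) (.node [(2,1)] (.node [] (.node []
    (.node [(28,(-1))] .nil .nil) .nil) (.node [(17,1)] (.node [] (.node [(105,1)] .nil .nil)
    (.node [(172,(-1))] .nil .nil)) .nil)) (.node [] (.node [] (.node [(57,(-1))] .nil .nil) (.node
    [] .nil (.node [(226,(-1))] .nil .nil))) (.node [] .nil (.node [(83,(-1))] .nil .nil))))))
    (.node [] (.node [] (.node [] (.node [] (.node [] (.node [] .nil (.node [(163,1)] .nil .nil))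
    (.node [] .nil (.node [(195,(-1))] .nil .nil))) (.node [] (.node [] (.node [(99,1)] .nil .nil)
    (.node [(169,1)] .nil .nil)) .nil)) (.node [] (.node [] (.node [(36,1)] .nil .nil) .nil) (.node
    [] .nil (.node [(80,1)] .nil .nil)))) (.node [] (.node [] (.node [] (.node [] (.node [(88,1)]
    .nil .nil) .nil) .nil) .nil) (.node [] (.node [(15,1)] (.node [(47,(-1))] (.node [(95,(-1))]
    .nil .nil) .nil) .nil) (.node [(21,1)] (.node [] (.node [(114,1)] .nil .nil) (.node [(184,1)]
    .nil .nil)) .nil)))) (.node [] (.node [] (.node [] (.node [(14,1)] .nil .nil) (.node [(16,1)]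
    (.node [] (.node [(101,(-1))] .nil .nil) .nil) .nil)) (.node [] (.node [] (.node [(38,(-1))]
    (.node [(93,1)] .nil .nil) .nil) .nil) (.node [] (.node [] .nil (.node [(179,(-1))] .nil .nil))
    .nil))) (.node [] (.node [] (.node [] (.node [(31,(-1))] (.node [(90,(-1))] .nil .nil) (.node
    [(164,1)] .nil .nil)) .nil) (.node [] .nil (.node [(78,1)] (.node [(162,1)] .nil .nil) .nil)))
    (.node [] .nil (.node [] (.node [] (.node [(116,(-1))] .nil .nil) (.node [(186,(-1))] .nil
    .nil)) .nil))))))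

/-- table -/
noncomputable def auxE8Chain80 : Tr (List (ℕ × ℤ)) :=
    (.node [] (.node [] (.node [] (.node [] (.node [] (.node [] (.node [] (.node [(85,1)] .nil
    .nil) (.node [(163,1)] .nil .nil)) (.node [] .nil (.node [(190,1)] .nil .nil))) (.node []
    (.node [] .nil (.node [(169,1)] .nil .nil)) .nil)) (.node [] (.node [] (.node [(36,(-1))] .nil
    .nil) .nil) (.node [(20,(-1))] .nil (.node [(79,1)] .nil .nil)))) (.node [(1,(-1))] .nil (.node
    [] (.node [(15,(-1))] (.node [(42,(-1))] (.node [(95,(-1))] .nil .nil) (.node [(168,1)] .nil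
    .nil)) .nil) (.node [(21,(-1))] (.node [] .nil (.node [(184,1)] .nil .nil)) (.node [(82,1)]
    .nil .nil))))) (.node [] (.node [] (.node [] (.node [(14,(-1))] (.node [(25,(-1))] .nil .nil)
    (.node [] (.node [(122,1)] .nil .nil) (.node [(206,1)] .nil .nil))) (.node [(16,(-1))] (.node
    [] (.node [(101,(-1))] .nil .nil) .nil) .nil)) (.node [] .nil (.node [] (.node [] (.node
    [(111,1)] .nil .nil) (.node [(177,1)] .nil .nil)) .nil))) (.node [] (.node [] (.node [] (.node
    [(29,(-1))] (.node [(90,(-1))] .nil .nil) (.node [(164,1)] .nil .nil)) .nil) (.node [] (.node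
    [] (.node [(106,1)] .nil .nil) (.node [(173,1)] .nil .nil)) (.node [(78,(-1))] (.node [(162,1)]
    .nil .nil) .nil))) (.node [] (.node [] (.node [(58,(-1))] .nil .nil) (.node [] .nil (.node
    [(227,1)] .nil .nil))) (.node [] (.node [] (.node [(116,(-1))] .nil .nil) .nil) .nil)))))
    (.node [] (.node [] (.node [] (.node [] (.node [] (.node [] (.node [(86,(-1))] .nil .nil) .nil)
    (.node [] (.node [(120,(-1))] .nil .nil) (.node [(196,1)] .nil .nil))) (.node [] (.node []
    (.node [(100,1)] .nil .nil) .nil) .nil)) (.node [] (.node [] (.node [] .nil (.node [(165,1)]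
    .nil .nil)) .nil) .nil)) (.node [(2,(-1))] (.node [] (.node [] (.node [] (.node [(89,1)] .nil
    .nil) .nil) .nil) (.node [(17,(-1))] .nil .nil)) (.node [] (.node [] (.node [(48,(-1))] .nil
    .nil) .nil) (.node [] (.node [] (.node [(115,1)] .nil .nil) .nil) (.node [(83,(-1))] .nil
    .nil))))) (.node [] (.node [] (.node [] (.node [] (.node [(26,(-1))] .nil .nil) .nil) (.node []
    (.node [] .nil (.node [(170,1)] .nil .nil)) .nil)) (.node [] (.node [] (.node [(39,(-1))]
    (.node [(94,1)] .nil .nil) .nil) .nil) (.node [] (.node [] (.node [(112,(-1))] .nil .nil)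
    (.node [(180,1)] .nil .nil)) .nil))) (.node [] (.node [] (.node [] (.node [(32,(-1))] .nil
    .nil) .nil) (.node [] (.node [] (.node [(107,(-1))] .nil .nil) (.node [(174,1)] .nil .nil))
    .nil)) (.node [] (.node [] .nil (.node [] .nil (.node [(228,1)] .nil .nil))) (.node [(22,(-1))]
    (.node [] .nil (.node [(187,1)] .nil .nil)) .nil))))))

/-- table -/
noncomputable def auxE8Chain81 : Tr (List (ℕ × ℤ)) :=
    (.node [] (.node [] (.node [] (.node [] (.node [] (.node [] (.node [(23,1)] .nil .nil) (.node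
    [] .nil (.node [(191,1)] .nil .nil))) (.node [] (.node [] (.node [(99,1)] .nil .nil) .nil)
    (.node [] .nil (.node [(229,(-1))] .nil .nil)))) (.node [] .nil (.node [] (.node [] (.node
    [(108,(-1))] .nil .nil) (.node [(175,(-1))] .nil .nil)) .nil))) (.node [] (.node [] (.node []
    (.node [(27,1)] (.node [(88,1)] .nil .nil) .nil) .nil) (.node [] (.node [] .nil (.node
    [(171,(-1))] .nil .nil)) (.node [(78,1)] .nil .nil))) (.node [] (.node [] (.node [(43,(-1))]
    .nil .nil) .nil) (.node [] (.node [] (.node [(113,(-1))] .nil .nil) .nil) .nil)))) (.node []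
    (.node [] (.node [] (.node [] (.node [] (.node [(87,(-1))] .nil .nil) .nil) (.node [] (.node
    [(124,(-1))] .nil .nil) (.node [(207,1)] .nil .nil))) .nil) (.node [] (.node [] (.node [(38,1)]
    (.node [(93,1)] .nil .nil) (.node [(166,(-1))] .nil .nil)) .nil) .nil)) (.node [(3,1)] (.node
    [] .nil (.node [(18,1)] .nil .nil)) (.node [] (.node [] (.node [(59,(-1))] .nil .nil) .nil)
    (.node [] (.node [] (.node [(119,(-1))] .nil .nil) (.node [(186,(-1))] .nil .nil)) .nil)))))
    (.node [] (.node [] (.node [] (.node [] (.node [(14,(-1))] (.node [(24,1)] .nil .nil) (.node []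
    (.node [(123,(-1))] .nil .nil) (.node [(197,1)] .nil .nil))) (.node [(16,(-1))] .nil .nil))
    (.node [] (.node [] (.node [(37,1)] .nil .nil) .nil) (.node [] (.node [] (.node [(110,1)] .nil
    .nil) (.node [(176,(-1))] .nil .nil)) (.node [(82,1)] .nil .nil)))) (.node [] (.node [] (.node
    [] (.node [(28,1)] .nil (.node [(164,1)] .nil .nil)) .nil) (.node [] (.node [] (.node [(105,1)]
    .nil .nil) (.node [(172,(-1))] .nil .nil)) (.node [(79,1)] (.node [(162,1)] .nil .nil) .nil)))
    (.node [] (.node [] (.node [(49,(-1))] (.node [(96,(-1))] .nil .nil) .nil) (.node [] .nil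
    (.node [(226,(-1))] .nil .nil))) (.node [] (.node [] (.node [(117,(-1))] .nil .nil) (.node
    [(185,(-1))] .nil .nil)) .nil)))) (.node [] (.node [(0,1)] (.node [] .nil (.node [] (.node []
    (.node [(102,(-1))] .nil .nil) .nil) .nil)) (.node [] (.node [(15,(-1))] (.node [] .nil (.node
    [(167,(-1))] .nil .nil)) .nil) (.node [(21,(-1))] (.node [] .nil (.node [(181,1)] .nil .nil))
    (.node [(83,1)] .nil .nil)))) (.node [] (.node [] (.node [] (.node [(33,(-1))] (.node
    [(91,(-1))] .nil .nil) .nil) .nil) (.node [(19,1)] .nil .nil)) (.node [] (.node [] (.node []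
    .nil (.node [(169,1)] .nil .nil)) .nil) (.node [] .nil (.node [(84,1)] (.node [(163,1)] .nil
    .nil) .nil)))))))

/-- table -/
noncomputable def auxE8Chain82 : Tr (List (ℕ × ℤ)) :=
    (.node [] (.node [] (.node [] (.node [] (.node [] (.node [(14,1)] .nil (.node [] (.node
    [(123,(-1))] .nil .nil) (.node [(192,(-1))] .nil .nil))) (.node [(16,1)] (.node [] (.node
    [(100,1)] .nil .nil) .nil) .nil)) (.node [] (.node [] (.node [(37,(-1))] .nil .nil) .nil)
    (.node [] .nil (.node [(81,1)] .nil .nil)))) (.node [] (.node [] (.node [] (.node [] (.node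
    [(89,1)] .nil .nil) (.node [(164,1)] .nil .nil)) .nil) (.node [] .nil (.node [] (.node
    [(162,1)] .nil .nil) .nil))) (.node [] (.node [] (.node [(44,(-1))] (.node [(96,(-1))] .nil
    .nil) .nil) .nil) (.node [] (.node [] .nil (.node [(185,(-1))] .nil .nil)) .nil)))) (.node []
    (.node [] (.node [] (.node [] .nil (.node [] (.node [(125,1)] .nil .nil) (.node [(208,(-1))]
    .nil .nil))) (.node [] (.node [] (.node [(102,(-1))] .nil .nil) .nil) .nil)) (.node [] (.node
    [(15,1)] (.node [(39,1)] (.node [(94,1)] .nil .nil) .nil) .nil) (.node [(21,1)] .nil (.node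
    [(83,1)] .nil .nil)))) (.node [] (.node [] (.node [] (.node [] (.node [(91,(-1))] .nil .nil)
    .nil) .nil) .nil) (.node [] (.node [] (.node [(60,(-1))] .nil (.node [(169,1)] .nil .nil))
    .nil) (.node [] (.node [] .nil (.node [(187,1)] .nil .nil)) (.node [] (.node [(163,1)] .nil
    .nil) .nil)))))) (.node [] (.node [] (.node [] (.node [] (.node [] (.node [(25,1)] (.node
    [(87,(-1))] .nil .nil) .nil) (.node [] .nil (.node [(198,(-1))] .nil .nil))) .nil) (.node []
    (.node [] (.node [] .nil (.node [(166,(-1))] .nil .nil)) .nil) (.node [] (.node [] (.node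
    [(111,1)] .nil .nil) (.node [(177,1)] .nil .nil)) .nil))) (.node [(3,(-1))] (.node [] (.node []
    (.node [(29,1)] .nil .nil) .nil) (.node [(18,(-1))] (.node [] (.node [(106,1)] .nil .nil)
    (.node [(173,1)] .nil .nil)) (.node [(80,1)] .nil .nil))) (.node [] (.node [] (.node
    [(50,(-1))] .nil .nil) (.node [] .nil (.node [(227,1)] .nil .nil))) (.node [] (.node [] (.node
    [(118,(-1))] .nil .nil) .nil) .nil)))) (.node [] (.node [(1,1)] (.node [] (.node [] (.node
    [(27,(-1))] .nil .nil) .nil) (.node [] (.node [] .nil (.node [(171,(-1))] .nil .nil)) (.node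
    [(78,(-1))] .nil .nil))) (.node [] (.node [] (.node [] .nil (.node [(168,1)] .nil .nil)) .nil)
    (.node [] (.node [] (.node [(113,(-1))] .nil .nil) (.node [(182,(-1))] .nil .nil)) .nil)))
    (.node [] (.node [] (.node [] (.node [(34,(-1))] .nil .nil) .nil) (.node [(20,1)] (.node []
    (.node [(108,(-1))] .nil .nil) (.node [(175,(-1))] .nil .nil)) .nil)) (.node [] (.node [] .nil
    (.node [] .nil (.node [(229,(-1))] .nil .nil))) (.node [(23,(-1))] (.node [] (.node
    [(120,(-1))] .nil .nil) .nil) (.node [(85,1)] .nil .nil)))))))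

/-- table -/
noncomputable def auxE8Chain83 : Tr (List (ℕ × ℤ)) :=
    (.node [] (.node [] (.node [] (.node [] (.node [] (.node [] (.node [(25,(-1))] (.node
    [(87,(-1))] .nil .nil) .nil) (.node [] (.node [(124,1)] .nil .nil) (.node [(193,1)] .nil
    .nil))) (.node [] (.node [] (.node [(101,1)] .nil .nil) .nil) .nil)) (.node [] (.node [] (.node
    [(38,(-1))] .nil .nil) .nil) (.node [] (.node [] .nil (.node [(177,1)] .nil .nil)) .nil)))
    (.node [(3,1)] (.node [] (.node [] (.node [(29,(-1))] (.node [(90,1)] .nil .nil) .nil) .nil)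
    (.node [] (.node [] .nil (.node [(173,1)] .nil .nil)) (.node [(80,(-1))] .nil .nil))) (.node []
    (.node [] (.node [(45,(-1))] .nil .nil) .nil) (.node [] (.node [] .nil (.node [(186,1)] .nil
    .nil)) .nil)))) (.node [] (.node [] (.node [] (.node [] .nil (.node [] .nil (.node [(209,1)]
    .nil .nil))) .nil) (.node [] (.node [] (.node [] (.node [(95,1)] .nil .nil) (.node [(168,1)]
    .nil .nil)) .nil) (.node [] (.node [] (.node [(113,(-1))] .nil .nil) .nil) .nil))) (.node []
    (.node [] .nil (.node [(20,(-1))] (.node [] (.node [(108,(-1))] .nil .nil) .nil) (.node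
    [(81,1)] .nil .nil))) (.node [] (.node [] (.node [(61,(-1))] .nil .nil) (.node [] .nil (.node
    [(229,(-1))] .nil .nil))) (.node [] (.node [] (.node [(121,(-1))] .nil .nil) .nil) .nil)))))
    (.node [] (.node [] (.node [] (.node [] (.node [] .nil (.node [] (.node [(125,1)] .nil .nil)
    (.node [(199,1)] .nil .nil))) (.node [] (.node [] (.node [(102,(-1))] .nil .nil) .nil) .nil))
    (.node [] (.node [(15,(-1))] (.node [(39,(-1))] .nil (.node [(167,1)] .nil .nil)) .nil) (.node
    [(21,(-1))] (.node [] (.node [(112,1)] .nil .nil) .nil) .nil))) (.node [] (.node [] (.node []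
    (.node [] (.node [(91,(-1))] .nil .nil) .nil) .nil) (.node [(19,(-1))] (.node [] (.node
    [(107,1)] .nil .nil) .nil) .nil)) (.node [] (.node [] (.node [(51,(-1))] .nil (.node [(169,1)]
    .nil .nil)) (.node [] .nil (.node [(228,(-1))] .nil .nil))) (.node [] (.node [] .nil (.node
    [(187,1)] .nil .nil)) (.node [] (.node [(163,1)] .nil .nil) .nil))))) (.node [] (.node [(2,1)]
    (.node [] (.node [] (.node [(28,(-1))] .nil (.node [(164,1)] .nil .nil)) .nil) (.node [] (.node
    [] .nil (.node [(172,1)] .nil .nil)) (.node [(79,(-1))] (.node [(162,1)] .nil .nil) .nil)))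
    (.node [] (.node [] (.node [] (.node [(96,(-1))] .nil .nil) .nil) .nil) (.node [] (.node []
    .nil (.node [(183,1)] .nil .nil)) .nil))) (.node [] (.node [] (.node [] (.node [(35,(-1))] .nil
    .nil) .nil) (.node [] (.node [] .nil (.node [(176,1)] .nil .nil)) (.node [(82,1)] .nil .nil)))
    (.node [(14,(-1))] (.node [(16,(-1))] .nil .nil) (.node [(24,(-1))] (.node [] (.node
    [(122,(-1))] .nil .nil) .nil) (.node [(86,1)] .nil .nil)))))))

/-- table -/
noncomputable def auxE8Chain84 : Tr (List (ℕ × ℤ)) :=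
    (.node [] (.node [] (.node [] (.node [] (.node [] .nil (.node [] .nil (.node [(78,1)] .nil
    (.node [(230,1)] .nil .nil)))) (.node [] (.node [(15,1)] (.node [] .nil (.node [(167,(-1))]
    .nil .nil)) .nil) (.node [] (.node [] (.node [(109,(-1))] .nil .nil) (.node [(178,1)] .nil
    .nil)) .nil))) (.node [] (.node [] (.node [] (.node [(30,1)] .nil .nil) .nil) (.node
    [(19,(-1))] (.node [] (.node [(105,1)] .nil .nil) .nil) .nil)) (.node [] (.node [] .nil (.node
    [] .nil (.node [(226,(-1))] .nil .nil))) (.node [] .nil (.node [] (.node [(163,1)] .nil .nil)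
    .nil))))) (.node [] (.node [(0,(-1))] (.node [] (.node [] .nil (.node [] (.node [(128,(-1))]
    .nil .nil) (.node [(210,(-1))] .nil .nil))) (.node [] (.node [] .nil (.node [(172,(-1))] .nil
    .nil)) (.node [(81,1)] (.node [(162,1)] .nil .nil) .nil))) (.node [] (.node [] (.node [(41,1)]
    .nil .nil) .nil) (.node [] (.node [] (.node [(117,(-1))] .nil .nil) (.node [(181,1)] .nil
    .nil)) .nil))) (.node [(4,1)] (.node [] (.node [] (.node [(33,1)] .nil .nil) .nil) .nil) (.node
    [(14,1)] (.node [] (.node [(62,(-1))] .nil .nil) .nil) (.node [(24,(-1))] (.node [] .nil (.node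
    [(189,1)] .nil .nil)) (.node [(87,1)] .nil .nil)))))) (.node [] (.node [] (.node [] (.node []
    (.node [] .nil (.node [] (.node [(127,(-1))] .nil .nil) (.node [(200,(-1))] .nil .nil))) (.node
    [(17,(-1))] (.node [] .nil (.node [(171,(-1))] .nil .nil)) (.node [(79,1)] .nil .nil))) (.node
    [] (.node [] (.node [(40,1)] (.node [(93,1)] .nil .nil) .nil) .nil) (.node [] (.node [] (.node
    [(114,(-1))] .nil .nil) (.node [(179,1)] .nil .nil)) (.node [(85,1)] .nil .nil)))) (.node []
    (.node [] (.node [] (.node [(31,1)] .nil (.node [(165,(-1))] .nil .nil)) .nil) .nil) (.node []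
    (.node [] (.node [(52,(-1))] (.node [(97,(-1))] .nil .nil) .nil) .nil) (.node [(23,(-1))]
    (.node [] .nil (.node [(188,1)] .nil .nil)) .nil)))) (.node [] (.node [] (.node [] (.node []
    (.node [] (.node [(88,1)] .nil .nil) .nil) .nil) (.node [(18,(-1))] (.node [] (.node
    [(103,(-1))] .nil .nil) .nil) .nil)) (.node [] (.node [] (.node [(43,1)] .nil .nil) .nil)
    (.node [(22,(-1))] (.node [] (.node [(119,(-1))] .nil .nil) .nil) (.node [(86,1)] .nil .nil))))
    (.node [] (.node [] (.node [] (.node [] (.node [(92,(-1))] .nil .nil) (.node [(166,(-1))] .nil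
    .nil)) .nil) .nil) (.node [] (.node [] (.node [] (.node [(99,1)] .nil .nil) (.node [(170,(-1))]
    .nil .nil)) .nil) (.node [] (.node [] (.node [(126,(-1))] .nil .nil) (.node [(191,1)] .nil
    .nil)) .nil))))))

/-- table -/
noncomputable def auxE8Chain85 : Tr (List (ℕ × ℤ)) :=
    (.node [] (.node [] (.node [] (.node [] (.node [] (.node [] .nil (.node [] (.node [(127,(-1))]
    .nil .nil) .nil)) (.node [(17,1)] (.node [] .nil (.node [(171,(-1))] .nil .nil)) .nil)) (.node
    [] (.node [] (.node [(40,(-1))] .nil (.node [(168,1)] .nil .nil)) .nil) (.node [] .nil (.node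
    [(84,1)] .nil .nil)))) (.node [] (.node [] (.node [] (.node [] .nil (.node [(165,(-1))] .nil
    .nil)) .nil) (.node [(20,(-1))] (.node [] (.node [(106,1)] .nil .nil) .nil) .nil)) (.node []
    (.node [] (.node [] (.node [(97,(-1))] .nil .nil) .nil) (.node [] .nil (.node [(227,1)] .nil
    .nil))) (.node [(23,1)] (.node [] (.node [(120,(-1))] .nil .nil) (.node [(188,1)] .nil .nil))
    .nil)))) (.node [] (.node [(1,(-1))] (.node [] (.node [] .nil (.node [] (.node [(129,1)] .nil
    .nil) (.node [(211,1)] .nil .nil))) (.node [(18,1)] (.node [] (.node [(103,(-1))] .nil .nil)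
    (.node [(173,1)] .nil .nil)) (.node [(82,1)] .nil .nil))) (.node [] (.node [] (.node [(42,1)]
    .nil .nil) .nil) (.node [(22,1)] (.node [] (.node [(118,(-1))] .nil .nil) (.node [(182,(-1))]
    .nil .nil)) (.node [(86,1)] .nil .nil)))) (.node [] (.node [] (.node [] (.node [(34,1)] (.node
    [(92,(-1))] .nil .nil) (.node [(166,(-1))] .nil .nil)) .nil) .nil) (.node [] (.node [] (.node
    [(63,(-1))] .nil (.node [(170,(-1))] .nil .nil)) .nil) (.node [(25,(-1))] (.node [] (.node
    [(126,(-1))] .nil .nil) (.node [(190,(-1))] .nil .nil)) .nil))))) (.node [] (.node [] (.node []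
    (.node [] (.node [] .nil (.node [] .nil (.node [(201,1)] .nil .nil))) (.node [] .nil (.node
    [(80,1)] (.node [(162,1)] .nil .nil) .nil))) (.node [] (.node [] (.node [] (.node [(94,1)] .nil
    .nil) .nil) .nil) (.node [] (.node [] (.node [(115,(-1))] .nil .nil) (.node [(180,(-1))] .nil
    .nil)) .nil))) (.node [(4,(-1))] (.node [] (.node [] (.node [(32,1)] .nil .nil) .nil) .nil)
    (.node [(14,(-1))] (.node [] (.node [(53,(-1))] .nil .nil) .nil) (.node [] .nil (.node [(87,1)]
    .nil .nil))))) (.node [] (.node [] (.node [] (.node [] (.node [(30,(-1))] (.node [(89,1)] .nil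
    .nil) .nil) .nil) .nil) (.node [] (.node [] (.node [(44,1)] .nil .nil) .nil) (.node [] .nil
    (.node [] (.node [(163,1)] .nil .nil) .nil)))) (.node [] (.node [] (.node [(15,(-1))] .nil
    .nil) (.node [] (.node [] (.node [(109,(-1))] .nil .nil) (.node [(178,1)] .nil .nil)) .nil))
    (.node [] (.node [] (.node [] (.node [(100,1)] .nil .nil) .nil) (.node [(78,(-1))] .nil (.node
    [(230,1)] .nil .nil))) (.node [] (.node [] .nil (.node [(192,(-1))] .nil .nil)) .nil))))))

/-- table -/
noncomputable def auxE8Chain86 : Tr (List (ℕ × ℤ)) :=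
    (.node [] (.node [] (.node [] (.node [] (.node [] (.node [] .nil (.node [] (.node [(128,1)]
    .nil .nil) .nil)) (.node [] (.node [] .nil (.node [(172,1)] .nil .nil)) (.node [(80,(-1))]
    (.node [(162,1)] .nil .nil) .nil))) (.node [] (.node [] (.node [(41,(-1))] .nil .nil) .nil)
    (.node [] (.node [] .nil (.node [(180,(-1))] .nil .nil)) .nil))) (.node [(4,1)] (.node []
    (.node [] (.node [(32,(-1))] .nil .nil) .nil) (.node [] (.node [] (.node [(107,1)] .nil .nil)
    .nil) .nil)) (.node [(14,1)] (.node [] .nil (.node [] .nil (.node [(228,(-1))] .nil .nil)))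
    (.node [(24,1)] (.node [] (.node [(122,(-1))] .nil .nil) (.node [(189,(-1))] .nil .nil)) (.node
    [(87,1)] .nil .nil))))) (.node [] (.node [(2,(-1))] (.node [] (.node [] .nil (.node [] .nil
    (.node [(212,(-1))] .nil .nil))) (.node [(19,1)] .nil (.node [(83,1)] .nil .nil))) (.node []
    .nil (.node [] (.node [] .nil (.node [(183,1)] .nil .nil)) (.node [] (.node [(163,1)] .nil
    .nil) .nil)))) (.node [] (.node [] (.node [(15,1)] (.node [(35,1)] .nil (.node [(167,1)] .nil
    .nil)) .nil) (.node [] (.node [] (.node [(109,(-1))] .nil .nil) .nil) (.node [(84,1)] .nil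
    .nil))) (.node [] (.node [] (.node [(64,(-1))] .nil .nil) (.node [] .nil (.node [(230,1)] .nil
    .nil))) .nil)))) (.node [] (.node [] (.node [] (.node [] (.node [] .nil (.node [] (.node
    [(129,1)] .nil .nil) (.node [(202,(-1))] .nil .nil))) (.node [] (.node [] (.node [(103,(-1))]
    .nil .nil) (.node [(173,1)] .nil .nil)) .nil)) (.node [] (.node [] (.node [(42,(-1))] (.node
    [(95,1)] .nil .nil) .nil) .nil) (.node [(22,(-1))] (.node [] (.node [(116,(-1))] .nil .nil)
    .nil) .nil))) (.node [] (.node [] (.node [] (.node [] (.node [(92,(-1))] .nil .nil) .nil) .nil)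
    .nil) (.node [] (.node [] (.node [(54,(-1))] .nil (.node [(170,(-1))] .nil .nil)) .nil) (.node
    [(25,1)] (.node [] (.node [(126,(-1))] .nil .nil) (.node [(190,(-1))] .nil .nil)) .nil))))
    (.node [] (.node [] (.node [] (.node [] (.node [(31,(-1))] (.node [(90,1)] .nil .nil) (.node
    [(165,(-1))] .nil .nil)) .nil) (.node [(20,1)] .nil .nil)) (.node [] (.node [] (.node [(45,1)]
    (.node [(97,(-1))] .nil .nil) .nil) .nil) (.node [] (.node [] (.node [(121,(-1))] .nil .nil)
    .nil) .nil))) (.node [] (.node [] (.node [] (.node [] .nil (.node [(168,1)] .nil .nil)) .nil)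
    (.node [] (.node [] .nil (.node [(179,(-1))] .nil .nil)) (.node [(85,1)] .nil .nil))) (.node []
    (.node [(17,(-1))] (.node [] (.node [(101,1)] .nil .nil) .nil) (.node [(79,(-1))] .nil .nil))
    (.node [] (.node [] .nil (.node [(193,1)] .nil .nil)) .nil))))))

/-- table -/
noncomputable def auxE8Chain87 : Tr (List (ℕ × ℤ)) :=
    (.node [] (.node [] (.node [] (.node [] (.node [] .nil (.node [(19,(-1))] (.node [] (.node
    [(103,(-1))] .nil .nil) .nil) (.node [(82,(-1))] .nil .nil))) (.node [] (.node [] (.node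
    [(43,(-1))] .nil .nil) .nil) (.node [] (.node [] .nil (.node [(182,1)] .nil .nil)) .nil)))
    (.node [] (.node [] (.node [] (.node [(34,(-1))] (.node [(92,(-1))] .nil .nil) (.node [(167,1)]
    .nil .nil)) .nil) (.node [] (.node [] (.node [(108,1)] .nil .nil) .nil) (.node [(85,1)] .nil
    .nil))) (.node [] (.node [] .nil (.node [] .nil (.node [(229,1)] .nil .nil))) (.node [] (.node
    [] (.node [(125,(-1))] .nil .nil) (.node [(191,1)] .nil .nil)) .nil)))) (.node [] (.node
    [(3,(-1))] (.node [] (.node [] .nil (.node [] .nil (.node [(213,1)] .nil .nil))) .nil) (.node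
    [] (.node [] (.node [(45,(-1))] (.node [(97,(-1))] .nil .nil) .nil) .nil) (.node [(24,(-1))]
    (.node [] (.node [(123,(-1))] .nil .nil) .nil) .nil))) (.node [] .nil (.node [] (.node []
    (.node [(65,(-1))] .nil (.node [(172,1)] .nil .nil)) .nil) (.node [] (.node [] (.node [(128,1)]
    .nil .nil) (.node [(193,1)] .nil .nil)) .nil))))) (.node [] (.node [] (.node [] (.node []
    (.node [] .nil (.node [] .nil (.node [(203,1)] .nil .nil))) (.node [(20,(-1))] .nil (.node
    [(83,(-1))] .nil .nil))) (.node [] (.node [] (.node [(44,(-1))] (.node [(96,1)] .nil .nil)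
    .nil) .nil) (.node [(23,(-1))] (.node [] .nil (.node [(183,1)] .nil .nil)) (.node [] (.node
    [(163,1)] .nil .nil) .nil)))) (.node [] (.node [] (.node [(15,(-1))] (.node [(35,(-1))] .nil
    (.node [(168,1)] .nil .nil)) .nil) (.node [] (.node [] (.node [(109,(-1))] .nil .nil) .nil)
    (.node [(86,1)] .nil .nil))) (.node [] (.node [] (.node [(55,(-1))] .nil (.node [(171,1)] .nil
    .nil)) (.node [] .nil (.node [(230,1)] .nil .nil))) (.node [] (.node [] (.node [(127,1)] .nil
    .nil) (.node [(192,1)] .nil .nil)) .nil)))) (.node [] (.node [(4,(-1))] (.node [] (.node []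
    (.node [(33,(-1))] (.node [(91,1)] .nil .nil) (.node [(166,1)] .nil .nil)) .nil) (.node [] .nil
    (.node [(84,1)] .nil .nil))) (.node [(14,(-1))] .nil (.node [(25,(-1))] (.node [] (.node
    [(124,(-1))] .nil .nil) .nil) .nil))) (.node [] (.node [] .nil (.node [] (.node [] .nil (.node
    [(181,1)] .nil .nil)) .nil)) (.node [] (.node [(18,(-1))] (.node [] (.node [(102,1)] .nil .nil)
    (.node [(173,1)] .nil .nil)) (.node [(81,(-1))] (.node [(162,1)] .nil .nil) .nil)) (.node []
    (.node [] (.node [(129,1)] .nil .nil) .nil) .nil))))))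

/-- table -/
noncomputable def auxE8Chain88 : Tr (List (ℕ × ℤ)) :=
    (.node [] (.node [] (.node [] (.node [] (.node [] (.node [] (.node [(30,(-1))] .nil .nil)
    (.node [] .nil (.node [(200,(-1))] .nil .nil))) (.node [] .nil (.node [] .nil (.node
    [(231,(-1))] .nil .nil)))) (.node [] (.node [(16,1)] (.node [] (.node [(93,1)] .nil .nil) .nil)
    .nil) .nil)) (.node [] (.node [] .nil (.node [] (.node [] (.node [(110,(-1))] .nil .nil) (.node
    [(178,1)] .nil .nil)) .nil)) (.node [] (.node [] (.node [(52,1)] .nil .nil) (.node [(79,1)]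
    .nil .nil)) (.node [] (.node [] (.node [(130,(-1))] .nil .nil) .nil) (.node [] (.node
    [(164,(-1))] .nil .nil) .nil))))) (.node [] (.node [] (.node [] (.node [] (.node [(33,(-1))]
    (.node [(92,1)] .nil .nil) (.node [(167,(-1))] .nil .nil)) (.node [] (.node [(133,(-1))] .nil
    .nil) (.node [(214,1)] .nil .nil))) (.node [] (.node [] .nil (.node [(176,1)] .nil .nil))
    .nil)) (.node [(14,(-1))] (.node [] (.node [(47,1)] .nil .nil) .nil) .nil)) (.node [(5,1)]
    (.node [] .nil (.node [] (.node [] (.node [(117,(-1))] .nil .nil) (.node [(181,1)] .nil .nil))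
    .nil)) (.node [] (.node [(19,1)] (.node [(66,(-1))] (.node [(99,1)] .nil .nil) .nil) (.node
    [(84,1)] (.node [(162,1)] .nil .nil) .nil)) (.node [(28,(-1))] (.node [] .nil (.node
    [(195,(-1))] .nil .nil)) (.node [(91,1)] .nil .nil)))))) (.node [] (.node [] (.node [(0,1)]
    (.node [] (.node [] (.node [(31,(-1))] .nil (.node [(166,(-1))] .nil .nil)) (.node [] (.node
    [(132,(-1))] .nil .nil) .nil)) (.node [] (.node [] .nil (.node [(175,1)] .nil .nil)) .nil))
    (.node [] (.node [] (.node [(46,1)] .nil .nil) .nil) (.node [] .nil (.node [(89,1)] .nil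
    .nil)))) (.node [] (.node [] .nil (.node [] (.node [] (.node [(114,(-1))] .nil .nil) (.node
    [(179,1)] .nil .nil)) .nil)) (.node [] (.node [(18,1)] (.node [] (.node [(98,(-1))] .nil .nil)
    .nil) (.node [(81,1)] .nil .nil)) (.node [(27,(-1))] (.node [] .nil (.node [(194,(-1))] .nil
    .nil)) .nil)))) (.node [] (.node [] (.node [] .nil (.node [] (.node [] (.node [(104,(-1))] .nil
    .nil) .nil) .nil)) (.node [] (.node [(17,1)] (.node [(49,1)] .nil .nil) (.node [(78,1)] .nil
    (.node [(226,(-1))] .nil .nil))) (.node [(26,(-1))] .nil (.node [(90,1)] .nil .nil)))) (.node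
    [] (.node [] .nil (.node [] (.node [] (.node [(119,(-1))] .nil .nil) .nil) .nil)) (.node []
    (.node [] (.node [] .nil (.node [(174,1)] .nil .nil)) .nil) (.node [] (.node [] (.node
    [(131,(-1))] .nil .nil) (.node [(197,(-1))] .nil .nil)) (.node [] (.node [(165,(-1))] .nil
    .nil) .nil)))))))

/-- table -/
noncomputable def auxE8Chain89 : Tr (List (ℕ × ℤ)) :=
    (.node [] (.node [] (.node [] (.node [] (.node [] (.node [] (.node [] .nil (.node [(166,(-1))]
    .nil .nil)) (.node [] (.node [(132,(-1))] .nil .nil) (.node [(201,1)] .nil .nil))) (.node []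
    (.node [] .nil (.node [(175,1)] .nil .nil)) .nil)) (.node [] (.node [] (.node [(46,(-1))]
    (.node [(94,1)] .nil .nil) .nil) .nil) (.node [] (.node [] (.node [(120,(-1))] .nil .nil) .nil)
    (.node [(88,1)] .nil .nil)))) (.node [] (.node [] .nil (.node [] (.node [] (.node [(111,(-1))]
    .nil .nil) .nil) .nil)) (.node [] (.node [(18,(-1))] (.node [(53,1)] (.node [(98,(-1))] .nil
    .nil) .nil) (.node [(80,1)] .nil .nil)) (.node [(27,1)] (.node [] .nil (.node [(194,(-1))] .nil
    .nil)) .nil)))) (.node [] (.node [] (.node [] (.node [] (.node [(34,(-1))] .nil (.node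
    [(168,1)] .nil .nil)) (.node [] (.node [(134,1)] .nil .nil) (.node [(215,(-1))] .nil .nil)))
    (.node [] (.node [] (.node [(104,(-1))] .nil .nil) (.node [(177,(-1))] .nil .nil)) .nil))
    (.node [] (.node [(17,(-1))] (.node [(48,1)] .nil .nil) (.node [(78,(-1))] .nil .nil)) (.node
    [(26,1)] .nil (.node [(90,1)] .nil .nil)))) (.node [] (.node [] .nil (.node [] (.node [] (.node
    [(118,(-1))] .nil .nil) (.node [(182,(-1))] .nil .nil)) .nil)) (.node [] (.node [(20,1)] (.node
    [(67,(-1))] (.node [(100,1)] .nil .nil) (.node [(174,1)] .nil .nil)) (.node [(85,1)] .nil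
    .nil)) (.node [(29,(-1))] (.node [] (.node [(131,(-1))] .nil .nil) (.node [(196,1)] .nil .nil))
    (.node [] (.node [(165,(-1))] .nil .nil) .nil)))))) (.node [] (.node [] (.node [(1,1)] (.node
    [] (.node [] (.node [(32,(-1))] (.node [(92,1)] .nil .nil) .nil) .nil) .nil) (.node [(14,1)]
    .nil .nil)) (.node [(5,(-1))] (.node [] .nil (.node [] (.node [] (.node [(115,(-1))] .nil .nil)
    (.node [(180,(-1))] .nil .nil)) .nil)) (.node [] (.node [] .nil (.node [(82,1)] (.node
    [(162,1)] .nil .nil) .nil)) (.node [] .nil (.node [(91,1)] .nil .nil))))) (.node [] (.node []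
    (.node [] .nil (.node [] (.node [] .nil (.node [(178,1)] .nil .nil)) .nil)) (.node [] (.node []
    (.node [(50,1)] .nil .nil) (.node [] .nil (.node [(227,1)] .nil .nil))) (.node [] (.node []
    (.node [(130,(-1))] .nil .nil) .nil) (.node [] (.node [(164,(-1))] .nil .nil) .nil)))) (.node
    [] (.node [] (.node [(16,(-1))] .nil .nil) .nil) (.node [] (.node [] .nil (.node [] .nil (.node
    [(231,(-1))] .nil .nil))) (.node [(30,1)] (.node [] .nil (.node [(198,1)] .nil .nil))
    .nil))))))

/-- table -/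
noncomputable def auxE8Chain90 : Tr (List (ℕ × ℤ)) :=
    (.node [] (.node [] (.node [] (.node [] (.node [] (.node [] (.node [(32,1)] (.node [(92,1)]
    .nil .nil) (.node [(167,1)] .nil .nil)) (.node [] (.node [(133,1)] .nil .nil) (.node
    [(202,(-1))] .nil .nil))) (.node [] (.node [] .nil (.node [(176,(-1))] .nil .nil)) .nil))
    (.node [(14,(-1))] (.node [] (.node [(47,(-1))] (.node [(95,1)] .nil .nil) .nil) .nil) (.node
    [] (.node [] (.node [(122,(-1))] .nil .nil) .nil) .nil))) (.node [(5,1)] (.node [] .nil (.node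
    [] (.node [] (.node [(112,(-1))] .nil .nil) (.node [(180,(-1))] .nil .nil)) .nil)) (.node []
    (.node [(19,(-1))] (.node [(54,1)] .nil .nil) (.node [] (.node [(162,1)] .nil .nil) .nil))
    (.node [(28,1)] (.node [] .nil (.node [(195,1)] .nil .nil)) (.node [(91,1)] .nil .nil)))))
    (.node [] (.node [] (.node [] (.node [] (.node [(35,(-1))] .nil .nil) (.node [] .nil (.node
    [(216,1)] .nil .nil))) .nil) (.node [] (.node [] .nil (.node [(79,(-1))] .nil .nil)) (.node []
    (.node [] (.node [(130,(-1))] .nil .nil) .nil) (.node [] (.node [(164,(-1))] .nil .nil)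
    .nil)))) (.node [] (.node [] (.node [(16,1)] .nil .nil) (.node [] (.node [] .nil (.node
    [(183,1)] .nil .nil)) (.node [(88,1)] .nil .nil))) (.node [] (.node [] (.node [(68,(-1))]
    (.node [(101,1)] .nil .nil) .nil) (.node [(86,1)] .nil (.node [(231,(-1))] .nil .nil)))
    .nil)))) (.node [] (.node [] (.node [(2,1)] (.node [] (.node [] (.node [] .nil (.node [(168,1)]
    .nil .nil)) (.node [] (.node [(134,1)] .nil .nil) .nil)) (.node [] (.node [] (.node
    [(104,(-1))] .nil .nil) (.node [(177,(-1))] .nil .nil)) .nil)) (.node [] (.node [(17,1)] (.node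
    [(48,(-1))] .nil .nil) .nil) (.node [(26,(-1))] .nil .nil))) (.node [] (.node [] .nil (.node []
    (.node [] (.node [(116,(-1))] .nil .nil) .nil) .nil)) (.node [] (.node [(20,(-1))] (.node []
    .nil (.node [(174,1)] .nil .nil)) (.node [(83,1)] .nil .nil)) (.node [(29,1)] (.node [] (.node
    [(131,(-1))] .nil .nil) (.node [(196,1)] .nil .nil)) (.node [] (.node [(165,(-1))] .nil .nil)
    .nil))))) (.node [] (.node [] (.node [] .nil (.node [] (.node [] .nil (.node [(179,(-1))] .nil
    .nil)) .nil)) (.node [] (.node [] (.node [(51,1)] (.node [(98,(-1))] .nil .nil) .nil) (.node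
    [(80,(-1))] .nil (.node [(228,(-1))] .nil .nil))) .nil)) (.node [] (.node [] .nil (.node []
    (.node [] (.node [(121,(-1))] .nil .nil) .nil) (.node [(89,1)] .nil .nil))) (.node [] .nil
    (.node [(31,1)] (.node [] .nil (.node [(199,(-1))] .nil .nil)) .nil))))))

/-- table -/
noncomputable def auxE8Chain91 : Tr (List (ℕ × ℤ)) :=
    (.node [] (.node [] (.node [] (.node [] (.node [] (.node [] (.node [(34,1)] .nil .nil) (.node
    [] .nil (.node [(203,1)] .nil .nil))) (.node [] (.node [] (.node [(104,(-1))] .nil .nil) .nil)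
    .nil)) (.node [] (.node [] (.node [(49,(-1))] (.node [(96,1)] .nil .nil) .nil) .nil) (.node []
    (.node [] (.node [(125,(-1))] .nil .nil) .nil) .nil))) (.node [] (.node [] .nil (.node []
    (.node [] (.node [(113,(-1))] .nil .nil) (.node [(182,1)] .nil .nil)) (.node [(89,1)] .nil
    .nil))) (.node [] (.node [] (.node [(55,1)] .nil .nil) (.node [(83,(-1))] .nil .nil)) (.node []
    (.node [] .nil (.node [(197,(-1))] .nil .nil)) .nil)))) (.node [] (.node [] (.node [] (.node []
    .nil (.node [] .nil (.node [(217,(-1))] .nil .nil))) .nil) (.node [] (.node [(19,1)] (.node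
    [(51,(-1))] (.node [(98,(-1))] .nil .nil) .nil) (.node [(81,(-1))] .nil .nil)) (.node
    [(28,(-1))] .nil .nil))) (.node [] (.node [] .nil (.node [] (.node [] (.node [(123,(-1))] .nil
    .nil) .nil) .nil)) (.node [] (.node [] (.node [(69,(-1))] (.node [(102,1)] .nil .nil) (.node
    [(176,(-1))] .nil .nil)) (.node [(87,1)] .nil .nil)) (.node [] (.node [] (.node [(133,1)] .nil
    .nil) (.node [(199,(-1))] .nil .nil)) (.node [] (.node [(167,1)] .nil .nil) .nil)))))) (.node
    [] (.node [] (.node [(3,1)] (.node [] (.node [] (.node [(35,1)] .nil .nil) .nil) .nil) (.node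
    [] (.node [(18,1)] (.node [(50,(-1))] .nil .nil) .nil) (.node [(27,(-1))] (.node [] (.node
    [(130,(-1))] .nil .nil) .nil) (.node [] (.node [(164,(-1))] .nil .nil) .nil)))) (.node []
    (.node [] (.node [(16,(-1))] .nil .nil) (.node [] (.node [] .nil (.node [(183,1)] .nil .nil))
    (.node [(90,1)] .nil .nil))) (.node [] (.node [] (.node [] .nil (.node [(175,(-1))] .nil .nil))
    (.node [] .nil (.node [(231,(-1))] .nil .nil))) (.node [] (.node [] (.node [(132,1)] .nil .nil)
    (.node [(198,(-1))] .nil .nil)) (.node [] (.node [(166,1)] .nil .nil) .nil))))) (.node []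
    (.node [(5,(-1))] (.node [] .nil (.node [] (.node [] .nil (.node [(181,1)] .nil .nil)) (.node
    [(88,1)] .nil .nil))) (.node [] (.node [(20,1)] .nil (.node [(82,(-1))] (.node [(162,1)] .nil
    .nil) (.node [(229,1)] .nil .nil))) (.node [(29,(-1))] .nil .nil))) (.node [] (.node [(14,1)]
    .nil (.node [] (.node [] (.node [(124,(-1))] .nil .nil) .nil) .nil)) (.node [] (.node [] (.node
    [] .nil (.node [(177,(-1))] .nil .nil)) .nil) (.node [(33,1)] (.node [] (.node [(134,1)] .nil
    .nil) .nil) (.node [(92,1)] (.node [(168,1)] .nil .nil) .nil)))))))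

/-- table -/
noncomputable def auxE8Chain92 : Tr (List (ℕ × ℤ)) :=
    (.node [] (.node [] (.node [] (.node [] (.node [] .nil (.node [] (.node [] .nil (.node
    [(181,1)] .nil .nil)) (.node [(89,1)] .nil .nil))) (.node [] (.node [(20,(-1))] (.node
    [(52,(-1))] (.node [(97,1)] .nil .nil) .nil) .nil) (.node [] (.node [] (.node [(129,(-1))] .nil
    .nil) .nil) .nil))) (.node [] .nil (.node [] (.node [] .nil (.node [(86,(-1))] .nil (.node
    [(231,(-1))] .nil .nil))) (.node [(33,(-1))] (.node [] (.node [(134,1)] .nil .nil) (.node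
    [(200,1)] .nil .nil)) (.node [] (.node [(168,1)] .nil .nil) .nil))))) (.node [] (.node [(5,1)]
    (.node [] (.node [] .nil (.node [] .nil (.node [(218,1)] .nil .nil))) (.node [] (.node [] .nil
    (.node [(183,1)] .nil .nil)) (.node [(91,1)] .nil .nil))) (.node [] (.node [] (.node
    [(54,(-1))] .nil .nil) (.node [(84,(-1))] (.node [(162,1)] .nil .nil) .nil)) (.node [(31,(-1))]
    (.node [] (.node [(132,1)] .nil .nil) .nil) (.node [] (.node [(166,1)] .nil .nil) .nil))))
    (.node [] (.node [(14,(-1))] (.node [(18,(-1))] .nil .nil) (.node [] (.node [] (.node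
    [(127,(-1))] .nil .nil) .nil) .nil)) (.node [] (.node [] (.node [(70,(-1))] (.node [(103,1)]
    .nil .nil) (.node [(179,1)] .nil .nil)) .nil) (.node [(35,(-1))] (.node [] .nil (.node
    [(202,1)] .nil .nil)) .nil))))) (.node [] (.node [] (.node [(4,1)] (.node [] .nil (.node []
    (.node [] .nil (.node [(182,1)] .nil .nil)) (.node [(90,1)] .nil .nil))) (.node [] (.node []
    (.node [(53,(-1))] (.node [(98,(-1))] .nil .nil) .nil) .nil) (.node [(30,(-1))] (.node []
    (.node [(131,1)] .nil .nil) .nil) (.node [] (.node [(165,1)] .nil .nil) .nil)))) (.node []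
    (.node [] (.node [(17,(-1))] .nil .nil) (.node [] (.node [] (.node [(126,(-1))] .nil .nil)
    .nil) .nil)) (.node [] (.node [] (.node [] .nil (.node [(178,1)] .nil .nil)) (.node [(87,(-1))]
    .nil .nil)) (.node [(34,(-1))] (.node [] .nil (.node [(201,1)] .nil .nil)) .nil)))) (.node []
    (.node [] .nil (.node [] (.node [] (.node [(55,(-1))] .nil .nil) (.node [(85,(-1))] .nil (.node
    [(230,(-1))] .nil .nil))) (.node [(32,(-1))] (.node [] (.node [(133,1)] .nil .nil) .nil) (.node
    [] (.node [(167,1)] .nil .nil) .nil)))) (.node [] (.node [] (.node [(19,(-1))] .nil .nil)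
    (.node [] (.node [] (.node [(128,(-1))] .nil .nil) .nil) .nil)) (.node [] (.node [] (.node []
    (.node [(104,(-1))] .nil .nil) (.node [(180,1)] .nil .nil)) (.node [(88,1)] .nil .nil)) (.node
    [] (.node [] .nil (.node [(203,1)] .nil .nil)) .nil))))))

/-- table -/
noncomputable def auxE8Chain93 : Tr (List (ℕ × ℤ)) :=
    (.node [] (.node [] (.node [] (.node [(0,(-1))] (.node [] .nil (.node [] (.node [] (.node
    [(114,(-1))] .nil .nil) .nil) (.node [] .nil (.node [(232,1)] .nil .nil)))) (.node [] (.node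
    [(21,1)] .nil (.node [(84,1)] .nil .nil)) (.node [(33,1)] (.node [] (.node [(135,(-1))] .nil
    .nil) (.node [(194,(-1))] .nil .nil)) (.node [] (.node [(167,(-1))] .nil .nil) .nil)))) (.node
    [] (.node [] .nil (.node [(28,1)] (.node [] .nil (.node [(188,(-1))] .nil .nil)) .nil)) (.node
    [] (.node [] (.node [(62,1)] .nil .nil) .nil) (.node [] (.node [] (.node [(136,(-1))] .nil
    .nil) .nil) .nil)))) (.node [] (.node [] (.node [] (.node [] (.node [] (.node [(97,1)] .nil
    .nil) .nil) (.node [] (.node [(139,(-1))] .nil .nil) (.node [(219,(-1))] .nil .nil))) (.node []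
    (.node [] (.node [(119,(-1))] .nil .nil) (.node [(186,(-1))] .nil .nil)) (.node [] (.node
    [(164,(-1))] .nil .nil) .nil))) (.node [] (.node [] (.node [(57,1)] .nil .nil) (.node [] .nil
    (.node [(226,(-1))] .nil .nil))) (.node [] (.node [] .nil (.node [(197,(-1))] .nil .nil))
    .nil))) (.node [(6,1)] (.node [] (.node [] .nil (.node [(79,1)] .nil .nil)) (.node [(30,1)]
    (.node [] .nil (.node [(191,(-1))] .nil .nil)) .nil)) (.node [] (.node [(24,1)] (.node []
    (.node [(105,(-1))] .nil .nil) .nil) (.node [] (.node [(163,(-1))] .nil .nil) .nil)) (.node []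
    .nil (.node [(96,1)] .nil .nil)))))) (.node [] (.node [] (.node [] (.node [] (.node [] .nil
    (.node [] (.node [(138,(-1))] .nil .nil) .nil)) (.node [(26,1)] (.node [] (.node [(117,(-1))]
    .nil .nil) (.node [(185,(-1))] .nil .nil)) .nil)) (.node [] (.node [] (.node [(56,1)] .nil
    .nil) (.node [(88,1)] .nil .nil)) (.node [] (.node [] .nil (.node [(195,(-1))] .nil .nil))
    (.node [(94,1)] .nil .nil)))) (.node [] (.node [(14,1)] (.node [] .nil (.node [(78,1)] .nil
    .nil)) (.node [] (.node [] .nil (.node [(189,(-1))] .nil .nil)) (.node [] (.node [(165,(-1))]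
    .nil .nil) .nil))) (.node [] (.node [(23,1)] (.node [(66,1)] .nil .nil) .nil) .nil))) (.node []
    (.node [] (.node [] .nil (.node [(27,1)] .nil .nil)) (.node [] (.node [(22,1)] (.node [(59,1)]
    .nil .nil) .nil) (.node [] (.node [] .nil (.node [(200,(-1))] .nil .nil)) (.node [(95,1)] .nil
    .nil)))) (.node [] (.node [] (.node [] (.node [] (.node [(98,1)] .nil .nil) .nil) (.node
    [(81,1)] .nil .nil)) (.node [(31,1)] .nil (.node [] (.node [(166,(-1))] .nil .nil) .nil)))
    (.node [] (.node [] (.node [] (.node [(110,(-1))] .nil .nil) (.node [(184,(-1))] .nil .nil))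
    .nil) (.node [] (.node [] (.node [(137,(-1))] .nil .nil) .nil) .nil))))))

/-- table -/
noncomputable def auxE8Chain94 : Tr (List (ℕ × ℤ)) :=
    (.node [] (.node [] (.node [] (.node [(1,(-1))] (.node [] (.node [] .nil (.node [] (.node
    [(138,(-1))] .nil .nil) .nil)) (.node [(26,(-1))] (.node [] (.node [(115,(-1))] .nil .nil)
    (.node [(185,(-1))] .nil .nil)) .nil)) (.node [] (.node [] (.node [(56,(-1))] .nil .nil) (.node
    [(85,1)] .nil .nil)) (.node [(34,1)] .nil (.node [(93,1)] (.node [(168,1)] .nil .nil) .nil))))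
    (.node [] (.node [(14,(-1))] (.node [] .nil (.node [(78,(-1))] .nil .nil)) (.node [(29,1)] .nil
    (.node [] (.node [(165,(-1))] .nil .nil) .nil))) (.node [] (.node [(23,(-1))] (.node [(63,1)]
    .nil .nil) .nil) .nil))) (.node [] (.node [] (.node [] (.node [] .nil (.node [] (.node
    [(140,1)] .nil .nil) (.node [(220,1)] .nil .nil))) (.node [(27,(-1))] (.node [] .nil (.node
    [(187,1)] .nil .nil)) .nil)) (.node [] (.node [(22,(-1))] (.node [(58,1)] .nil .nil) (.node []
    .nil (.node [(227,1)] .nil .nil))) (.node [] (.node [] .nil (.node [(198,1)] .nil .nil)) (.node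
    [(95,1)] .nil .nil)))) (.node [] (.node [] (.node [] (.node [] (.node [(98,1)] .nil .nil) .nil)
    (.node [(80,1)] .nil .nil)) (.node [] (.node [] .nil (.node [(192,1)] .nil .nil)) (.node []
    (.node [(166,(-1))] .nil .nil) .nil))) (.node [] (.node [(25,1)] (.node [] (.node [(106,(-1))]
    .nil .nil) (.node [(184,(-1))] .nil .nil)) .nil) (.node [] (.node [] (.node [(137,(-1))] .nil
    .nil) .nil) .nil))))) (.node [] (.node [] (.node [] (.node [] (.node [] (.node [] (.node
    [(97,1)] .nil .nil) .nil) .nil) (.node [] (.node [] (.node [(118,(-1))] .nil .nil) .nil) (.node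
    [] (.node [(164,(-1))] .nil .nil) .nil))) (.node [] (.node [] .nil (.node [(89,1)] .nil .nil))
    (.node [] (.node [] .nil (.node [(196,1)] .nil .nil)) .nil))) (.node [(6,(-1))] (.node [] .nil
    (.node [(30,(-1))] (.node [] .nil (.node [(190,1)] .nil .nil)) .nil)) (.node [] (.node []
    (.node [(67,1)] .nil .nil) (.node [] (.node [(163,(-1))] .nil .nil) .nil)) (.node [] .nil
    (.node [(96,1)] .nil .nil))))) (.node [] (.node [] (.node [] .nil (.node [] (.node [] (.node
    [(120,(-1))] .nil .nil) (.node [(188,(-1))] .nil .nil)) .nil)) (.node [] (.node [] (.node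
    [(60,1)] .nil .nil) .nil) (.node [] (.node [] (.node [(136,(-1))] .nil .nil) (.node [(201,1)]
    .nil .nil)) .nil))) (.node [] (.node [] (.node [(21,(-1))] .nil (.node [(82,1)] .nil .nil))
    (.node [(32,1)] (.node [] (.node [(135,(-1))] .nil .nil) (.node [(194,(-1))] .nil .nil)) .nil))
    (.node [] (.node [] (.node [] (.node [(111,(-1))] .nil .nil) .nil) (.node [] .nil (.node
    [(232,1)] .nil .nil))) .nil)))))

/-- table -/
noncomputable def auxE8Chain95 : Tr (List (ℕ × ℤ)) :=
    (.node [] (.node [] (.node [] (.node [(2,(-1))] (.node [] (.node [] (.node [] (.node [(97,1)]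
    .nil .nil) .nil) (.node [] (.node [(139,1)] .nil .nil) .nil)) (.node [] (.node [] (.node
    [(116,(-1))] .nil .nil) (.node [(186,1)] .nil .nil)) (.node [] (.node [(164,(-1))] .nil .nil)
    .nil))) (.node [] (.node [] (.node [(57,(-1))] .nil .nil) (.node [(86,1)] .nil .nil)) (.node
    [(35,1)] (.node [] .nil (.node [(196,1)] .nil .nil)) .nil))) (.node [(6,1)] (.node [] (.node []
    .nil (.node [(79,(-1))] .nil .nil)) (.node [] (.node [] .nil (.node [(190,1)] .nil .nil))
    .nil)) (.node [] (.node [(24,(-1))] (.node [(64,1)] .nil .nil) (.node [] (.node [(163,(-1))]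
    .nil .nil) .nil)) (.node [] .nil (.node [(96,1)] .nil .nil))))) (.node [] (.node [] (.node []
    (.node [] .nil (.node [] .nil (.node [(221,(-1))] .nil .nil))) (.node [(28,(-1))] (.node []
    (.node [(121,(-1))] .nil .nil) .nil) .nil)) (.node [] (.node [] .nil (.node [] .nil (.node
    [(228,(-1))] .nil .nil))) (.node [] (.node [] (.node [(136,(-1))] .nil .nil) (.node
    [(199,(-1))] .nil .nil)) .nil))) (.node [] (.node [] (.node [(21,1)] .nil .nil) (.node
    [(32,(-1))] (.node [] (.node [(135,(-1))] .nil .nil) (.node [(193,(-1))] .nil .nil)) (.node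
    [(93,1)] (.node [(167,1)] .nil .nil) .nil))) (.node [] (.node [] (.node [] (.node [(107,(-1))]
    .nil .nil) .nil) (.node [] .nil (.node [(232,1)] .nil .nil))) .nil)))) (.node [] (.node []
    (.node [] (.node [] (.node [] .nil (.node [] (.node [(140,1)] .nil .nil) .nil)) (.node []
    (.node [] .nil (.node [(187,1)] .nil .nil)) .nil)) (.node [] (.node [(22,1)] (.node [(58,(-1))]
    .nil .nil) (.node [(90,1)] .nil .nil)) .nil)) (.node [] (.node [] (.node [] (.node [] (.node
    [(98,1)] .nil .nil) .nil) (.node [(80,(-1))] .nil .nil)) (.node [(31,(-1))] .nil .nil)) (.node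
    [] (.node [(25,(-1))] (.node [(68,1)] .nil (.node [(184,(-1))] .nil .nil)) .nil) (.node []
    (.node [] (.node [(137,(-1))] .nil .nil) .nil) .nil)))) (.node [] (.node [] (.node [(14,1)]
    .nil (.node [(29,(-1))] (.node [] (.node [(122,(-1))] .nil .nil) (.node [(189,1)] .nil .nil))
    (.node [] (.node [(165,(-1))] .nil .nil) .nil))) (.node [] (.node [] (.node [(61,1)] .nil .nil)
    .nil) (.node [] (.node [] .nil (.node [(202,(-1))] .nil .nil)) .nil))) (.node [] (.node []
    (.node [] .nil (.node [(83,1)] .nil .nil)) (.node [] (.node [] .nil (.node [(195,1)] .nil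
    .nil)) (.node [(94,1)] (.node [(168,1)] .nil .nil) .nil))) (.node [] (.node [(26,1)] (.node []
    (.node [(112,(-1))] .nil .nil) .nil) .nil) .nil)))))

/-- table -/
noncomputable def auxE8Chain96 : Tr (List (ℕ × ℤ)) :=
    (.node [] (.node [] (.node [] (.node [(3,(-1))] (.node [] .nil (.node [(28,1)] .nil .nil))
    (.node [] (.node [] (.node [(59,(-1))] .nil .nil) (.node [(87,1)] .nil .nil)) (.node [] (.node
    [] .nil (.node [(198,(-1))] .nil .nil)) .nil))) (.node [] (.node [] (.node [] (.node [] (.node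
    [(98,1)] .nil .nil) .nil) (.node [(81,(-1))] .nil .nil)) (.node [] (.node [] .nil (.node
    [(192,(-1))] .nil .nil)) (.node [(94,1)] (.node [(167,1)] .nil .nil) .nil))) (.node [] (.node
    [] (.node [(65,1)] .nil .nil) .nil) .nil))) (.node [] (.node [] (.node [(14,(-1))] (.node []
    .nil (.node [] .nil (.node [(222,1)] .nil .nil))) (.node [] (.node [] (.node [(124,(-1))] .nil
    .nil) .nil) .nil)) (.node [] (.node [(24,1)] (.node [(61,(-1))] .nil .nil) (.node [] .nil
    (.node [(229,1)] .nil .nil))) .nil)) (.node [] (.node [] (.node [] .nil (.node [(83,(-1))] .nil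
    .nil)) (.node [(34,(-1))] .nil .nil)) (.node [] (.node [] (.node [] (.node [(108,(-1))] .nil
    .nil) (.node [(186,1)] .nil .nil)) .nil) (.node [] (.node [] (.node [(139,1)] .nil .nil) .nil)
    .nil))))) (.node [] (.node [] (.node [] (.node [] .nil (.node [(29,1)] (.node [] (.node
    [(123,(-1))] .nil .nil) .nil) .nil)) (.node [] (.node [(23,1)] (.node [(60,(-1))] .nil .nil)
    (.node [(91,1)] .nil .nil)) (.node [] (.node [] (.node [(136,(-1))] .nil .nil) (.node
    [(199,(-1))] .nil .nil)) .nil))) (.node [] (.node [] (.node [(21,(-1))] .nil (.node [(82,(-1))]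
    .nil .nil)) (.node [(33,(-1))] (.node [] (.node [(135,(-1))] .nil .nil) (.node [(193,(-1))]
    .nil .nil)) (.node [(95,1)] (.node [(168,1)] .nil .nil) .nil))) (.node [] (.node [] (.node
    [(69,1)] .nil (.node [(185,1)] .nil .nil)) (.node [] .nil (.node [(232,1)] .nil .nil))) (.node
    [] (.node [] (.node [(138,1)] .nil .nil) .nil) .nil)))) (.node [] (.node [(6,(-1))] (.node []
    .nil (.node [] (.node [] (.node [(125,(-1))] .nil .nil) (.node [(191,(-1))] .nil .nil)) (.node
    [(93,1)] (.node [(166,1)] .nil .nil) .nil))) (.node [] (.node [(25,1)] .nil (.node [] (.node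
    [(163,(-1))] .nil .nil) .nil)) (.node [] (.node [] .nil (.node [(203,1)] .nil .nil)) .nil)))
    (.node [] (.node [] .nil (.node [(35,(-1))] (.node [] .nil (.node [(197,(-1))] .nil .nil))
    .nil)) (.node [] (.node [(27,1)] (.node [] (.node [(113,(-1))] .nil .nil) (.node [(187,1)] .nil
    .nil)) (.node [] (.node [(164,(-1))] .nil .nil) .nil)) (.node [] (.node [] (.node [(140,1)]
    .nil .nil) .nil) (.node [(97,1)] .nil .nil)))))))

/-- table -/
noncomputable def auxE8Chain97 : Tr (List (ℕ × ℤ)) :=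
    (.node [] (.node [] (.node [] (.node [(4,(-1))] (.node [] .nil (.node [(31,1)] (.node [] (.node
    [(126,(-1))] .nil .nil) (.node [(191,(-1))] .nil .nil)) (.node [(94,1)] (.node [(166,1)] .nil
    .nil) .nil))) (.node [] (.node [(25,(-1))] (.node [(62,(-1))] .nil .nil) .nil) (.node [] (.node
    [] .nil (.node [(201,1)] .nil .nil)) .nil))) (.node [] (.node [] (.node [] .nil (.node
    [(84,(-1))] .nil .nil)) (.node [(35,1)] (.node [] (.node [(135,(-1))] .nil .nil) .nil) .nil))
    (.node [] (.node [] .nil (.node [] .nil (.node [(232,1)] .nil .nil))) (.node [] (.node []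
    (.node [(140,1)] .nil .nil) .nil) .nil)))) (.node [] (.node [(6,1)] (.node [] (.node [] .nil
    (.node [] .nil (.node [(223,(-1))] .nil .nil))) (.node [(33,1)] (.node [] (.node [(128,(-1))]
    .nil .nil) (.node [(193,(-1))] .nil .nil)) (.node [(96,1)] (.node [(168,1)] .nil .nil) .nil)))
    (.node [] (.node [] (.node [(64,(-1))] .nil .nil) (.node [] (.node [(163,(-1))] .nil .nil)
    (.node [(230,(-1))] .nil .nil))) (.node [] (.node [] (.node [(138,1)] .nil .nil) (.node
    [(203,1)] .nil .nil)) .nil))) (.node [] (.node [] (.node [(23,(-1))] .nil (.node [(86,(-1))]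
    .nil .nil)) .nil) (.node [] (.node [] (.node [] (.node [(109,(-1))] .nil .nil) (.node
    [(189,(-1))] .nil .nil)) .nil) .nil)))) (.node [] (.node [] (.node [] (.node [(14,1)] .nil
    (.node [(32,1)] (.node [] (.node [(127,(-1))] .nil .nil) (.node [(192,(-1))] .nil .nil)) (.node
    [(95,1)] (.node [(167,1)] .nil .nil) .nil))) (.node [] (.node [] (.node [(63,(-1))] .nil .nil)
    (.node [(92,1)] .nil .nil)) (.node [] (.node [] (.node [(137,1)] .nil .nil) (.node [(202,1)]
    .nil .nil)) .nil))) (.node [] (.node [] (.node [(22,(-1))] .nil (.node [(85,(-1))] .nil .nil))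
    .nil) (.node [] (.node [] (.node [(70,1)] .nil (.node [(188,(-1))] .nil .nil)) .nil) .nil)))
    (.node [] (.node [] (.node [] (.node [] (.node [] (.node [(98,1)] .nil .nil) .nil) .nil) (.node
    [(34,1)] (.node [] (.node [(129,(-1))] .nil .nil) .nil) .nil)) (.node [] (.node [] (.node
    [(65,(-1))] .nil .nil) .nil) (.node [] (.node [] (.node [(139,1)] .nil .nil) .nil) .nil)))
    (.node [] (.node [] (.node [(24,(-1))] .nil (.node [(87,(-1))] .nil .nil)) (.node [] (.node []
    .nil (.node [(200,1)] .nil .nil)) .nil)) (.node [] (.node [(30,1)] (.node [] .nil (.node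
    [(190,(-1))] .nil .nil)) (.node [(93,1)] (.node [(165,1)] .nil .nil) .nil)) .nil)))))

/-- table -/
noncomputable def auxE8Chain98 : Tr (List (ℕ × ℤ)) :=
    (.node [] (.node [] (.node [] (.node [(5,(-1))] (.node [(14,(-1))] .nil (.node [] (.node []
    (.node [(131,(-1))] .nil .nil) (.node [(197,1)] .nil .nil)) .nil)) (.node [] (.node [(29,(-1))]
    (.node [(66,(-1))] .nil .nil) (.node [(92,(-1))] .nil .nil)) (.node [] (.node [] (.node
    [(140,1)] .nil .nil) .nil) .nil))) (.node [] (.node [] (.node [] .nil (.node [(88,(-1))] .nil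
    .nil)) (.node [] (.node [] (.node [(136,1)] .nil .nil) (.node [(201,1)] .nil .nil)) .nil))
    (.node [] (.node [(33,(-1))] (.node [(70,(-1))] .nil .nil) (.node [(95,1)] (.node [(166,1)]
    .nil .nil) .nil)) .nil))) (.node [] (.node [] (.node [] (.node [] .nil (.node [] .nil (.node
    [(224,1)] .nil .nil))) (.node [] (.node [] (.node [(133,(-1))] .nil .nil) (.node [(199,1)] .nil
    .nil)) .nil)) (.node [] (.node [(31,(-1))] (.node [(68,(-1))] .nil .nil) (.node [(93,1)] (.node
    [(164,1)] .nil .nil) (.node [(231,1)] .nil .nil))) .nil)) (.node [] (.node [] (.node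
    [(27,(-1))] .nil (.node [(90,(-1))] .nil .nil)) (.node [] (.node [] (.node [(138,1)] .nil .nil)
    (.node [(203,1)] .nil .nil)) .nil)) (.node [] (.node [(35,(-1))] (.node [] .nil (.node
    [(195,1)] .nil .nil)) (.node [(97,1)] (.node [(168,1)] .nil .nil) .nil)) .nil)))) (.node []
    (.node [] (.node [(6,(-1))] (.node [] .nil (.node [] (.node [] (.node [(132,(-1))] .nil .nil)
    (.node [(198,1)] .nil .nil)) .nil)) (.node [] (.node [(30,(-1))] (.node [(67,(-1))] .nil .nil)
    .nil) .nil)) (.node [] (.node [] (.node [(26,(-1))] .nil (.node [(89,(-1))] .nil .nil)) (.node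
    [] (.node [] (.node [(137,1)] .nil .nil) (.node [(202,1)] .nil .nil)) .nil)) (.node [] (.node
    [(34,(-1))] (.node [] .nil (.node [(194,1)] .nil .nil)) (.node [(96,1)] (.node [(167,1)] .nil
    .nil) .nil)) .nil))) (.node [] (.node [] (.node [] .nil (.node [] (.node [] (.node [(134,(-1))]
    .nil .nil) (.node [(200,1)] .nil .nil)) .nil)) (.node [] (.node [(32,(-1))] (.node [(69,(-1))]
    .nil .nil) (.node [(94,1)] (.node [(165,1)] .nil .nil) (.node [(232,1)] .nil .nil))) .nil))
    (.node [] (.node [] (.node [(28,(-1))] .nil (.node [(91,(-1))] .nil .nil)) (.node [] (.node []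
    (.node [(139,1)] .nil .nil) .nil) .nil)) (.node [] (.node [] (.node [] (.node [(130,(-1))] .nil
    .nil) (.node [(196,1)] .nil .nil)) .nil) .nil)))))

/-- table -/
noncomputable def auxE8Chain99 : Tr (List (ℕ × ℤ)) :=
    (.node [] (.node [] (.node [] (.node [] (.node [] (.node [] (.node [(40,(-1))] .nil .nil)
    (.node [(79,1)] .nil (.node [(210,1)] .nil .nil))) (.node [] .nil (.node [] .nil (.node
    [(233,1)] .nil .nil)))) (.node [] (.node [] (.node [] (.node [(105,(-1))] .nil .nil) (.node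
    [(176,1)] .nil .nil)) .nil) (.node [] (.node [] (.node [(141,(-1))] .nil .nil) .nil) .nil)))
    (.node [] (.node [] (.node [(19,(-1))] (.node [(46,(-1))] .nil .nil) .nil) .nil) (.node []
    (.node [] (.node [] (.node [(119,(-1))] .nil .nil) (.node [(181,1)] .nil .nil)) .nil) (.node []
    (.node [] (.node [(142,(-1))] .nil .nil) .nil) (.node [] (.node [(169,1)] .nil .nil) .nil)))))
    (.node [] (.node [] (.node [] (.node [] (.node [(43,(-1))] (.node [(103,1)] .nil .nil) (.node
    [(172,1)] .nil .nil)) (.node [(84,1)] (.node [(145,(-1))] .nil .nil) .nil)) .nil) (.node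
    [(15,(-1))] (.node [] (.node [] (.node [(114,(-1))] .nil .nil) (.node [(178,1)] .nil .nil))
    .nil) .nil)) (.node [(7,1)] (.node [] (.node [] (.node [(49,(-1))] .nil .nil) .nil) .nil)
    (.node [(16,(-1))] (.node [] (.node [(71,(-1))] .nil .nil) .nil) (.node [(38,(-1))] (.node []
    .nil (.node [(205,1)] .nil .nil)) (.node [(102,1)] .nil .nil)))))) (.node [] (.node [] (.node
    [] (.node [] (.node [(17,(-1))] (.node [(41,(-1))] .nil (.node [(171,1)] .nil .nil)) (.node
    [(81,1)] (.node [(144,(-1))] .nil .nil) (.node [(214,1)] .nil .nil))) .nil) (.node [] (.node []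
    (.node [] (.node [(110,(-1))] .nil .nil) .nil) (.node [] (.node [(162,1)] .nil .nil) (.node
    [(226,(-1))] .nil .nil))) (.node [] .nil (.node [(100,1)] .nil .nil)))) (.node [] (.node []
    (.node [] (.node [(47,(-1))] .nil (.node [(174,1)] .nil .nil)) .nil) .nil) (.node [] .nil
    (.node [(37,(-1))] (.node [] .nil (.node [(204,1)] .nil .nil)) .nil)))) (.node [(0,(-1))]
    (.node [] (.node [] (.node [(18,(-1))] .nil (.node [(88,1)] .nil .nil)) .nil) (.node [] (.node
    [] (.node [] (.node [(117,(-1))] .nil .nil) (.node [(179,1)] .nil .nil)) .nil) (.node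
    [(36,(-1))] .nil (.node [(101,1)] .nil .nil)))) (.node [] (.node [] (.node [] (.node
    [(52,(-1))] (.node [(104,1)] .nil .nil) (.node [(175,1)] .nil .nil)) .nil) .nil) (.node [] .nil
    (.node [] (.node [(78,1)] (.node [(143,(-1))] .nil .nil) (.node [(207,1)] .nil .nil)) (.node []
    (.node [(170,1)] .nil .nil) .nil)))))))

/-- table -/
noncomputable def auxE8Chain100 : Tr (List (ℕ × ℤ)) :=
    (.node [] (.node [] (.node [] (.node [] (.node [] (.node [(17,1)] (.node [] .nil (.node
    [(171,1)] .nil .nil)) (.node [(80,1)] (.node [(144,(-1))] .nil .nil) (.node [(211,(-1))] .nil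
    .nil))) .nil) (.node [] (.node [] (.node [] (.node [(106,(-1))] .nil .nil) (.node [(177,(-1))]
    .nil .nil)) (.node [] (.node [(162,1)] .nil .nil) .nil)) (.node [] .nil (.node [(99,1)] .nil
    .nil)))) (.node [] (.node [] (.node [(20,(-1))] (.node [] .nil (.node [(174,1)] .nil .nil))
    .nil) .nil) (.node [] (.node [] (.node [] .nil (.node [(182,(-1))] .nil .nil)) .nil) (.node
    [(37,1)] (.node [] .nil (.node [(204,1)] .nil .nil)) .nil)))) (.node [] (.node [] (.node []
    (.node [(18,1)] (.node [(44,(-1))] .nil (.node [(173,(-1))] .nil .nil)) (.node [(85,1)] (.node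
    [(146,1)] .nil .nil) .nil)) .nil) (.node [] (.node [] (.node [] (.node [(115,(-1))] .nil .nil)
    .nil) .nil) (.node [(36,1)] .nil (.node [(101,1)] .nil .nil)))) (.node [] (.node [] (.node []
    (.node [(50,(-1))] (.node [(104,1)] .nil .nil) (.node [(175,1)] .nil .nil)) .nil) .nil) (.node
    [] (.node [] (.node [(72,(-1))] .nil .nil) .nil) (.node [(39,(-1))] (.node [(78,(-1))] (.node
    [(143,(-1))] .nil .nil) (.node [(206,(-1))] .nil .nil)) (.node [] (.node [(170,1)] .nil .nil)
    .nil)))))) (.node [] (.node [] (.node [] (.node [] (.node [] (.node [(42,(-1))] (.node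
    [(103,1)] .nil .nil) .nil) (.node [(82,1)] .nil (.node [(215,(-1))] .nil .nil))) .nil) (.node
    [(15,1)] (.node [] (.node [] (.node [(111,(-1))] .nil .nil) (.node [(178,1)] .nil .nil)) (.node
    [] .nil (.node [(227,1)] .nil .nil))) .nil)) (.node [(7,(-1))] (.node [] (.node [] (.node
    [(48,(-1))] .nil .nil) .nil) .nil) (.node [(16,1)] (.node [] (.node [] (.node [(120,(-1))] .nil
    .nil) .nil) .nil) (.node [] .nil (.node [(102,1)] .nil .nil))))) (.node [(1,(-1))] (.node []
    (.node [] (.node [] (.node [(46,1)] .nil .nil) (.node [(89,1)] .nil .nil)) .nil) (.node []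
    (.node [] (.node [] (.node [(118,(-1))] .nil .nil) (.node [(180,(-1))] .nil .nil)) .nil) (.node
    [] (.node [] (.node [(142,(-1))] .nil .nil) .nil) (.node [] (.node [(169,1)] .nil .nil)
    .nil)))) (.node [] (.node [] (.node [] (.node [(53,(-1))] .nil .nil) .nil) (.node [] (.node []
    (.node [(141,(-1))] .nil .nil) .nil) .nil)) (.node [] (.node [] .nil (.node [] .nil (.node
    [(233,1)] .nil .nil))) (.node [(40,1)] (.node [] .nil (.node [(208,(-1))] .nil .nil))
    .nil))))))

/-- table -/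
noncomputable def auxE8Chain101 : Tr (List (ℕ × ℤ)) :=
    (.node [] (.node [] (.node [] (.node [] (.node [] (.node [] (.node [(42,1)] (.node [(103,1)]
    .nil .nil) (.node [(172,(-1))] .nil .nil)) (.node [] (.node [(145,1)] .nil .nil) (.node
    [(212,1)] .nil .nil))) .nil) (.node [(15,(-1))] (.node [] (.node [] (.node [(107,(-1))] .nil
    .nil) .nil) .nil) .nil)) (.node [(7,1)] (.node [] (.node [] (.node [(48,1)] .nil .nil) .nil)
    .nil) (.node [(16,(-1))] (.node [] (.node [] (.node [(121,(-1))] .nil .nil) (.node [(183,1)]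
    .nil .nil)) .nil) (.node [(38,1)] (.node [] .nil (.node [(205,(-1))] .nil .nil)) (.node
    [(102,1)] .nil .nil))))) (.node [] (.node [] (.node [] (.node [(19,1)] (.node [(45,(-1))] .nil
    .nil) (.node [(86,1)] .nil .nil)) .nil) (.node [] (.node [] (.node [] (.node [(116,(-1))] .nil
    .nil) (.node [(180,(-1))] .nil .nil)) .nil) (.node [] (.node [] (.node [(142,(-1))] .nil .nil)
    .nil) (.node [] (.node [(169,1)] .nil .nil) .nil)))) (.node [] (.node [] (.node [] (.node
    [(51,(-1))] .nil (.node [(176,(-1))] .nil .nil)) .nil) (.node [] (.node [] (.node [(141,(-1))]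
    .nil .nil) .nil) (.node [(99,1)] .nil .nil))) (.node [] (.node [] (.node [(73,(-1))] .nil .nil)
    (.node [] .nil (.node [(233,1)] .nil .nil))) (.node [] (.node [(79,(-1))] .nil .nil) .nil)))))
    (.node [] (.node [] (.node [] (.node [] (.node [] (.node [] .nil (.node [(173,(-1))] .nil
    .nil)) (.node [(83,1)] (.node [(146,1)] .nil .nil) (.node [(216,1)] .nil .nil))) .nil) (.node
    [] (.node [] (.node [] (.node [(112,(-1))] .nil .nil) (.node [(179,(-1))] .nil .nil)) (.node []
    .nil (.node [(228,(-1))] .nil .nil))) (.node [(36,(-1))] .nil .nil))) (.node [] (.node []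
    (.node [] (.node [] (.node [(104,1)] .nil .nil) .nil) .nil) .nil) (.node [] (.node [] (.node []
    (.node [(122,(-1))] .nil .nil) .nil) .nil) (.node [(39,1)] (.node [] (.node [(143,(-1))] .nil
    .nil) (.node [(206,(-1))] .nil .nil)) (.node [] (.node [(170,1)] .nil .nil) .nil))))) (.node
    [(2,(-1))] (.node [] (.node [] (.node [(20,1)] (.node [(47,1)] .nil (.node [(174,1)] .nil
    .nil)) (.node [(90,1)] .nil .nil)) .nil) .nil) (.node [] (.node [] (.node [] (.node [(54,(-1))]
    .nil (.node [(177,(-1))] .nil .nil)) (.node [] (.node [(162,1)] .nil .nil) .nil)) (.node []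
    .nil (.node [(100,1)] .nil .nil))) (.node [(17,(-1))] .nil (.node [(41,1)] (.node [(80,(-1))]
    .nil (.node [(209,1)] .nil .nil)) .nil))))))

/-- table -/
noncomputable def auxE8Chain102 : Tr (List (ℕ × ℤ)) :=
    (.node [] (.node [] (.node [] (.node [] (.node [] (.node [(19,(-1))] (.node [(44,1)] .nil .nil)
    (.node [(83,(-1))] .nil (.node [(213,(-1))] .nil .nil))) .nil) (.node [] (.node [] (.node []
    (.node [(108,(-1))] .nil .nil) .nil) .nil) .nil)) (.node [] (.node [] (.node [] (.node [(50,1)]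
    (.node [(104,1)] .nil .nil) (.node [(176,(-1))] .nil .nil)) .nil) (.node [] .nil (.node
    [(100,1)] .nil .nil))) (.node [] (.node [] (.node [] (.node [(124,(-1))] .nil .nil) .nil) .nil)
    (.node [] (.node [] .nil (.node [(207,1)] .nil .nil)) .nil)))) (.node [] (.node [] (.node []
    (.node [] .nil (.node [(87,1)] .nil .nil)) .nil) (.node [] (.node [] (.node [] .nil (.node
    [(182,1)] .nil .nil)) .nil) (.node [(38,(-1))] .nil .nil))) (.node [] (.node [] (.node [] .nil
    (.node [] (.node [(162,1)] .nil .nil) .nil)) .nil) (.node [] (.node [] (.node [(74,(-1))] .nil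
    .nil) .nil) (.node [] (.node [(81,(-1))] (.node [(145,1)] .nil .nil) (.node [(209,1)] .nil
    .nil)) (.node [] (.node [(172,(-1))] .nil .nil) .nil)))))) (.node [] (.node [] (.node [] (.node
    [] (.node [(20,(-1))] (.node [(45,1)] .nil .nil) (.node [] .nil (.node [(217,(-1))] .nil
    .nil))) .nil) (.node [] (.node [] (.node [] (.node [(113,(-1))] .nil .nil) (.node [(181,1)]
    .nil .nil)) (.node [] .nil (.node [(229,1)] .nil .nil))) (.node [(37,(-1))] (.node [] (.node
    [(142,(-1))] .nil .nil) .nil) (.node [] (.node [(169,1)] .nil .nil) .nil)))) (.node [] (.node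
    [] (.node [] (.node [(51,1)] .nil (.node [(177,(-1))] .nil .nil)) .nil) (.node [] (.node []
    (.node [(141,(-1))] .nil .nil) .nil) (.node [(101,1)] .nil .nil))) (.node [] (.node [] (.node
    [] (.node [(125,(-1))] .nil .nil) .nil) (.node [] .nil (.node [(233,1)] .nil .nil))) (.node []
    (.node [] (.node [(144,1)] .nil .nil) (.node [(208,1)] .nil .nil)) (.node [] (.node
    [(171,(-1))] .nil .nil) .nil))))) (.node [(3,(-1))] (.node [(7,(-1))] (.node [] (.node []
    (.node [(49,1)] .nil (.node [(175,(-1))] .nil .nil)) (.node [(91,1)] .nil .nil)) (.node [] .nil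
    (.node [(99,1)] .nil .nil))) (.node [(16,1)] (.node [] (.node [] (.node [(123,(-1))] .nil .nil)
    (.node [(183,1)] .nil .nil)) .nil) (.node [(39,(-1))] .nil .nil))) (.node [] (.node [(15,1)]
    (.node [] (.node [(55,(-1))] .nil .nil) .nil) .nil) (.node [(18,(-1))] .nil (.node [(43,1)]
    (.node [(82,(-1))] (.node [(146,1)] .nil .nil) .nil) (.node [(103,1)] (.node [(173,(-1))] .nil
    .nil) .nil)))))))

/-- table -/
noncomputable def auxE8Chain103 : Tr (List (ℕ × ℤ)) :=
    (.node [] (.node [] (.node [] (.node [] (.node [] (.node [] .nil (.node [(86,(-1))] .nil .nil))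
    (.node [] .nil (.node [(100,1)] .nil .nil))) (.node [] (.node [] (.node [] (.node [(109,(-1))]
    .nil .nil) (.node [(183,1)] .nil .nil)) .nil) .nil)) (.node [] (.node [] (.node [] (.node
    [(53,1)] .nil (.node [(179,1)] .nil .nil)) .nil) (.node [] (.node [] (.node [(141,(-1))] .nil
    .nil) .nil) .nil)) (.node [(18,1)] (.node [] (.node [] (.node [(128,(-1))] .nil .nil) .nil)
    (.node [] .nil (.node [(233,1)] .nil .nil))) (.node [(43,(-1))] (.node [] (.node [(146,1)] .nil
    .nil) (.node [(210,(-1))] .nil .nil)) (.node [] (.node [(173,(-1))] .nil .nil) .nil))))) (.node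
    [] (.node [(7,1)] (.node [] .nil (.node [] .nil (.node [(102,1)] .nil .nil))) (.node [] (.node
    [] (.node [] (.node [(126,(-1))] .nil .nil) .nil) .nil) (.node [(41,(-1))] (.node [] (.node
    [(144,1)] .nil .nil) .nil) (.node [] (.node [(171,(-1))] .nil .nil) .nil)))) (.node [] (.node
    [(15,(-1))] (.node [] (.node [(55,1)] .nil (.node [(181,1)] .nil .nil)) .nil) .nil) (.node
    [(20,1)] (.node [] (.node [(75,(-1))] .nil .nil) .nil) (.node [(45,(-1))] (.node [(84,(-1))]
    .nil (.node [(212,(-1))] .nil .nil)) .nil))))) (.node [] (.node [] (.node [] (.node [] (.node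
    [] .nil (.node [(87,(-1))] .nil (.node [(218,1)] .nil .nil))) (.node [] .nil (.node [(101,1)]
    .nil .nil))) (.node [] (.node [] .nil (.node [] .nil (.node [(230,(-1))] .nil .nil))) (.node
    [(40,(-1))] (.node [] (.node [(143,1)] .nil .nil) .nil) (.node [] (.node [(170,(-1))] .nil
    .nil) .nil)))) (.node [] (.node [] (.node [] (.node [(54,1)] .nil (.node [(180,1)] .nil .nil))
    (.node [] (.node [(162,1)] .nil .nil) .nil)) .nil) (.node [(19,1)] (.node [] (.node [] (.node
    [(129,(-1))] .nil .nil) .nil) .nil) (.node [(44,(-1))] (.node [] .nil (.node [(211,(-1))] .nil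
    .nil)) .nil)))) (.node [(4,(-1))] (.node [] (.node [] (.node [] (.node [(52,1)] (.node
    [(104,1)] .nil .nil) (.node [(178,1)] .nil .nil)) (.node [(92,1)] .nil .nil)) .nil) (.node
    [(17,1)] (.node [] (.node [] (.node [(127,(-1))] .nil .nil) .nil) .nil) (.node [(42,(-1))]
    (.node [] (.node [(145,1)] .nil .nil) .nil) (.node [] (.node [(172,(-1))] .nil .nil) .nil))))
    (.node [] (.node [] (.node [] (.node [] .nil (.node [(182,1)] .nil .nil)) .nil) .nil) (.node []
    (.node [] .nil (.node [(99,1)] .nil .nil)) (.node [] (.node [(85,(-1))] .nil (.node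
    [(213,(-1))] .nil .nil)) .nil))))))

/-- table -/
noncomputable def auxE8Chain104 : Tr (List (ℕ × ℤ)) :=
    (.node [] (.node [] (.node [] (.node [] (.node [] (.node [] (.node [(53,(-1))] .nil (.node
    [(181,1)] .nil .nil)) (.node [(90,(-1))] .nil (.node [(218,1)] .nil .nil))) .nil) (.node
    [(18,(-1))] .nil (.node [] (.node [] (.node [(146,1)] .nil .nil) .nil) .nil))) (.node [] (.node
    [] (.node [] .nil (.node [] (.node [(162,1)] .nil .nil) .nil)) (.node [] (.node [] (.node
    [(142,1)] .nil .nil) .nil) .nil)) (.node [] (.node [] (.node [] (.node [(133,(-1))] .nil .nil)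
    .nil) (.node [(101,1)] .nil .nil)) (.node [(49,(-1))] (.node [] .nil (.node [(214,1)] .nil
    .nil)) (.node [] (.node [(177,1)] .nil .nil) .nil))))) (.node [] (.node [] (.node [] (.node []
    (.node [(55,(-1))] .nil (.node [(183,1)] .nil .nil)) (.node [(92,(-1))] .nil .nil)) .nil)
    (.node [(20,(-1))] (.node [] (.node [] (.node [(131,(-1))] .nil .nil) .nil) (.node [(99,1)]
    .nil .nil)) (.node [(47,(-1))] .nil (.node [] (.node [(175,1)] .nil .nil) .nil)))) (.node []
    (.node [(16,(-1))] .nil (.node [] (.node [] (.node [(144,1)] .nil .nil) .nil) .nil)) (.node []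
    (.node [] (.node [(76,(-1))] .nil .nil) (.node [(103,1)] .nil .nil)) (.node [(51,(-1))] (.node
    [(88,(-1))] .nil (.node [(216,1)] .nil .nil)) (.node [] (.node [(179,1)] .nil .nil) .nil))))))
    (.node [] (.node [] (.node [(7,(-1))] (.node [] (.node [] (.node [(54,(-1))] .nil (.node
    [(182,1)] .nil .nil)) (.node [(91,(-1))] .nil .nil)) .nil) (.node [(19,(-1))] (.node [] (.node
    [] (.node [(130,(-1))] .nil .nil) .nil) (.node [] .nil (.node [(231,1)] .nil .nil))) (.node
    [(46,(-1))] .nil (.node [] (.node [(174,1)] .nil .nil) .nil)))) (.node [] (.node [] .nil (.node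
    [] (.node [] (.node [(143,1)] .nil .nil) .nil) .nil)) (.node [] (.node [] (.node [] (.node
    [(134,(-1))] .nil .nil) .nil) (.node [(102,1)] .nil .nil)) (.node [(50,(-1))] (.node [] .nil
    (.node [(215,1)] .nil .nil)) (.node [] (.node [(178,1)] .nil .nil) .nil))))) (.node [(5,(-1))]
    (.node [] .nil (.node [] (.node [] (.node [] (.node [(132,(-1))] .nil .nil) .nil) (.node
    [(100,1)] .nil (.node [(233,1)] .nil .nil))) (.node [(48,(-1))] .nil (.node [] (.node [(176,1)]
    .nil .nil) .nil)))) (.node [] (.node [(17,(-1))] .nil (.node [] (.node [] (.node [(145,1)] .nil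
    .nil) .nil) .nil)) (.node [] .nil (.node [(52,(-1))] (.node [(89,(-1))] .nil (.node [(217,1)]
    .nil .nil)) (.node [] (.node [(180,1)] .nil .nil) .nil)))))))

/-- table -/
noncomputable def auxE8Chain105 : Tr (List (ℕ × ℤ)) :=
    (.node [] (.node [] (.node [] (.node [] (.node [] .nil (.node [] .nil (.node [] .nil (.node
    [(234,1)] .nil .nil)))) (.node [] (.node [] (.node [] .nil (.node [(186,1)] .nil .nil)) (.node
    [] .nil (.node [(226,1)] .nil .nil))) (.node [(43,(-1))] (.node [] .nil (.node [(204,(-1))]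
    .nil .nil)) (.node [] (.node [(172,(-1))] .nil .nil) .nil)))) (.node [] (.node [] (.node
    [(24,1)] (.node [(56,1)] (.node [(114,(-1))] .nil .nil) .nil) .nil) (.node [(38,(-1))] .nil
    .nil)) (.node [] (.node [] (.node [] .nil (.node [(191,1)] .nil .nil)) .nil) (.node [] (.node
    [(81,1)] (.node [(147,(-1))] .nil .nil) .nil) .nil)))) (.node [(0,(-1))] (.node [] (.node []
    (.node [] (.node [] (.node [(109,1)] .nil .nil) .nil) (.node [] (.node [(150,(-1))] .nil .nil)
    .nil)) (.node [] .nil (.node [] (.node [(169,(-1))] .nil .nil) .nil))) (.node [] (.node []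
    (.node [] .nil (.node [(188,1)] .nil .nil)) .nil) (.node [] (.node [(78,1)] .nil (.node
    [(207,(-1))] .nil .nil)) .nil))) (.node [(8,(-1))] (.node [] (.node [] (.node [(59,1)] (.node
    [(119,(-1))] .nil .nil) .nil) .nil) (.node [(40,(-1))] .nil .nil)) (.node [(21,1)] .nil (.node
    [] .nil (.node [(108,1)] .nil .nil)))))) (.node [] (.node [] (.node [] (.node [] (.node
    [(22,1)] .nil (.node [] (.node [(149,(-1))] .nil .nil) (.node [(219,1)] .nil .nil))) (.node
    [(36,(-1))] .nil .nil)) (.node [] (.node [] .nil (.node [(99,(-1))] (.node [(163,1)] .nil .nil)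
    .nil)) (.node [] (.node [] .nil (.node [(205,(-1))] .nil .nil)) (.node [(106,1)] .nil .nil))))
    (.node [] (.node [(15,(-1))] (.node [] (.node [(57,1)] (.node [(117,(-1))] .nil .nil) (.node
    [(184,1)] .nil .nil)) .nil) (.node [] .nil (.node [] (.node [(170,(-1))] .nil .nil) .nil)))
    (.node [] (.node [] (.node [(71,(-1))] (.node [(135,1)] .nil .nil) .nil) .nil) (.node [] (.node
    [(84,1)] .nil .nil) .nil)))) (.node [] (.node [] (.node [] (.node [(23,1)] (.node [] (.node
    [(110,(-1))] .nil .nil) .nil) (.node [(93,(-1))] .nil .nil)) (.node [(37,(-1))] (.node []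
    (.node [(141,1)] .nil .nil) .nil) .nil)) (.node [] (.node [] (.node [] .nil (.node [(189,1)]
    .nil .nil)) .nil) (.node [] (.node [(79,1)] .nil (.node [(210,(-1))] .nil .nil)) (.node
    [(107,1)] .nil .nil)))) (.node [] (.node [] (.node [] (.node [(62,1)] .nil (.node [(185,1)]
    .nil .nil)) .nil) (.node [(41,(-1))] .nil (.node [] (.node [(171,(-1))] .nil .nil) .nil)))
    (.node [] .nil (.node [] (.node [] (.node [(148,(-1))] .nil .nil) .nil) .nil))))))

/-- table -/
noncomputable def auxE8Chain106 : Tr (List (ℕ × ℤ)) :=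
    (.node [] (.node [] (.node [] (.node [] (.node [] (.node [(22,(-1))] .nil (.node [] (.node
    [(149,(-1))] .nil .nil) .nil)) (.node [(36,1)] .nil .nil)) (.node [] (.node [] (.node [] .nil
    (.node [(187,(-1))] .nil .nil)) (.node [] (.node [(163,1)] .nil .nil) (.node [(227,(-1))] .nil
    .nil))) (.node [(44,(-1))] .nil (.node [(105,1)] (.node [(173,1)] .nil .nil) .nil)))) (.node []
    (.node [(15,1)] (.node [(25,1)] (.node [] (.node [(115,(-1))] .nil .nil) (.node [(184,1)] .nil
    .nil)) .nil) (.node [(39,(-1))] .nil (.node [] (.node [(170,(-1))] .nil .nil) .nil))) (.node []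
    (.node [] (.node [] (.node [(135,1)] .nil .nil) (.node [(192,(-1))] .nil .nil)) .nil) (.node []
    (.node [(82,1)] .nil .nil) .nil)))) (.node [(1,(-1))] (.node [] (.node [] (.node [(23,(-1))]
    .nil (.node [] (.node [(151,1)] .nil .nil) .nil)) (.node [(37,1)] (.node [] (.node [(141,1)]
    .nil .nil) .nil) .nil)) (.node [] .nil (.node [] (.node [] .nil (.node [(208,1)] .nil .nil))
    (.node [(107,1)] .nil .nil)))) (.node [] (.node [] (.node [] (.node [(60,1)] .nil (.node
    [(185,1)] .nil .nil)) .nil) (.node [] .nil (.node [] (.node [(171,(-1))] .nil .nil) .nil)))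
    (.node [] .nil (.node [] (.node [] (.node [(148,(-1))] .nil .nil) .nil) .nil))))) (.node []
    (.node [] (.node [] (.node [] (.node [] (.node [] (.node [(109,1)] .nil .nil) .nil) (.node []
    .nil (.node [(220,(-1))] .nil .nil))) (.node [] .nil (.node [] (.node [(169,(-1))] .nil .nil)
    .nil))) (.node [] (.node [] (.node [] .nil (.node [(188,1)] .nil .nil)) (.node [(100,(-1))]
    .nil .nil)) (.node [] (.node [(78,(-1))] .nil (.node [(206,1)] .nil .nil)) .nil))) (.node
    [(8,1)] (.node [] (.node [] (.node [(58,1)] (.node [(118,(-1))] .nil .nil) .nil) .nil) (.node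
    [(40,1)] .nil .nil)) (.node [(21,(-1))] (.node [] (.node [(72,(-1))] .nil .nil) .nil) (.node []
    (.node [(85,1)] .nil .nil) (.node [(108,1)] .nil .nil))))) (.node [] (.node [] (.node [] (.node
    [] (.node [(56,(-1))] (.node [(111,(-1))] .nil .nil) .nil) (.node [(94,(-1))] .nil .nil)) .nil)
    (.node [] (.node [] (.node [] .nil (.node [(190,(-1))] .nil .nil)) .nil) (.node [] (.node
    [(80,1)] (.node [(147,(-1))] .nil .nil) (.node [(211,1)] .nil .nil)) .nil))) (.node [] (.node
    [] (.node [] (.node [(63,1)] (.node [(120,(-1))] .nil .nil) .nil) .nil) (.node [(42,(-1))]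
    (.node [] .nil (.node [(204,(-1))] .nil .nil)) .nil)) (.node [] (.node [] .nil (.node [] .nil
    (.node [(234,1)] .nil .nil))) .nil)))))

/-- table -/
noncomputable def auxE8Chain107 : Tr (List (ℕ × ℤ)) :=
    (.node [] (.node [] (.node [] (.node [] (.node [] (.node [] (.node [] (.node [(109,1)] .nil
    .nil) .nil) (.node [] (.node [(150,1)] .nil .nil) .nil)) (.node [] .nil (.node [] (.node
    [(169,(-1))] .nil .nil) .nil))) (.node [] (.node [] .nil (.node [] .nil (.node [(228,1)] .nil
    .nil))) (.node [(45,(-1))] (.node [] .nil (.node [(206,1)] .nil .nil)) .nil))) (.node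
    [(8,(-1))] (.node [] (.node [] (.node [(58,(-1))] (.node [(116,(-1))] .nil .nil) .nil) .nil)
    .nil) (.node [(21,1)] (.node [] (.node [] .nil (.node [(193,1)] .nil .nil)) .nil) (.node []
    (.node [(83,1)] .nil .nil) (.node [(108,1)] .nil .nil))))) (.node [(2,(-1))] (.node [] (.node
    [] (.node [(24,(-1))] .nil .nil) (.node [(38,1)] .nil .nil)) (.node [] (.node [] (.node [] .nil
    (.node [(190,(-1))] .nil .nil)) .nil) (.node [] (.node [(80,(-1))] (.node [(147,(-1))] .nil
    .nil) (.node [(209,(-1))] .nil .nil)) .nil))) (.node [] (.node [] (.node [] (.node [(61,1)]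
    (.node [(121,(-1))] .nil .nil) (.node [(186,(-1))] .nil .nil)) .nil) (.node [(42,1)] .nil
    (.node [(105,1)] (.node [(172,1)] .nil .nil) .nil))) (.node [] (.node [] .nil (.node [] .nil
    (.node [(234,1)] .nil .nil))) .nil)))) (.node [] (.node [] (.node [] (.node [] (.node [] .nil
    (.node [] (.node [(151,1)] .nil .nil) (.node [(221,1)] .nil .nil))) (.node [] (.node [] (.node
    [(141,1)] .nil .nil) .nil) .nil)) (.node [] (.node [] (.node [] .nil (.node [(189,(-1))] .nil
    .nil)) (.node [(101,(-1))] .nil .nil)) (.node [] (.node [(79,(-1))] .nil .nil) .nil))) (.node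
    [] (.node [] .nil (.node [(41,1)] .nil .nil)) (.node [] (.node [] (.node [(73,(-1))] .nil .nil)
    .nil) (.node [] (.node [(86,1)] (.node [(148,(-1))] .nil .nil) .nil) .nil)))) (.node [] (.node
    [] (.node [(15,(-1))] (.node [(25,(-1))] (.node [(57,(-1))] (.node [(112,(-1))] .nil .nil)
    (.node [(184,1)] .nil .nil)) (.node [(95,(-1))] .nil .nil)) (.node [(39,1)] .nil (.node []
    (.node [(170,(-1))] .nil .nil) .nil))) (.node [] (.node [] (.node [] (.node [(135,1)] .nil
    .nil) .nil) .nil) (.node [] (.node [] .nil (.node [(212,(-1))] .nil .nil)) .nil))) (.node []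
    (.node [] (.node [] (.node [(64,1)] (.node [(122,(-1))] .nil .nil) (.node [(187,(-1))] .nil
    .nil)) (.node [] (.node [(163,1)] .nil .nil) .nil)) (.node [] (.node [] .nil (.node [(205,1)]
    .nil .nil)) (.node [(106,1)] (.node [(173,1)] .nil .nil) .nil))) (.node [(22,1)] (.node
    [(36,(-1))] .nil .nil) .nil)))))

/-- table -/
noncomputable def auxE8Chain108 : Tr (List (ℕ × ℤ)) :=
    (.node [] (.node [] (.node [] (.node [] (.node [] (.node [(24,1)] .nil .nil) (.node [(38,(-1))]
    (.node [] (.node [(141,1)] .nil .nil) .nil) .nil)) (.node [] (.node [] .nil (.node [] .nil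
    (.node [(229,(-1))] .nil .nil))) (.node [] (.node [] .nil (.node [(208,(-1))] .nil .nil))
    .nil))) (.node [] (.node [] (.node [] (.node [(60,(-1))] .nil (.node [(186,(-1))] .nil .nil))
    .nil) (.node [] .nil (.node [(106,1)] (.node [(172,1)] .nil .nil) .nil))) .nil)) (.node
    [(3,(-1))] (.node [] (.node [(15,1)] .nil .nil) (.node [] (.node [] (.node [] (.node [(135,1)]
    .nil .nil) (.node [(192,1)] .nil .nil)) .nil) (.node [] (.node [(82,(-1))] .nil .nil) .nil)))
    (.node [] (.node [] (.node [] (.node [] (.node [(124,(-1))] .nil .nil) .nil) (.node [] (.node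
    [(163,1)] .nil .nil) .nil)) (.node [(44,1)] .nil .nil)) (.node [] .nil (.node [] (.node []
    (.node [(150,1)] .nil .nil) .nil) .nil))))) (.node [] (.node [] (.node [] (.node [] (.node
    [(25,1)] .nil (.node [] .nil (.node [(222,(-1))] .nil .nil))) (.node [(39,(-1))] .nil .nil))
    (.node [] (.node [] (.node [] .nil (.node [(191,1)] .nil .nil)) (.node [(102,(-1))] .nil .nil))
    (.node [] (.node [(81,(-1))] (.node [(147,(-1))] .nil .nil) (.node [(209,(-1))] .nil .nil))
    .nil))) (.node [] (.node [] (.node [] (.node [(61,(-1))] (.node [(123,(-1))] .nil .nil) (.node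
    [(187,(-1))] .nil .nil)) .nil) (.node [(43,1)] .nil (.node [(107,1)] (.node [(173,1)] .nil
    .nil) .nil))) (.node [] (.node [] (.node [(74,(-1))] .nil .nil) (.node [] .nil (.node [(234,1)]
    .nil .nil))) (.node [] (.node [(87,1)] (.node [(149,1)] .nil .nil) .nil) .nil)))) (.node []
    (.node [(8,1)] (.node [] (.node [] (.node [(59,(-1))] (.node [(113,(-1))] .nil .nil) (.node
    [(185,(-1))] .nil .nil)) (.node [(96,(-1))] .nil .nil)) (.node [] .nil (.node [(105,1)] (.node
    [(171,1)] .nil .nil) .nil))) (.node [(21,(-1))] (.node [] (.node [] .nil (.node [(193,1)] .nil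
    .nil)) .nil) (.node [] (.node [(83,(-1))] .nil (.node [(213,1)] .nil .nil)) .nil))) (.node []
    (.node [] (.node [] (.node [(65,1)] (.node [(125,(-1))] .nil .nil) .nil) .nil) (.node [(45,1)]
    (.node [] .nil (.node [(207,(-1))] .nil .nil)) .nil)) (.node [(23,1)] (.node [(37,(-1))] .nil
    (.node [] (.node [(169,(-1))] .nil .nil) .nil)) (.node [] (.node [] (.node [(151,1)] .nil .nil)
    .nil) (.node [(109,1)] .nil .nil)))))))

/-- table -/
noncomputable def auxE8Chain109 : Tr (List (ℕ × ℤ)) :=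
    (.node [] (.node [] (.node [] (.node [] (.node [] .nil (.node [(41,(-1))] .nil (.node [(106,1)]
    (.node [(171,1)] .nil .nil) .nil))) (.node [] (.node [] (.node [] .nil (.node [(193,1)] .nil
    .nil)) (.node [] .nil (.node [(230,1)] .nil .nil))) (.node [] (.node [] .nil (.node [(211,1)]
    .nil .nil)) .nil))) (.node [] (.node [] (.node [] (.node [(63,(-1))] (.node [(126,(-1))] .nil
    .nil) (.node [(189,1)] .nil .nil)) .nil) (.node [(45,(-1))] .nil .nil)) (.node [(23,(-1))]
    (.node [] .nil (.node [] .nil (.node [(234,1)] .nil .nil))) (.node [] (.node [(87,(-1))] (.node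
    [(151,1)] .nil .nil) .nil) .nil)))) (.node [(4,(-1))] (.node [(8,(-1))] (.node [] .nil (.node
    [(43,(-1))] .nil (.node [(108,1)] (.node [(173,1)] .nil .nil) .nil))) (.node [] .nil (.node []
    (.node [(85,(-1))] (.node [(149,1)] .nil .nil) (.node [(213,1)] .nil .nil)) .nil))) (.node []
    (.node [] (.node [] (.node [(65,(-1))] (.node [(128,(-1))] .nil .nil) (.node [(191,1)] .nil
    .nil)) .nil) .nil) (.node [(25,(-1))] .nil .nil)))) (.node [] (.node [] (.node [] (.node
    [(15,(-1))] (.node [] .nil (.node [] .nil (.node [(223,1)] .nil .nil))) (.node [(42,(-1))] .nil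
    (.node [(107,1)] (.node [(172,1)] .nil .nil) .nil))) (.node [] (.node [] (.node [] (.node
    [(135,1)] .nil .nil) .nil) (.node [(103,(-1))] .nil .nil)) (.node [] (.node [(84,(-1))] (.node
    [(148,1)] .nil .nil) (.node [(212,1)] .nil .nil)) .nil))) (.node [] (.node [] (.node [] (.node
    [(64,(-1))] (.node [(127,(-1))] .nil .nil) (.node [(190,1)] .nil .nil)) (.node [] (.node
    [(163,1)] .nil .nil) .nil)) .nil) (.node [(24,(-1))] (.node [] (.node [(75,(-1))] .nil .nil)
    .nil) .nil))) (.node [] (.node [] (.node [] (.node [] (.node [(62,(-1))] .nil (.node [(188,1)]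
    .nil .nil)) (.node [(97,(-1))] .nil .nil)) (.node [(44,(-1))] .nil .nil)) (.node [(22,(-1))]
    .nil (.node [] (.node [(86,(-1))] (.node [(150,1)] .nil .nil) .nil) .nil))) (.node [] (.node []
    (.node [] (.node [] (.node [(129,(-1))] .nil .nil) (.node [(192,1)] .nil .nil)) .nil) (.node []
    (.node [] .nil (.node [(210,1)] .nil .nil)) .nil)) (.node [] (.node [(40,(-1))] (.node []
    (.node [(141,1)] .nil .nil) .nil) (.node [(105,1)] (.node [(170,1)] .nil .nil) .nil)) .nil)))))

/-- table -/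
noncomputable def auxE8Chain110 : Tr (List (ℕ × ℤ)) :=
    (.node [] (.node [] (.node [] (.node [] (.node [] (.node [] (.node [(56,1)] (.node [(117,(-1))]
    .nil .nil) .nil) (.node [] .nil (.node [(219,(-1))] .nil .nil))) (.node [] .nil (.node [] .nil
    (.node [(235,1)] .nil .nil)))) (.node [] (.node [] .nil (.node [(99,(-1))] .nil .nil)) (.node
    [(49,1)] (.node [(81,1)] (.node [(147,1)] .nil .nil) .nil) (.node [] (.node [(176,(-1))] .nil
    .nil) .nil)))) (.node [] (.node [] (.node [(28,(-1))] .nil .nil) (.node [] (.node [] .nil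
    (.node [(204,1)] .nil .nil)) .nil)) (.node [] (.node [] (.node [(71,(-1))] .nil (.node
    [(197,1)] .nil .nil)) .nil) .nil))) (.node [] (.node [] (.node [] (.node [] (.node [(59,1)]
    .nil (.node [(186,(-1))] .nil .nil)) (.node [(93,(-1))] (.node [(154,(-1))] .nil .nil) .nil))
    .nil) (.node [(21,1)] (.node [] (.node [] .nil (.node [(194,1)] .nil .nil)) .nil) .nil)) (.node
    [(9,1)] (.node [] .nil (.node [(46,1)] (.node [(78,1)] .nil (.node [(207,1)] .nil .nil)) .nil))
    (.node [] (.node [(38,(-1))] .nil (.node [(105,(-1))] (.node [(169,1)] .nil .nil) .nil)) (.node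
    [] .nil (.node [(113,1)] .nil .nil)))))) (.node [] (.node [(0,(-1))] (.node [] (.node [] (.node
    [(26,(-1))] (.node [(57,1)] (.node [(119,(-1))] .nil .nil) (.node [(185,(-1))] .nil .nil))
    (.node [] (.node [(153,(-1))] .nil .nil) .nil)) .nil) (.node [] (.node [] .nil (.node [] (.node
    [(164,1)] .nil .nil) .nil)) (.node [] .nil (.node [(111,1)] .nil .nil)))) (.node [] (.node
    [(16,1)] .nil (.node [] (.node [] .nil (.node [(205,1)] .nil .nil)) (.node [] (.node
    [(174,(-1))] .nil .nil) .nil))) (.node [] (.node [(37,(-1))] (.node [] (.node [(136,1)] .nil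
    .nil) .nil) .nil) (.node [] (.node [(88,(-1))] .nil .nil) .nil)))) (.node [] (.node [] (.node
    [] (.node [(27,(-1))] .nil .nil) (.node [] (.node [] (.node [(142,1)] .nil .nil) .nil) .nil))
    (.node [] (.node [(36,(-1))] (.node [] .nil (.node [(195,1)] .nil .nil)) .nil) (.node [] (.node
    [] .nil (.node [(214,(-1))] .nil .nil)) (.node [(112,1)] .nil .nil)))) (.node [] (.node []
    (.node [] (.node [(66,(-1))] (.node [(130,1)] .nil .nil) .nil) (.node [] .nil (.node
    [(226,(-1))] .nil .nil))) (.node [(47,1)] (.node [(79,1)] .nil .nil) (.node [] (.node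
    [(175,(-1))] .nil .nil) .nil))) (.node [] .nil (.node [] (.node [] (.node [(152,(-1))] .nil
    .nil) .nil) (.node [(114,(-1))] (.node [(184,(-1))] .nil .nil) .nil)))))))

/-- table -/
noncomputable def auxE8Chain111 : Tr (List (ℕ × ℤ)) :=
    (.node [] (.node [] (.node [] (.node [] (.node [] (.node [(26,1)] (.node [] (.node [(118,(-1))]
    .nil .nil) (.node [(185,(-1))] .nil .nil)) (.node [] (.node [(153,(-1))] .nil .nil) (.node
    [(220,1)] .nil .nil))) .nil) (.node [] (.node [] .nil (.node [(100,(-1))] (.node [(164,1)] .nil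
    .nil) .nil)) (.node [(50,1)] (.node [(82,1)] .nil .nil) (.node [(110,1)] (.node [(177,1)] .nil
    .nil) .nil)))) (.node [] (.node [(16,(-1))] (.node [(29,(-1))] .nil .nil) (.node [] .nil (.node
    [] (.node [(174,(-1))] .nil .nil) .nil))) (.node [] (.node [(37,1)] (.node [(72,(-1))] (.node
    [(136,1)] .nil .nil) (.node [(198,(-1))] .nil .nil)) .nil) .nil))) (.node [] (.node [] (.node
    [] (.node [(27,1)] (.node [(60,1)] (.node [(120,(-1))] .nil .nil) (.node [(187,1)] .nil .nil))
    (.node [(94,(-1))] (.node [(155,1)] .nil .nil) .nil)) (.node [] (.node [] (.node [(142,1)] .nil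
    .nil) .nil) .nil)) (.node [] (.node [(36,1)] .nil .nil) (.node [] .nil (.node [(112,1)] .nil
    .nil)))) (.node [] (.node [] (.node [] (.node [] (.node [(130,1)] .nil .nil) .nil) .nil) (.node
    [] (.node [] .nil (.node [(208,(-1))] .nil .nil)) (.node [] (.node [(175,(-1))] .nil .nil)
    .nil))) (.node [] (.node [(39,(-1))] .nil (.node [(106,(-1))] .nil .nil)) (.node [] (.node []
    (.node [(152,(-1))] .nil .nil) .nil) (.node [] (.node [(184,(-1))] .nil .nil) .nil)))))) (.node
    [] (.node [(1,(-1))] (.node [] (.node [] (.node [] (.node [(58,1)] .nil .nil) .nil) .nil)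
    (.node [(21,(-1))] (.node [] (.node [] .nil (.node [(194,1)] .nil .nil)) .nil) .nil)) (.node
    [(9,(-1))] (.node [] .nil (.node [(46,(-1))] (.node [(78,(-1))] .nil (.node [(206,(-1))] .nil
    .nil)) .nil)) (.node [] (.node [] .nil (.node [] (.node [(169,1)] .nil .nil) .nil)) (.node []
    (.node [(89,(-1))] .nil .nil) (.node [(113,1)] .nil .nil))))) (.node [] (.node [] (.node []
    .nil (.node [] (.node [] .nil (.node [(204,1)] .nil .nil)) .nil)) (.node [] (.node [] (.node []
    .nil (.node [(196,(-1))] .nil .nil)) .nil) (.node [] (.node [] .nil (.node [(215,1)] .nil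
    .nil)) .nil))) (.node [] (.node [] (.node [] (.node [(67,(-1))] .nil .nil) (.node [] .nil
    (.node [(227,1)] .nil .nil))) (.node [(48,1)] (.node [(80,1)] (.node [(147,1)] .nil .nil) .nil)
    .nil)) (.node [] (.node [] .nil (.node [] .nil (.node [(235,1)] .nil .nil))) (.node [(56,(-1))]
    .nil (.node [(115,(-1))] .nil .nil)))))))

/-- table -/
noncomputable def auxE8Chain112 : Tr (List (ℕ × ℤ)) :=
    (.node [] (.node [] (.node [] (.node [] (.node [] (.node [] (.node [(58,(-1))] .nil (.node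
    [(186,1)] .nil .nil)) (.node [] (.node [(154,1)] .nil .nil) (.node [(221,(-1))] .nil .nil)))
    .nil) (.node [(21,1)] (.node [] .nil (.node [(101,(-1))] .nil .nil)) (.node [(51,1)] (.node
    [(83,1)] .nil .nil) .nil))) (.node [(9,1)] (.node [] .nil (.node [] (.node [] .nil (.node
    [(206,(-1))] .nil .nil)) .nil)) (.node [] (.node [(38,1)] (.node [(73,(-1))] .nil (.node
    [(199,1)] .nil .nil)) (.node [] (.node [(169,1)] .nil .nil) .nil)) (.node [] .nil (.node
    [(113,1)] .nil .nil))))) (.node [] (.node [] (.node [] (.node [(28,1)] (.node [(61,1)] (.node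
    [(122,(-1))] .nil .nil) .nil) (.node [(95,(-1))] .nil .nil)) .nil) (.node [] (.node [] (.node
    [] .nil (.node [(196,(-1))] .nil .nil)) .nil) .nil)) (.node [] (.node [] .nil (.node
    [(48,(-1))] (.node [(80,(-1))] (.node [(147,1)] .nil .nil) (.node [(209,1)] .nil .nil)) (.node
    [(110,1)] (.node [(176,1)] .nil .nil) .nil))) (.node [] (.node [] .nil (.node [(107,(-1))] .nil
    (.node [(235,1)] .nil .nil))) .nil)))) (.node [] (.node [(2,(-1))] (.node [] (.node [] (.node
    [] (.node [] (.node [(121,(-1))] .nil .nil) (.node [(187,1)] .nil .nil)) (.node [] (.node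
    [(155,1)] .nil .nil) .nil)) (.node [] (.node [] (.node [(142,1)] .nil .nil) .nil) .nil)) (.node
    [] (.node [(36,(-1))] (.node [] .nil (.node [(195,(-1))] .nil .nil)) .nil) .nil)) (.node []
    (.node [] (.node [] (.node [] (.node [(130,1)] .nil .nil) .nil) .nil) (.node [(47,(-1))] (.node
    [(79,(-1))] .nil .nil) .nil)) (.node [] (.node [(39,1)] .nil .nil) (.node [] (.node [(90,(-1))]
    (.node [(152,(-1))] .nil .nil) .nil) (.node [] (.node [(184,(-1))] .nil .nil) .nil))))) (.node
    [] (.node [] (.node [(16,1)] (.node [(29,1)] .nil .nil) (.node [] (.node [] .nil (.node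
    [(205,(-1))] .nil .nil)) (.node [] (.node [(174,(-1))] .nil .nil) .nil))) (.node [] (.node []
    (.node [] (.node [(136,1)] .nil .nil) .nil) .nil) (.node [] (.node [] .nil (.node [(216,(-1))]
    .nil .nil)) .nil))) (.node [] (.node [] (.node [] (.node [(68,(-1))] .nil .nil) (.node []
    (.node [(164,1)] .nil .nil) (.node [(228,(-1))] .nil .nil))) (.node [] .nil (.node [(111,1)]
    (.node [(177,1)] .nil .nil) .nil))) (.node [(26,(-1))] .nil (.node [(57,(-1))] .nil (.node
    [(116,(-1))] .nil .nil)))))))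

/-- table -/
noncomputable def auxE8Chain113 : Tr (List (ℕ × ℤ)) :=
    (.node [] (.node [] (.node [] (.node [] (.node [] (.node [(28,(-1))] (.node [(60,(-1))] (.node
    [(123,(-1))] .nil .nil) .nil) (.node [] .nil (.node [(222,1)] .nil .nil))) (.node [] (.node []
    (.node [(142,1)] .nil .nil) .nil) .nil)) (.node [] (.node [] .nil (.node [(102,(-1))] .nil
    .nil)) .nil)) (.node [] (.node [] (.node [] (.node [] (.node [(130,1)] .nil .nil) .nil) .nil)
    (.node [] (.node [] .nil (.node [(208,1)] .nil .nil)) (.node [(111,1)] (.node [(176,1)] .nil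
    .nil) .nil))) (.node [] (.node [] (.node [(74,(-1))] .nil .nil) .nil) .nil))) (.node [] (.node
    [] (.node [(16,(-1))] (.node [] (.node [] (.node [(125,(-1))] .nil .nil) .nil) (.node
    [(96,(-1))] .nil .nil)) .nil) (.node [] (.node [(38,(-1))] (.node [] (.node [(136,1)] .nil
    .nil) (.node [(198,1)] .nil .nil)) .nil) .nil)) (.node [] (.node [] (.node [] .nil (.node []
    (.node [(164,1)] .nil .nil) .nil)) (.node [(50,(-1))] (.node [(82,(-1))] .nil .nil) .nil))
    (.node [] (.node [] .nil (.node [(108,(-1))] .nil .nil)) (.node [] (.node [] (.node [(154,1)]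
    .nil .nil) .nil) (.node [] (.node [(186,1)] .nil .nil) .nil)))))) (.node [] (.node [(3,(-1))]
    (.node [] (.node [] (.node [(29,(-1))] (.node [(61,(-1))] (.node [(124,(-1))] .nil .nil) .nil)
    .nil) .nil) (.node [] (.node [(37,(-1))] (.node [] .nil (.node [(197,1)] .nil .nil)) .nil)
    .nil)) (.node [] (.node [] .nil (.node [(49,(-1))] (.node [(81,(-1))] (.node [(147,1)] .nil
    .nil) (.node [(209,1)] .nil .nil)) (.node [(112,1)] (.node [(177,1)] .nil .nil) .nil))) (.node
    [] (.node [] .nil (.node [] .nil (.node [(235,1)] .nil .nil))) (.node [] (.node [(91,(-1))]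
    (.node [(153,1)] .nil .nil) .nil) (.node [] (.node [(185,1)] .nil .nil) .nil))))) (.node []
    (.node [(9,(-1))] (.node [] .nil (.node [] (.node [] .nil (.node [(207,1)] .nil .nil)) (.node
    [(110,1)] (.node [(175,1)] .nil .nil) .nil))) (.node [] (.node [(39,(-1))] (.node [] .nil
    (.node [(199,1)] .nil .nil)) (.node [] (.node [(169,1)] .nil .nil) .nil)) (.node [] (.node []
    .nil (.node [(217,1)] .nil .nil)) .nil))) (.node [] (.node [(21,(-1))] (.node [] (.node
    [(69,(-1))] .nil .nil) (.node [] .nil (.node [(229,1)] .nil .nil))) (.node [(51,(-1))] (.node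
    [(83,(-1))] .nil .nil) .nil)) (.node [(27,(-1))] .nil (.node [(59,(-1))] (.node [] (.node
    [(155,1)] .nil .nil) .nil) (.node [] (.node [(187,1)] .nil .nil) .nil)))))))

/-- table -/
noncomputable def auxE8Chain114 : Tr (List (ℕ × ℤ)) :=
    (.node [] (.node [] (.node [(0,(-1))] (.node [] (.node [] .nil (.node [] .nil (.node [] .nil
    (.node [(236,1)] .nil .nil)))) (.node [] (.node [(36,(-1))] (.node [] .nil (.node [(195,(-1))]
    .nil .nil)) .nil) (.node [(52,(-1))] (.node [(84,(-1))] (.node [(148,1)] .nil .nil) .nil)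
    (.node [] (.node [(179,(-1))] .nil .nil) .nil)))) (.node [] (.node [] (.node [(31,1)] .nil
    .nil) (.node [(47,1)] (.node [(79,1)] .nil .nil) .nil)) (.node [] (.node [] (.node [] .nil
    (.node [(200,1)] .nil .nil)) .nil) (.node [] (.node [(88,(-1))] (.node [(152,1)] .nil .nil)
    .nil) (.node [(117,(-1))] (.node [(184,1)] .nil .nil) .nil))))) (.node [] (.node [] (.node []
    (.node [] (.node [(62,(-1))] (.node [(126,1)] .nil .nil) (.node [(189,(-1))] .nil .nil)) (.node
    [] (.node [(157,(-1))] .nil .nil) .nil)) (.node [] (.node [] .nil (.node [(205,(-1))] .nil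
    .nil)) (.node [(110,(-1))] (.node [(174,1)] .nil .nil) .nil))) (.node [(22,(-1))] .nil (.node
    [] (.node [] .nil (.node [(214,1)] .nil .nil)) .nil))) (.node [(10,(-1))] (.node [] (.node []
    (.node [(66,(-1))] .nil .nil) (.node [] .nil (.node [(226,1)] .nil .nil))) (.node [] (.node []
    .nil (.node [(210,1)] .nil .nil)) .nil)) (.node [(26,(-1))] (.node [(41,1)] .nil (.node []
    (.node [(170,1)] .nil .nil) .nil)) (.node [(57,1)] .nil .nil))))) (.node [] (.node [] (.node []
    (.node [] (.node [] (.node [] .nil (.node [(188,(-1))] .nil .nil)) (.node [(93,(-1))] (.node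
    [(156,(-1))] .nil .nil) .nil)) (.node [] (.node [] .nil (.node [(204,(-1))] .nil .nil)) .nil))
    (.node [] (.node [] .nil (.node [] (.node [(165,1)] .nil .nil) .nil)) (.node [] .nil (.node
    [(115,1)] .nil .nil)))) (.node [] (.node [(17,(-1))] .nil .nil) (.node [] (.node [(40,1)]
    (.node [] (.node [(137,1)] .nil .nil) .nil) (.node [(105,(-1))] .nil .nil)) (.node [(56,1)]
    .nil (.node [(119,(-1))] .nil .nil))))) (.node [] (.node [] (.node [] (.node [(30,1)] .nil
    .nil) (.node [(46,1)] (.node [(78,1)] (.node [(143,1)] .nil .nil) .nil) .nil)) (.node [] (.node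
    [] (.node [(71,(-1))] .nil .nil) .nil) (.node [] .nil (.node [(116,1)] .nil .nil)))) (.node []
    (.node [] (.node [] (.node [] (.node [(131,1)] .nil .nil) (.node [(194,(-1))] .nil .nil))
    (.node [(99,(-1))] .nil .nil)) (.node [] .nil (.node [] (.node [(178,(-1))] .nil .nil) .nil)))
    (.node [] .nil (.node [] (.node [] .nil (.node [(219,1)] .nil .nil)) .nil))))))

/-- table -/
noncomputable def auxE8Chain115 : Tr (List (ℕ × ℤ)) :=
    (.node [] (.node [] (.node [(1,(-1))] (.node [] (.node [] (.node [] (.node [] .nil (.node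
    [(188,(-1))] .nil .nil)) (.node [] (.node [(156,(-1))] .nil .nil) .nil)) (.node [] (.node []
    .nil (.node [(204,(-1))] .nil .nil)) .nil)) (.node [] (.node [] (.node [] .nil (.node [(196,1)]
    .nil .nil)) (.node [] (.node [(165,1)] .nil .nil) .nil)) (.node [(53,(-1))] (.node [(85,(-1))]
    .nil .nil) (.node [(114,1)] (.node [(180,1)] .nil .nil) .nil)))) (.node [] (.node [(17,1)]
    (.node [(32,1)] .nil .nil) (.node [(48,1)] (.node [(80,1)] .nil .nil) .nil)) (.node [] (.node
    [(40,(-1))] (.node [] (.node [(137,1)] .nil .nil) (.node [(201,(-1))] .nil .nil)) .nil) (.node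
    [(56,(-1))] (.node [(89,(-1))] .nil .nil) (.node [(118,(-1))] .nil .nil))))) (.node [] (.node
    [] (.node [] (.node [(30,(-1))] (.node [(63,(-1))] .nil (.node [(190,1)] .nil .nil)) (.node []
    (.node [(158,1)] .nil .nil) .nil)) (.node [(46,(-1))] (.node [(78,(-1))] (.node [(143,1)] .nil
    .nil) (.node [(206,1)] .nil .nil)) (.node [(111,(-1))] .nil .nil))) (.node [] .nil (.node []
    (.node [] .nil (.node [(215,(-1))] .nil .nil)) (.node [(116,1)] .nil .nil)))) (.node [] (.node
    [] (.node [] (.node [(67,(-1))] (.node [(131,1)] .nil .nil) (.node [(194,(-1))] .nil .nil))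
    (.node [] .nil (.node [(227,(-1))] .nil .nil))) (.node [] (.node [] .nil (.node [(211,(-1))]
    .nil .nil)) (.node [] (.node [(178,(-1))] .nil .nil) .nil))) (.node [] (.node [(42,1)] .nil
    .nil) (.node [(58,1)] .nil (.node [(120,(-1))] .nil .nil)))))) (.node [] (.node [] (.node []
    (.node [] (.node [] (.node [] (.node [(126,1)] .nil .nil) .nil) (.node [(94,(-1))] .nil .nil))
    (.node [] .nil (.node [] (.node [(174,1)] .nil .nil) .nil))) (.node [(22,1)] .nil .nil)) (.node
    [(10,1)] .nil (.node [(26,1)] (.node [] .nil (.node [(106,(-1))] (.node [(170,1)] .nil .nil)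
    .nil)) .nil))) (.node [] (.node [] .nil (.node [] (.node [] (.node [(72,(-1))] .nil .nil) .nil)
    (.node [] (.node [] (.node [(152,1)] .nil .nil) .nil) (.node [] (.node [(184,1)] .nil .nil)
    .nil)))) (.node [] (.node [] (.node [(36,1)] .nil (.node [(100,(-1))] .nil .nil)) (.node []
    (.node [] (.node [(148,1)] .nil .nil) .nil) .nil)) (.node [] (.node [] .nil (.node [] .nil
    (.node [(236,1)] .nil .nil))) (.node [] (.node [] .nil (.node [(220,(-1))] .nil .nil))
    .nil))))))

/-- table -/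
noncomputable def auxE8Chain116 : Tr (List (ℕ × ℤ)) :=
    (.node [] (.node [] (.node [(2,(-1))] (.node [] (.node [] (.node [] (.node [] (.node [(126,1)]
    .nil .nil) (.node [(189,1)] .nil .nil)) (.node [] (.node [(157,1)] .nil .nil) .nil)) (.node []
    (.node [] .nil (.node [(205,1)] .nil .nil)) (.node [] (.node [(174,1)] .nil .nil) .nil)))
    (.node [(22,(-1))] .nil (.node [(54,(-1))] (.node [(86,(-1))] .nil .nil) .nil))) (.node
    [(10,(-1))] .nil (.node [(26,(-1))] (.node [(41,(-1))] (.node [] .nil (.node [(202,1)] .nil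
    .nil)) (.node [] (.node [(170,1)] .nil .nil) .nil)) (.node [(57,(-1))] (.node [(90,(-1))] .nil
    .nil) .nil)))) (.node [] (.node [] (.node [] (.node [(31,(-1))] (.node [(64,(-1))] .nil .nil)
    .nil) (.node [(47,(-1))] (.node [(79,(-1))] .nil .nil) (.node [(112,(-1))] .nil .nil))) (.node
    [] .nil (.node [] (.node [] (.node [(152,1)] .nil .nil) (.node [(216,1)] .nil .nil)) (.node []
    (.node [(184,1)] .nil .nil) .nil)))) (.node [] (.node [] (.node [(36,(-1))] (.node [(68,(-1))]
    .nil (.node [(195,1)] .nil .nil)) (.node [] .nil (.node [(228,1)] .nil .nil))) (.node [] (.node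
    [] (.node [(148,1)] .nil .nil) (.node [(212,1)] .nil .nil)) (.node [(114,1)] (.node [(179,1)]
    .nil .nil) .nil))) (.node [] (.node [] .nil (.node [] .nil (.node [(236,1)] .nil .nil))) (.node
    [] .nil (.node [(122,(-1))] .nil .nil)))))) (.node [] (.node [] (.node [] (.node [] (.node []
    (.node [] .nil (.node [(190,1)] .nil .nil)) (.node [(95,(-1))] (.node [(158,1)] .nil .nil)
    .nil)) (.node [] (.node [] (.node [(143,1)] .nil .nil) (.node [(206,1)] .nil .nil)) .nil))
    .nil) (.node [] (.node [] (.node [] (.node [] (.node [(131,1)] .nil .nil) .nil) .nil) .nil)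
    (.node [] (.node [(42,(-1))] .nil (.node [(107,(-1))] .nil .nil)) (.node [(58,(-1))] .nil
    (.node [(121,(-1))] .nil .nil))))) (.node [] (.node [] (.node [(17,(-1))] (.node [(32,(-1))]
    .nil .nil) (.node [(48,(-1))] (.node [(80,(-1))] .nil .nil) .nil)) (.node [] (.node [] (.node
    [(73,(-1))] (.node [(137,1)] .nil .nil) .nil) .nil) .nil)) (.node [] (.node [] (.node [] (.node
    [] .nil (.node [(196,1)] .nil .nil)) (.node [(101,(-1))] (.node [(165,1)] .nil .nil) .nil))
    (.node [] .nil (.node [(115,1)] (.node [(180,1)] .nil .nil) .nil))) (.node [] .nil (.node []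
    (.node [] .nil (.node [(221,1)] .nil .nil)) .nil))))))

/-- table -/
noncomputable def auxE8Chain117 : Tr (List (ℕ × ℤ)) :=
    (.node [] (.node [] (.node [] (.node [] (.node [] (.node [] .nil (.node [(93,(-1))] .nil .nil))
    (.node [] .nil (.node [] .nil (.node [(237,1)] .nil .nil)))) (.node [] (.node [(37,1)] (.node
    [] .nil (.node [(197,(-1))] .nil .nil)) .nil) (.node [] (.node [] (.node [(149,1)] .nil .nil)
    .nil) (.node [] (.node [(181,(-1))] .nil .nil) .nil)))) (.node [] (.node [] (.node [(33,(-1))]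
    .nil .nil) (.node [(49,(-1))] (.node [(81,(-1))] .nil .nil) .nil)) (.node [] (.node [] .nil
    (.node [(105,(-1))] .nil .nil)) (.node [] (.node [] (.node [(153,1)] .nil .nil) .nil) (.node []
    (.node [(185,1)] .nil .nil) .nil))))) (.node [] (.node [] (.node [] (.node [] (.node [] (.node
    [(127,1)] .nil .nil) (.node [(191,(-1))] .nil .nil)) (.node [] (.node [(159,(-1))] .nil .nil)
    .nil)) (.node [] (.node [] .nil (.node [(207,(-1))] .nil .nil)) (.node [] (.node [(175,1)] .nil
    .nil) .nil))) (.node [(23,1)] (.node [] (.node [(71,(-1))] .nil .nil) .nil) (.node [] .nil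
    (.node [(119,(-1))] .nil .nil)))) (.node [(11,1)] (.node [] (.node [] .nil (.node [(99,(-1))]
    .nil .nil)) .nil) (.node [(27,1)] (.node [(43,(-1))] .nil (.node [] (.node [(171,1)] .nil .nil)
    .nil)) (.node [(59,(-1))] (.node [] .nil (.node [(219,(-1))] .nil .nil)) (.node [(123,1)] .nil
    .nil)))))) (.node [(0,(-1))] (.node [] (.node [] (.node [] (.node [(30,1)] (.node [(62,(-1))]
    .nil .nil) .nil) (.node [(46,1)] (.node [(78,1)] .nil .nil) (.node [(110,(-1))] .nil .nil)))
    (.node [] (.node [] .nil (.node [] (.node [(166,1)] .nil .nil) .nil)) (.node [] (.node [] .nil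
    (.node [(214,(-1))] .nil .nil)) (.node [(118,1)] .nil .nil)))) (.node [] (.node [(18,1)] (.node
    [] (.node [(66,(-1))] .nil (.node [(194,1)] .nil .nil)) (.node [] .nil (.node [(226,(-1))] .nil
    .nil))) (.node [] (.node [] .nil (.node [(210,(-1))] .nil .nil)) (.node [(114,(-1))] (.node
    [(178,1)] .nil .nil) .nil))) (.node [] (.node [] (.node [] (.node [(138,1)] .nil .nil) .nil)
    .nil) .nil))) (.node [] (.node [] (.node [] .nil (.node [] (.node [] (.node [(144,1)] .nil
    .nil) .nil) .nil)) (.node [] (.node [(40,1)] (.node [] .nil (.node [(200,(-1))] .nil .nil))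
    .nil) (.node [(56,1)] (.node [(88,(-1))] .nil .nil) .nil))) (.node [] (.node [] (.node []
    (.node [] (.node [(132,1)] .nil .nil) .nil) .nil) (.node [(52,(-1))] (.node [(84,(-1))] .nil
    .nil) .nil)) (.node [] (.node [] (.node [] .nil (.node [(204,1)] .nil .nil)) .nil) (.node []
    (.node [] (.node [(156,1)] .nil .nil) .nil) (.node [] (.node [(188,1)] .nil .nil) .nil)))))))

/-- table -/
noncomputable def auxE8Chain118 : Tr (List (ℕ × ℤ)) :=
    (.node [] (.node [] (.node [] (.node [] (.node [] (.node [(30,(-1))] .nil (.node [(94,(-1))]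
    .nil .nil)) (.node [(46,(-1))] (.node [(78,(-1))] .nil .nil) .nil)) (.node [] (.node [] (.node
    [] .nil (.node [(198,1)] .nil .nil)) (.node [] (.node [(166,1)] .nil .nil) .nil)) (.node []
    .nil (.node [(117,1)] (.node [(182,1)] .nil .nil) .nil)))) (.node [] (.node [(18,(-1))] (.node
    [(34,(-1))] (.node [] .nil (.node [(194,1)] .nil .nil)) .nil) (.node [(50,(-1))] (.node
    [(82,(-1))] .nil .nil) (.node [] (.node [(178,1)] .nil .nil) .nil))) (.node [] (.node [] (.node
    [] (.node [(138,1)] .nil .nil) .nil) (.node [(106,(-1))] .nil .nil)) .nil))) (.node [] (.node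
    [] (.node [] (.node [] (.node [] .nil (.node [(192,1)] .nil .nil)) (.node [] (.node [(160,1)]
    .nil .nil) .nil)) (.node [] (.node [] (.node [(144,1)] .nil .nil) (.node [(208,1)] .nil .nil))
    .nil)) (.node [] (.node [(40,(-1))] (.node [(72,(-1))] .nil .nil) .nil) (.node [(56,(-1))] .nil
    .nil))) (.node [] (.node [] (.node [] (.node [] (.node [(132,1)] .nil .nil) .nil) (.node
    [(100,(-1))] .nil .nil)) .nil) (.node [] (.node [(44,(-1))] (.node [] .nil (.node [(204,1)]
    .nil .nil)) .nil) (.node [(60,(-1))] (.node [] (.node [(156,1)] .nil .nil) (.node [(220,1)]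
    .nil .nil)) (.node [] (.node [(188,1)] .nil .nil) .nil)))))) (.node [(1,(-1))] (.node [] (.node
    [] (.node [] (.node [] (.node [(63,(-1))] (.node [(127,1)] .nil .nil) .nil) .nil) (.node []
    .nil (.node [(111,(-1))] (.node [(175,1)] .nil .nil) .nil))) (.node [(23,(-1))] .nil (.node []
    (.node [] .nil (.node [(215,1)] .nil .nil)) .nil))) (.node [(11,(-1))] (.node [] (.node []
    (.node [(67,(-1))] .nil .nil) (.node [] .nil (.node [(227,1)] .nil .nil))) (.node [] (.node []
    .nil (.node [(211,1)] .nil .nil)) (.node [(115,(-1))] .nil .nil))) (.node [(27,(-1))] (.node []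
    .nil (.node [] (.node [(171,1)] .nil .nil) .nil)) (.node [] .nil (.node [(123,1)] .nil
    .nil))))) (.node [] (.node [] .nil (.node [] (.node [] (.node [] .nil (.node [(201,1)] .nil
    .nil)) .nil) (.node [] (.node [(89,(-1))] (.node [(153,1)] .nil .nil) .nil) (.node [(120,(-1))]
    (.node [(185,1)] .nil .nil) .nil)))) (.node [] (.node [] (.node [(37,(-1))] .nil .nil) (.node
    [(53,(-1))] (.node [(85,(-1))] (.node [(149,1)] .nil .nil) .nil) .nil)) (.node [] (.node []
    .nil (.node [] .nil (.node [(237,1)] .nil .nil))) .nil)))))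

/-- table -/
noncomputable def auxE8Chain119 : Tr (List (ℕ × ℤ)) :=
    (.node [] (.node [(0,(-1))] (.node [] (.node [] (.node [] (.node [] (.node [(62,(-1))] .nil
    .nil) .nil) (.node [] .nil (.node [(110,(-1))] .nil (.node [(238,1)] .nil .nil)))) (.node []
    (.node [(38,(-1))] .nil .nil) (.node [] (.node [] (.node [(150,1)] .nil .nil) (.node [(214,1)]
    .nil .nil)) .nil))) (.node [] (.node [] (.node [] (.node [(66,(-1))] .nil .nil) (.node [] .nil
    (.node [(226,1)] .nil .nil))) (.node [] (.node [] .nil (.node [(210,1)] .nil .nil)) (.node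
    [(114,(-1))] .nil .nil))) (.node [] .nil (.node [] (.node [] (.node [(154,1)] .nil .nil) .nil)
    (.node [] (.node [(186,1)] .nil .nil) .nil))))) (.node [] (.node [] (.node [] (.node [] (.node
    [] (.node [(128,1)] .nil .nil) .nil) .nil) (.node [] .nil (.node [] (.node [(176,1)] .nil .nil)
    .nil))) (.node [(24,(-1))] (.node [] (.node [] .nil (.node [(200,1)] .nil .nil)) .nil) (.node
    [] (.node [(88,(-1))] .nil .nil) .nil))) (.node [(12,(-1))] (.node [] .nil (.node [(52,(-1))]
    (.node [(84,(-1))] .nil .nil) .nil)) (.node [(28,(-1))] (.node [] .nil (.node [] (.node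
    [(172,1)] .nil .nil) .nil)) (.node [] .nil (.node [(124,1)] .nil .nil)))))) (.node [] (.node []
    (.node [] (.node [] (.node [(31,(-1))] (.node [] .nil (.node [(191,1)] .nil .nil)) (.node []
    (.node [(159,1)] .nil .nil) .nil)) (.node [(47,(-1))] (.node [(79,(-1))] .nil (.node [(207,1)]
    .nil .nil)) .nil)) (.node [] (.node [] (.node [(71,(-1))] .nil .nil) (.node [] (.node [(167,1)]
    .nil .nil) .nil)) .nil)) (.node [] (.node [(19,(-1))] (.node [] (.node [] .nil (.node [(195,1)]
    .nil .nil)) (.node [(99,(-1))] .nil .nil)) (.node [] .nil (.node [] (.node [(179,1)] .nil .nil)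
    .nil))) (.node [] (.node [(43,(-1))] (.node [] (.node [(139,1)] .nil .nil) .nil) .nil) (.node
    [(59,(-1))] (.node [] .nil (.node [(219,1)] .nil .nil)) .nil)))) (.node [] (.node [] (.node []
    (.node [(33,(-1))] .nil .nil) (.node [(49,(-1))] (.node [(81,(-1))] (.node [(145,1)] .nil .nil)
    .nil) .nil)) (.node [] (.node [(41,(-1))] .nil (.node [(105,(-1))] .nil .nil)) (.node
    [(57,(-1))] .nil (.node [(121,1)] .nil .nil)))) (.node [] (.node [] (.node [] (.node [] (.node
    [(133,1)] .nil .nil) (.node [(197,1)] .nil .nil)) .nil) (.node [] .nil (.node [(117,(-1))]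
    (.node [(181,1)] .nil .nil) .nil))) (.node [] (.node [] (.node [] .nil (.node [(205,1)] .nil
    .nil)) .nil) (.node [] (.node [(93,(-1))] (.node [(157,1)] .nil .nil) .nil) (.node [] (.node
    [(189,1)] .nil .nil) .nil)))))))

/-- table -/
noncomputable def auxE8Chain120 : Tr (List (ℕ × ℤ)) :=
    (.node [(1,(-1))] (.node [] (.node [] (.node [] (.node [] (.node [(32,(-1))] (.node [] .nil
    (.node [(192,1)] .nil .nil)) (.node [] (.node [(160,1)] .nil .nil) .nil)) (.node [(48,(-1))]
    (.node [(80,(-1))] .nil (.node [(208,1)] .nil .nil)) .nil)) (.node [] (.node [] (.node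
    [(72,(-1))] .nil .nil) (.node [] (.node [(168,1)] .nil .nil) .nil)) .nil)) (.node [] (.node
    [(20,(-1))] (.node [] (.node [] .nil (.node [(196,1)] .nil .nil)) (.node [(100,(-1))] .nil
    .nil)) (.node [] .nil (.node [] (.node [(180,1)] .nil .nil) .nil))) (.node [] (.node
    [(44,(-1))] (.node [] (.node [(140,1)] .nil .nil) .nil) .nil) (.node [(60,(-1))] (.node [] .nil
    (.node [(220,1)] .nil .nil)) .nil)))) (.node [] (.node [] (.node [] (.node [(34,(-1))] .nil
    .nil) (.node [(50,(-1))] (.node [(82,(-1))] (.node [(146,1)] .nil .nil) .nil) .nil)) (.node []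
    (.node [(42,(-1))] .nil (.node [(106,(-1))] .nil .nil)) (.node [(58,(-1))] .nil (.node
    [(122,1)] .nil .nil)))) (.node [] (.node [] (.node [] (.node [] (.node [(134,1)] .nil .nil)
    (.node [(198,1)] .nil .nil)) .nil) (.node [] .nil (.node [(118,(-1))] (.node [(182,1)] .nil
    .nil) .nil))) (.node [] (.node [] (.node [] .nil (.node [(206,1)] .nil .nil)) .nil) (.node []
    (.node [(94,(-1))] (.node [(158,1)] .nil .nil) .nil) (.node [] (.node [(190,1)] .nil .nil)
    .nil)))))) (.node [] (.node [] (.node [] (.node [] (.node [] (.node [] (.node [(129,1)] .nil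
    .nil) .nil) .nil) (.node [] .nil (.node [] (.node [(177,1)] .nil .nil) .nil))) (.node
    [(25,(-1))] (.node [] (.node [] .nil (.node [(201,1)] .nil .nil)) .nil) (.node [] (.node
    [(89,(-1))] .nil .nil) .nil))) (.node [(13,(-1))] (.node [] .nil (.node [(53,(-1))] (.node
    [(85,(-1))] .nil .nil) .nil)) (.node [(29,(-1))] (.node [] .nil (.node [] (.node [(173,1)] .nil
    .nil) .nil)) (.node [] .nil (.node [(125,1)] .nil .nil))))) (.node [] (.node [] (.node []
    (.node [] (.node [(67,(-1))] .nil .nil) (.node [] .nil (.node [(227,1)] .nil .nil))) (.node []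
    (.node [] .nil (.node [(211,1)] .nil .nil)) (.node [(115,(-1))] .nil .nil))) (.node [] .nil
    (.node [] (.node [] (.node [(155,1)] .nil .nil) .nil) (.node [] (.node [(187,1)] .nil .nil)
    .nil)))) (.node [] (.node [] (.node [(39,(-1))] .nil .nil) (.node [] (.node [] (.node [(151,1)]
    .nil .nil) (.node [(215,1)] .nil .nil)) .nil)) (.node [] (.node [] .nil (.node [(111,(-1))]
    .nil (.node [(239,1)] .nil .nil))) (.node [(63,(-1))] .nil .nil))))))

/-- table -/
noncomputable def auxE8Chain121 : Tr (List (ℕ × ℤ)) :=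
    (.node [] (.node [(2,(-1))] (.node [] (.node [] (.node [] (.node [] (.node [(64,(-1))] (.node
    [(128,1)] .nil .nil) .nil) .nil) (.node [] .nil (.node [(112,(-1))] (.node [(176,1)] .nil .nil)
    .nil))) (.node [(24,(-1))] .nil (.node [] (.node [] .nil (.node [(216,1)] .nil .nil)) .nil)))
    (.node [(12,(-1))] (.node [] (.node [] (.node [(68,(-1))] .nil .nil) (.node [] .nil (.node
    [(228,1)] .nil .nil))) (.node [] (.node [] .nil (.node [(212,1)] .nil .nil)) (.node
    [(116,(-1))] .nil .nil))) (.node [(28,(-1))] (.node [] .nil (.node [] (.node [(172,1)] .nil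
    .nil) .nil)) (.node [] .nil (.node [(124,1)] .nil .nil))))) (.node [] (.node [] .nil (.node []
    (.node [] (.node [] .nil (.node [(202,1)] .nil .nil)) .nil) (.node [] (.node [(90,(-1))] (.node
    [(154,1)] .nil .nil) .nil) (.node [] (.node [(186,1)] .nil .nil) .nil)))) (.node [] (.node []
    (.node [(38,(-1))] .nil .nil) (.node [(54,(-1))] (.node [(86,(-1))] (.node [(150,1)] .nil .nil)
    .nil) (.node [(119,1)] .nil .nil))) (.node [] (.node [] .nil (.node [] .nil (.node [(238,1)]
    .nil .nil))) .nil)))) (.node [] (.node [] (.node [] (.node [] (.node [] (.node [] .nil (.node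
    [(193,1)] .nil .nil)) (.node [] (.node [(161,1)] .nil .nil) .nil)) (.node [] (.node [] (.node
    [(145,1)] .nil .nil) (.node [(209,1)] .nil .nil)) .nil)) (.node [] (.node [(41,(-1))] (.node
    [(73,(-1))] .nil .nil) .nil) (.node [(57,(-1))] .nil (.node [(122,(-1))] .nil .nil)))) (.node
    [] (.node [] (.node [] (.node [] (.node [(133,1)] .nil .nil) .nil) (.node [(101,(-1))] .nil
    .nil)) .nil) (.node [] (.node [(45,(-1))] (.node [] .nil (.node [(205,1)] .nil .nil)) .nil)
    (.node [(61,(-1))] (.node [] (.node [(157,1)] .nil .nil) (.node [(221,1)] .nil .nil)) (.node []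
    (.node [(189,1)] .nil .nil) .nil))))) (.node [] (.node [] (.node [(19,(-1))] (.node [(35,(-1))]
    (.node [] .nil (.node [(195,1)] .nil .nil)) .nil) (.node [(51,(-1))] (.node [(83,(-1))] .nil
    .nil) (.node [] (.node [(179,1)] .nil .nil) .nil))) (.node [] (.node [] (.node [] (.node
    [(139,1)] .nil .nil) .nil) (.node [(107,(-1))] .nil .nil)) .nil)) (.node [] (.node [] (.node []
    (.node [] .nil (.node [(199,1)] .nil .nil)) (.node [] (.node [(167,1)] .nil .nil) .nil)) (.node
    [] .nil (.node [] (.node [(183,1)] .nil .nil) .nil))) (.node [(31,(-1))] (.node [(47,(-1))]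
    (.node [(79,(-1))] .nil .nil) .nil) (.node [] (.node [(95,(-1))] .nil .nil) .nil))))))

/-- table -/
noncomputable def auxE8Chain122 : Tr (List (ℕ × ℤ)) :=
    (.node [(2,(-1))] (.node [] (.node [] (.node [] (.node [] (.node [] (.node [] (.node [(129,1)]
    .nil .nil) (.node [(193,(-1))] .nil .nil)) (.node [] (.node [(161,(-1))] .nil .nil) .nil))
    (.node [] (.node [] .nil (.node [(209,(-1))] .nil .nil)) (.node [] (.node [(177,1)] .nil .nil)
    .nil))) (.node [(25,1)] (.node [] (.node [(73,(-1))] .nil .nil) .nil) (.node [] .nil (.node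
    [(121,(-1))] .nil .nil)))) (.node [(13,1)] (.node [] (.node [] .nil (.node [(101,(-1))] .nil
    .nil)) .nil) (.node [(29,1)] (.node [(45,(-1))] .nil (.node [] (.node [(173,1)] .nil .nil)
    .nil)) (.node [(61,(-1))] (.node [] .nil (.node [(221,(-1))] .nil .nil)) (.node [(125,1)] .nil
    .nil))))) (.node [] (.node [] (.node [] (.node [(35,(-1))] .nil .nil) (.node [(51,(-1))] (.node
    [(83,(-1))] .nil .nil) .nil)) (.node [] (.node [] .nil (.node [(107,(-1))] .nil .nil)) (.node
    [] (.node [] (.node [(155,1)] .nil .nil) .nil) (.node [] (.node [(187,1)] .nil .nil) .nil))))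
    (.node [] (.node [] (.node [(39,1)] (.node [] .nil (.node [(199,(-1))] .nil .nil)) .nil) (.node
    [] (.node [] (.node [(151,1)] .nil .nil) .nil) (.node [] (.node [(183,(-1))] .nil .nil) .nil)))
    (.node [] (.node [] .nil (.node [] .nil (.node [(239,1)] .nil .nil))) (.node [] (.node
    [(95,(-1))] .nil .nil) .nil))))) (.node [] (.node [] (.node [] (.node [] .nil (.node [] (.node
    [] (.node [(146,1)] .nil .nil) .nil) .nil)) (.node [] (.node [(42,1)] (.node [] .nil (.node
    [(202,(-1))] .nil .nil)) .nil) (.node [(58,1)] (.node [(90,(-1))] .nil .nil) .nil))) (.node []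
    (.node [] (.node [] (.node [] (.node [(134,1)] .nil .nil) .nil) .nil) (.node [(54,(-1))] (.node
    [(86,(-1))] .nil .nil) .nil)) (.node [] (.node [] (.node [] .nil (.node [(206,1)] .nil .nil))
    .nil) (.node [] (.node [] (.node [(158,1)] .nil .nil) .nil) (.node [] (.node [(190,1)] .nil
    .nil) .nil))))) (.node [] (.node [] (.node [(20,1)] (.node [] (.node [(68,(-1))] .nil (.node
    [(196,1)] .nil .nil)) (.node [] .nil (.node [(228,(-1))] .nil .nil))) (.node [] (.node [] .nil
    (.node [(212,(-1))] .nil .nil)) (.node [(116,(-1))] (.node [(180,1)] .nil .nil) .nil))) (.node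
    [] (.node [] (.node [] (.node [(140,1)] .nil .nil) .nil) .nil) .nil)) (.node [] (.node []
    (.node [] .nil (.node [] (.node [(168,1)] .nil .nil) .nil)) (.node [] (.node [] .nil (.node
    [(216,(-1))] .nil .nil)) (.node [(120,1)] .nil .nil))) (.node [(32,1)] (.node [(48,1)] (.node
    [(80,1)] .nil .nil) (.node [(112,(-1))] .nil .nil)) (.node [(64,(-1))] .nil .nil))))))

/-- table -/
noncomputable def auxE8Chain123 : Tr (List (ℕ × ℤ)) :=
    (.node [] (.node [] (.node [] (.node [] (.node [] (.node [(33,(-1))] .nil (.node [(96,(-1))]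
    .nil .nil)) (.node [(49,(-1))] (.node [(81,(-1))] (.node [(144,1)] .nil .nil) .nil) .nil))
    .nil) (.node [] (.node [] (.node [] (.node [] (.node [(132,1)] .nil .nil) (.node [(197,1)] .nil
    .nil)) .nil) (.node [] .nil (.node [(118,1)] (.node [(181,1)] .nil .nil) .nil))) (.node []
    (.node [] .nil (.node [(108,(-1))] .nil .nil)) .nil))) (.node [] (.node [] (.node [(18,(-1))]
    .nil .nil) (.node [] (.node [(43,(-1))] (.node [(74,(-1))] (.node [(138,1)] .nil .nil) .nil)
    .nil) (.node [(59,(-1))] .nil (.node [(124,(-1))] .nil .nil)))) (.node [] (.node [] (.node []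
    .nil (.node [(102,(-1))] (.node [(166,1)] .nil .nil) .nil)) .nil) (.node [] (.node [] (.node []
    .nil (.node [(207,1)] .nil .nil)) .nil) (.node [] (.node [] (.node [(159,1)] .nil .nil) (.node
    [(222,1)] .nil .nil)) (.node [] (.node [(191,1)] .nil .nil) .nil)))))) (.node [(3,(-1))] (.node
    [] (.node [] (.node [] (.node [(34,(-1))] (.node [(65,(-1))] .nil .nil) .nil) (.node
    [(50,(-1))] (.node [(82,(-1))] .nil .nil) (.node [(113,(-1))] .nil .nil))) (.node [] .nil
    (.node [] (.node [] (.node [(153,1)] .nil .nil) (.node [(217,1)] .nil .nil)) (.node [] (.node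
    [(185,1)] .nil .nil) .nil)))) (.node [] (.node [] (.node [(37,(-1))] (.node [(69,(-1))] .nil
    (.node [(198,1)] .nil .nil)) (.node [] .nil (.node [(229,1)] .nil .nil))) (.node [] (.node []
    (.node [(149,1)] .nil .nil) (.node [(213,1)] .nil .nil)) (.node [] (.node [(182,1)] .nil .nil)
    .nil))) (.node [] (.node [] .nil (.node [] .nil (.node [(237,1)] .nil .nil))) .nil))) (.node []
    (.node [(11,(-1))] (.node [] .nil (.node [] .nil (.node [(117,1)] .nil .nil))) (.node
    [(27,(-1))] (.node [(44,(-1))] (.node [] .nil (.node [(203,1)] .nil .nil)) (.node [] (.node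
    [(171,1)] .nil .nil) .nil)) (.node [(60,(-1))] (.node [(91,(-1))] .nil .nil) (.node
    [(125,(-1))] .nil .nil)))) (.node [] (.node [(23,(-1))] .nil (.node [(55,(-1))] (.node
    [(87,(-1))] .nil .nil) .nil)) (.node [] (.node [] (.node [] .nil (.node [(208,1)] .nil .nil))
    (.node [] (.node [(175,1)] .nil .nil) .nil)) (.node [] (.node [] (.node [(160,1)] .nil .nil)
    .nil) (.node [(127,1)] (.node [(192,1)] .nil .nil) .nil)))))))

/-- table -/
noncomputable def auxE8Chain124 : Tr (List (ℕ × ℤ)) :=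
    (.node [] (.node [(3,(-1))] (.node [] (.node [] (.node [] (.node [] (.node [(65,(-1))] .nil
    .nil) .nil) (.node [] (.node [] (.node [(145,1)] .nil .nil) .nil) (.node [(113,(-1))] .nil
    .nil))) (.node [] .nil (.node [] (.node [] .nil (.node [(217,(-1))] .nil .nil)) .nil))) (.node
    [] (.node [] (.node [] (.node [(69,(-1))] (.node [(133,1)] .nil .nil) .nil) (.node [] .nil
    (.node [(229,(-1))] .nil .nil))) (.node [] (.node [] .nil (.node [(213,(-1))] .nil .nil))
    .nil)) .nil)) (.node [] (.node [] (.node [(19,1)] .nil .nil) (.node [] (.node [] (.node []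
    (.node [(139,1)] .nil .nil) (.node [(203,(-1))] .nil .nil)) .nil) (.node [] (.node [(91,(-1))]
    .nil .nil) .nil))) (.node [] (.node [] (.node [] .nil (.node [] (.node [(167,1)] .nil .nil)
    .nil)) (.node [(55,(-1))] (.node [(87,(-1))] .nil .nil) .nil)) .nil))) (.node [] (.node []
    (.node [] (.node [] (.node [(35,1)] .nil .nil) (.node [(51,1)] (.node [(83,1)] .nil .nil)
    .nil)) (.node [] (.node [(43,(-1))] (.node [(74,(-1))] .nil .nil) .nil) (.node [(59,(-1))]
    (.node [] (.node [(154,1)] .nil .nil) .nil) (.node [(125,(-1))] (.node [(186,1)] .nil .nil)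
    .nil)))) (.node [] (.node [] (.node [(38,1)] (.node [] .nil (.node [(199,1)] .nil .nil)) (.node
    [(102,(-1))] .nil .nil)) (.node [] (.node [] (.node [(150,1)] .nil .nil) .nil) (.node [(121,1)]
    (.node [(183,1)] .nil .nil) .nil))) (.node [] (.node [] (.node [] .nil (.node [(207,(-1))] .nil
    .nil)) (.node [] .nil (.node [(238,1)] .nil .nil))) (.node [] (.node [] (.node [(159,(-1))]
    .nil .nil) (.node [(222,(-1))] .nil .nil)) (.node [] (.node [(191,(-1))] .nil .nil) .nil)))))
    (.node [] (.node [(12,1)] (.node [] (.node [] (.node [] .nil (.node [(197,(-1))] .nil .nil))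
    .nil) (.node [] .nil (.node [(119,1)] (.node [(181,(-1))] .nil .nil) .nil))) (.node [(28,1)]
    (.node [(45,1)] .nil (.node [(108,(-1))] (.node [(172,1)] .nil .nil) .nil)) (.node [(61,1)]
    .nil .nil))) (.node [] (.node [(24,1)] .nil (.node [] .nil (.node [(123,(-1))] .nil .nil)))
    (.node [(33,(-1))] (.node [(49,(-1))] (.node [(81,(-1))] .nil (.node [(209,1)] .nil .nil))
    (.node [] (.node [(176,1)] .nil .nil) .nil)) (.node [] (.node [(96,(-1))] (.node [(161,1)] .nil
    .nil) .nil) (.node [(128,1)] (.node [(193,1)] .nil .nil) .nil)))))))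

/-- table -/
noncomputable def auxE8Chain125 : Tr (List (ℕ × ℤ)) :=
    (.node [(3,(-1))] (.node [] (.node [] (.node [] (.node [] (.node [(35,1)] .nil .nil) (.node
    [(51,1)] (.node [(83,1)] (.node [(146,1)] .nil .nil) .nil) .nil)) (.node [] (.node [] (.node
    [(74,(-1))] .nil .nil) .nil) (.node [] .nil (.node [(124,(-1))] .nil .nil)))) (.node [] (.node
    [] (.node [] (.node [] (.node [(134,1)] .nil .nil) (.node [(199,(-1))] .nil .nil)) (.node
    [(102,(-1))] .nil .nil)) (.node [] .nil (.node [(120,1)] (.node [(183,(-1))] .nil .nil) .nil)))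
    (.node [] .nil (.node [] (.node [] .nil (.node [(222,1)] .nil .nil)) .nil)))) (.node [] (.node
    [] (.node [(20,(-1))] .nil .nil) (.node [] (.node [(45,1)] (.node [] (.node [(140,1)] .nil
    .nil) .nil) (.node [(108,(-1))] .nil .nil)) (.node [(61,1)] .nil .nil))) (.node [] (.node []
    (.node [] .nil (.node [] (.node [(168,1)] .nil .nil) .nil)) (.node [] .nil (.node [(123,(-1))]
    .nil .nil))) (.node [] (.node [] (.node [] .nil (.node [(209,(-1))] .nil .nil)) .nil) (.node []
    (.node [(96,(-1))] (.node [(161,(-1))] .nil .nil) .nil) (.node [] (.node [(193,(-1))] .nil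
    .nil) .nil)))))) (.node [] (.node [] (.node [] .nil (.node [] (.node [(44,1)] (.node [] .nil
    (.node [(203,1)] .nil .nil)) .nil) (.node [(60,1)] (.node [(91,(-1))] (.node [(155,1)] .nil
    .nil) .nil) (.node [] (.node [(187,1)] .nil .nil) .nil)))) (.node [] (.node [] (.node
    [(39,(-1))] .nil .nil) (.node [(55,(-1))] (.node [(87,(-1))] (.node [(151,1)] .nil .nil) .nil)
    (.node [(122,1)] .nil .nil))) (.node [] (.node [] (.node [] .nil (.node [(208,(-1))] .nil
    .nil)) (.node [] .nil (.node [(239,1)] .nil .nil))) (.node [] (.node [] (.node [(160,(-1))]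
    .nil .nil) .nil) (.node [] (.node [(192,(-1))] .nil .nil) .nil))))) (.node [] (.node
    [(13,(-1))] (.node [] (.node [] (.node [(69,(-1))] .nil (.node [(198,(-1))] .nil .nil)) (.node
    [] .nil (.node [(229,1)] .nil .nil))) (.node [] (.node [] .nil (.node [(213,1)] .nil .nil))
    (.node [] (.node [(182,(-1))] .nil .nil) .nil))) (.node [(29,(-1))] (.node [] .nil (.node []
    (.node [(173,1)] .nil .nil) .nil)) .nil)) (.node [] (.node [(25,(-1))] .nil (.node [] (.node []
    .nil (.node [(217,1)] .nil .nil)) .nil)) (.node [(34,1)] (.node [(50,1)] (.node [(82,1)] .nil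
    .nil) (.node [(113,(-1))] (.node [(177,1)] .nil .nil) .nil)) (.node [(65,(-1))] .nil (.node
    [(129,1)] .nil .nil)))))))

/-- table -/
noncomputable def auxE8Chain126 : Tr (List (ℕ × ℤ)) :=
    (.node [] (.node [] (.node [(4,(-1))] (.node [] (.node [] .nil (.node [] (.node [] .nil (.node
    [(210,1)] .nil .nil)) (.node [(115,1)] (.node [(178,1)] .nil .nil) .nil))) (.node [] (.node
    [(42,(-1))] (.node [] .nil (.node [(202,1)] .nil .nil)) .nil) .nil)) (.node [] (.node [] .nil
    (.node [(54,(-1))] (.node [(86,(-1))] (.node [(148,1)] .nil .nil) .nil) .nil)) (.node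
    [(30,(-1))] (.node [] .nil (.node [] .nil (.node [(236,1)] .nil .nil))) (.node [(62,(-1))]
    (.node [(92,(-1))] (.node [(158,1)] .nil .nil) .nil) (.node [(127,(-1))] (.node [(190,1)] .nil
    .nil) .nil))))) (.node [] (.node [(10,(-1))] (.node [] .nil (.node [(52,(-1))] (.node
    [(84,(-1))] .nil (.node [(212,1)] .nil .nil)) (.node [] (.node [(180,1)] .nil .nil) .nil)))
    (.node [] (.node [] .nil (.node [] (.node [(170,1)] .nil .nil) .nil)) (.node [] (.node []
    (.node [(156,1)] .nil .nil) (.node [(218,1)] .nil .nil)) (.node [] (.node [(188,1)] .nil .nil)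
    .nil)))) (.node [] (.node [(22,(-1))] (.node [(40,(-1))] (.node [(70,(-1))] .nil (.node
    [(200,1)] .nil .nil)) (.node [] .nil (.node [(230,1)] .nil .nil))) .nil) (.node [(32,(-1))]
    .nil (.node [(64,(-1))] .nil (.node [(129,(-1))] .nil .nil)))))) (.node [] (.node [] (.node []
    (.node [(17,(-1))] (.node [] .nil (.node [(97,(-1))] .nil .nil)) (.node [] (.node [] .nil
    (.node [(211,1)] .nil .nil)) (.node [(116,1)] (.node [(179,1)] .nil .nil) .nil))) (.node []
    (.node [] (.node [] (.node [(137,1)] .nil .nil) .nil) .nil) .nil)) (.node [] (.node [] (.node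
    [] .nil (.node [] (.node [(165,1)] .nil .nil) .nil)) .nil) (.node [(31,(-1))] (.node [] .nil
    (.node [(109,(-1))] .nil .nil)) (.node [(63,(-1))] .nil (.node [(128,(-1))] .nil .nil)))))
    (.node [] (.node [] (.node [] (.node [] (.node [] (.node [(131,1)] .nil .nil) .nil) .nil)
    (.node [(53,(-1))] (.node [(85,(-1))] .nil .nil) .nil)) (.node [] (.node [] (.node [(75,(-1))]
    .nil .nil) .nil) (.node [] (.node [] (.node [(157,1)] .nil .nil) .nil) (.node [] (.node
    [(189,1)] .nil .nil) .nil)))) (.node [] (.node [] (.node [(41,(-1))] (.node [] .nil (.node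
    [(201,1)] .nil .nil)) (.node [(103,(-1))] .nil .nil)) .nil) (.node [] (.node [] (.node []
    (.node [(143,1)] .nil .nil) .nil) (.node [(114,1)] .nil .nil)) (.node [] (.node [] .nil (.node
    [(223,1)] .nil .nil)) .nil))))))

/-- table -/
noncomputable def auxE8Chain127 : Tr (List (ℕ × ℤ)) :=
    (.node [] (.node [] (.node [] (.node [] (.node [] (.node [] .nil (.node [(97,(-1))] .nil .nil))
    (.node [(52,(-1))] (.node [(84,(-1))] .nil .nil) (.node [(118,1)] .nil .nil))) (.node [] (.node
    [(44,1)] (.node [] .nil (.node [(203,1)] .nil .nil)) .nil) .nil)) (.node [] (.node [] (.node []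
    (.node [] .nil (.node [(200,(-1))] .nil .nil)) .nil) (.node [(55,1)] (.node [(87,1)] (.node
    [(149,1)] .nil .nil) .nil) .nil)) (.node [] (.node [] .nil (.node [(109,(-1))] .nil (.node
    [(237,1)] .nil .nil))) (.node [] (.node [] (.node [(160,1)] .nil .nil) .nil) (.node [] (.node
    [(192,1)] .nil .nil) .nil))))) (.node [] (.node [(11,1)] (.node [] .nil (.node [] (.node []
    .nil (.node [(213,1)] .nil .nil)) (.node [(123,1)] (.node [(182,1)] .nil .nil) .nil))) (.node
    [] (.node [] (.node [(75,(-1))] .nil .nil) (.node [] (.node [(171,1)] .nil .nil) .nil)) (.node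
    [(62,(-1))] .nil (.node [(128,(-1))] .nil .nil)))) (.node [] (.node [(23,1)] (.node [] .nil
    (.node [(103,(-1))] .nil .nil)) .nil) (.node [(34,1)] (.node [] (.node [] .nil (.node
    [(210,(-1))] .nil .nil)) .nil) (.node [(65,1)] (.node [] .nil (.node [(223,(-1))] .nil .nil))
    .nil))))) (.node [(4,(-1))] (.node [] (.node [] (.node [(18,1)] .nil (.node [(53,(-1))] (.node
    [(85,(-1))] .nil .nil) (.node [] (.node [(181,1)] .nil .nil) .nil))) (.node [] (.node [] (.node
    [] (.node [(138,1)] .nil .nil) .nil) .nil) (.node [] (.node [] (.node [(156,(-1))] .nil .nil)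
    (.node [(218,(-1))] .nil .nil)) (.node [] (.node [(188,(-1))] .nil .nil) .nil)))) (.node []
    (.node [] (.node [(40,(-1))] (.node [(70,(-1))] .nil (.node [(201,(-1))] .nil .nil)) (.node []
    (.node [(166,1)] .nil .nil) (.node [(230,(-1))] .nil .nil))) (.node [] .nil (.node [(126,(-1))]
    .nil .nil))) (.node [(33,1)] .nil .nil))) (.node [] (.node [] (.node [] (.node [] (.node []
    (.node [(132,1)] .nil .nil) .nil) .nil) .nil) (.node [(30,(-1))] .nil (.node [(63,(-1))] (.node
    [(92,(-1))] (.node [(159,1)] .nil .nil) .nil) (.node [(129,(-1))] (.node [(191,1)] .nil .nil)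
    .nil)))) (.node [] (.node [] (.node [(43,1)] .nil .nil) .nil) (.node [] (.node [] (.node []
    (.node [(144,1)] .nil .nil) (.node [(211,(-1))] .nil .nil)) (.node [(117,1)] (.node
    [(178,(-1))] .nil .nil) .nil)) .nil)))))

/-- table -/
noncomputable def auxE8Chain128 : Tr (List (ℕ × ℤ)) :=
    (.node [] (.node [(4,(-1))] (.node [] (.node [] (.node [] .nil (.node [] .nil (.node [] (.node
    [(181,(-1))] .nil .nil) .nil))) (.node [] (.node [(45,(-1))] .nil .nil) (.node [] (.node []
    .nil (.node [(218,1)] .nil .nil)) .nil))) (.node [] (.node [] (.node [] (.node [(70,(-1))] .nil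
    .nil) (.node [] .nil (.node [(230,1)] .nil .nil))) (.node [] (.node [] (.node [(150,1)] .nil
    .nil) .nil) (.node [(126,(-1))] .nil .nil))) (.node [(33,1)] (.node [] .nil (.node [] .nil
    (.node [(238,1)] .nil .nil))) (.node [] (.node [] (.node [(161,1)] .nil .nil) .nil) (.node []
    (.node [(193,1)] .nil .nil) .nil))))) (.node [] (.node [(12,(-1))] (.node [] .nil (.node []
    .nil (.node [(124,1)] (.node [(183,1)] .nil .nil) .nil))) (.node [] (.node [] .nil (.node []
    (.node [(172,1)] .nil .nil) .nil)) (.node [] (.node [(92,(-1))] (.node [(159,(-1))] .nil .nil)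
    .nil) (.node [] (.node [(191,(-1))] .nil .nil) .nil)))) (.node [] (.node [(24,(-1))] (.node
    [(43,1)] .nil .nil) .nil) (.node [(35,(-1))] .nil .nil)))) (.node [] (.node [] (.node [] (.node
    [(19,(-1))] .nil (.node [(54,1)] (.node [(86,1)] .nil (.node [(213,(-1))] .nil .nil)) (.node
    [(121,1)] .nil .nil))) (.node [] (.node [] (.node [(75,(-1))] (.node [(139,1)] .nil .nil) .nil)
    .nil) (.node [(62,(-1))] (.node [] (.node [(157,(-1))] .nil .nil) .nil) (.node [(129,(-1))]
    (.node [(189,(-1))] .nil .nil) .nil)))) (.node [] (.node [] (.node [(41,1)] (.node [] .nil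
    (.node [(202,(-1))] .nil .nil)) (.node [(103,(-1))] (.node [(167,1)] .nil .nil) .nil)) .nil)
    (.node [] (.node [] (.node [] .nil (.node [(210,1)] .nil .nil)) .nil) (.node [(65,1)] (.node []
    .nil (.node [(223,1)] .nil .nil)) .nil)))) (.node [] (.node [] (.node [] (.node [] (.node []
    (.node [(133,1)] .nil .nil) (.node [(200,1)] .nil .nil)) .nil) (.node [(55,1)] (.node [(87,1)]
    .nil .nil) .nil)) (.node [(31,1)] (.node [] .nil (.node [(109,(-1))] .nil .nil)) (.node
    [(64,1)] .nil .nil))) (.node [] (.node [] (.node [] (.node [] .nil (.node [(203,(-1))] .nil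
    .nil)) .nil) (.node [] .nil (.node [(127,(-1))] .nil .nil))) (.node [] (.node [(52,(-1))]
    (.node [(84,(-1))] (.node [(145,1)] .nil .nil) (.node [(212,(-1))] .nil .nil)) (.node [(119,1)]
    (.node [(179,(-1))] .nil .nil) .nil)) (.node [] (.node [(97,(-1))] .nil .nil) .nil))))))

/-- table -/
noncomputable def auxE8Chain129 : Tr (List (ℕ × ℤ)) :=
    (.node [(4,(-1))] (.node [] (.node [] (.node [] (.node [] .nil (.node [(54,1)] (.node [(86,1)]
    .nil (.node [(213,1)] .nil .nil)) (.node [(120,1)] (.node [(182,(-1))] .nil .nil) .nil)))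
    (.node [] (.node [] (.node [(75,(-1))] .nil .nil) .nil) (.node [] .nil (.node [(128,(-1))] .nil
    .nil)))) (.node [] (.node [] (.node [] (.node [] .nil (.node [(202,1)] .nil .nil)) (.node
    [(103,(-1))] .nil .nil)) (.node [] (.node [] (.node [(151,1)] .nil .nil) .nil) .nil)) (.node
    [(34,(-1))] (.node [] .nil (.node [] .nil (.node [(239,1)] .nil .nil))) (.node [(65,1)] (.node
    [] .nil (.node [(223,(-1))] .nil .nil)) .nil)))) (.node [] (.node [(13,1)] (.node [] .nil
    (.node [(55,1)] (.node [(87,1)] .nil .nil) (.node [(125,1)] .nil .nil))) (.node [] (.node []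
    .nil (.node [(109,(-1))] (.node [(173,1)] .nil .nil) .nil)) (.node [(64,1)] (.node [] (.node
    [(160,(-1))] .nil .nil) .nil) (.node [] (.node [(192,(-1))] .nil .nil) .nil)))) (.node []
    (.node [(25,1)] (.node [(44,(-1))] (.node [] .nil (.node [(203,1)] .nil .nil)) .nil) (.node []
    .nil (.node [(127,(-1))] .nil .nil))) (.node [] (.node [] (.node [] .nil (.node [(212,1)] .nil
    .nil)) .nil) (.node [] (.node [(97,(-1))] .nil .nil) .nil))))) (.node [] (.node [] (.node []
    (.node [(20,1)] .nil (.node [] .nil (.node [(122,1)] (.node [(183,(-1))] .nil .nil) .nil)))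
    (.node [] (.node [] (.node [] (.node [(140,1)] .nil .nil) .nil) .nil) (.node [(63,1)] (.node
    [(92,(-1))] (.node [(158,(-1))] .nil .nil) .nil) (.node [] (.node [(190,(-1))] .nil .nil)
    .nil)))) (.node [] (.node [] (.node [(42,(-1))] .nil (.node [] (.node [(168,1)] .nil .nil)
    .nil)) .nil) (.node [(35,(-1))] (.node [] (.node [] .nil (.node [(211,1)] .nil .nil)) .nil)
    .nil))) (.node [] (.node [] (.node [] (.node [] (.node [(70,(-1))] (.node [(134,1)] .nil .nil)
    (.node [(201,1)] .nil .nil)) (.node [] .nil (.node [(230,(-1))] .nil .nil))) (.node [] .nil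
    (.node [(126,(-1))] .nil .nil))) (.node [(32,(-1))] .nil (.node [] (.node [] (.node
    [(161,(-1))] .nil .nil) .nil) (.node [] (.node [(193,(-1))] .nil .nil) .nil)))) (.node []
    (.node [] (.node [(45,(-1))] .nil .nil) (.node [] (.node [] .nil (.node [(218,(-1))] .nil
    .nil)) .nil)) (.node [] (.node [(53,1)] (.node [(85,1)] (.node [(146,1)] .nil .nil) .nil)
    (.node [] (.node [(180,(-1))] .nil .nil) .nil)) .nil)))))

/-- table -/
noncomputable def auxE8Chain130 : Tr (List (ℕ × ℤ)) :=
    (.node [] (.node [] (.node [] (.node [] (.node [(16,(-1))] (.node [] (.node [(67,(-1))] (.node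
    [(132,(-1))] .nil .nil) (.node [(197,1)] .nil .nil)) (.node [] .nil (.node [(224,1)] .nil
    .nil))) .nil) (.node [(27,(-1))] (.node [] (.node [] (.node [(136,1)] .nil .nil) .nil) (.node
    [(104,(-1))] .nil .nil)) (.node [] (.node [(91,(-1))] (.node [(155,1)] .nil .nil) .nil) .nil)))
    (.node [] (.node [] (.node [] .nil (.node [] (.node [(164,1)] .nil .nil) .nil)) (.node []
    (.node [] .nil (.node [(215,1)] .nil .nil)) .nil)) (.node [] (.node [(49,(-1))] (.node
    [(76,(-1))] .nil .nil) (.node [(112,1)] (.node [(175,1)] .nil .nil) .nil)) .nil))) (.node []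
    (.node [] (.node [] (.node [] (.node [(69,(-1))] (.node [(134,(-1))] .nil .nil) (.node
    [(199,1)] .nil .nil)) (.node [(98,(-1))] .nil .nil)) .nil) (.node [(29,(-1))] (.node
    [(47,(-1))] .nil (.node [(110,1)] .nil .nil)) .nil)) (.node [] (.node [] .nil (.node [] (.node
    [(89,(-1))] (.node [(153,1)] .nil .nil) (.node [(217,1)] .nil .nil)) .nil)) (.node [] (.node
    [(51,(-1))] (.node [] (.node [(142,1)] .nil .nil) .nil) (.node [] (.node [(177,1)] .nil .nil)
    .nil)) (.node [] .nil (.node [] (.node [(195,1)] .nil .nil) .nil)))))) (.node [] (.node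
    [(5,(-1))] (.node [(9,(-1))] (.node [] (.node [] (.node [(68,(-1))] (.node [(133,(-1))] .nil
    .nil) (.node [(198,1)] .nil .nil)) .nil) .nil) (.node [(28,(-1))] (.node [(46,(-1))] .nil .nil)
    .nil)) (.node [] (.node [] .nil (.node [] (.node [(88,(-1))] (.node [(152,1)] .nil .nil) (.node
    [(216,1)] .nil .nil)) .nil)) (.node [] (.node [(50,(-1))] .nil (.node [(113,1)] (.node
    [(176,1)] .nil .nil) .nil)) (.node [] .nil (.node [] (.node [(194,1)] .nil .nil) .nil)))))
    (.node [] (.node [] (.node [] .nil (.node [] (.node [] .nil (.node [(214,1)] .nil .nil)) .nil))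
    (.node [] (.node [(48,(-1))] .nil (.node [(111,1)] (.node [(174,1)] .nil .nil) (.node [(235,1)]
    .nil .nil))) .nil)) (.node [] (.node [(26,(-1))] (.node [] .nil (.node [] .nil (.node [(231,1)]
    .nil .nil))) (.node [] (.node [(90,(-1))] (.node [(154,1)] .nil .nil) .nil) .nil)) (.node []
    .nil (.node [(66,(-1))] .nil (.node [(131,(-1))] (.node [(196,1)] .nil .nil) .nil)))))))

/-- table -/
noncomputable def auxE8Chain131 : Tr (List (ℕ × ℤ)) :=
    (.node [] (.node [] (.node [(5,(-1))] (.node [] (.node [(17,1)] (.node [] (.node [] .nil (.node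
    [(200,1)] .nil .nil)) .nil) (.node [] (.node [] .nil (.node [(214,(-1))] .nil .nil)) .nil))
    (.node [(30,1)] (.node [(48,(-1))] (.node [] (.node [(137,1)] .nil .nil) .nil) .nil) (.node []
    (.node [(92,1)] (.node [(158,1)] .nil .nil) .nil) .nil))) (.node [] (.node [] (.node [] .nil
    (.node [] (.node [(165,1)] .nil .nil) .nil)) (.node [] (.node [(90,(-1))] (.node [(152,(-1))]
    .nil .nil) .nil) .nil)) (.node [] (.node [(52,1)] .nil (.node [(116,1)] (.node [(178,1)] .nil
    .nil) .nil)) (.node [(66,(-1))] .nil (.node [(132,(-1))] (.node [(196,(-1))] .nil .nil)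
    .nil))))) (.node [] (.node [] (.node [] (.node [] (.node [(70,1)] .nil (.node [(202,1)] .nil
    .nil)) .nil) (.node [] (.node [(88,(-1))] .nil (.node [(216,(-1))] .nil .nil)) (.node
    [(130,(-1))] .nil .nil))) (.node [(32,1)] (.node [] .nil (.node [(114,1)] (.node [(174,(-1))]
    .nil .nil) .nil)) (.node [] .nil (.node [] (.node [(194,(-1))] .nil .nil) .nil)))) (.node []
    (.node [(26,(-1))] (.node [(46,(-1))] .nil (.node [] .nil (.node [(231,(-1))] .nil .nil)))
    (.node [] (.node [] (.node [(156,1)] .nil .nil) (.node [(218,1)] .nil .nil)) .nil)) (.node []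
    (.node [(54,1)] (.node [] (.node [(143,1)] .nil .nil) .nil) (.node [(126,1)] (.node [(180,1)]
    .nil .nil) .nil)) (.node [(68,(-1))] .nil (.node [(134,(-1))] .nil .nil)))))) (.node [] (.node
    [] (.node [(10,1)] (.node [] (.node [] (.node [] .nil (.node [(201,1)] .nil .nil)) (.node
    [(98,(-1))] .nil .nil)) (.node [] (.node [] .nil (.node [(215,(-1))] .nil .nil)) .nil)) (.node
    [(31,1)] .nil .nil)) (.node [] .nil (.node [] (.node [(53,1)] .nil (.node [] (.node [(179,1)]
    .nil .nil) .nil)) (.node [(67,(-1))] .nil (.node [(133,(-1))] .nil .nil))))) (.node [] (.node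
    [] (.node [] .nil (.node [] (.node [(89,(-1))] .nil .nil) .nil)) (.node [] (.node [] (.node
    [(76,(-1))] .nil .nil) (.node [(115,1)] .nil (.node [(236,1)] .nil .nil))) (.node [] .nil
    (.node [] (.node [(195,(-1))] .nil .nil) .nil)))) (.node [] (.node [] (.node [(47,(-1))] .nil
    (.node [(104,(-1))] .nil .nil)) (.node [] (.node [] (.node [(157,1)] .nil .nil) .nil) .nil))
    (.node [] .nil (.node [] (.node [] .nil (.node [(224,(-1))] .nil .nil)) .nil))))))

/-- table -/
noncomputable def auxE8Chain132 : Tr (List (ℕ × ℤ)) :=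
    (.node [] (.node [] (.node [] (.node [] (.node [(18,(-1))] (.node [] .nil (.node [(98,(-1))]
    .nil .nil)) (.node [] (.node [(88,(-1))] .nil .nil) .nil)) (.node [] (.node [(50,1)] (.node []
    (.node [(138,1)] .nil .nil) .nil) .nil) (.node [] (.node [] (.node [(160,1)] .nil .nil) .nil)
    .nil))) (.node [] (.node [] (.node [] .nil (.node [] (.node [(166,1)] .nil .nil) .nil)) (.node
    [] (.node [(91,1)] (.node [(153,(-1))] .nil .nil) .nil) .nil)) (.node [] .nil (.node [] .nil
    (.node [] (.node [(198,(-1))] .nil .nil) .nil))))) (.node [] (.node [] (.node [] (.node []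
    (.node [] .nil (.node [(203,1)] .nil .nil)) .nil) (.node [] (.node [] .nil (.node [(217,(-1))]
    .nil .nil)) .nil)) (.node [(34,(-1))] (.node [(52,1)] (.node [(76,(-1))] .nil .nil) (.node
    [(117,1)] (.node [(175,(-1))] .nil .nil) .nil)) (.node [(66,(-1))] .nil (.node [(133,(-1))]
    .nil .nil)))) (.node [] (.node [(27,1)] (.node [] .nil (.node [(104,(-1))] .nil .nil)) .nil)
    (.node [] (.node [(55,(-1))] (.node [] (.node [(144,1)] .nil .nil) (.node [(214,1)] .nil .nil))
    (.node [(127,1)] (.node [(182,1)] .nil .nil) .nil)) (.node [(69,1)] (.node [] .nil (.node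
    [(224,1)] .nil .nil)) (.node [] (.node [(200,(-1))] .nil .nil) .nil)))))) (.node [(5,(-1))]
    (.node [] (.node [(11,(-1))] (.node [] (.node [] (.node [(70,1)] .nil .nil) .nil) (.node []
    (.node [(89,(-1))] .nil .nil) (.node [(130,(-1))] .nil .nil))) (.node [(33,(-1))] .nil (.node
    [] .nil (.node [] (.node [(194,1)] .nil .nil) .nil)))) (.node [] (.node [] (.node [(46,(-1))]
    .nil (.node [] .nil (.node [(231,1)] .nil .nil))) (.node [] (.node [] (.node [(156,(-1))] .nil
    .nil) (.node [(218,(-1))] .nil .nil)) (.node [(131,(-1))] .nil .nil))) (.node [] (.node [] .nil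
    (.node [(123,1)] (.node [(181,1)] .nil .nil) .nil)) .nil))) (.node [] (.node [] .nil (.node []
    (.node [(53,1)] .nil (.node [(118,1)] (.node [(178,(-1))] .nil .nil) (.node [(237,1)] .nil
    .nil))) (.node [(67,(-1))] .nil (.node [(134,(-1))] (.node [(197,(-1))] .nil .nil) .nil))))
    (.node [] (.node [(30,1)] (.node [(49,1)] .nil .nil) (.node [] (.node [(92,1)] (.node [(159,1)]
    .nil .nil) .nil) .nil)) (.node [] (.node [] (.node [] .nil (.node [(215,1)] .nil .nil)) .nil)
    (.node [] .nil (.node [] (.node [(201,(-1))] .nil .nil) .nil)))))))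

/-- table -/
noncomputable def auxE8Chain133 : Tr (List (ℕ × ℤ)) :=
    (.node [] (.node [(5,(-1))] (.node [] (.node [] (.node [(19,1)] (.node [] (.node [(70,1)] .nil
    .nil) .nil) (.node [] .nil (.node [(130,(-1))] .nil .nil))) (.node [(33,(-1))] (.node
    [(51,(-1))] (.node [] (.node [(139,1)] .nil .nil) .nil) .nil) (.node [] (.node [] (.node
    [(161,1)] .nil .nil) .nil) .nil))) (.node [] (.node [] (.node [] .nil (.node [] (.node
    [(167,1)] .nil .nil) (.node [(231,(-1))] .nil .nil))) (.node [] (.node [] (.node [(154,(-1))]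
    .nil .nil) (.node [(218,1)] .nil .nil)) (.node [(131,(-1))] .nil .nil))) (.node [] (.node []
    .nil (.node [(121,1)] (.node [(181,(-1))] .nil .nil) .nil)) (.node [] .nil (.node [] (.node
    [(199,(-1))] .nil .nil) .nil))))) (.node [] (.node [] .nil (.node [(35,1)] (.node [] .nil
    (.node [(119,1)] (.node [(176,(-1))] .nil .nil) .nil)) (.node [] .nil (.node [] (.node
    [(197,1)] .nil .nil) .nil)))) (.node [] (.node [(28,(-1))] (.node [(49,1)] .nil .nil) (.node []
    (.node [(92,1)] (.node [(159,(-1))] .nil .nil) .nil) .nil)) (.node [] (.node [] (.node []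
    (.node [(145,1)] .nil .nil) .nil) (.node [(128,1)] (.node [(183,1)] .nil .nil) .nil)) .nil))))
    (.node [] (.node [] (.node [(12,1)] (.node [] (.node [] (.node [] .nil (.node [(203,(-1))] .nil
    .nil)) .nil) (.node [] (.node [(90,1)] .nil (.node [(217,1)] .nil .nil)) .nil)) (.node []
    (.node [(52,1)] (.node [(76,(-1))] .nil .nil) .nil) (.node [(66,(-1))] .nil (.node [(134,(-1))]
    (.node [(195,1)] .nil .nil) .nil)))) (.node [] (.node [] (.node [(47,1)] .nil (.node
    [(104,(-1))] .nil .nil)) (.node [] (.node [] (.node [(157,(-1))] .nil .nil) .nil) .nil)) (.node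
    [] (.node [(55,(-1))] (.node [] .nil (.node [(214,(-1))] .nil .nil)) (.node [(124,1)] .nil
    .nil)) (.node [(69,1)] (.node [] .nil (.node [(224,(-1))] .nil .nil)) (.node [] (.node
    [(200,1)] .nil .nil) .nil))))) (.node [] (.node [] (.node [] .nil (.node [] (.node [(91,1)]
    .nil .nil) .nil)) (.node [] (.node [(54,(-1))] .nil (.node [] (.node [(179,(-1))] .nil .nil)
    (.node [(238,1)] .nil .nil))) (.node [(68,1)] .nil .nil))) (.node [] (.node [(31,(-1))] .nil
    (.node [] .nil (.node [(132,(-1))] .nil .nil))) (.node [] (.node [] (.node [(88,(-1))] .nil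
    (.node [(216,1)] .nil .nil)) .nil) (.node [] (.node [(98,(-1))] .nil .nil) (.node [] (.node
    [(202,(-1))] .nil .nil) .nil)))))))

/-- table -/
noncomputable def auxE8Chain134 : Tr (List (ℕ × ℤ)) :=
    (.node [(5,(-1))] (.node [] (.node [] (.node [] (.node [(20,(-1))] (.node [] (.node [] .nil
    (.node [(203,1)] .nil .nil)) .nil) (.node [] (.node [(90,1)] .nil (.node [(217,(-1))] .nil
    .nil)) .nil)) (.node [(34,1)] (.node [] (.node [(76,(-1))] (.node [(140,1)] .nil .nil) .nil)
    .nil) (.node [] .nil (.node [(133,(-1))] .nil .nil)))) (.node [] (.node [] (.node [] .nil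
    (.node [(104,(-1))] (.node [(168,1)] .nil .nil) .nil)) (.node [] (.node [] (.node [(155,(-1))]
    .nil .nil) .nil) .nil)) (.node [] (.node [(55,(-1))] .nil (.node [(122,1)] (.node [(182,(-1))]
    .nil .nil) .nil)) (.node [(69,1)] (.node [] .nil (.node [(224,1)] .nil .nil)) .nil)))) (.node
    [] (.node [] (.node [] .nil (.node [] (.node [(91,1)] .nil .nil) .nil)) (.node [] (.node
    [(54,(-1))] .nil (.node [] (.node [(177,(-1))] .nil .nil) .nil)) (.node [(68,1)] .nil (.node []
    (.node [(198,1)] .nil .nil) .nil)))) (.node [] (.node [(29,1)] (.node [(50,(-1))] .nil .nil)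
    (.node [] (.node [] (.node [(160,(-1))] .nil .nil) .nil) (.node [(132,(-1))] .nil .nil)))
    (.node [] (.node [] (.node [] (.node [(146,1)] .nil .nil) (.node [(216,(-1))] .nil .nil))
    (.node [(129,1)] .nil .nil)) (.node [] (.node [(98,(-1))] .nil .nil) (.node [] (.node [(202,1)]
    .nil .nil) .nil)))))) (.node [] (.node [] (.node [(13,(-1))] .nil (.node [(35,1)] (.node
    [(53,(-1))] .nil .nil) (.node [(67,1)] .nil (.node [] (.node [(196,1)] .nil .nil) .nil))))
    (.node [] (.node [] (.node [(48,(-1))] .nil .nil) (.node [] (.node [(92,1)] (.node [(158,(-1))]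
    .nil .nil) .nil) .nil)) (.node [] (.node [] (.node [] .nil (.node [(215,(-1))] .nil .nil))
    (.node [(125,1)] (.node [(183,(-1))] .nil .nil) .nil)) (.node [] .nil (.node [] (.node
    [(201,1)] .nil .nil) .nil))))) (.node [] (.node [] (.node [] (.node [] .nil (.node [] .nil
    (.node [(231,1)] .nil .nil))) (.node [] (.node [] .nil (.node [(218,(-1))] .nil .nil)) (.node
    [(131,(-1))] .nil .nil))) (.node [] (.node [] .nil (.node [(120,1)] (.node [(180,(-1))] .nil
    .nil) (.node [(239,1)] .nil .nil))) (.node [] .nil (.node [] (.node [(199,1)] .nil .nil)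
    .nil)))) (.node [] (.node [(32,1)] (.node [(51,(-1))] .nil .nil) (.node [] (.node [] (.node
    [(161,(-1))] .nil .nil) .nil) .nil)) (.node [] (.node [] (.node [(89,1)] .nil .nil) (.node
    [(130,(-1))] .nil .nil)) (.node [(70,1)] .nil .nil))))))

/-- table -/
noncomputable def auxE8Chain135 : Tr (List (ℕ × ℤ)) :=
    (.node [] (.node [] (.node [] (.node [(8,(-1))] (.node [] .nil (.node [(57,(-1))] (.node []
    (.node [(148,1)] .nil .nil) .nil) (.node [] (.node [(185,1)] .nil .nil) .nil))) (.node []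
    (.node [] .nil (.node [(109,1)] .nil (.node [(232,1)] .nil .nil))) (.node [(65,(-1))] (.node []
    .nil (.node [(220,1)] .nil .nil)) (.node [] (.node [(193,1)] .nil .nil) .nil)))) (.node []
    (.node [(24,(-1))] (.node [] (.node [] (.node [(137,(-1))] .nil .nil) .nil) (.node [(105,1)]
    .nil .nil)) (.node [(61,(-1))] .nil (.node [] (.node [(189,1)] .nil .nil) .nil))) (.node []
    .nil (.node [] (.node [(96,(-1))] .nil .nil) .nil)))) (.node [(6,(-1))] (.node [] (.node
    [(22,(-1))] .nil (.node [(59,(-1))] (.node [] (.node [(150,1)] .nil .nil) .nil) (.node []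
    (.node [(187,1)] .nil .nil) .nil))) (.node [] (.node [] .nil (.node [] .nil (.node [(234,1)]
    .nil .nil))) (.node [] (.node [(94,(-1))] .nil (.node [(222,1)] .nil .nil)) .nil))) (.node []
    (.node [] (.node [] (.node [] (.node [(139,(-1))] .nil .nil) .nil) (.node [(107,1)] .nil .nil))
    (.node [(63,(-1))] .nil (.node [] (.node [(191,1)] .nil .nil) .nil))) .nil))) (.node [] (.node
    [] (.node [] (.node [(21,(-1))] .nil (.node [(58,(-1))] (.node [] (.node [(149,1)] .nil .nil)
    .nil) (.node [] (.node [(186,1)] .nil .nil) .nil))) (.node [] .nil (.node [] (.node [(93,(-1))]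
    .nil (.node [(221,1)] .nil .nil)) .nil))) (.node [] (.node [(25,(-1))] (.node [] (.node []
    (.node [(138,(-1))] .nil .nil) .nil) (.node [(106,1)] .nil .nil)) (.node [(62,(-1))] .nil
    (.node [] (.node [(190,1)] .nil .nil) .nil))) (.node [] (.node [] (.node [(77,(-1))] .nil .nil)
    .nil) (.node [] (.node [(97,(-1))] .nil .nil) .nil)))) (.node [] (.node [] (.node [(23,(-1))]
    (.node [] (.node [] (.node [(136,(-1))] .nil .nil) .nil) (.node [] (.node [(163,1)] .nil .nil)
    .nil)) (.node [(60,(-1))] (.node [] (.node [(151,1)] .nil .nil) .nil) (.node [] (.node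
    [(188,1)] .nil .nil) .nil))) (.node [] .nil (.node [] (.node [(95,(-1))] .nil (.node [(223,1)]
    .nil .nil)) .nil))) (.node [] (.node [] (.node [] (.node [] (.node [(140,(-1))] .nil .nil)
    .nil) (.node [(108,1)] .nil .nil)) (.node [(64,(-1))] (.node [] .nil (.node [(219,1)] .nil
    .nil)) (.node [] (.node [(192,1)] .nil .nil) .nil))) (.node [] (.node [(56,(-1))] (.node []
    (.node [(147,1)] .nil .nil) .nil) (.node [] (.node [(184,1)] .nil .nil) .nil)) .nil)))))

/-- table -/
noncomputable def auxE8Chain136 : Tr (List (ℕ × ℤ)) :=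
    (.node [] (.node [] (.node [] (.node [(9,1)] (.node [(21,(-1))] (.node [] (.node [] (.node
    [(138,(-1))] .nil .nil) .nil) .nil) (.node [] (.node [] (.node [(152,1)] .nil .nil) .nil)
    .nil)) (.node [] .nil (.node [(69,1)] (.node [(96,(-1))] .nil .nil) (.node [] (.node [(199,1)]
    .nil .nil) .nil)))) (.node [] (.node [(28,1)] (.node [] .nil (.node [(110,1)] .nil .nil))
    (.node [] (.node [] .nil (.node [(220,(-1))] .nil .nil)) (.node [] (.node [(195,1)] .nil .nil)
    .nil))) (.node [] (.node [(59,(-1))] (.node [(77,(-1))] .nil .nil) (.node [] (.node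
    [(185,(-1))] .nil .nil) .nil)) .nil))) (.node [] (.node [] (.node [(26,1)] (.node [] (.node []
    (.node [(140,(-1))] .nil .nil) .nil) .nil) (.node [] (.node [] (.node [(154,1)] .nil .nil)
    .nil) .nil)) (.node [] (.node [(57,(-1))] .nil (.node [] .nil (.node [(235,1)] .nil .nil)))
    .nil)) (.node [] (.node [] (.node [] .nil (.node [(112,1)] .nil .nil)) (.node [(67,1)] (.node
    [(94,(-1))] .nil (.node [(222,(-1))] .nil .nil)) (.node [] (.node [(197,1)] .nil .nil) .nil)))
    (.node [] (.node [(61,(-1))] (.node [] (.node [(147,(-1))] .nil .nil) .nil) (.node [(135,(-1))]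
    (.node [(187,(-1))] .nil .nil) .nil)) .nil)))) (.node [] (.node [(6,(-1))] (.node [] (.node []
    (.node [] (.node [] (.node [(139,(-1))] .nil .nil) .nil) .nil) (.node [] (.node [] (.node
    [(153,1)] .nil .nil) .nil) .nil)) (.node [] (.node [(56,(-1))] .nil (.node [(130,1)] .nil
    .nil)) .nil)) (.node [] (.node [(29,1)] (.node [] .nil (.node [(111,1)] .nil .nil)) (.node
    [(66,1)] (.node [(93,(-1))] .nil (.node [(221,(-1))] .nil .nil)) (.node [] (.node [(196,1)]
    .nil .nil) .nil))) (.node [] (.node [(60,(-1))] .nil (.node [] (.node [(186,(-1))] .nil .nil)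
    .nil)) (.node [] (.node [(98,1)] .nil .nil) .nil)))) (.node [] (.node [] (.node [(27,1)] (.node
    [] .nil (.node [] (.node [(164,1)] .nil .nil) .nil)) (.node [] (.node [] (.node [(155,1)] .nil
    .nil) (.node [(219,(-1))] .nil .nil)) (.node [] (.node [(194,1)] .nil .nil) .nil))) (.node []
    (.node [(58,(-1))] .nil (.node [] (.node [(184,(-1))] .nil .nil) .nil)) (.node [] (.node []
    .nil (.node [(224,1)] .nil .nil)) .nil))) (.node [] (.node [] (.node [] .nil (.node [(113,1)]
    .nil (.node [(232,(-1))] .nil .nil))) (.node [(68,1)] (.node [(95,(-1))] .nil .nil) (.node []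
    (.node [(198,1)] .nil .nil) .nil))) (.node [] .nil (.node [] .nil (.node [(137,(-1))] .nil
    .nil)))))))

/-- table -/
noncomputable def auxE8Chain137 : Tr (List (ℕ × ℤ)) :=
    (.node [] (.node [] (.node [(6,(-1))] (.node [(10,(-1))] (.node [(22,1)] .nil (.node [] (.node
    [] .nil (.node [(219,1)] .nil .nil)) (.node [] (.node [(194,(-1))] .nil .nil) .nil))) (.node []
    (.node [(58,(-1))] .nil (.node [(126,1)] .nil .nil)) (.node [(70,(-1))] (.node [(97,1)] .nil
    .nil) (.node [] (.node [(202,1)] .nil .nil) .nil)))) (.node [] (.node [(31,(-1))] (.node []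
    .nil (.node [(114,1)] .nil .nil)) (.node [(68,1)] (.node [(95,(-1))] .nil .nil) .nil)) (.node
    [] (.node [(62,1)] .nil (.node [] (.node [(188,(-1))] .nil .nil) .nil)) (.node [] (.node
    [(98,1)] .nil .nil) (.node [(138,(-1))] .nil .nil))))) (.node [] (.node [] (.node [] .nil
    (.node [(66,1)] (.node [(93,(-1))] (.node [(157,1)] .nil .nil) (.node [(221,1)] .nil .nil))
    (.node [(136,(-1))] (.node [(196,(-1))] .nil .nil) .nil))) (.node [] (.node [] .nil (.node []
    (.node [(184,1)] .nil .nil) (.node [(236,1)] .nil .nil))) (.node [] (.node [] .nil (.node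
    [(224,(-1))] .nil .nil)) .nil))) (.node [] (.node [] (.node [(56,(-1))] .nil (.node [(116,1)]
    .nil (.node [(232,1)] .nil .nil))) (.node [] (.node [] .nil (.node [(223,(-1))] .nil .nil))
    (.node [] (.node [(200,1)] .nil .nil) .nil))) (.node [] (.node [(64,1)] (.node [] (.node
    [(148,(-1))] .nil .nil) .nil) (.node [] (.node [(190,(-1))] .nil .nil) .nil)) (.node [] .nil
    (.node [(140,(-1))] .nil .nil)))))) (.node [] (.node [] (.node [] (.node [(26,1)] .nil (.node
    [] (.node [] (.node [(156,1)] .nil .nil) (.node [(220,1)] .nil .nil)) (.node [] (.node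
    [(195,(-1))] .nil .nil) .nil))) (.node [] (.node [] .nil (.node [(131,1)] .nil .nil)) .nil))
    (.node [] (.node [(32,(-1))] (.node [] .nil (.node [(115,1)] .nil .nil)) .nil) (.node [] (.node
    [(63,1)] .nil (.node [(135,(-1))] (.node [(189,(-1))] .nil .nil) .nil)) (.node [] .nil (.node
    [(139,(-1))] .nil .nil))))) (.node [] (.node [] (.node [(30,(-1))] (.node [] .nil (.node []
    (.node [(165,1)] .nil .nil) .nil)) (.node [(67,1)] (.node [(94,(-1))] (.node [(158,1)] .nil
    .nil) .nil) .nil)) (.node [] (.node [] (.node [(77,(-1))] .nil .nil) .nil) .nil)) (.node []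
    (.node [] (.node [(57,(-1))] .nil .nil) (.node [] .nil (.node [] (.node [(201,1)] .nil .nil)
    .nil))) (.node [] (.node [] (.node [] (.node [(152,(-1))] .nil .nil) .nil) .nil) .nil)))))

/-- table -/
noncomputable def auxE8Chain138 : Tr (List (ℕ × ℤ)) :=
    (.node [] (.node [] (.node [] (.node [(11,1)] (.node [(23,(-1))] .nil (.node [(66,1)] (.node
    [(93,(-1))] (.node [(156,(-1))] .nil .nil) .nil) .nil)) (.node [] (.node [(60,1)] .nil (.node
    [(127,1)] .nil .nil)) (.node [] .nil (.node [] (.node [(203,1)] .nil .nil) .nil)))) (.node []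
    (.node [(33,1)] (.node [] .nil (.node [(117,1)] .nil .nil)) (.node [(69,(-1))] (.node [(96,1)]
    .nil .nil) (.node [] (.node [(200,(-1))] .nil .nil) .nil))) (.node [] (.node [] .nil (.node
    [(135,(-1))] .nil .nil)) .nil))) (.node [] (.node [] (.node [(30,(-1))] .nil (.node [] (.node
    [] (.node [(159,1)] .nil .nil) (.node [(222,1)] .nil .nil)) (.node [] (.node [(198,(-1))] .nil
    .nil) .nil))) (.node [] (.node [(62,1)] (.node [(77,(-1))] .nil .nil) (.node [] (.node
    [(185,1)] .nil .nil) (.node [(237,1)] .nil .nil))) (.node [] .nil (.node [(139,(-1))] .nil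
    .nil)))) (.node [] .nil (.node [] (.node [(65,(-1))] (.node [] (.node [(149,(-1))] .nil .nil)
    (.node [(219,(-1))] .nil .nil)) (.node [] (.node [(192,(-1))] .nil .nil) .nil)) .nil)))) (.node
    [(6,(-1))] (.node [] (.node [] (.node [(27,(-1))] .nil (.node [(67,1)] (.node [(94,(-1))] .nil
    .nil) (.node [(136,(-1))] (.node [(197,(-1))] .nil .nil) .nil))) (.node [] (.node [] .nil
    (.node [(132,1)] .nil .nil)) (.node [] (.node [] .nil (.node [(224,1)] .nil .nil)) .nil)))
    (.node [] (.node [(34,1)] (.node [(56,(-1))] .nil (.node [(118,1)] .nil (.node [(232,(-1))]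
    .nil .nil))) (.node [] (.node [] .nil (.node [(223,1)] .nil .nil)) (.node [(137,(-1))] (.node
    [(201,(-1))] .nil .nil) .nil))) (.node [] (.node [] .nil (.node [] (.node [(191,(-1))] .nil
    .nil) .nil)) .nil))) (.node [] (.node [] (.node [] (.node [] .nil (.node [] (.node [(166,1)]
    .nil .nil) .nil)) (.node [] (.node [] (.node [(160,1)] .nil .nil) .nil) .nil)) (.node [] (.node
    [(63,1)] .nil (.node [] (.node [(188,1)] .nil .nil) .nil)) (.node [] (.node [(98,1)] .nil .nil)
    (.node [(140,(-1))] .nil .nil)))) (.node [] (.node [] (.node [(59,1)] .nil (.node [(123,1)]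
    .nil .nil)) (.node [(70,(-1))] (.node [(97,1)] .nil .nil) .nil)) (.node [] (.node [] (.node []
    (.node [(153,(-1))] .nil .nil) (.node [(220,(-1))] .nil .nil)) (.node [] (.node [(194,1)] .nil
    .nil) .nil)) .nil)))))

/-- table -/
noncomputable def auxE8Chain139 : Tr (List (ℕ × ℤ)) :=
    (.node [] (.node [(6,(-1))] (.node [] (.node [(12,(-1))] (.node [(24,1)] .nil (.node [] (.node
    [] (.node [(157,(-1))] .nil .nil) .nil) (.node [(136,(-1))] (.node [(197,1)] .nil .nil) .nil)))
    (.node [] (.node [(61,(-1))] .nil (.node [(128,1)] .nil .nil)) (.node [] (.node [] .nil (.node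
    [(224,(-1))] .nil .nil)) .nil))) (.node [] (.node [] (.node [] .nil (.node [(119,1)] .nil
    (.node [(232,1)] .nil .nil))) (.node [] (.node [] .nil (.node [(223,(-1))] .nil .nil)) (.node
    [(137,(-1))] .nil .nil))) (.node [] (.node [] .nil (.node [] (.node [(191,1)] .nil .nil) .nil))
    .nil))) (.node [] (.node [] (.node [(31,1)] .nil (.node [] .nil (.node [] (.node [(199,(-1))]
    .nil .nil) .nil))) (.node [] (.node [] .nil (.node [] (.node [(186,1)] .nil .nil) (.node
    [(238,1)] .nil .nil))) (.node [] (.node [(98,1)] .nil .nil) .nil))) (.node [] (.node [] (.node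
    [(59,1)] .nil (.node [(121,1)] .nil .nil)) (.node [(70,(-1))] (.node [(97,1)] .nil .nil) .nil))
    (.node [] (.node [] (.node [] (.node [(150,(-1))] .nil .nil) .nil) (.node [] (.node
    [(193,(-1))] .nil .nil) .nil)) .nil)))) (.node [] (.node [] (.node [] (.node [(28,1)] .nil
    (.node [(68,(-1))] (.node [(95,1)] (.node [(159,(-1))] .nil .nil) (.node [(222,(-1))] .nil
    .nil)) .nil)) (.node [] (.node [(62,1)] (.node [(77,(-1))] .nil .nil) (.node [(133,1)] .nil
    .nil)) (.node [] .nil (.node [(140,(-1))] .nil .nil)))) (.node [] (.node [(35,(-1))] (.node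
    [(57,1)] .nil .nil) (.node [] .nil (.node [] (.node [(202,(-1))] .nil .nil) .nil))) (.node []
    (.node [(65,(-1))] (.node [] .nil (.node [(219,1)] .nil .nil)) .nil) .nil))) (.node [] (.node
    [] (.node [(33,1)] (.node [] .nil (.node [] (.node [(167,1)] .nil .nil) .nil)) (.node
    [(69,(-1))] (.node [(96,1)] (.node [(161,1)] .nil .nil) .nil) (.node [] (.node [(200,1)] .nil
    .nil) .nil))) (.node [] (.node [(64,(-1))] .nil (.node [(135,(-1))] (.node [(189,1)] .nil .nil)
    .nil)) .nil)) (.node [] (.node [] (.node [] .nil (.node [(124,1)] .nil .nil)) (.node [] .nil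
    (.node [(138,(-1))] (.node [(203,(-1))] .nil .nil) .nil))) (.node [] (.node [(66,1)] (.node
    [(93,(-1))] (.node [(154,(-1))] .nil .nil) (.node [(221,(-1))] .nil .nil)) (.node [] (.node
    [(195,1)] .nil .nil) .nil)) .nil)))))

/-- table -/
noncomputable def auxE8Chain140 : Tr (List (ℕ × ℤ)) :=
    (.node [(6,(-1))] (.node [] (.node [] (.node [(13,1)] (.node [(25,(-1))] .nil (.node
    [(68,(-1))] (.node [(95,1)] (.node [(158,(-1))] .nil .nil) (.node [(222,1)] .nil .nil)) (.node
    [] (.node [(198,1)] .nil .nil) .nil))) (.node [] (.node [] (.node [(77,(-1))] .nil .nil) (.node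
    [(129,1)] .nil .nil)) (.node [] .nil (.node [(139,(-1))] .nil .nil)))) (.node [] (.node
    [(35,(-1))] .nil (.node [] .nil (.node [] (.node [(202,1)] .nil .nil) .nil))) (.node [] (.node
    [(65,(-1))] .nil (.node [] (.node [(192,1)] .nil .nil) .nil)) .nil))) (.node [] (.node []
    (.node [(32,(-1))] .nil (.node [(69,(-1))] (.node [(96,1)] (.node [(161,(-1))] .nil .nil) .nil)
    .nil)) (.node [] (.node [(64,(-1))] .nil (.node [(135,(-1))] (.node [(187,1)] .nil .nil) (.node
    [(239,1)] .nil .nil))) .nil)) (.node [] (.node [] (.node [(60,(-1))] .nil (.node [(122,1)] .nil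
    .nil)) (.node [] .nil (.node [(138,(-1))] (.node [(203,1)] .nil .nil) .nil))) (.node [] (.node
    [] (.node [] (.node [(151,(-1))] .nil .nil) (.node [(221,1)] .nil .nil)) .nil) .nil)))) (.node
    [] (.node [] (.node [] (.node [(29,(-1))] .nil (.node [] (.node [] (.node [(160,(-1))] .nil
    .nil) .nil) (.node [] (.node [(199,1)] .nil .nil) .nil))) (.node [] (.node [(63,(-1))] .nil
    (.node [(134,1)] .nil .nil)) (.node [] (.node [(98,1)] .nil .nil) .nil))) (.node [] (.node []
    (.node [(58,(-1))] .nil (.node [(120,1)] .nil .nil)) (.node [(70,(-1))] (.node [(97,1)] .nil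
    .nil) .nil)) (.node [] (.node [] (.node [] .nil (.node [(220,1)] .nil .nil)) (.node [] (.node
    [(193,1)] .nil .nil) .nil)) .nil))) (.node [] (.node [] (.node [(34,(-1))] (.node [] .nil
    (.node [] (.node [(168,1)] .nil .nil) (.node [(232,(-1))] .nil .nil))) (.node [] (.node [] .nil
    (.node [(223,1)] .nil .nil)) (.node [(137,(-1))] (.node [(201,1)] .nil .nil) .nil))) (.node []
    (.node [] .nil (.node [] (.node [(190,1)] .nil .nil) .nil)) .nil)) (.node [] (.node [] (.node
    [(61,(-1))] .nil (.node [(125,1)] .nil .nil)) (.node [] (.node [] .nil (.node [(224,1)] .nil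
    .nil)) .nil)) (.node [] (.node [(67,(-1))] (.node [(94,1)] (.node [(155,(-1))] .nil .nil) .nil)
    (.node [(136,(-1))] (.node [(196,1)] .nil .nil) .nil)) .nil)))))

/-- table -/
noncomputable def auxE8Chain141 : Tr (List (ℕ × ℤ)) :=
    (.node [] (.node [] (.node [] (.node [] (.node [] (.node [(41,(-1))] .nil (.node [(107,1)] .nil
    .nil)) .nil) (.node [] (.node [] (.node [] .nil (.node [(209,1)] .nil .nil)) (.node [] (.node
    [(172,1)] .nil .nil) (.node [(233,1)] .nil .nil))) .nil)) (.node [] (.node [] (.node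
    [(45,(-1))] (.node [(72,(-1))] (.node [(143,(-1))] .nil .nil) (.node [(205,1)] .nil .nil))
    .nil) .nil) (.node [(37,(-1))] (.node [] (.node [] (.node [(150,1)] .nil .nil) (.node [(213,1)]
    .nil .nil)) .nil) (.node [] (.node [(102,(-1))] .nil .nil) .nil)))) (.node [(7,(-1))] (.node []
    (.node [] (.node [(43,(-1))] .nil (.node [(109,1)] .nil .nil)) .nil) (.node [] (.node [] (.node
    [] (.node [(148,1)] .nil .nil) (.node [(211,1)] .nil .nil)) .nil) (.node [] (.node [(100,(-1))]
    .nil .nil) .nil))) (.node [] (.node [] (.node [] (.node [(74,(-1))] (.node [(145,(-1))] .nil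
    .nil) (.node [(207,1)] .nil .nil)) (.node [] (.node [(170,1)] .nil .nil) .nil)) .nil) (.node
    [(39,(-1))] .nil (.node [] (.node [(105,1)] .nil .nil) .nil))))) (.node [] (.node [] (.node []
    (.node [] (.node [(42,(-1))] .nil (.node [(108,1)] .nil (.node [(225,1)] .nil .nil))) .nil)
    (.node [] (.node [] (.node [] (.node [(147,1)] .nil .nil) (.node [(210,1)] .nil .nil)) (.node
    [] (.node [(173,1)] .nil .nil) (.node [(234,1)] .nil .nil))) (.node [] (.node [(99,(-1))] .nil
    .nil) .nil))) (.node [] (.node [] (.node [] (.node [(73,(-1))] (.node [(144,(-1))] .nil .nil)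
    (.node [(206,1)] .nil .nil)) (.node [] (.node [(169,1)] .nil .nil) .nil)) .nil) (.node
    [(38,(-1))] (.node [] (.node [] (.node [(151,1)] .nil .nil) .nil) .nil) (.node [] (.node
    [(103,(-1))] .nil .nil) .nil)))) (.node [(8,(-1))] (.node [] (.node [] (.node [(44,(-1))]
    (.node [(71,(-1))] (.node [(142,(-1))] .nil .nil) (.node [(204,1)] .nil .nil)) .nil) .nil)
    (.node [(36,(-1))] (.node [] (.node [] (.node [(149,1)] .nil .nil) (.node [(212,1)] .nil .nil))
    .nil) (.node [] (.node [(101,(-1))] .nil .nil) .nil))) (.node [(15,(-1))] (.node [] (.node []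
    (.node [(75,(-1))] (.node [(146,(-1))] .nil .nil) (.node [(208,1)] .nil .nil)) (.node [] (.node
    [(171,1)] .nil .nil) .nil)) .nil) (.node [(40,(-1))] .nil (.node [] (.node [(106,1)] .nil .nil)
    .nil))))))

/-- table -/
noncomputable def auxE8Chain142 : Tr (List (ℕ × ℤ)) :=
    (.node [] (.node [] (.node [] (.node [] (.node [] (.node [(47,1)] (.node [(72,(-1))] (.node
    [(144,(-1))] .nil .nil) (.node [(207,(-1))] .nil .nil)) (.node [(112,1)] .nil (.node
    [(225,(-1))] .nil .nil))) .nil) (.node [(37,(-1))] (.node [] (.node [] (.node [(147,(-1))] .nil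
    .nil) .nil) (.node [] (.node [(176,1)] .nil .nil) .nil)) (.node [] (.node [(102,(-1))] .nil
    .nil) .nil))) (.node [] (.node [] (.node [(51,1)] .nil (.node [] (.node [(169,(-1))] .nil .nil)
    .nil)) .nil) (.node [] (.node [] (.node [] (.node [(154,1)] .nil .nil) (.node [(217,1)] .nil
    .nil)) .nil) .nil))) (.node [] (.node [] (.node [] (.node [(49,1)] (.node [(74,(-1))] (.node
    [(146,(-1))] .nil .nil) (.node [(209,(-1))] .nil .nil)) .nil) .nil) (.node [(39,(-1))] (.node
    [] (.node [] (.node [(152,1)] .nil .nil) (.node [(215,1)] .nil .nil)) .nil) .nil)) (.node []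
    (.node [] (.node [] .nil (.node [] (.node [(174,1)] .nil .nil) .nil)) (.node [] (.node
    [(100,(-1))] .nil .nil) .nil)) (.node [] (.node [] .nil (.node [(141,(-1))] .nil .nil)) (.node
    [] (.node [(110,1)] .nil .nil) (.node [] (.node [(205,(-1))] .nil .nil) .nil)))))) (.node []
    (.node [(7,(-1))] (.node [] (.node [] (.node [(48,1)] (.node [(73,(-1))] (.node [(145,(-1))]
    .nil .nil) (.node [(208,(-1))] .nil .nil)) (.node [(113,1)] .nil .nil)) .nil) (.node
    [(38,(-1))] (.node [] (.node [] .nil (.node [(214,1)] .nil .nil)) (.node [] (.node [(177,1)]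
    .nil .nil) (.node [(235,1)] .nil .nil))) .nil)) (.node [] (.node [] .nil (.node [] (.node
    [(99,(-1))] .nil .nil) .nil)) (.node [] (.node [] (.node [] (.node [(155,1)] .nil .nil) .nil)
    .nil) (.node [] (.node [(104,1)] .nil .nil) (.node [] (.node [(204,(-1))] .nil .nil) .nil)))))
    (.node [(9,1)] (.node [] (.node [] (.node [(50,1)] .nil (.node [(130,1)] .nil .nil)) .nil)
    (.node [] (.node [] (.node [] (.node [(153,1)] .nil .nil) (.node [(216,1)] .nil .nil)) .nil)
    .nil)) (.node [(16,1)] (.node [(36,(-1))] (.node [] (.node [(76,1)] .nil .nil) (.node [] (.node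
    [(175,1)] .nil .nil) (.node [(233,(-1))] .nil .nil))) (.node [] (.node [(101,(-1))] .nil .nil)
    .nil)) (.node [(46,1)] .nil (.node [(71,(-1))] (.node [(111,1)] .nil .nil) (.node [(143,(-1))]
    (.node [(206,(-1))] .nil .nil) .nil)))))))

/-- table -/
noncomputable def auxE8Chain143 : Tr (List (ℕ × ℤ)) :=
    (.node [] (.node [] (.node [(7,(-1))] (.node [] (.node [] (.node [] (.node [] .nil (.node
    [(210,(-1))] .nil .nil)) (.node [(116,1)] .nil .nil)) .nil) (.node [(40,1)] (.node [] (.node []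
    (.node [(148,(-1))] .nil .nil) (.node [(216,(-1))] .nil .nil)) (.node [] (.node [(179,1)] .nil
    .nil) .nil)) (.node [] (.node [(103,1)] .nil .nil) .nil))) (.node [] (.node [] (.node
    [(54,(-1))] .nil (.node [] (.node [(170,(-1))] .nil .nil) .nil)) (.node [] (.node [(101,(-1))]
    .nil .nil) .nil)) (.node [(46,1)] (.node [] (.node [] (.node [(157,1)] .nil .nil) (.node
    [(218,1)] .nil .nil)) .nil) (.node [(71,(-1))] (.node [(104,1)] .nil .nil) (.node [(144,(-1))]
    (.node [(206,1)] .nil .nil) .nil))))) (.node [] (.node [] (.node [] (.node [(52,(-1))] (.node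
    [(75,1)] .nil (.node [(212,(-1))] .nil .nil)) (.node [(126,1)] .nil .nil)) (.node [] (.node
    [(99,(-1))] .nil .nil) (.node [(142,(-1))] .nil .nil))) (.node [(42,1)] .nil (.node [] .nil
    (.node [] (.node [(204,1)] .nil .nil) .nil)))) (.node [] (.node [(36,(-1))] (.node [] (.node
    [(76,1)] .nil (.node [(214,(-1))] .nil .nil)) (.node [] .nil (.node [(233,1)] .nil .nil)))
    .nil) (.node [(48,1)] .nil (.node [(73,(-1))] (.node [(114,1)] .nil .nil) (.node [(146,(-1))]
    .nil .nil)))))) (.node [] (.node [] (.node [] (.node [] (.node [] (.node [] .nil (.node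
    [(211,(-1))] .nil .nil)) .nil) .nil) (.node [(41,1)] (.node [] (.node [] (.node [(152,(-1))]
    .nil .nil) .nil) (.node [] (.node [(180,1)] .nil .nil) (.node [(236,1)] .nil .nil))) .nil))
    (.node [] (.node [] (.node [] .nil (.node [] (.node [(174,(-1))] .nil .nil) .nil)) .nil) (.node
    [(47,1)] (.node [] (.node [] (.node [(158,1)] .nil .nil) .nil) (.node [(141,(-1))] .nil .nil))
    (.node [(72,(-1))] .nil (.node [(145,(-1))] .nil .nil))))) (.node [(10,(-1))] (.node [] (.node
    [] (.node [(53,(-1))] .nil (.node [(131,1)] .nil .nil)) (.node [] (.node [(100,(-1))] .nil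
    .nil) .nil)) (.node [] (.node [] (.node [] (.node [(156,1)] .nil .nil) .nil) .nil) (.node []
    .nil (.node [] (.node [(205,1)] .nil .nil) .nil)))) (.node [(17,(-1))] (.node [] (.node []
    (.node [] .nil (.node [(215,(-1))] .nil .nil)) (.node [] (.node [(178,1)] .nil .nil) .nil))
    .nil) (.node [] .nil (.node [] (.node [(115,1)] .nil (.node [(225,1)] .nil .nil)) .nil))))))

/-- table -/
noncomputable def auxE8Chain144 : Tr (List (ℕ × ℤ)) :=
    (.node [] (.node [] (.node [] (.node [] (.node [] (.node [(52,(-1))] .nil .nil) (.node []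
    (.node [(99,(-1))] .nil .nil) .nil)) (.node [] (.node [] (.node [] (.node [(149,(-1))] .nil
    .nil) (.node [(217,(-1))] .nil .nil)) (.node [] (.node [(181,1)] .nil .nil) .nil)) .nil))
    (.node [] (.node [] (.node [(55,1)] (.node [] .nil (.node [(214,1)] .nil .nil)) (.node []
    (.node [(171,(-1))] .nil .nil) .nil)) (.node [] (.node [(102,1)] .nil .nil) .nil)) (.node []
    (.node [] (.node [] (.node [(159,1)] .nil .nil) .nil) (.node [(141,(-1))] .nil .nil)) (.node []
    .nil (.node [] (.node [(208,1)] .nil .nil) .nil))))) (.node [] (.node [] (.node [] (.node []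
    (.node [] .nil (.node [(213,(-1))] .nil .nil)) (.node [(127,1)] .nil .nil)) .nil) (.node
    [(44,(-1))] (.node [] (.node [] (.node [(156,(-1))] .nil .nil) .nil) .nil) (.node [(71,(-1))]
    .nil (.node [(145,(-1))] .nil .nil)))) (.node [] (.node [(37,1)] (.node [] .nil (.node []
    (.node [(178,(-1))] .nil .nil) .nil)) .nil) (.node [(50,(-1))] .nil (.node [(74,1)] (.node
    [(117,1)] .nil (.node [(225,(-1))] .nil .nil)) (.node [] (.node [(210,1)] .nil .nil) .nil))))))
    (.node [(7,(-1))] (.node [] (.node [] (.node [] (.node [(53,(-1))] (.node [(75,1)] .nil .nil)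
    (.node [(123,1)] .nil .nil)) (.node [] (.node [(100,(-1))] .nil .nil) (.node [(142,(-1))] .nil
    .nil))) (.node [(43,(-1))] (.node [] (.node [] (.node [(153,(-1))] .nil .nil) .nil) (.node []
    (.node [(182,1)] .nil .nil) (.node [(237,1)] .nil .nil))) (.node [] .nil (.node [] (.node
    [(204,(-1))] .nil .nil) .nil)))) (.node [] (.node [] (.node [] (.node [(76,1)] .nil (.node
    [(215,1)] .nil .nil)) (.node [] (.node [(175,(-1))] .nil .nil) (.node [(233,(-1))] .nil .nil)))
    (.node [] .nil (.node [(143,(-1))] .nil .nil))) (.node [(49,(-1))] (.node [] (.node [] (.node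
    [(160,1)] .nil .nil) .nil) .nil) .nil))) (.node [(11,1)] (.node [] (.node [] (.node [] .nil
    (.node [(132,1)] .nil .nil)) .nil) (.node [(46,1)] (.node [] (.node [] .nil (.node [(218,(-1))]
    .nil .nil)) .nil) (.node [(72,(-1))] (.node [(104,1)] .nil .nil) (.node [(146,(-1))] (.node
    [(207,1)] .nil .nil) .nil)))) (.node [(18,1)] (.node [(40,1)] .nil (.node [] (.node [(103,1)]
    .nil .nil) .nil)) (.node [] .nil (.node [] (.node [(118,1)] .nil .nil) (.node [] (.node
    [(211,1)] .nil .nil) .nil)))))))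

/-- table -/
noncomputable def auxE8Chain145 : Tr (List (ℕ × ℤ)) :=
    (.node [] (.node [(7,(-1))] (.node [] (.node [] (.node [] (.node [] (.node [(75,1)] .nil .nil)
    (.node [(121,1)] .nil .nil)) (.node [] .nil (.node [(142,(-1))] .nil .nil))) (.node [(43,(-1))]
    (.node [] (.node [] (.node [(150,(-1))] .nil .nil) .nil) .nil) .nil)) (.node [] (.node []
    (.node [] (.node [(76,1)] .nil .nil) (.node [] (.node [(172,(-1))] .nil .nil) (.node [(233,1)]
    .nil .nil))) (.node [] .nil (.node [(143,(-1))] .nil .nil))) (.node [(49,(-1))] .nil (.node []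
    .nil (.node [] (.node [(209,1)] .nil .nil) .nil))))) (.node [] (.node [] (.node [] (.node []
    .nil (.node [(128,1)] .nil .nil)) .nil) (.node [(45,1)] (.node [] (.node [] (.node [(157,(-1))]
    .nil .nil) (.node [(218,1)] .nil .nil)) .nil) (.node [] (.node [(104,1)] .nil .nil) (.node []
    (.node [(207,(-1))] .nil .nil) .nil)))) (.node [] (.node [(38,(-1))] (.node [] .nil (.node []
    (.node [(179,(-1))] .nil .nil) .nil)) (.node [] (.node [(103,1)] .nil .nil) .nil)) (.node
    [(51,1)] .nil (.node [] (.node [(119,1)] .nil .nil) .nil))))) (.node [] (.node [] (.node []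
    (.node [] (.node [(54,1)] (.node [] .nil (.node [(213,1)] .nil .nil)) (.node [(124,1)] .nil
    .nil)) (.node [] (.node [(101,1)] .nil .nil) .nil)) (.node [] (.node [] (.node [] (.node
    [(154,(-1))] .nil .nil) .nil) (.node [] (.node [(183,1)] .nil .nil) (.node [(238,1)] .nil
    .nil))) (.node [(71,(-1))] .nil (.node [(146,(-1))] (.node [(205,(-1))] .nil .nil) .nil))))
    (.node [] (.node [] (.node [] (.node [] .nil (.node [(216,1)] .nil .nil)) (.node [] (.node
    [(176,(-1))] .nil .nil) .nil)) .nil) (.node [] (.node [] (.node [] (.node [(161,1)] .nil .nil)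
    .nil) .nil) (.node [(74,1)] (.node [] .nil (.node [(225,1)] .nil .nil)) (.node [] (.node
    [(210,(-1))] .nil .nil) .nil))))) (.node [(12,(-1))] (.node [] (.node [] (.node [(55,1)] (.node
    [] .nil (.node [(214,(-1))] .nil .nil)) (.node [(133,1)] .nil .nil)) (.node [] (.node [(102,1)]
    .nil .nil) .nil)) (.node [(47,(-1))] (.node [] (.node [] (.node [(159,(-1))] .nil .nil) .nil)
    (.node [(141,(-1))] .nil .nil)) (.node [(73,1)] .nil .nil))) (.node [(19,(-1))] (.node
    [(41,(-1))] (.node [] (.node [] .nil (.node [(217,1)] .nil .nil)) (.node [] (.node [(181,(-1))]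
    .nil .nil) .nil)) (.node [] .nil (.node [(144,(-1))] .nil .nil))) (.node [(52,(-1))] (.node []
    (.node [(99,(-1))] .nil .nil) .nil) (.node [] .nil (.node [] (.node [(212,1)] .nil .nil)
    .nil)))))))

/-- table -/
noncomputable def auxE8Chain146 : Tr (List (ℕ × ℤ)) :=
    (.node [(7,(-1))] (.node [] (.node [] (.node [] (.node [] (.node [(54,1)] (.node [] .nil (.node
    [(213,(-1))] .nil .nil)) (.node [(122,1)] .nil .nil)) (.node [] (.node [(101,1)] .nil .nil)
    .nil)) (.node [(44,1)] (.node [] (.node [] (.node [(151,(-1))] .nil .nil) .nil) (.node []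
    (.node [(183,(-1))] .nil .nil) .nil)) (.node [] .nil (.node [(145,(-1))] .nil .nil)))) (.node
    [] (.node [] (.node [] (.node [] .nil (.node [(216,(-1))] .nil .nil)) (.node [] (.node
    [(173,(-1))] .nil .nil) .nil)) .nil) (.node [(50,1)] (.node [] (.node [] (.node [(161,(-1))]
    .nil .nil) .nil) .nil) (.node [(74,1)] (.node [] .nil (.node [(225,(-1))] .nil .nil)) .nil))))
    (.node [] (.node [] (.node [] (.node [(55,1)] .nil (.node [(129,1)] .nil .nil)) (.node []
    (.node [(102,1)] .nil .nil) .nil)) (.node [] (.node [] (.node [] (.node [(158,(-1))] .nil .nil)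
    .nil) (.node [(141,(-1))] .nil .nil)) (.node [(73,1)] .nil (.node [] (.node [(208,(-1))] .nil
    .nil) .nil)))) (.node [] (.node [(39,1)] (.node [] (.node [] .nil (.node [(217,(-1))] .nil
    .nil)) (.node [] (.node [(180,(-1))] .nil .nil) .nil)) (.node [] .nil (.node [(144,(-1))] .nil
    .nil))) (.node [] .nil (.node [] .nil (.node [] (.node [(212,(-1))] .nil .nil) .nil))))))
    (.node [] (.node [] (.node [] (.node [] (.node [] .nil (.node [(125,1)] .nil .nil)) .nil)
    (.node [(45,1)] (.node [] (.node [] (.node [(155,(-1))] .nil .nil) (.node [(218,(-1))] .nil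
    .nil)) (.node [] .nil (.node [(239,1)] .nil .nil))) (.node [(72,1)] (.node [(104,1)] .nil .nil)
    (.node [] (.node [(206,(-1))] .nil .nil) .nil)))) (.node [] (.node [] (.node [] .nil (.node []
    (.node [(177,(-1))] .nil .nil) .nil)) (.node [] (.node [(103,1)] .nil .nil) .nil)) (.node
    [(51,1)] .nil (.node [] .nil (.node [] (.node [(211,(-1))] .nil .nil) .nil))))) (.node [(13,1)]
    (.node [] (.node [] (.node [] (.node [(76,1)] .nil (.node [(215,(-1))] .nil .nil)) (.node
    [(134,1)] .nil (.node [(233,(-1))] .nil .nil))) (.node [] .nil (.node [(143,(-1))] .nil .nil)))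
    (.node [(48,1)] (.node [] (.node [] (.node [(160,(-1))] .nil .nil) .nil) .nil) (.node [] .nil
    (.node [] (.node [(209,(-1))] .nil .nil) .nil)))) (.node [(20,1)] (.node [(42,1)] (.node []
    .nil (.node [] (.node [(182,(-1))] .nil .nil) .nil)) .nil) (.node [(53,1)] (.node [] (.node
    [(100,1)] .nil .nil) (.node [(142,(-1))] .nil .nil)) (.node [(75,1)] (.node [(120,1)] .nil
    .nil) .nil))))))

/-- table -/
noncomputable def auxE8Chain147 : Tr (List (ℕ × ℤ)) :=
    (.node [] (.node [] (.node [] (.node [] (.node [] (.node [(57,(-1))] (.node [] (.node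
    [(149,(-1))] .nil .nil) .nil) .nil) .nil) (.node [] (.node [] .nil (.node [(141,1)] (.node
    [(186,1)] .nil .nil) (.node [(235,(-1))] .nil .nil))) (.node [(74,(-1))] (.node [(108,(-1))]
    .nil .nil) (.node [] (.node [(209,1)] .nil .nil) .nil)))) (.node [] (.node [(38,(-1))] (.node
    [(61,(-1))] (.node [] (.node [(152,1)] .nil .nil) .nil) .nil) (.node [] .nil (.node [] (.node
    [(205,1)] .nil .nil) .nil))) (.node [] (.node [] (.node [] .nil (.node [(222,1)] .nil .nil))
    .nil) (.node [] (.node [(113,1)] .nil .nil) .nil)))) (.node [(9,1)] (.node [] (.node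
    [(36,(-1))] (.node [(59,(-1))] (.node [] (.node [(151,(-1))] .nil .nil) .nil) (.node [(135,1)]
    .nil .nil)) .nil) (.node [] (.node [] (.node [] .nil (.node [(220,1)] .nil .nil)) .nil) (.node
    [] (.node [(111,1)] .nil .nil) .nil))) (.node [] (.node [] (.node [] (.node [] (.node [(154,1)]
    .nil .nil) .nil) (.node [] (.node [(184,1)] .nil .nil) .nil)) (.node [(72,(-1))] (.node
    [(106,(-1))] .nil .nil) (.node [] (.node [(207,1)] .nil .nil) .nil))) .nil))) (.node [] (.node
    [(8,1)] (.node [] (.node [] (.node [(58,(-1))] (.node [] (.node [(150,(-1))] .nil .nil) .nil)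
    .nil) .nil) (.node [] (.node [] (.node [] .nil (.node [(219,1)] .nil .nil)) (.node [(142,(-1))]
    (.node [(187,1)] .nil .nil) .nil)) (.node [] (.node [(110,1)] .nil .nil) .nil))) (.node []
    (.node [(39,(-1))] (.node [] (.node [] (.node [(153,1)] .nil .nil) .nil) .nil) (.node
    [(71,(-1))] (.node [(105,(-1))] .nil .nil) (.node [] (.node [(206,1)] .nil .nil) .nil))) .nil))
    (.node [] (.node [] (.node [(37,(-1))] (.node [(60,(-1))] .nil (.node [(136,(-1))] (.node
    [(169,1)] .nil .nil) .nil)) (.node [] .nil (.node [] (.node [(204,1)] .nil .nil) .nil))) (.node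
    [] (.node [] (.node [] .nil (.node [(221,1)] .nil .nil)) .nil) (.node [] (.node [(112,1)] .nil
    (.node [(225,1)] .nil .nil)) .nil))) (.node [(21,(-1))] (.node [] (.node [] (.node [(77,(-1))]
    (.node [(155,1)] .nil .nil) .nil) (.node [] (.node [(185,1)] .nil .nil) (.node [(234,(-1))]
    .nil .nil))) (.node [(73,(-1))] (.node [(107,(-1))] .nil .nil) (.node [] (.node [(208,1)] .nil
    .nil) .nil))) (.node [(56,(-1))] .nil (.node [] .nil (.node [(148,(-1))] .nil .nil)))))))

/-- table -/
noncomputable def auxE8Chain148 : Tr (List (ℕ × ℤ)) :=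
    (.node [] (.node [] (.node [(8,1)] (.node [] (.node [] .nil (.node [] .nil (.node [] (.node
    [(204,(-1))] .nil .nil) .nil))) (.node [] (.node [] (.node [] .nil (.node [(221,(-1))] .nil
    .nil)) (.node [] (.node [(189,1)] .nil .nil) (.node [(236,(-1))] .nil .nil))) (.node [(75,1)]
    (.node [(109,1)] .nil .nil) (.node [] (.node [(212,1)] .nil .nil) .nil)))) (.node [] (.node
    [(41,1)] (.node [(64,1)] .nil .nil) (.node [(73,(-1))] (.node [(107,(-1))] .nil .nil) .nil))
    (.node [(56,(-1))] (.node [] (.node [] .nil (.node [(223,1)] .nil .nil)) .nil) (.node [] .nil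
    (.node [(149,(-1))] .nil .nil))))) (.node [(10,(-1))] (.node [] (.node [] (.node [(62,1)] .nil
    .nil) (.node [(71,(-1))] (.node [(105,(-1))] .nil .nil) (.node [(147,(-1))] (.node [(206,(-1))]
    .nil .nil) .nil))) (.node [] .nil (.node [] (.node [(115,1)] .nil (.node [(225,(-1))] .nil
    .nil)) .nil))) (.node [] (.node [] (.node [] (.node [(77,(-1))] (.node [(157,1)] .nil .nil)
    (.node [(219,(-1))] .nil .nil)) (.node [] .nil (.node [(234,1)] .nil .nil))) (.node [] .nil
    (.node [] (.node [(210,1)] .nil .nil) .nil))) (.node [(58,(-1))] .nil (.node [] .nil (.node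
    [(151,(-1))] .nil .nil)))))) (.node [] (.node [] (.node [] (.node [(36,(-1))] (.node [] .nil
    (.node [(135,1)] .nil .nil)) (.node [] .nil (.node [] (.node [(205,(-1))] .nil .nil) .nil)))
    (.node [] (.node [] .nil (.node [(143,(-1))] (.node [(190,1)] .nil .nil) .nil)) (.node []
    (.node [(114,1)] .nil .nil) .nil))) (.node [] (.node [(42,1)] (.node [] (.node [] (.node
    [(156,1)] .nil .nil) .nil) (.node [] (.node [(184,(-1))] .nil .nil) .nil)) .nil) (.node
    [(57,(-1))] .nil (.node [] (.node [(126,1)] .nil .nil) (.node [(150,(-1))] .nil .nil)))))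
    (.node [] (.node [] (.node [(40,1)] (.node [(63,1)] (.node [] (.node [(152,(-1))] .nil .nil)
    .nil) (.node [(137,(-1))] (.node [(170,1)] .nil .nil) .nil)) (.node [(72,(-1))] (.node
    [(106,(-1))] .nil .nil) .nil)) (.node [] .nil (.node [] (.node [(116,1)] .nil .nil) .nil)))
    (.node [(22,1)] (.node [] (.node [] (.node [] (.node [(158,1)] .nil .nil) (.node [(220,(-1))]
    .nil .nil)) (.node [(141,1)] (.node [(188,1)] .nil .nil) .nil)) (.node [] .nil (.node [] (.node
    [(211,1)] .nil .nil) .nil))) .nil))))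

/-- table -/
noncomputable def auxE8Chain149 : Tr (List (ℕ × ℤ)) :=
    (.node [] (.node [] (.node [] (.node [] (.node [] (.node [(62,1)] .nil (.node [(135,1)] .nil
    .nil)) (.node [(71,(-1))] (.node [(105,(-1))] .nil .nil) .nil)) (.node [] (.node [] (.node []
    .nil (.node [(222,(-1))] .nil .nil)) (.node [] (.node [(191,1)] .nil .nil) (.node [(237,(-1))]
    .nil .nil))) (.node [] .nil (.node [] (.node [(213,1)] .nil .nil) .nil)))) (.node [] (.node
    [(43,(-1))] (.node [(65,(-1))] (.node [] (.node [(156,(-1))] .nil .nil) (.node [(219,1)] .nil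
    .nil)) .nil) (.node [(74,1)] (.node [(108,1)] .nil .nil) (.node [] (.node [(210,(-1))] .nil
    .nil) .nil))) (.node [] .nil (.node [] (.node [(123,1)] .nil .nil) .nil)))) (.node [(11,1)]
    (.node [] (.node [(40,1)] .nil (.node [] .nil (.node [] (.node [(208,(-1))] .nil .nil) .nil)))
    (.node [] .nil (.node [] (.node [(118,1)] .nil .nil) (.node [(150,(-1))] .nil .nil)))) (.node
    [] (.node [] (.node [] (.node [] (.node [(159,1)] .nil .nil) .nil) (.node [(141,1)] (.node
    [(188,(-1))] .nil .nil) .nil)) .nil) (.node [(60,1)] .nil .nil)))) (.node [(8,1)] (.node []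
    (.node [] (.node [(37,1)] (.node [(63,1)] .nil .nil) (.node [(72,(-1))] (.node [(106,(-1))]
    .nil .nil) (.node [(147,(-1))] (.node [(207,(-1))] .nil .nil) .nil))) (.node [] (.node [] .nil
    (.node [(144,(-1))] (.node [(192,1)] .nil .nil) .nil)) (.node [] (.node [(117,1)] .nil (.node
    [(225,1)] .nil .nil)) .nil))) (.node [] (.node [(44,(-1))] (.node [] (.node [(77,(-1))] .nil
    (.node [(220,1)] .nil .nil)) (.node [] (.node [(185,(-1))] .nil .nil) (.node [(234,(-1))] .nil
    .nil))) (.node [] .nil (.node [(148,(-1))] (.node [(211,(-1))] .nil .nil) .nil))) (.node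
    [(59,1)] .nil (.node [] (.node [(127,1)] .nil .nil) .nil)))) (.node [] (.node [] (.node []
    (.node [] (.node [] (.node [(153,(-1))] .nil .nil) .nil) (.node [(138,(-1))] (.node [(171,1)]
    .nil .nil) .nil)) .nil) (.node [(56,(-1))] (.node [] (.node [] .nil (.node [(223,(-1))] .nil
    .nil)) .nil) (.node [] .nil (.node [(151,(-1))] .nil .nil)))) (.node [(23,(-1))] (.node []
    (.node [] (.node [] (.node [(160,1)] .nil .nil) .nil) .nil) (.node [(75,1)] (.node [(109,1)]
    .nil .nil) .nil)) (.node [] (.node [] .nil (.node [] (.node [(204,1)] .nil .nil) .nil))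
    .nil)))))

/-- table -/
noncomputable def auxE8Chain150 : Tr (List (ℕ × ℤ)) :=
    (.node [] (.node [(8,1)] (.node [] (.node [] (.node [] .nil (.node [] .nil (.node [(147,(-1))]
    (.node [(207,1)] .nil .nil) .nil))) (.node [] (.node [] .nil (.node [] .nil (.node [(238,(-1))]
    .nil .nil))) (.node [] (.node [] .nil (.node [(225,(-1))] .nil .nil)) .nil))) (.node [] (.node
    [] (.node [] (.node [(77,(-1))] (.node [(157,(-1))] .nil .nil) .nil) (.node [] .nil (.node
    [(234,1)] .nil .nil))) (.node [] .nil (.node [(148,(-1))] .nil .nil))) (.node [(59,1)] .nil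
    (.node [] (.node [(124,1)] .nil .nil) .nil)))) (.node [(12,(-1))] (.node [] (.node [(41,(-1))]
    .nil (.node [] .nil (.node [] (.node [(209,(-1))] .nil .nil) .nil))) (.node [] (.node [] (.node
    [] .nil (.node [(223,1)] .nil .nil)) .nil) .nil)) (.node [] (.node [] (.node [] .nil (.node []
    (.node [(189,(-1))] .nil .nil) .nil)) (.node [(75,1)] (.node [(109,1)] .nil .nil) .nil)) (.node
    [(61,(-1))] .nil .nil)))) (.node [] (.node [] (.node [] (.node [(38,(-1))] (.node [(64,(-1))]
    .nil .nil) (.node [(73,1)] (.node [(107,1)] .nil .nil) .nil)) (.node [] (.node [] .nil (.node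
    [(145,(-1))] (.node [(193,1)] .nil .nil) .nil)) (.node [] (.node [(119,1)] .nil .nil) (.node
    [(151,(-1))] .nil .nil)))) (.node [] (.node [(45,1)] (.node [] (.node [] (.node [(159,(-1))]
    .nil .nil) (.node [(221,1)] .nil .nil)) (.node [(141,1)] (.node [(186,(-1))] .nil .nil) .nil))
    (.node [] .nil (.node [] (.node [(212,(-1))] .nil .nil) .nil))) (.node [] .nil (.node [] (.node
    [(128,1)] .nil .nil) .nil)))) (.node [] (.node [] (.node [(43,(-1))] (.node [(65,(-1))] (.node
    [] (.node [(154,(-1))] .nil .nil) (.node [(219,(-1))] .nil .nil)) (.node [(139,(-1))] (.node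
    [(172,1)] .nil .nil) .nil)) (.node [(74,1)] (.node [(108,1)] .nil .nil) (.node [] (.node
    [(210,1)] .nil .nil) .nil))) (.node [(57,1)] .nil (.node [] (.node [(121,1)] .nil .nil) .nil)))
    (.node [(24,1)] (.node [] (.node [] (.node [] (.node [(161,1)] .nil .nil) (.node [(222,1)] .nil
    .nil)) (.node [] (.node [(191,(-1))] .nil .nil) .nil)) (.node [] .nil (.node [(149,(-1))]
    (.node [(213,(-1))] .nil .nil) .nil))) (.node [(62,1)] (.node [(71,(-1))] (.node [(105,(-1))]
    .nil .nil) (.node [] (.node [(205,1)] .nil .nil) .nil)) (.node [] (.node [(135,1)] .nil .nil)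
    .nil))))))

/-- table -/
noncomputable def auxE8Chain151 : Tr (List (ℕ × ℤ)) :=
    (.node [(8,1)] (.node [] (.node [] (.node [] (.node [] (.node [(64,(-1))] .nil .nil) (.node
    [(73,1)] (.node [(107,1)] .nil .nil) (.node [] (.node [(208,1)] .nil .nil) .nil))) (.node []
    (.node [] .nil (.node [] (.node [(193,(-1))] .nil .nil) (.node [(239,(-1))] .nil .nil))) (.node
    [] .nil (.node [(150,(-1))] .nil .nil)))) (.node [] (.node [(45,1)] (.node [] (.node [] (.node
    [(158,(-1))] .nil .nil) (.node [(221,(-1))] .nil .nil)) (.node [(141,1)] .nil .nil)) (.node []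
    .nil (.node [] (.node [(212,1)] .nil .nil) .nil))) (.node [(60,(-1))] .nil (.node [] (.node
    [(125,1)] .nil .nil) .nil)))) (.node [(13,1)] (.node [] (.node [(42,1)] (.node [(65,(-1))] .nil
    .nil) (.node [(74,1)] (.node [(108,1)] .nil .nil) .nil)) (.node [] .nil (.node [] (.node
    [(120,1)] .nil .nil) .nil))) (.node [] (.node [] (.node [] (.node [] (.node [(161,(-1))] .nil
    .nil) (.node [(222,(-1))] .nil .nil)) (.node [] (.node [(190,(-1))] .nil .nil) .nil)) (.node []
    .nil (.node [(149,(-1))] (.node [(213,1)] .nil .nil) .nil))) (.node [] .nil (.node [] (.node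
    [(135,1)] .nil .nil) .nil))))) (.node [] (.node [] (.node [] (.node [(39,1)] .nil (.node []
    .nil (.node [] (.node [(209,1)] .nil .nil) .nil))) (.node [] (.node [] (.node [] .nil (.node
    [(223,(-1))] .nil .nil)) (.node [(146,(-1))] .nil .nil)) .nil)) (.node [] (.node [] (.node []
    (.node [] (.node [(160,(-1))] .nil .nil) .nil) (.node [] (.node [(187,(-1))] .nil .nil) .nil))
    (.node [(75,1)] (.node [(109,1)] .nil .nil) .nil)) (.node [(61,(-1))] .nil (.node [] (.node
    [(129,1)] .nil .nil) .nil)))) (.node [] (.node [] (.node [(44,1)] (.node [] (.node [(77,(-1))]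
    (.node [(155,(-1))] .nil .nil) (.node [(220,(-1))] .nil .nil)) (.node [(140,(-1))] (.node
    [(173,1)] .nil .nil) (.node [(234,(-1))] .nil .nil))) (.node [] .nil (.node [(148,(-1))] (.node
    [(211,1)] .nil .nil) .nil))) (.node [(58,(-1))] .nil (.node [] (.node [(122,1)] .nil .nil)
    .nil))) (.node [(25,(-1))] (.node [] (.node [] .nil (.node [] (.node [(192,(-1))] .nil .nil)
    .nil)) (.node [] (.node [] .nil (.node [(225,1)] .nil .nil)) .nil)) (.node [(63,(-1))] (.node
    [(72,1)] (.node [(106,1)] .nil .nil) (.node [(147,(-1))] (.node [(206,1)] .nil .nil) .nil))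
    .nil)))))

/-- table -/
noncomputable def auxE8Chain152 : Tr (List (ℕ × ℤ)) :=
    (.node [] (.node [] (.node [(9,(-1))] (.node [] (.node [(36,(-1))] (.node [] (.node [] (.node
    [(156,1)] .nil .nil) (.node [(219,1)] .nil .nil)) .nil) .nil) (.node [(56,(-1))] (.node [] .nil
    (.node [(143,(-1))] (.node [(195,1)] .nil .nil) .nil)) (.node [(76,(-1))] .nil (.node [] (.node
    [(216,1)] .nil .nil) .nil)))) (.node [] (.node [(47,(-1))] (.node [(68,(-1))] .nil (.node []
    (.node [(184,1)] .nil .nil) .nil)) (.node [] (.node [(112,(-1))] .nil .nil) .nil)) (.node []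
    (.node [(71,(-1))] (.node [] .nil (.node [(224,1)] .nil .nil)) (.node [] (.node [(204,1)] .nil
    .nil) .nil)) (.node [] (.node [(130,1)] .nil .nil) (.node [(153,(-1))] .nil .nil))))) (.node []
    (.node [] (.node [] (.node [(66,(-1))] (.node [(77,(-1))] (.node [(158,1)] .nil .nil) (.node
    [(221,1)] .nil .nil)) (.node [(137,(-1))] .nil .nil)) (.node [] (.node [(110,(-1))] .nil .nil)
    .nil)) (.node [(58,(-1))] .nil .nil)) (.node [] (.node [] (.node [] .nil (.node [] .nil (.node
    [(235,1)] .nil .nil))) (.node [] (.node [(115,1)] .nil (.node [(225,1)] .nil .nil)) (.node []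
    (.node [(214,1)] .nil .nil) .nil))) (.node [] (.node [(73,(-1))] .nil (.node [(148,(-1))]
    (.node [(206,1)] .nil .nil) .nil)) (.node [] .nil (.node [(155,(-1))] .nil .nil)))))) (.node []
    (.node [(10,(-1))] (.node [] (.node [] (.node [] (.node [] (.node [(157,1)] .nil .nil) (.node
    [(220,1)] .nil .nil)) (.node [(136,1)] .nil .nil)) .nil) (.node [(57,(-1))] (.node [] .nil
    (.node [] (.node [(196,1)] .nil .nil) .nil)) .nil)) (.node [] (.node [(48,(-1))] .nil (.node []
    (.node [(114,1)] .nil .nil) .nil)) (.node [] (.node [(72,(-1))] .nil (.node [(147,1)] (.node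
    [(205,1)] .nil .nil) .nil)) (.node [] (.node [(131,(-1))] .nil .nil) (.node [(154,(-1))] .nil
    .nil))))) (.node [] (.node [] (.node [(46,(-1))] (.node [(67,(-1))] .nil (.node [] (.node
    [(174,1)] .nil .nil) .nil)) (.node [] (.node [(111,(-1))] .nil .nil) .nil)) .nil) (.node
    [(26,(-1))] (.node [] (.node [] .nil (.node [(142,1)] (.node [(194,1)] .nil .nil) (.node
    [(236,1)] .nil .nil))) (.node [] (.node [(116,1)] .nil .nil) (.node [] (.node [(215,1)] .nil
    .nil) .nil))) .nil))))

/-- table -/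
noncomputable def auxE8Chain153 : Tr (List (ℕ × ℤ)) :=
    (.node [] (.node [] (.node [] (.node [] (.node [(37,1)] (.node [(66,(-1))] .nil (.node
    [(136,1)] .nil .nil)) (.node [] (.node [(110,(-1))] .nil .nil) .nil)) (.node [] (.node [] .nil
    (.node [(144,(-1))] (.node [(197,1)] .nil .nil) .nil)) (.node [] (.node [(123,1)] .nil .nil)
    (.node [] (.node [(217,1)] .nil .nil) .nil)))) (.node [] (.node [(49,1)] (.node [(69,1)] .nil
    (.node [] (.node [(185,1)] .nil .nil) .nil)) (.node [] (.node [(113,1)] .nil .nil) (.node []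
    (.node [(214,(-1))] .nil .nil) .nil))) (.node [] (.node [] .nil (.node [(147,1)] .nil .nil))
    .nil))) (.node [] (.node [] (.node [(46,(-1))] (.node [] (.node [] (.node [(160,1)] .nil .nil)
    (.node [(222,1)] .nil .nil)) (.node [(138,(-1))] .nil .nil)) .nil) (.node [(60,1)] (.node
    [(71,(-1))] .nil .nil) (.node [] .nil (.node [(154,(-1))] .nil .nil)))) (.node [] (.node []
    (.node [] .nil (.node [(142,1)] (.node [(194,(-1))] .nil .nil) .nil)) (.node [] (.node
    [(118,1)] .nil .nil) .nil)) (.node [] (.node [(74,1)] .nil (.node [(149,(-1))] (.node [(208,1)]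
    .nil .nil) .nil)) (.node [] .nil (.node [] (.node [(219,(-1))] .nil .nil) .nil)))))) (.node
    [(9,(-1))] (.node [(11,1)] (.node [] (.node [] (.node [(67,(-1))] (.node [(77,(-1))] (.node
    [(159,1)] .nil .nil) .nil) .nil) (.node [] (.node [(111,(-1))] .nil .nil) .nil)) (.node
    [(59,1)] (.node [] .nil (.node [] (.node [(198,1)] .nil .nil) .nil)) .nil)) (.node [] (.node
    [(50,1)] (.node [] .nil (.node [] .nil (.node [(235,(-1))] .nil .nil))) (.node [] (.node
    [(117,1)] .nil (.node [(225,(-1))] .nil .nil)) (.node [(152,(-1))] (.node [(215,(-1))] .nil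
    .nil) .nil))) (.node [] (.node [] .nil (.node [] (.node [(207,1)] .nil .nil) .nil)) (.node []
    (.node [(132,(-1))] .nil .nil) .nil)))) (.node [] (.node [] (.node [] (.node [] .nil (.node []
    (.node [(175,1)] .nil .nil) .nil)) .nil) (.node [] (.node [(72,(-1))] (.node [] .nil (.node
    [(224,(-1))] .nil .nil)) (.node [] (.node [(204,(-1))] .nil .nil) .nil)) (.node [] (.node
    [(130,1)] .nil .nil) (.node [(155,(-1))] .nil .nil)))) (.node [(27,1)] (.node [(56,(-1))]
    (.node [] .nil (.node [] .nil (.node [(237,1)] .nil .nil))) (.node [(76,(-1))] .nil .nil))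
    (.node [] .nil (.node [] .nil (.node [(156,(-1))] (.node [(220,(-1))] .nil .nil) .nil)))))))

/-- table -/
noncomputable def auxE8Chain154 : Tr (List (ℕ × ℤ)) :=
    (.node [] (.node [(9,(-1))] (.node [] (.node [] (.node [(38,(-1))] (.node [] (.node [(77,(-1))]
    (.node [(159,(-1))] .nil .nil) .nil) .nil) .nil) (.node [(59,1)] (.node [] .nil (.node
    [(145,(-1))] .nil .nil)) (.node [] (.node [(124,1)] .nil .nil) .nil))) (.node [] (.node []
    (.node [] .nil (.node [] (.node [(186,1)] .nil .nil) (.node [(235,1)] .nil .nil))) (.node []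
    (.node [] .nil (.node [(225,1)] .nil .nil)) (.node [(152,(-1))] .nil .nil))) (.node [] (.node
    [] .nil (.node [] (.node [(207,(-1))] .nil .nil) .nil)) .nil))) (.node [] (.node [] (.node
    [(47,1)] (.node [] (.node [] (.node [(161,1)] .nil .nil) .nil) (.node [(139,(-1))] .nil .nil))
    .nil) (.node [(61,(-1))] (.node [] (.node [] .nil (.node [(224,1)] .nil .nil)) .nil) (.node []
    (.node [(130,1)] .nil .nil) .nil))) (.node [] (.node [] (.node [] .nil (.node [] (.node
    [(195,(-1))] .nil .nil) .nil)) (.node [(76,(-1))] .nil .nil)) (.node [] (.node [] .nil (.node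
    [(150,(-1))] (.node [(209,1)] .nil .nil) .nil)) .nil)))) (.node [] (.node [(12,(-1))] (.node []
    (.node [] (.node [(68,1)] (.node [] .nil (.node [(222,(-1))] .nil .nil)) .nil) (.node [] (.node
    [(112,1)] .nil .nil) .nil)) (.node [] (.node [(71,(-1))] .nil (.node [] (.node [(199,1)] .nil
    .nil) .nil)) (.node [] .nil (.node [(155,(-1))] .nil .nil)))) (.node [] (.node [(51,(-1))]
    (.node [] .nil (.node [(142,1)] .nil .nil)) (.node [] (.node [(119,1)] .nil .nil) (.node []
    (.node [(216,(-1))] .nil .nil) .nil))) (.node [] (.node [(74,1)] .nil .nil) (.node [] (.node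
    [(133,(-1))] .nil .nil) (.node [] (.node [(219,1)] .nil .nil) .nil))))) (.node [] (.node []
    (.node [(49,1)] (.node [(69,1)] .nil (.node [] (.node [(176,1)] .nil .nil) .nil)) (.node []
    (.node [(113,1)] .nil .nil) (.node [] (.node [(214,1)] .nil .nil) .nil))) (.node [] (.node
    [(73,1)] .nil (.node [(147,1)] (.node [(205,(-1))] .nil .nil) .nil)) .nil)) (.node [(28,(-1))]
    (.node [(57,1)] (.node [] .nil (.node [] (.node [(197,(-1))] .nil .nil) (.node [(238,1)] .nil
    .nil))) (.node [] (.node [(121,1)] .nil .nil) (.node [(153,(-1))] (.node [(217,(-1))] .nil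
    .nil) .nil))) (.node [(66,(-1))] (.node [] (.node [(110,(-1))] .nil .nil) .nil) (.node []
    (.node [(136,1)] .nil .nil) (.node [(157,(-1))] (.node [(221,(-1))] .nil .nil) .nil)))))))

/-- table -/
noncomputable def auxE8Chain155 : Tr (List (ℕ × ℤ)) :=
    (.node [(9,(-1))] (.node [] (.node [] (.node [] (.node [(39,1)] (.node [(68,1)] (.node []
    (.node [(160,(-1))] .nil .nil) (.node [(222,1)] .nil .nil)) .nil) (.node [] (.node [(112,1)]
    .nil .nil) .nil)) (.node [(60,(-1))] (.node [] .nil (.node [(146,(-1))] (.node [(199,(-1))]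
    .nil .nil) .nil)) (.node [] (.node [(125,1)] .nil .nil) (.node [(154,(-1))] .nil .nil))))
    (.node [] (.node [(51,(-1))] (.node [] .nil (.node [(142,1)] (.node [(187,1)] .nil .nil) .nil))
    (.node [] .nil (.node [] (.node [(216,1)] .nil .nil) .nil))) (.node [] (.node [(74,1)] .nil
    (.node [] (.node [(208,(-1))] .nil .nil) .nil)) .nil))) (.node [] (.node [] (.node [(48,(-1))]
    (.node [(69,1)] .nil (.node [(140,(-1))] .nil .nil)) (.node [] (.node [(113,1)] .nil .nil)
    .nil)) (.node [] (.node [(73,1)] .nil (.node [(147,1)] .nil .nil)) .nil)) (.node [] (.node []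
    (.node [] .nil (.node [] (.node [(196,(-1))] .nil .nil) .nil)) (.node [] (.node [(120,1)] .nil
    .nil) (.node [(153,(-1))] (.node [(217,1)] .nil .nil) .nil))) (.node [] (.node [] .nil (.node
    [(151,(-1))] .nil .nil)) (.node [] (.node [(136,1)] .nil .nil) (.node [] (.node [(221,1)] .nil
    .nil) .nil)))))) (.node [] (.node [(13,1)] (.node [] (.node [] (.node [] (.node [] (.node
    [(161,(-1))] .nil .nil) .nil) .nil) .nil) (.node [(61,(-1))] (.node [(72,1)] (.node [] .nil
    (.node [(224,(-1))] .nil .nil)) .nil) (.node [] (.node [(130,1)] .nil .nil) .nil))) (.node []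
    (.node [] .nil (.node [(76,(-1))] .nil .nil)) (.node [] (.node [] .nil (.node [] (.node
    [(209,(-1))] .nil .nil) .nil)) (.node [] (.node [(134,(-1))] .nil .nil) (.node [] (.node
    [(220,1)] .nil .nil) .nil))))) (.node [] (.node [] (.node [(50,(-1))] (.node [] .nil (.node []
    (.node [(177,1)] .nil .nil) (.node [(235,(-1))] .nil .nil))) (.node [] (.node [] .nil (.node
    [(225,(-1))] .nil .nil)) (.node [(152,(-1))] (.node [(215,1)] .nil .nil) .nil))) (.node []
    (.node [] .nil (.node [] (.node [(206,(-1))] .nil .nil) .nil)) .nil)) (.node [(29,1)] (.node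
    [(58,(-1))] (.node [] .nil (.node [] (.node [(198,(-1))] .nil .nil) (.node [(239,1)] .nil
    .nil))) (.node [] (.node [(122,1)] .nil .nil) .nil)) (.node [(67,1)] (.node [] (.node [(111,1)]
    .nil .nil) .nil) (.node [(77,(-1))] .nil (.node [(158,(-1))] .nil .nil)))))))

/-- table -/
noncomputable def auxE8Chain156 : Tr (List (ℕ × ℤ)) :=
    (.node [] (.node [] (.node [(11,1)] (.node [] (.node [(40,(-1))] (.node [] .nil (.node
    [(137,1)] .nil .nil)) (.node [] (.node [(114,(-1))] .nil .nil) .nil)) (.node [] (.node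
    [(72,(-1))] (.node [] .nil (.node [(224,1)] .nil .nil)) (.node [] (.node [(200,1)] .nil .nil)
    .nil)) (.node [] (.node [(127,(-1))] .nil .nil) (.node [] (.node [(218,1)] .nil .nil) .nil))))
    (.node [] (.node [(52,(-1))] (.node [(70,(-1))] .nil (.node [] (.node [(188,1)] .nil .nil)
    .nil)) (.node [(76,(-1))] .nil .nil)) (.node [] (.node [] .nil (.node [(148,1)] .nil .nil))
    (.node [] (.node [(132,(-1))] .nil .nil) (.node [] (.node [(220,1)] .nil .nil) .nil))))) (.node
    [] (.node [] (.node [] (.node [] (.node [] .nil (.node [(223,1)] .nil .nil)) .nil) (.node []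
    (.node [(117,1)] .nil (.node [(225,1)] .nil .nil)) (.node [(153,(-1))] (.node [(215,1)] .nil
    .nil) .nil))) (.node [(63,(-1))] (.node [] .nil (.node [] (.node [(204,1)] .nil .nil) .nil))
    (.node [] .nil (.node [(157,(-1))] .nil .nil)))) (.node [] (.node [(56,(-1))] (.node [] .nil
    (.node [(143,1)] .nil (.node [(237,(-1))] .nil .nil))) .nil) (.node [(67,(-1))] (.node
    [(75,(-1))] .nil (.node [] (.node [(211,1)] .nil .nil) .nil)) (.node [(77,(-1))] .nil (.node
    [(160,1)] .nil .nil)))))) (.node [(10,1)] (.node [] (.node [] (.node [(46,(-1))] (.node [] .nil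
    (.node [(138,(-1))] .nil .nil)) (.node [] (.node [(115,(-1))] .nil .nil) (.node [(152,1)]
    (.node [(214,1)] .nil .nil) .nil))) (.node [(62,(-1))] (.node [] .nil (.node [] (.node
    [(201,1)] .nil .nil) .nil)) .nil)) (.node [] (.node [(53,(-1))] (.node [] .nil (.node [] (.node
    [(194,1)] .nil .nil) (.node [(236,(-1))] .nil .nil))) .nil) (.node [(66,(-1))] (.node [] .nil
    (.node [(149,(-1))] (.node [(210,1)] .nil .nil) .nil)) (.node [] .nil (.node [(159,1)] .nil
    .nil))))) (.node [] (.node [] (.node [] (.node [] .nil (.node [] (.node [(178,1)] .nil .nil)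
    .nil)) (.node [] (.node [(118,1)] .nil .nil) .nil)) (.node [] .nil (.node [] (.node [(131,1)]
    .nil .nil) (.node [(158,(-1))] (.node [(219,1)] .nil .nil) .nil)))) (.node [(30,(-1))] (.node
    [] (.node [(71,(-1))] .nil (.node [(144,(-1))] .nil .nil)) (.node [] (.node [(126,1)] .nil
    .nil) .nil)) .nil))))

/-- table -/
noncomputable def auxE8Chain157 : Tr (List (ℕ × ℤ)) :=
    (.node [] (.node [(10,1)] (.node [(12,(-1))] (.node [] (.node [(41,1)] .nil (.node [] .nil
    (.node [(152,1)] (.node [(214,(-1))] .nil .nil) .nil))) (.node [(62,(-1))] (.node [(73,1)] .nil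
    .nil) (.node [] (.node [(128,(-1))] .nil .nil) .nil))) (.node [] (.node [] (.node [] .nil
    (.node [] (.node [(189,1)] .nil .nil) (.node [(236,1)] .nil .nil))) (.node [] (.node [(121,1)]
    .nil .nil) .nil)) (.node [(66,(-1))] (.node [] .nil (.node [] (.node [(210,(-1))] .nil .nil)
    .nil)) (.node [] (.node [(133,(-1))] .nil .nil) (.node [(159,(-1))] (.node [(221,1)] .nil .nil)
    .nil))))) (.node [] (.node [] (.node [] .nil (.node [] (.node [(119,1)] .nil .nil) (.node
    [(154,(-1))] (.node [(216,1)] .nil .nil) .nil))) (.node [(64,1)] (.node [] .nil (.node []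
    (.node [(205,1)] .nil .nil) .nil)) (.node [] (.node [(131,1)] .nil .nil) (.node [] (.node
    [(219,(-1))] .nil .nil) .nil)))) (.node [] (.node [(57,1)] (.node [(71,(-1))] .nil (.node []
    .nil (.node [(238,(-1))] .nil .nil))) (.node [] (.node [(126,1)] .nil .nil) .nil)) (.node
    [(68,1)] (.node [] .nil (.node [] (.node [(212,1)] .nil .nil) .nil)) (.node [] .nil (.node
    [(161,1)] .nil .nil)))))) (.node [] (.node [] (.node [] (.node [(47,1)] (.node [] (.node []
    .nil (.node [(223,(-1))] .nil .nil)) (.node [(139,(-1))] .nil .nil)) (.node [] (.node [(116,1)]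
    .nil (.node [(225,(-1))] .nil .nil)) .nil)) (.node [] (.node [] .nil (.node [] (.node [(202,1)]
    .nil .nil) .nil)) (.node [] .nil (.node [(158,(-1))] .nil .nil)))) (.node [] (.node [(54,1)]
    (.node [] .nil (.node [(143,1)] (.node [(195,1)] .nil .nil) .nil)) .nil) (.node [] (.node
    [(75,(-1))] .nil (.node [(150,(-1))] .nil .nil)) (.node [(77,(-1))] .nil .nil)))) (.node []
    (.node [] (.node [(52,(-1))] (.node [(70,(-1))] .nil (.node [] (.node [(179,1)] .nil .nil)
    .nil)) (.node [(76,(-1))] .nil .nil)) (.node [] (.node [] .nil (.node [(148,1)] .nil .nil))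
    .nil)) (.node [(31,1)] (.node [] (.node [] (.node [] .nil (.node [(224,(-1))] .nil .nil))
    (.node [(145,(-1))] (.node [(200,(-1))] .nil .nil) .nil)) (.node [] .nil (.node [(156,(-1))]
    (.node [(218,(-1))] .nil .nil) .nil))) (.node [] (.node [] (.node [(114,(-1))] .nil .nil) .nil)
    (.node [] (.node [(137,1)] .nil .nil) .nil))))))

/-- table -/
noncomputable def auxE8Chain158 : Tr (List (ℕ × ℤ)) :=
    (.node [(10,1)] (.node [] (.node [(13,1)] (.node [] (.node [(42,(-1))] (.node [] (.node [] .nil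
    (.node [(223,1)] .nil .nil)) .nil) (.node [] (.node [(116,1)] .nil (.node [(225,1)] .nil .nil))
    (.node [] (.node [(215,(-1))] .nil .nil) .nil))) (.node [(63,1)] (.node [] .nil (.node []
    (.node [(202,(-1))] .nil .nil) .nil)) (.node [] (.node [(129,(-1))] .nil .nil) (.node
    [(157,(-1))] .nil .nil)))) (.node [] (.node [(54,1)] (.node [] .nil (.node [(143,1)] (.node
    [(190,1)] .nil .nil) .nil)) (.node [] (.node [(122,1)] .nil .nil) .nil)) (.node [(67,1)] (.node
    [(75,(-1))] .nil (.node [] (.node [(211,(-1))] .nil .nil) .nil)) (.node [(77,(-1))] (.node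
    [(134,(-1))] .nil .nil) (.node [(160,(-1))] .nil .nil))))) (.node [] (.node [] (.node [] (.node
    [(70,(-1))] .nil .nil) (.node [(76,(-1))] .nil (.node [(155,(-1))] .nil .nil))) (.node []
    (.node [] .nil (.node [(148,1)] (.node [(206,1)] .nil .nil) .nil)) (.node [] .nil (.node []
    (.node [(220,(-1))] .nil .nil) .nil)))) (.node [] (.node [(58,(-1))] (.node [(72,1)] (.node []
    .nil (.node [(224,1)] .nil .nil)) (.node [] .nil (.node [(239,(-1))] .nil .nil))) (.node []
    .nil (.node [(156,(-1))] (.node [(218,1)] .nil .nil) .nil))) (.node [] .nil (.node [] (.node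
    [(137,1)] .nil .nil) .nil))))) (.node [] (.node [] (.node [] (.node [(48,(-1))] (.node [] .nil
    (.node [(140,(-1))] .nil .nil)) (.node [] .nil (.node [] (.node [(216,(-1))] .nil .nil) .nil)))
    (.node [(64,1)] .nil (.node [] (.node [(131,1)] .nil .nil) .nil))) (.node [] (.node [] (.node
    [] .nil (.node [] (.node [(196,1)] .nil .nil) .nil)) (.node [] (.node [(126,1)] .nil .nil)
    .nil)) (.node [(68,1)] (.node [] .nil (.node [(151,(-1))] (.node [(212,(-1))] .nil .nil) .nil))
    (.node [] .nil (.node [(161,(-1))] .nil .nil))))) (.node [] (.node [] (.node [(53,1)] (.node []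
    .nil (.node [] (.node [(180,1)] .nil .nil) (.node [(236,(-1))] .nil .nil))) (.node [] (.node
    [(120,1)] .nil .nil) .nil)) (.node [] .nil (.node [] .nil (.node [] (.node [(221,(-1))] .nil
    .nil) .nil)))) (.node [(32,(-1))] (.node [] (.node [(73,1)] .nil (.node [(146,(-1))] (.node
    [(201,(-1))] .nil .nil) .nil)) .nil) (.node [] (.node [] (.node [(115,1)] .nil .nil) (.node
    [(152,1)] .nil .nil)) .nil)))))

/-- table -/
noncomputable def auxE8Chain159 : Tr (List (ℕ × ℤ)) :=
    (.node [] (.node [(11,(-1))] (.node [] (.node [] (.node [(43,(-1))] (.node [] .nil (.node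
    [(139,(-1))] .nil .nil)) (.node [] (.node [(119,1)] .nil .nil) (.node [(153,1)] .nil .nil)))
    (.node [] (.node [(74,(-1))] .nil .nil) .nil)) (.node [] (.node [] (.node [] .nil (.node []
    (.node [(191,1)] .nil .nil) (.node [(237,1)] .nil .nil))) (.node [] (.node [(124,(-1))] .nil
    .nil) (.node [(156,1)] .nil .nil))) (.node [] (.node [] .nil (.node [(150,(-1))] .nil .nil))
    (.node [] .nil (.node [] (.node [(222,1)] .nil .nil) .nil))))) (.node [] (.node [] (.node
    [(52,(-1))] .nil (.node [] .nil (.node [] (.node [(217,1)] .nil .nil) .nil))) (.node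
    [(65,(-1))] (.node [] .nil (.node [] (.node [(207,1)] .nil .nil) .nil)) (.node [] (.node
    [(132,1)] .nil .nil) .nil))) (.node [] (.node [(59,(-1))] (.node [] .nil (.node [(145,(-1))]
    (.node [(200,1)] .nil .nil) .nil)) (.node [] (.node [(127,1)] .nil .nil) .nil)) (.node
    [(69,(-1))] (.node [] .nil (.node [] (.node [(213,1)] .nil .nil) .nil)) .nil)))) (.node
    [(12,(-1))] (.node [] (.node [] (.node [(49,(-1))] (.node [(70,(-1))] .nil .nil) (.node
    [(76,(-1))] .nil (.node [(154,(-1))] .nil .nil))) (.node [] (.node [] .nil (.node [] (.node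
    [(203,1)] .nil .nil) .nil)) (.node [] .nil (.node [(160,(-1))] (.node [(219,1)] .nil .nil)
    .nil)))) (.node [] (.node [(55,(-1))] (.node [(71,(-1))] (.node [] .nil (.node [(224,1)] .nil
    .nil)) (.node [(144,1)] (.node [(197,1)] .nil .nil) (.node [(238,1)] .nil .nil))) (.node []
    .nil (.node [(157,(-1))] (.node [(218,1)] .nil .nil) .nil))) .nil)) (.node [] (.node [] (.node
    [] (.node [] .nil (.node [] (.node [(181,1)] .nil .nil) .nil)) (.node [] (.node [(123,1)] .nil
    .nil) .nil)) (.node [(66,(-1))] (.node [(75,(-1))] .nil (.node [(149,1)] (.node [(210,1)] .nil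
    .nil) .nil)) (.node [(77,(-1))] (.node [(133,(-1))] .nil .nil) (.node [(161,1)] .nil .nil))))
    (.node [(33,(-1))] (.node [(62,(-1))] .nil (.node [] (.node [(128,(-1))] .nil .nil) .nil))
    (.node [] (.node [] (.node [(117,(-1))] .nil (.node [(225,1)] .nil .nil)) (.node [] (.node
    [(214,1)] .nil .nil) .nil)) (.node [] (.node [(138,1)] .nil .nil) (.node [] (.node [(223,1)]
    .nil .nil) .nil)))))))

/-- table -/
noncomputable def auxE8Chain160 : Tr (List (ℕ × ℤ)) :=
    (.node [(11,(-1))] (.node [] (.node [] (.node [] (.node [(44,1)] (.node [(70,(-1))] .nil (.node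
    [(140,(-1))] .nil .nil)) (.node [(76,(-1))] .nil .nil)) (.node [] (.node [] .nil (.node []
    (.node [(203,(-1))] .nil .nil) .nil)) (.node [] .nil (.node [(159,(-1))] .nil .nil)))) (.node
    [] (.node [(55,(-1))] (.node [] (.node [] .nil (.node [(224,(-1))] .nil .nil)) (.node [(144,1)]
    (.node [(192,1)] .nil .nil) .nil)) (.node [] (.node [(125,(-1))] .nil .nil) (.node [] (.node
    [(218,(-1))] .nil .nil) .nil))) (.node [] (.node [] .nil (.node [(151,(-1))] .nil .nil))
    .nil))) (.node [] (.node [] (.node [(53,1)] .nil (.node [] (.node [(123,1)] .nil .nil) .nil))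
    (.node [] (.node [(75,(-1))] .nil (.node [(149,1)] (.node [(208,1)] .nil .nil) .nil)) (.node
    [(77,(-1))] .nil (.node [(161,(-1))] .nil .nil)))) (.node [] (.node [(60,1)] (.node [] .nil
    (.node [(146,(-1))] (.node [(201,1)] .nil .nil) .nil)) .nil) (.node [] (.node [] (.node [] .nil
    (.node [(225,(-1))] .nil .nil)) .nil) (.node [] (.node [(138,1)] .nil .nil) (.node [] (.node
    [(223,(-1))] .nil .nil) .nil)))))) (.node [(13,1)] (.node [] (.node [] (.node [(50,1)] .nil
    (.node [] (.node [(120,1)] .nil .nil) (.node [(155,(-1))] (.node [(217,(-1))] .nil .nil)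
    .nil))) (.node [(65,(-1))] .nil (.node [] (.node [(132,1)] .nil .nil) (.node [] (.node
    [(220,1)] .nil .nil) .nil)))) (.node [] (.node [] (.node [(72,1)] .nil (.node [] (.node
    [(198,1)] .nil .nil) (.node [(239,1)] .nil .nil))) (.node [] (.node [(127,1)] .nil .nil) (.node
    [(158,(-1))] .nil .nil))) (.node [(69,(-1))] (.node [] .nil (.node [] (.node [(213,(-1))] .nil
    .nil) .nil)) .nil))) (.node [] (.node [] (.node [] (.node [] .nil (.node [] (.node [(182,1)]
    .nil .nil) (.node [(237,(-1))] .nil .nil))) (.node [] .nil (.node [(156,1)] .nil .nil))) (.node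
    [(67,1)] (.node [] .nil (.node [] (.node [(211,1)] .nil .nil) .nil)) (.node [] (.node
    [(134,(-1))] .nil .nil) (.node [] (.node [(222,(-1))] .nil .nil) .nil)))) (.node [(34,1)]
    (.node [(63,1)] (.node [(74,(-1))] .nil .nil) (.node [] (.node [(129,(-1))] .nil .nil) .nil))
    (.node [] (.node [] (.node [(118,1)] .nil .nil) (.node [(153,1)] (.node [(215,1)] .nil .nil)
    .nil)) .nil)))))

/-- table -/
noncomputable def auxE8Chain161 : Tr (List (ℕ × ℤ)) :=
    (.node [(12,1)] (.node [(13,1)] (.node [] (.node [] (.node [(45,(-1))] .nil (.node [] (.node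
    [(121,1)] .nil .nil) (.node [(155,(-1))] (.node [(217,1)] .nil .nil) .nil))) (.node [(65,(-1))]
    .nil .nil)) (.node [] (.node [] (.node [] .nil (.node [(145,1)] (.node [(193,1)] .nil .nil)
    (.node [(239,(-1))] .nil .nil))) (.node [] .nil (.node [(158,(-1))] .nil .nil))) (.node
    [(69,(-1))] (.node [] .nil (.node [] (.node [(213,1)] .nil .nil) .nil)) .nil))) (.node []
    (.node [] (.node [(54,(-1))] .nil (.node [] (.node [(124,1)] .nil .nil) .nil)) (.node [] (.node
    [] .nil (.node [(150,1)] (.node [(209,1)] .nil .nil) .nil)) (.node [] (.node [(134,(-1))] .nil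
    .nil) (.node [] (.node [(222,1)] .nil .nil) .nil)))) (.node [] (.node [(61,(-1))] (.node
    [(74,(-1))] .nil (.node [] (.node [(202,1)] .nil .nil) .nil)) (.node [] (.node [(129,(-1))]
    .nil .nil) (.node [(159,1)] .nil .nil))) (.node [] .nil (.node [] (.node [(139,1)] .nil .nil)
    .nil))))) (.node [] (.node [] (.node [] (.node [(51,(-1))] .nil (.node [] (.node [(122,(-1))]
    .nil .nil) .nil)) (.node [] (.node [(75,(-1))] .nil .nil) (.node [(77,(-1))] (.node [(133,1)]
    .nil .nil) (.node [] (.node [(221,1)] .nil .nil) .nil)))) (.node [] (.node [] (.node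
    [(73,(-1))] .nil (.node [(146,(-1))] (.node [(199,1)] .nil .nil) .nil)) (.node [] (.node
    [(128,1)] .nil .nil) .nil)) (.node [] (.node [] (.node [] .nil (.node [(225,1)] .nil .nil))
    .nil) (.node [] .nil (.node [] (.node [(223,1)] .nil .nil) .nil))))) (.node [] (.node [] (.node
    [(55,(-1))] (.node [] (.node [] .nil (.node [(224,1)] .nil .nil)) (.node [] (.node [(183,1)]
    .nil .nil) (.node [(238,(-1))] .nil .nil))) (.node [] (.node [(125,(-1))] .nil .nil) (.node
    [(157,1)] (.node [(218,1)] .nil .nil) .nil))) (.node [(68,(-1))] (.node [] .nil (.node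
    [(151,(-1))] (.node [(212,1)] .nil .nil) .nil)) .nil)) (.node [(35,(-1))] (.node [(64,(-1))]
    (.node [] .nil (.node [] (.node [(203,1)] .nil .nil) .nil)) (.node [] .nil (.node [(160,(-1))]
    .nil .nil))) (.node [(70,(-1))] (.node [(76,(-1))] .nil (.node [(154,1)] (.node [(216,1)] .nil
    .nil) .nil)) (.node [] (.node [(140,(-1))] .nil .nil) .nil))))))

/-- table -/
noncomputable def auxE8Chain162 : Tr (List (ℕ × ℤ)) :=
    (.node [] (.node [] (.node [] (.node [] (.node [] (.node [] (.node [(85,1)] .nil .nil) (.node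
    [] (.node [(181,(-1))] .nil .nil) (.node [(230,1)] .nil .nil))) .nil) (.node [] (.node []
    (.node [(99,1)] (.node [(163,(-1))] .nil .nil) .nil) .nil) (.node [] (.node [] (.node
    [(173,(-1))] .nil .nil) .nil) .nil))) (.node [(18,(-1))] (.node [] (.node [] (.node [(89,1)]
    .nil .nil) .nil) (.node [] (.node [] (.node [(169,(-1))] .nil .nil) .nil) .nil)) (.node []
    (.node [] (.node [(103,1)] (.node [(167,(-1))] .nil .nil) .nil) .nil) (.node [(81,1)] (.node []
    (.node [(177,(-1))] .nil .nil) (.node [(226,1)] .nil .nil)) .nil)))) (.node [] (.node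
    [(16,(-1))] (.node [] (.node [] (.node [(87,1)] .nil .nil) (.node [] (.node [(183,(-1))] .nil
    .nil) (.node [(233,1)] .nil .nil))) .nil) (.node [] (.node [] (.node [(101,1)] (.node
    [(165,(-1))] .nil .nil) .nil) .nil) (.node [(79,1)] (.node [] (.node [(175,(-1))] .nil .nil)
    .nil) .nil))) (.node [(20,(-1))] (.node [] (.node [] (.node [(91,1)] .nil .nil) .nil) (.node []
    (.node [] (.node [(171,(-1))] .nil .nil) .nil) .nil)) (.node [] .nil (.node [(83,1)] (.node []
    (.node [(179,(-1))] .nil .nil) (.node [(228,1)] .nil .nil)) .nil))))) (.node [] (.node []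
    (.node [(15,(-1))] (.node [] (.node [] (.node [(86,1)] .nil .nil) (.node [] (.node [(182,(-1))]
    .nil .nil) (.node [(231,1)] .nil .nil))) .nil) (.node [] (.node [] (.node [(100,1)] (.node
    [(164,(-1))] .nil .nil) .nil) .nil) (.node [(78,1)] (.node [] (.node [(174,(-1))] .nil .nil)
    .nil) .nil))) (.node [(19,(-1))] (.node [] (.node [] (.node [(90,1)] .nil .nil) .nil) (.node []
    (.node [] (.node [(170,(-1))] .nil .nil) .nil) .nil)) (.node [] (.node [] (.node [(104,1)]
    (.node [(168,(-1))] .nil .nil) .nil) .nil) (.node [(82,1)] (.node [] (.node [(178,(-1))] .nil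
    .nil) (.node [(227,1)] .nil .nil)) .nil)))) (.node [(14,(-1))] (.node [(17,(-1))] (.node []
    (.node [] (.node [(88,1)] .nil .nil) .nil) .nil) (.node [] (.node [] (.node [(102,1)] (.node
    [(166,(-1))] .nil .nil) .nil) .nil) (.node [(80,1)] (.node [] (.node [(176,(-1))] .nil .nil)
    .nil) .nil))) (.node [] (.node [] (.node [] (.node [(92,1)] .nil .nil) .nil) (.node [] (.node
    [] (.node [(172,(-1))] .nil .nil) .nil) .nil)) (.node [] .nil (.node [(84,1)] (.node [] (.node
    [(180,(-1))] .nil .nil) (.node [(229,1)] .nil .nil)) .nil))))))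

/-- table -/
noncomputable def auxE8Chain163 : Tr (List (ℕ × ℤ)) :=
    (.node [] (.node [] (.node [] (.node [(15,(-1))] (.node [] (.node [] .nil (.node [] (.node
    [(191,(-1))] .nil .nil) .nil)) (.node [(79,1)] (.node [] (.node [(170,1)] .nil .nil) .nil)
    .nil)) (.node [] (.node [] (.node [(105,1)] .nil .nil) .nil) (.node [(87,1)] (.node [] .nil
    (.node [(227,(-1))] .nil .nil)) .nil))) (.node [(23,1)] (.node [] (.node [] (.node [(94,(-1))]
    (.node [(165,(-1))] .nil .nil) .nil) .nil) (.node [(83,1)] .nil .nil)) (.node [] (.node []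
    (.node [(109,1)] .nil .nil) .nil) (.node [] (.node [] (.node [(187,(-1))] .nil .nil) .nil)
    .nil)))) (.node [(14,(-1))] (.node [(21,1)] (.node [] (.node [] .nil (.node [] (.node
    [(193,(-1))] .nil .nil) (.node [(234,1)] .nil .nil))) (.node [(81,1)] (.node [] (.node
    [(172,1)] .nil .nil) .nil) .nil)) (.node [] (.node [] (.node [(107,1)] .nil .nil) .nil) (.node
    [] (.node [] (.node [(185,(-1))] .nil .nil) (.node [(229,(-1))] .nil .nil)) .nil))) (.node
    [(25,1)] (.node [] (.node [] (.node [(96,(-1))] (.node [(167,(-1))] .nil .nil) .nil) .nil)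
    (.node [(85,1)] .nil .nil)) (.node [] (.node [] (.node [(135,1)] .nil .nil) .nil) (.node []
    (.node [] (.node [(189,(-1))] .nil .nil) .nil) .nil))))) (.node [] (.node [] (.node [] (.node
    [] (.node [] .nil (.node [] (.node [(192,(-1))] .nil .nil) (.node [(232,1)] .nil .nil))) (.node
    [(80,1)] (.node [] (.node [(171,1)] .nil .nil) .nil) .nil)) (.node [] (.node [] (.node
    [(106,1)] .nil .nil) (.node [(162,(-1))] .nil .nil)) (.node [] (.node [] (.node [(184,(-1))]
    .nil .nil) (.node [(228,(-1))] .nil .nil)) .nil))) (.node [(24,1)] (.node [] (.node [] (.node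
    [(95,(-1))] (.node [(166,(-1))] .nil .nil) .nil) .nil) (.node [(84,1)] .nil .nil)) (.node []
    .nil (.node [] (.node [] (.node [(188,(-1))] .nil .nil) .nil) .nil)))) (.node [] (.node
    [(22,1)] (.node [] (.node [] (.node [(93,(-1))] (.node [(164,(-1))] .nil .nil) .nil) .nil)
    (.node [(82,1)] (.node [] (.node [(173,1)] .nil .nil) .nil) .nil)) (.node [] (.node [] (.node
    [(108,1)] .nil .nil) .nil) (.node [] (.node [] (.node [(186,(-1))] .nil .nil) (.node
    [(230,(-1))] .nil .nil)) .nil))) (.node [] (.node [] (.node [] (.node [(97,(-1))] (.node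
    [(168,(-1))] .nil .nil) .nil) .nil) (.node [(86,1)] (.node [] .nil (.node [(226,(-1))] .nil
    .nil)) .nil)) (.node [] (.node [(78,1)] (.node [] (.node [(169,1)] .nil .nil) .nil) .nil)
    (.node [] (.node [] (.node [(190,(-1))] .nil .nil) .nil) .nil))))))

/-- table -/
noncomputable def auxE8Chain164 : Tr (List (ℕ × ℤ)) :=
    (.node [] (.node [] (.node [] (.node [(16,1)] (.node [] (.node [] (.node [(94,(-1))] (.node
    [(166,(-1))] .nil .nil) .nil) (.node [] (.node [(197,(-1))] .nil .nil) (.node [(232,(-1))] .nil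
    .nil))) (.node [] (.node [] (.node [(174,1)] .nil .nil) .nil) .nil)) (.node [] (.node [] (.node
    [(110,1)] .nil .nil) (.node [(162,(-1))] .nil .nil)) (.node [(91,(-1))] (.node [] (.node
    [(187,1)] .nil .nil) .nil) .nil))) (.node [(27,(-1))] (.node [] .nil (.node [] (.node [] .nil
    (.node [(227,1)] .nil .nil)) .nil)) (.node [] (.node [(81,1)] .nil .nil) .nil))) (.node []
    (.node [] (.node [] (.node [] (.node [(96,(-1))] (.node [(168,(-1))] .nil .nil) .nil) (.node []
    (.node [(199,(-1))] .nil .nil) (.node [(235,1)] .nil .nil))) (.node [] (.node [] (.node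
    [(176,1)] .nil .nil) .nil) .nil)) (.node [] (.node [(79,1)] (.node [(112,1)] .nil .nil) .nil)
    .nil)) (.node [(29,(-1))] (.node [] .nil (.node [(89,(-1))] (.node [] (.node [(185,1)] .nil
    .nil) (.node [(229,1)] .nil .nil)) .nil)) (.node [] (.node [(83,1)] (.node [(136,1)] (.node
    [(169,(-1))] .nil .nil) .nil) (.node [(163,(-1))] .nil .nil)) (.node [] (.node [] (.node
    [(195,(-1))] .nil .nil) .nil) .nil))))) (.node [] (.node [(14,(-1))] (.node [(21,1)] (.node []
    (.node [] (.node [(95,(-1))] (.node [(167,(-1))] .nil .nil) .nil) (.node [] (.node [(198,(-1))]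
    .nil .nil) .nil)) (.node [] (.node [] (.node [(175,1)] .nil .nil) .nil) .nil)) (.node [] (.node
    [(78,1)] (.node [(111,1)] .nil .nil) .nil) .nil)) (.node [(28,(-1))] (.node [] .nil (.node
    [(88,(-1))] (.node [] (.node [(184,1)] .nil .nil) (.node [(228,1)] .nil .nil)) .nil)) (.node []
    (.node [(82,1)] (.node [(130,1)] .nil .nil) .nil) (.node [] (.node [] (.node [(194,(-1))] .nil
    .nil) .nil) .nil)))) (.node [] (.node [(26,(-1))] (.node [] .nil (.node [] (.node [] (.node
    [(177,1)] .nil .nil) (.node [(226,1)] .nil .nil)) .nil)) (.node [] (.node [(80,1)] (.node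
    [(113,1)] .nil .nil) .nil) (.node [] (.node [] .nil (.node [(231,(-1))] .nil .nil)) .nil)))
    (.node [] (.node [] (.node [] (.node [(98,1)] .nil .nil) .nil) (.node [(90,(-1))] (.node []
    (.node [(186,1)] .nil .nil) .nil) .nil)) (.node [] .nil (.node [(93,(-1))] (.node [] (.node
    [(196,(-1))] .nil .nil) .nil) (.node [(165,(-1))] .nil .nil)))))))

/-- table -/
noncomputable def auxE8Chain165 : Tr (List (ℕ × ℤ)) :=
    (.node [] (.node [] (.node [(14,(-1))] (.node [(17,(-1))] (.node [] (.node [] .nil (.node []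
    (.node [(200,(-1))] .nil .nil) .nil)) (.node [] (.node [] .nil (.node [(226,(-1))] .nil .nil))
    .nil)) (.node [] (.node [(80,1)] (.node [(114,1)] .nil .nil) .nil) (.node [(92,1)] (.node []
    (.node [(190,1)] .nil .nil) .nil) .nil))) (.node [(30,1)] (.node [] .nil (.node [(90,(-1))]
    (.node [] (.node [(184,(-1))] .nil .nil) .nil) .nil)) (.node [] (.node [(84,(-1))] (.node
    [(126,1)] .nil .nil) .nil) (.node [(93,(-1))] (.node [] (.node [(196,1)] .nil .nil) .nil)
    (.node [(166,(-1))] .nil .nil))))) (.node [] (.node [(26,(-1))] (.node [] (.node [] (.node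
    [(97,1)] .nil .nil) (.node [] (.node [(202,(-1))] .nil .nil) (.node [(236,1)] .nil .nil)))
    (.node [(88,(-1))] (.node [] (.node [(179,1)] .nil .nil) (.node [(228,(-1))] .nil .nil)) (.node
    [(164,(-1))] .nil .nil))) (.node [] (.node [] (.node [(116,1)] .nil .nil) .nil) (.node []
    (.node [] (.node [(194,1)] .nil .nil) (.node [(231,1)] .nil .nil)) .nil))) (.node [(32,1)]
    (.node [] (.node [(78,1)] (.node [(98,1)] .nil .nil) .nil) (.node [] (.node [] (.node [(188,1)]
    .nil .nil) (.node [(230,1)] .nil .nil)) .nil)) (.node [] (.node [(86,(-1))] (.node [(137,1)]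
    (.node [(170,(-1))] .nil .nil) .nil) .nil) (.node [(95,(-1))] .nil (.node [(168,(-1))] .nil
    .nil)))))) (.node [] (.node [] (.node [(22,(-1))] (.node [] (.node [] .nil (.node [] (.node
    [(201,(-1))] .nil .nil) .nil)) (.node [] (.node [] (.node [(178,1)] .nil .nil) (.node
    [(227,(-1))] .nil .nil)) .nil)) (.node [] (.node [] (.node [(115,1)] .nil .nil) .nil) .nil))
    (.node [(31,1)] .nil (.node [] (.node [(85,(-1))] (.node [(131,1)] .nil .nil) (.node
    [(163,(-1))] .nil .nil)) (.node [(94,(-1))] .nil (.node [(167,(-1))] .nil .nil))))) (.node []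
    (.node [] (.node [] .nil (.node [(89,(-1))] (.node [] (.node [(180,1)] .nil .nil) .nil) .nil))
    (.node [] .nil (.node [] (.node [] (.node [(195,1)] .nil .nil) .nil) .nil))) (.node [] (.node
    [] (.node [(79,1)] .nil (.node [(162,(-1))] .nil .nil)) (.node [] (.node [] (.node [(189,1)]
    .nil .nil) .nil) .nil)) (.node [] (.node [] (.node [] (.node [(174,(-1))] .nil .nil) .nil)
    .nil) (.node [] (.node [] .nil (.node [(232,1)] .nil .nil)) .nil))))))

/-- table -/
noncomputable def auxE8Chain166 : Tr (List (ℕ × ℤ)) :=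
    (.node [] (.node [] (.node [] (.node [(18,1)] (.node [] .nil (.node [(88,(-1))] (.node []
    (.node [(178,(-1))] .nil .nil) .nil) .nil)) (.node [] (.node [(82,(-1))] (.node [(117,1)] .nil
    .nil) .nil) (.node [] (.node [] (.node [(192,1)] .nil .nil) .nil) .nil))) (.node [] (.node []
    .nil (.node [(91,1)] (.node [] (.node [(185,(-1))] .nil .nil) .nil) .nil)) (.node [] (.node []
    (.node [(127,1)] .nil .nil) (.node [(163,(-1))] .nil .nil)) (.node [] (.node [] (.node
    [(198,1)] .nil .nil) .nil) .nil)))) (.node [] (.node [(27,1)] (.node [] (.node [] .nil (.node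
    [] (.node [(203,(-1))] .nil .nil) (.node [(237,1)] .nil .nil))) (.node [] (.node [] (.node
    [(181,1)] .nil .nil) (.node [(229,(-1))] .nil .nil)) .nil)) (.node [] (.node [(84,(-1))] .nil
    .nil) (.node [(93,(-1))] .nil (.node [(167,(-1))] .nil .nil)))) (.node [(34,(-1))] (.node []
    (.node [] .nil (.node [(162,(-1))] .nil .nil)) .nil) (.node [] (.node [(87,1)] (.node [(138,1)]
    (.node [(171,(-1))] .nil .nil) (.node [(226,1)] .nil .nil)) .nil) (.node [(96,1)] (.node []
    (.node [(200,1)] .nil .nil) (.node [(232,(-1))] .nil .nil)) .nil))))) (.node [(14,(-1))] (.node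
    [] (.node [(23,1)] (.node [] (.node [] (.node [(97,1)] .nil .nil) .nil) (.node [(89,(-1))] .nil
    (.node [(164,(-1))] .nil .nil))) (.node [] (.node [] (.node [(118,1)] .nil .nil) .nil) (.node
    [] (.node [] (.node [(194,(-1))] .nil .nil) (.node [(231,(-1))] .nil .nil)) .nil))) (.node
    [(33,(-1))] (.node [] (.node [(78,1)] (.node [(98,1)] .nil .nil) .nil) (.node [] (.node []
    (.node [(188,(-1))] .nil .nil) (.node [(230,(-1))] .nil .nil)) (.node [(165,(-1))] .nil .nil)))
    (.node [] (.node [] (.node [(132,1)] .nil .nil) .nil) .nil))) (.node [] (.node [(30,1)] (.node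
    [] .nil (.node [] (.node [] (.node [(182,1)] .nil .nil) .nil) .nil)) (.node [] (.node
    [(85,(-1))] (.node [(123,1)] .nil .nil) .nil) (.node [(94,(-1))] (.node [] (.node [(197,1)]
    .nil .nil) .nil) (.node [(168,(-1))] .nil .nil)))) (.node [] (.node [] (.node [(81,(-1))] .nil
    .nil) (.node [(92,1)] (.node [] (.node [(191,1)] .nil .nil) .nil) .nil)) (.node [] (.node []
    (.node [] (.node [(175,(-1))] .nil .nil) (.node [(227,1)] .nil .nil)) .nil) (.node [] (.node []
    (.node [(201,1)] .nil .nil) .nil) .nil))))))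

/-- table -/
noncomputable def auxE8Chain167 : Tr (List (ℕ × ℤ)) :=
    (.node [] (.node [(14,(-1))] (.node [] (.node [(19,(-1))] (.node [] (.node [] (.node [(97,1)]
    .nil .nil) .nil) (.node [] (.node [] (.node [(179,(-1))] .nil .nil) .nil) (.node [(164,(-1))]
    .nil .nil))) (.node [] (.node [(83,1)] (.node [(119,1)] .nil .nil) .nil) (.node [] (.node []
    (.node [(193,1)] .nil .nil) (.node [(231,1)] .nil .nil)) .nil))) (.node [(33,(-1))] (.node []
    (.node [] (.node [(98,1)] .nil .nil) .nil) (.node [] (.node [] (.node [(186,(-1))] .nil .nil)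
    (.node [(230,1)] .nil .nil)) (.node [(165,(-1))] .nil .nil))) (.node [] (.node [] (.node
    [(128,1)] .nil .nil) .nil) (.node [] (.node [] (.node [(199,1)] .nil .nil) .nil) .nil))))
    (.node [] (.node [(28,(-1))] (.node [] (.node [] .nil (.node [] .nil (.node [(238,1)] .nil
    .nil))) .nil) (.node [] (.node [] (.node [(121,1)] .nil .nil) .nil) (.node [] (.node [] (.node
    [(197,(-1))] .nil .nil) .nil) .nil))) (.node [(35,1)] (.node [] (.node [(81,(-1))] .nil .nil)
    (.node [(92,1)] (.node [] (.node [(191,(-1))] .nil .nil) .nil) .nil)) (.node [] (.node []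
    (.node [(139,1)] (.node [(172,(-1))] .nil .nil) .nil) .nil) .nil)))) (.node [] (.node [] (.node
    [(24,(-1))] (.node [] (.node [] .nil (.node [] (.node [(203,1)] .nil .nil) .nil)) (.node
    [(90,1)] (.node [] (.node [(181,(-1))] .nil .nil) (.node [(229,1)] .nil .nil)) .nil)) (.node []
    (.node [(84,(-1))] .nil .nil) (.node [(93,(-1))] (.node [] (.node [(195,(-1))] .nil .nil) .nil)
    (.node [(168,(-1))] .nil .nil)))) (.node [] (.node [] (.node [(79,(-1))] .nil (.node
    [(162,(-1))] .nil .nil)) (.node [] (.node [] (.node [(189,(-1))] .nil .nil) .nil) .nil)) (.node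
    [] (.node [(87,1)] (.node [(133,1)] .nil (.node [(226,(-1))] .nil .nil)) .nil) (.node [(96,1)]
    (.node [] (.node [(200,(-1))] .nil .nil) (.node [(232,1)] .nil .nil)) .nil)))) (.node [] (.node
    [(31,(-1))] (.node [] .nil (.node [(91,1)] (.node [] (.node [(183,1)] .nil .nil) .nil) .nil))
    (.node [] (.node [(86,1)] (.node [(124,1)] .nil .nil) (.node [(163,(-1))] .nil .nil)) (.node
    [(95,1)] .nil .nil))) (.node [] (.node [] .nil (.node [] .nil (.node [(166,(-1))] .nil .nil)))
    (.node [] (.node [(88,(-1))] (.node [] (.node [(176,(-1))] .nil .nil) (.node [(228,1)] .nil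
    .nil)) .nil) (.node [] (.node [] (.node [(202,1)] .nil .nil) .nil) .nil))))))

/-- table -/
noncomputable def auxE8Chain168 : Tr (List (ℕ × ℤ)) :=
    (.node [(14,(-1))] (.node [] (.node [] (.node [(20,1)] (.node [] (.node [] .nil (.node []
    (.node [(203,(-1))] .nil .nil) .nil)) (.node [(90,1)] (.node [] (.node [(180,(-1))] .nil .nil)
    (.node [(229,(-1))] .nil .nil)) .nil)) (.node [] .nil (.node [] .nil (.node [(167,(-1))] .nil
    .nil)))) (.node [(34,1)] (.node [] (.node [] .nil (.node [(162,(-1))] .nil .nil)) (.node []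
    (.node [] (.node [(187,(-1))] .nil .nil) .nil) .nil)) (.node [] (.node [(87,1)] (.node
    [(129,1)] .nil .nil) .nil) (.node [(96,1)] (.node [] .nil (.node [(232,(-1))] .nil .nil))
    .nil)))) (.node [] (.node [(29,1)] (.node [] (.node [] .nil (.node [] .nil (.node [(239,1)]
    .nil .nil))) (.node [(91,1)] (.node [] (.node [(183,(-1))] .nil .nil) .nil) .nil)) (.node []
    (.node [(86,1)] (.node [(122,1)] .nil .nil) (.node [(163,(-1))] .nil .nil)) (.node [(95,1)]
    (.node [] (.node [(198,(-1))] .nil .nil) .nil) .nil))) (.node [] (.node [] (.node [(82,1)] .nil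
    .nil) (.node [] (.node [] (.node [(192,(-1))] .nil .nil) .nil) (.node [(166,(-1))] .nil .nil)))
    (.node [] (.node [] (.node [(140,1)] (.node [(173,(-1))] .nil .nil) (.node [(228,(-1))] .nil
    .nil)) .nil) (.node [] (.node [] (.node [(202,(-1))] .nil .nil) .nil) .nil))))) (.node []
    (.node [] (.node [(25,1)] (.node [] .nil (.node [] (.node [] (.node [(182,(-1))] .nil .nil)
    .nil) .nil)) (.node [] (.node [(85,1)] (.node [(120,1)] .nil .nil) .nil) (.node [(94,1)] (.node
    [] (.node [(196,(-1))] .nil .nil) .nil) .nil))) (.node [(35,1)] (.node [] (.node [(80,1)] .nil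
    .nil) (.node [(92,1)] (.node [] (.node [(190,(-1))] .nil .nil) .nil) .nil)) (.node [] (.node []
    (.node [(134,1)] .nil (.node [(227,(-1))] .nil .nil)) .nil) (.node [] (.node [] (.node
    [(201,(-1))] .nil .nil) .nil) .nil)))) (.node [] (.node [(32,1)] (.node [] (.node [] (.node
    [(98,1)] .nil .nil) .nil) (.node [] (.node [] .nil (.node [(230,(-1))] .nil .nil)) (.node
    [(165,(-1))] .nil .nil))) (.node [] (.node [] (.node [(125,1)] .nil .nil) .nil) (.node []
    (.node [] (.node [(199,(-1))] .nil .nil) .nil) .nil))) (.node [] (.node [] (.node [(83,1)] .nil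
    .nil) (.node [] (.node [] (.node [(193,(-1))] .nil .nil) (.node [(231,(-1))] .nil .nil)) .nil))
    (.node [] (.node [(89,1)] (.node [] (.node [(177,(-1))] .nil .nil) .nil) (.node [(164,(-1))]
    .nil .nil)) (.node [(97,1)] .nil .nil))))))

/-- table -/
noncomputable def auxE8Chain169 : Tr (List (ℕ × ℤ)) :=
    (.node [] (.node [] (.node [] (.node [] (.node [] (.node [(79,1)] (.node [(106,(-1))] (.node
    [(171,(-1))] .nil .nil) .nil) (.node [] (.node [(207,(-1))] .nil .nil) (.node [(234,(-1))] .nil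
    .nil))) .nil) (.node [] .nil (.node [(102,1)] .nil .nil))) (.node [(37,1)] (.node [] (.node
    [(83,1)] (.node [(111,1)] (.node [(174,1)] .nil .nil) .nil) .nil) .nil) (.node [] (.node []
    (.node [(141,1)] (.node [(186,(-1))] .nil .nil) (.node [(229,(-1))] .nil .nil)) .nil) .nil)))
    (.node [(16,1)] (.node [] (.node [] (.node [(81,1)] (.node [(108,(-1))] (.node [(173,(-1))]
    .nil .nil) .nil) (.node [(163,1)] (.node [(209,(-1))] .nil .nil) .nil)) .nil) (.node [] (.node
    [] (.node [] (.node [(184,(-1))] .nil .nil) (.node [(227,(-1))] .nil .nil)) .nil) .nil)) (.node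
    [(39,1)] (.node [] (.node [] (.node [(113,1)] (.node [(176,1)] .nil .nil) .nil) .nil) (.node
    [(100,1)] .nil .nil)) (.node [] (.node [] (.node [(147,1)] .nil .nil) .nil) (.node [] (.node []
    (.node [(205,(-1))] .nil .nil) .nil) .nil))))) (.node [] (.node [(15,1)] (.node [] (.node []
    (.node [(80,1)] (.node [(107,(-1))] (.node [(172,(-1))] .nil .nil) .nil) (.node [] (.node
    [(208,(-1))] .nil .nil) (.node [(235,(-1))] .nil .nil))) .nil) (.node [] (.node [] (.node []
    .nil (.node [(226,(-1))] .nil .nil)) .nil) .nil)) (.node [(38,1)] (.node [] (.node [] (.node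
    [(112,1)] (.node [(175,1)] .nil .nil) .nil) .nil) (.node [(99,1)] .nil .nil)) (.node [] (.node
    [] (.node [(142,(-1))] (.node [(187,(-1))] .nil .nil) .nil) .nil) (.node [] (.node [(162,(-1))]
    (.node [(204,(-1))] .nil .nil) .nil) .nil)))) (.node [(21,1)] (.node [(36,1)] (.node [] (.node
    [(82,1)] (.node [(110,1)] .nil .nil) (.node [(164,(-1))] .nil .nil)) .nil) (.node [] (.node []
    (.node [] (.node [(185,(-1))] .nil .nil) (.node [(228,(-1))] .nil .nil)) .nil) (.node [] (.node
    [] .nil (.node [(233,(-1))] .nil .nil)) .nil))) (.node [] (.node [] (.node [] (.node [] (.node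
    [(177,1)] .nil .nil) .nil) .nil) (.node [(101,1)] .nil .nil)) (.node [(78,1)] .nil (.node
    [(105,(-1))] (.node [] (.node [(206,(-1))] .nil .nil) .nil) (.node [(170,(-1))] .nil
    .nil)))))))

/-- table -/
noncomputable def auxE8Chain170 : Tr (List (ℕ × ℤ)) :=
    (.node [] (.node [] (.node [(15,1)] (.node [] (.node [] (.node [] .nil (.node [] (.node
    [(210,(-1))] .nil .nil) .nil)) .nil) (.node [] (.node [] (.node [] .nil (.node [(228,1)] .nil
    .nil)) .nil) (.node [(103,(-1))] .nil .nil))) (.node [(40,(-1))] (.node [] (.node [(86,(-1))]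
    (.node [(115,1)] .nil .nil) .nil) (.node [(101,1)] .nil .nil)) (.node [(78,1)] (.node [] (.node
    [] (.node [(189,(-1))] .nil .nil) (.node [(230,(-1))] .nil .nil)) .nil) (.node [(105,(-1))]
    (.node [(162,(-1))] (.node [(206,1)] .nil .nil) .nil) (.node [(171,(-1))] .nil .nil))))) (.node
    [(17,(-1))] (.node [(36,1)] (.node [] (.node [(84,(-1))] (.node [(109,1)] .nil .nil) (.node []
    (.node [(212,(-1))] .nil .nil) .nil)) (.node [(99,1)] .nil (.node [(169,(-1))] .nil .nil)))
    (.node [] .nil (.node [] (.node [] (.node [(204,1)] .nil .nil) (.node [(233,1)] .nil .nil))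
    .nil))) (.node [(42,(-1))] (.node [] (.node [] (.node [] (.node [(179,1)] .nil .nil) (.node
    [(226,1)] .nil .nil)) .nil) .nil) (.node [(80,1)] (.node [] (.node [(148,1)] .nil .nil) .nil)
    (.node [(107,(-1))] .nil (.node [(173,(-1))] .nil .nil)))))) (.node [] (.node [] (.node []
    (.node [] (.node [] .nil (.node [(163,1)] (.node [(211,(-1))] .nil .nil) (.node [(236,(-1))]
    .nil .nil))) .nil) (.node [] (.node [] (.node [] (.node [(184,1)] .nil .nil) .nil) .nil) .nil))
    (.node [(41,(-1))] (.node [] (.node [] (.node [(116,1)] (.node [(178,1)] .nil .nil) .nil) .nil)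
    .nil) (.node [(79,1)] (.node [] (.node [(143,(-1))] (.node [(190,(-1))] .nil .nil) .nil) .nil)
    (.node [(106,(-1))] .nil (.node [(172,(-1))] .nil .nil))))) (.node [(22,(-1))] (.node [] (.node
    [] (.node [(85,(-1))] (.node [(114,1)] (.node [(174,(-1))] .nil .nil) .nil) (.node [(165,(-1))]
    .nil .nil)) (.node [(100,1)] .nil .nil)) (.node [] (.node [] (.node [(141,1)] (.node
    [(188,(-1))] .nil .nil) .nil) .nil) (.node [] (.node [] (.node [(205,1)] .nil .nil) .nil)
    .nil))) (.node [] (.node [] (.node [] (.node [(126,1)] (.node [(180,1)] .nil .nil) (.node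
    [(227,1)] .nil .nil)) .nil) .nil) (.node [] .nil (.node [] (.node [] .nil (.node [(234,1)] .nil
    .nil)) .nil))))))

/-- table -/
noncomputable def auxE8Chain171 : Tr (List (ℕ × ℤ)) :=
    (.node [] (.node [] (.node [] (.node [] (.node [] (.node [(84,(-1))] .nil (.node [(163,1)] .nil
    .nil)) (.node [(99,1)] .nil .nil)) (.node [] (.node [] (.node [] .nil (.node [(229,1)] .nil
    .nil)) .nil) .nil)) (.node [] (.node [] (.node [(87,1)] (.node [(118,1)] (.node [(178,(-1))]
    .nil .nil) (.node [(226,(-1))] .nil .nil)) .nil) (.node [(102,(-1))] .nil .nil)) (.node []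
    (.node [] (.node [] (.node [(191,(-1))] .nil .nil) .nil) .nil) (.node [] (.node [] (.node
    [(208,1)] .nil .nil) .nil) .nil)))) (.node [(18,1)] (.node [(37,(-1))] (.node [] (.node [] .nil
    (.node [] (.node [(213,(-1))] .nil .nil) .nil)) .nil) (.node [] (.node [] (.node [(141,1)]
    (.node [(188,1)] .nil .nil) .nil) .nil) (.node [(105,(-1))] .nil (.node [(172,(-1))] .nil
    .nil)))) (.node [(44,1)] (.node [] (.node [] (.node [(123,1)] (.node [(181,1)] .nil .nil) .nil)
    .nil) .nil) (.node [(82,(-1))] (.node [] (.node [(149,1)] .nil .nil) .nil) (.node [(108,1)]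
    (.node [] (.node [(210,1)] .nil .nil) (.node [(234,(-1))] .nil .nil)) .nil))))) (.node [(15,1)]
    (.node [] (.node [] (.node [] (.node [(85,(-1))] (.node [(109,1)] .nil .nil) (.node [] .nil
    (.node [(237,(-1))] .nil .nil))) (.node [(100,1)] .nil (.node [(169,(-1))] .nil .nil))) (.node
    [] (.node [] (.node [] (.node [(185,1)] .nil .nil) .nil) .nil) (.node [] (.node [] (.node
    [(204,(-1))] .nil .nil) (.node [(233,(-1))] .nil .nil)) .nil))) (.node [(43,1)] (.node []
    (.node [] (.node [] .nil (.node [(227,(-1))] .nil .nil)) .nil) (.node [] .nil (.node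
    [(170,(-1))] .nil .nil))) (.node [(81,(-1))] (.node [] (.node [(144,(-1))] (.node [(192,(-1))]
    .nil .nil) .nil) .nil) .nil))) (.node [(23,1)] (.node [(40,(-1))] (.node [] (.node [] (.node
    [(117,1)] (.node [(175,(-1))] .nil .nil) .nil) (.node [(166,(-1))] .nil .nil)) .nil) (.node
    [(78,1)] (.node [] (.node [] .nil (.node [(230,1)] .nil .nil)) .nil) (.node [(106,(-1))] (.node
    [(162,(-1))] (.node [(207,1)] .nil .nil) .nil) (.node [(173,(-1))] .nil .nil)))) (.node []
    (.node [] (.node [] (.node [(127,1)] (.node [(182,1)] .nil .nil) .nil) .nil) (.node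
    [(103,(-1))] .nil .nil)) (.node [] .nil (.node [] (.node [] (.node [(211,1)] .nil .nil) .nil)
    .nil))))))

/-- table -/
noncomputable def auxE8Chain172 : Tr (List (ℕ × ℤ)) :=
    (.node [] (.node [(15,1)] (.node [] (.node [] (.node [] (.node [] (.node [(109,1)] .nil .nil)
    .nil) (.node [] .nil (.node [(169,(-1))] .nil .nil))) (.node [] .nil (.node [] (.node [] .nil
    (.node [(233,1)] .nil .nil)) .nil))) (.node [(43,1)] (.node [] (.node [] (.node [] (.node
    [(179,(-1))] .nil .nil) .nil) .nil) (.node [] .nil (.node [(170,(-1))] .nil .nil))) (.node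
    [(81,(-1))] .nil (.node [] (.node [] (.node [(209,1)] .nil .nil) .nil) .nil)))) (.node
    [(19,(-1))] (.node [(38,1)] .nil (.node [] (.node [] (.node [] (.node [(189,1)] .nil .nil)
    (.node [(230,(-1))] .nil .nil)) .nil) (.node [] (.node [(162,(-1))] (.node [(207,(-1))] .nil
    .nil) .nil) .nil))) (.node [(45,(-1))] (.node [] (.node [] (.node [(124,1)] .nil .nil) .nil)
    (.node [(103,(-1))] .nil .nil)) (.node [(83,1)] (.node [] (.node [(150,1)] .nil .nil) .nil)
    .nil)))) (.node [] (.node [] (.node [] (.node [] (.node [(86,1)] .nil (.node [] (.node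
    [(213,1)] .nil .nil) (.node [(238,(-1))] .nil .nil))) (.node [(101,(-1))] .nil .nil)) (.node []
    (.node [] (.node [(141,1)] (.node [(186,1)] .nil .nil) .nil) .nil) (.node [(105,(-1))] (.node
    [] (.node [(205,(-1))] .nil .nil) .nil) (.node [(173,(-1))] .nil .nil)))) (.node [] (.node []
    (.node [] (.node [(121,1)] (.node [(181,(-1))] .nil .nil) (.node [(228,(-1))] .nil .nil)) .nil)
    .nil) (.node [] (.node [] (.node [(145,(-1))] (.node [(193,(-1))] .nil .nil) .nil) .nil) (.node
    [(108,1)] (.node [] (.node [(210,(-1))] .nil .nil) (.node [(234,1)] .nil .nil)) .nil)))) (.node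
    [(24,(-1))] (.node [(41,1)] (.node [] (.node [(87,1)] (.node [(119,1)] (.node [(176,(-1))] .nil
    .nil) (.node [(226,1)] .nil .nil)) (.node [(167,(-1))] .nil .nil)) (.node [(102,(-1))] .nil
    .nil)) (.node [(79,(-1))] (.node [] (.node [] (.node [(191,1)] .nil .nil) .nil) .nil) (.node
    [(107,1)] .nil .nil))) (.node [] (.node [] (.node [] (.node [(128,1)] (.node [(183,1)] .nil
    .nil) (.node [(229,(-1))] .nil .nil)) .nil) (.node [] .nil (.node [(171,(-1))] .nil .nil)))
    (.node [(84,(-1))] (.node [(99,1)] .nil .nil) (.node [] (.node [(163,1)] (.node [(212,1)] .nil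
    .nil) .nil) .nil))))))

/-- table -/
noncomputable def auxE8Chain173 : Tr (List (ℕ × ℤ)) :=
    (.node [(15,1)] (.node [] (.node [] (.node [] (.node [] (.node [(86,1)] .nil (.node [] (.node
    [(213,(-1))] .nil .nil) .nil)) (.node [(101,(-1))] .nil .nil)) (.node [] (.node [] (.node
    [(141,1)] .nil .nil) .nil) (.node [] .nil (.node [(172,(-1))] .nil .nil)))) (.node [(44,(-1))]
    (.node [] (.node [] (.node [(120,1)] (.node [(180,(-1))] .nil .nil) (.node [(228,1)] .nil
    .nil)) .nil) .nil) (.node [(82,1)] (.node [] (.node [] (.node [(193,1)] .nil .nil) .nil) .nil)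
    (.node [(108,1)] (.node [] .nil (.node [(234,(-1))] .nil .nil)) .nil)))) (.node [(20,1)] (.node
    [(39,(-1))] (.node [] (.node [(87,1)] .nil .nil) (.node [(102,(-1))] .nil .nil)) (.node []
    (.node [] (.node [] (.node [(190,1)] .nil .nil) .nil) .nil) (.node [(107,1)] (.node [] (.node
    [(208,(-1))] .nil .nil) .nil) .nil))) (.node [] (.node [] (.node [] (.node [(125,1)] (.node
    [(183,(-1))] .nil .nil) (.node [(229,1)] .nil .nil)) .nil) (.node [] .nil (.node [(171,(-1))]
    .nil .nil))) (.node [] (.node [] (.node [(151,1)] .nil .nil) .nil) (.node [] (.node [(163,1)]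
    (.node [(212,(-1))] .nil .nil) .nil) .nil))))) (.node [] (.node [] (.node [] (.node [] (.node
    [] .nil (.node [] .nil (.node [(239,(-1))] .nil .nil))) .nil) (.node [] (.node [] (.node []
    (.node [(187,1)] .nil .nil) (.node [(230,1)] .nil .nil)) .nil) (.node [(106,1)] (.node
    [(162,(-1))] (.node [(206,(-1))] .nil .nil) .nil) .nil))) (.node [(45,(-1))] (.node [] (.node
    [] (.node [(122,1)] (.node [(182,(-1))] .nil .nil) .nil) .nil) (.node [(103,(-1))] .nil .nil))
    (.node [(83,1)] (.node [] (.node [(146,(-1))] .nil .nil) .nil) (.node [] (.node [] (.node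
    [(211,(-1))] .nil .nil) .nil) .nil)))) (.node [(25,1)] (.node [(42,(-1))] (.node [] (.node []
    (.node [] (.node [(177,(-1))] .nil .nil) (.node [(227,1)] .nil .nil)) (.node [(168,(-1))] .nil
    .nil)) (.node [] .nil (.node [(170,(-1))] .nil .nil))) (.node [(80,1)] (.node [] (.node []
    (.node [(192,1)] .nil .nil) .nil) .nil) (.node [] (.node [] (.node [(209,(-1))] .nil .nil)
    .nil) .nil))) (.node [] (.node [] (.node [] (.node [(129,1)] .nil .nil) .nil) (.node [] (.node
    [] .nil (.node [(233,(-1))] .nil .nil)) .nil)) (.node [(85,1)] (.node [(100,(-1))] .nil (.node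
    [(169,(-1))] .nil .nil)) (.node [(109,1)] .nil .nil))))))

/-- table -/
noncomputable def auxE8Chain174 : Tr (List (ℕ × ℤ)) :=
    (.node [] (.node [] (.node [(16,(-1))] (.node [] (.node [] (.node [] (.node [(115,1)] (.node
    [(178,1)] .nil .nil) (.node [(226,(-1))] .nil .nil)) (.node [] (.node [(214,(-1))] .nil .nil)
    (.node [(236,1)] .nil .nil))) .nil) (.node [(78,1)] (.node [] (.node [] (.node [(184,(-1))]
    .nil .nil) .nil) .nil) (.node [(104,1)] (.node [(162,(-1))] (.node [(206,(-1))] .nil .nil)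
    .nil) .nil))) (.node [(46,1)] (.node [] (.node [(90,1)] .nil .nil) .nil) (.node [] (.node
    [(99,1)] (.node [(143,(-1))] (.node [(195,(-1))] .nil .nil) (.node [(231,(-1))] .nil .nil))
    .nil) (.node [(110,(-1))] .nil (.node [(175,(-1))] .nil .nil))))) (.node [] (.node [] (.node []
    (.node [(88,1)] (.node [] (.node [(180,1)] .nil .nil) (.node [(228,(-1))] .nil .nil)) (.node
    [(165,(-1))] (.node [(216,(-1))] .nil .nil) .nil)) .nil) (.node [(80,1)] .nil .nil)) (.node
    [(48,1)] (.node [] (.node [] (.node [(130,1)] .nil .nil) .nil) (.node [] (.node [] (.node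
    [(204,(-1))] .nil .nil) (.node [(233,(-1))] .nil .nil)) .nil)) (.node [] (.node [(101,1)]
    (.node [(152,1)] .nil .nil) (.node [(170,(-1))] .nil .nil)) (.node [(112,(-1))] .nil (.node
    [(177,(-1))] .nil .nil)))))) (.node [] (.node [(17,(-1))] (.node [(36,1)] (.node [] (.node []
    (.node [(116,1)] (.node [(179,1)] .nil .nil) (.node [(227,(-1))] .nil .nil)) (.node [(164,1)]
    (.node [(215,(-1))] .nil .nil) .nil)) .nil) (.node [(79,1)] .nil .nil)) (.node [(47,1)] .nil
    (.node [] (.node [(100,1)] (.node [] (.node [(196,(-1))] .nil .nil) .nil) (.node [(169,1)] .nil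
    .nil)) (.node [(111,(-1))] .nil (.node [(176,(-1))] .nil .nil))))) (.node [(26,1)] (.node []
    (.node [] (.node [(89,1)] .nil .nil) .nil) (.node [] (.node [] (.node [(142,1)] (.node
    [(194,(-1))] .nil .nil) .nil) .nil) .nil)) (.node [] (.node [] (.node [] (.node [(131,(-1))]
    .nil .nil) .nil) (.node [] (.node [] (.node [(205,(-1))] .nil .nil) .nil) .nil)) (.node [] .nil
    (.node [(114,1)] (.node [] .nil (.node [(235,1)] .nil .nil)) .nil))))))

/-- table -/
noncomputable def auxE8Chain175 : Tr (List (ℕ × ℤ)) :=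
    (.node [] (.node [] (.node [] (.node [] (.node [] (.node [(88,1)] (.node [(118,1)] .nil .nil)
    (.node [(164,1)] .nil (.node [(237,1)] .nil .nil))) .nil) (.node [] (.node [] (.node [] (.node
    [(185,(-1))] .nil .nil) .nil) .nil) (.node [] (.node [] (.node [(208,(-1))] .nil .nil) .nil)
    .nil))) (.node [] (.node [] (.node [(91,(-1))] .nil .nil) .nil) (.node [] (.node [] (.node
    [(144,(-1))] (.node [(197,(-1))] .nil .nil) .nil) (.node [(169,1)] .nil .nil)) .nil))) (.node
    [] (.node [] (.node [] (.node [] (.node [(123,1)] (.node [(182,1)] .nil .nil) (.node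
    [(229,(-1))] .nil .nil)) (.node [(166,(-1))] (.node [(217,(-1))] .nil .nil) .nil)) .nil) (.node
    [(82,(-1))] (.node [(99,1)] (.node [(142,1)] (.node [(194,1)] .nil .nil) .nil) .nil) (.node
    [(110,(-1))] .nil (.node [(176,(-1))] .nil .nil)))) (.node [(50,(-1))] .nil (.node [] (.node
    [(102,(-1))] (.node [(153,1)] .nil .nil) (.node [(171,(-1))] .nil .nil)) (.node [(113,1)]
    (.node [] (.node [(214,1)] .nil .nil) (.node [(235,(-1))] .nil .nil)) (.node [] (.node
    [(226,1)] .nil .nil) .nil)))))) (.node [(16,(-1))] (.node [(18,1)] (.node [(37,(-1))] (.node []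
    (.node [(89,1)] (.node [] (.node [(181,1)] .nil .nil) .nil) .nil) .nil) (.node [(81,(-1))] .nil
    .nil)) (.node [(49,(-1))] (.node [] (.node [] (.node [(130,1)] .nil .nil) .nil) (.node []
    (.node [] (.node [(204,1)] .nil .nil) (.node [(233,1)] .nil .nil)) (.node [(174,(-1))] .nil
    .nil))) (.node [] (.node [] (.node [] (.node [(198,(-1))] .nil .nil) .nil) .nil) .nil))) (.node
    [(27,(-1))] (.node [(46,1)] .nil (.node [] (.node [(100,1)] (.node [] .nil (.node [(231,1)]
    .nil .nil)) .nil) (.node [(111,(-1))] .nil (.node [(177,(-1))] .nil .nil)))) (.node [] (.node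
    [(78,1)] (.node [] (.node [(132,(-1))] .nil .nil) .nil) (.node [(104,1)] (.node [(162,(-1))]
    (.node [(207,(-1))] .nil .nil) .nil) .nil)) (.node [] .nil (.node [(117,1)] (.node [] (.node
    [(215,1)] .nil .nil) .nil) (.node [(178,(-1))] (.node [(227,1)] .nil .nil) .nil)))))))

/-- table -/
noncomputable def auxE8Chain176 : Tr (List (ℕ × ℤ)) :=
    (.node [] (.node [(16,(-1))] (.node [] (.node [] (.node [] (.node [] (.node [] (.node
    [(181,(-1))] .nil .nil) .nil) (.node [] .nil (.node [(238,1)] .nil .nil))) .nil) (.node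
    [(81,(-1))] (.node [] (.node [] (.node [(186,(-1))] .nil .nil) .nil) .nil) (.node [] (.node []
    (.node [(209,(-1))] .nil .nil) .nil) .nil))) (.node [(49,(-1))] (.node [] (.node [] (.node
    [(130,1)] .nil .nil) .nil) (.node [] (.node [] .nil (.node [(233,(-1))] .nil .nil)) (.node
    [(174,(-1))] .nil .nil))) (.node [] (.node [] (.node [(145,(-1))] .nil .nil) .nil) .nil)))
    (.node [] (.node [] (.node [] (.node [] (.node [(124,1)] (.node [(183,1)] .nil .nil) .nil)
    (.node [(167,(-1))] .nil .nil)) .nil) (.node [(83,1)] (.node [] (.node [] (.node [(195,1)] .nil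
    .nil) (.node [(231,(-1))] .nil .nil)) .nil) .nil)) (.node [(51,1)] (.node [] .nil (.node
    [(104,1)] (.node [(162,(-1))] (.node [(207,1)] .nil .nil) .nil) .nil)) (.node [] (.node []
    (.node [(154,1)] .nil .nil) (.node [(172,(-1))] .nil .nil)) .nil)))) (.node [] (.node
    [(19,(-1))] (.node [(38,1)] (.node [] (.node [(90,(-1))] (.node [(121,1)] .nil (.node [(229,1)]
    .nil .nil)) (.node [] (.node [(217,1)] .nil .nil) .nil)) .nil) (.node [] (.node [(99,1)] (.node
    [(142,1)] .nil .nil) .nil) (.node [(110,(-1))] .nil (.node [(177,(-1))] .nil .nil)))) (.node []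
    (.node [] .nil (.node [] (.node [] (.node [(205,1)] .nil .nil) .nil) .nil)) (.node [] (.node
    [(102,(-1))] (.node [] (.node [(199,(-1))] .nil .nil) .nil) .nil) (.node [(113,1)] (.node []
    (.node [(214,(-1))] .nil .nil) (.node [(235,1)] .nil .nil)) (.node [] (.node [(226,(-1))] .nil
    .nil) .nil))))) (.node [(28,1)] (.node [(47,(-1))] (.node [] (.node [(91,(-1))] .nil .nil)
    .nil) (.node [] (.node [(101,(-1))] (.node [] (.node [(197,1)] .nil .nil) .nil) (.node
    [(169,1)] .nil .nil)) (.node [(112,1)] .nil .nil))) (.node [] (.node [(79,(-1))] (.node []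
    (.node [(133,(-1))] .nil .nil) .nil) (.node [] .nil (.node [(175,(-1))] .nil .nil))) (.node
    [(88,1)] .nil (.node [(119,1)] (.node [(164,1)] (.node [(216,1)] .nil .nil) .nil) (.node
    [(179,(-1))] (.node [(228,1)] .nil .nil) .nil)))))))

/-- table -/
noncomputable def auxE8Chain177 : Tr (List (ℕ × ℤ)) :=
    (.node [(16,(-1))] (.node [] (.node [] (.node [] (.node [] (.node [(90,(-1))] (.node [(120,1)]
    (.node [(182,(-1))] .nil .nil) (.node [(229,(-1))] .nil .nil)) (.node [] (.node [(217,(-1))]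
    .nil .nil) (.node [(239,1)] .nil .nil))) .nil) (.node [(82,1)] (.node [] (.node [(142,1)]
    (.node [(187,(-1))] .nil .nil) .nil) .nil) (.node [] .nil (.node [(176,(-1))] .nil .nil))))
    (.node [(50,1)] .nil (.node [] (.node [(102,(-1))] (.node [(146,(-1))] (.node [(199,1)] .nil
    .nil) .nil) .nil) (.node [(113,1)] (.node [] .nil (.node [(235,(-1))] .nil .nil)) .nil))))
    (.node [] (.node [] (.node [] (.node [(91,(-1))] (.node [(125,1)] .nil .nil) (.node
    [(168,(-1))] .nil .nil)) .nil) (.node [] (.node [(101,(-1))] (.node [] (.node [(196,1)] .nil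
    .nil) .nil) (.node [(169,1)] .nil .nil)) (.node [(112,1)] .nil .nil))) (.node [] (.node [] .nil
    (.node [] (.node [] (.node [(208,1)] .nil .nil) .nil) (.node [(175,(-1))] .nil .nil))) (.node
    [] (.node [] (.node [(155,1)] .nil .nil) (.node [(173,(-1))] .nil .nil)) (.node [] (.node
    [(164,1)] (.node [(216,(-1))] .nil .nil) .nil) (.node [] (.node [(228,(-1))] .nil .nil)
    .nil)))))) (.node [] (.node [(20,1)] (.node [(39,(-1))] (.node [] (.node [] (.node [(122,1)]
    (.node [(183,(-1))] .nil .nil) .nil) .nil) .nil) (.node [(83,1)] (.node [(100,(-1))] (.node []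
    .nil (.node [(231,1)] .nil .nil)) .nil) (.node [(111,1)] .nil .nil))) (.node [(51,1)] (.node []
    .nil (.node [(104,1)] (.node [(162,(-1))] (.node [(206,1)] .nil .nil) .nil) .nil)) (.node []
    .nil (.node [] (.node [] (.node [(215,(-1))] .nil .nil) .nil) (.node [] (.node [(227,(-1))]
    .nil .nil) .nil))))) (.node [(29,(-1))] (.node [(48,1)] (.node [] (.node [] (.node [(130,1)]
    .nil .nil) .nil) (.node [] (.node [] .nil (.node [(233,1)] .nil .nil)) (.node [(174,(-1))] .nil
    .nil))) (.node [] (.node [] (.node [] (.node [(198,1)] .nil .nil) .nil) .nil) .nil)) (.node []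
    (.node [(80,1)] (.node [] (.node [(134,(-1))] .nil .nil) .nil) (.node [] (.node [] (.node
    [(209,1)] .nil .nil) .nil) .nil)) (.node [(89,(-1))] .nil (.node [] .nil (.node [(180,(-1))]
    .nil .nil)))))))

/-- table -/
noncomputable def auxE8Chain178 : Tr (List (ℕ × ℤ)) :=
    (.node [] (.node [] (.node [(18,1)] (.node [] (.node [] (.node [] .nil (.node [(165,1)] .nil
    .nil)) .nil) (.node [] (.node [(100,1)] (.node [] (.node [(188,(-1))] .nil .nil) (.node
    [(231,(-1))] .nil .nil)) .nil) (.node [] (.node [] (.node [(211,(-1))] .nil .nil) .nil) .nil)))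
    (.node [] (.node [] (.node [(92,1)] .nil .nil) (.node [(104,1)] (.node [(162,(-1))] (.node
    [(204,(-1))] .nil .nil) .nil) .nil)) (.node [] (.node [] (.node [] (.node [(200,(-1))] .nil
    .nil) .nil) (.node [(170,1)] .nil .nil)) (.node [(117,1)] (.node [] (.node [(215,(-1))] .nil
    .nil) .nil) (.node [] (.node [(227,(-1))] .nil .nil) .nil))))) (.node [] (.node [(46,1)] (.node
    [] (.node [] (.node [(127,(-1))] .nil (.node [(230,(-1))] .nil .nil)) (.node [] (.node
    [(218,(-1))] .nil .nil) .nil)) (.node [] (.node [] .nil (.node [(233,(-1))] .nil .nil)) (.node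
    [(175,(-1))] .nil .nil))) (.node [(85,1)] (.node [] (.node [(143,1)] .nil .nil) .nil) (.node
    [(114,(-1))] .nil (.node [(179,(-1))] .nil .nil)))) (.node [(53,1)] (.node [(78,1)] (.node []
    (.node [(132,(-1))] .nil .nil) .nil) .nil) (.node [(89,1)] (.node [(103,1)] (.node [(156,1)]
    .nil .nil) .nil) (.node [] (.node [] .nil (.node [(236,(-1))] .nil .nil)) (.node [(182,1)] .nil
    .nil)))))) (.node [(17,1)] (.node [] (.node [(40,1)] (.node [] (.node [] (.node [(126,1)] .nil
    .nil) (.node [(166,(-1))] .nil .nil)) (.node [] .nil (.node [(174,1)] .nil .nil))) (.node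
    [(84,1)] (.node [] (.node [] (.node [(194,(-1))] .nil .nil) .nil) .nil) .nil)) (.node [(52,1)]
    (.node [] (.node [] (.node [(131,1)] .nil .nil) .nil) .nil) (.node [(88,1)] (.node [] (.node []
    (.node [(201,(-1))] .nil .nil) .nil) (.node [(171,(-1))] .nil .nil)) (.node [(118,1)] .nil
    (.node [(181,1)] .nil .nil))))) (.node [(30,1)] (.node [] .nil (.node [] (.node [] (.node
    [(144,(-1))] .nil .nil) .nil) (.node [(115,(-1))] (.node [] (.node [(214,(-1))] .nil .nil)
    .nil) (.node [(180,(-1))] (.node [(226,(-1))] .nil .nil) .nil)))) (.node [] (.node [] (.node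
    [(99,1)] .nil .nil) (.node [] (.node [] (.node [(210,(-1))] .nil .nil) .nil) .nil)) (.node []
    .nil (.node [] (.node [] .nil (.node [(237,(-1))] .nil .nil)) .nil))))))

/-- table -/
noncomputable def auxE8Chain179 : Tr (List (ℕ × ℤ)) :=
    (.node [] (.node [(17,1)] (.node [(19,(-1))] (.node [] (.node [] (.node [] (.node [(126,1)]
    .nil .nil) .nil) (.node [] .nil (.node [(174,1)] .nil .nil))) (.node [(84,1)] (.node
    [(101,(-1))] (.node [] (.node [(189,(-1))] .nil .nil) .nil) .nil) (.node [] (.node [] (.node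
    [(212,(-1))] .nil .nil) .nil) .nil))) (.node [(52,1)] (.node [] (.node [] (.node [(131,1)] .nil
    .nil) .nil) (.node [] (.node [] (.node [(205,(-1))] .nil .nil) .nil) .nil)) (.node [(88,1)]
    .nil (.node [(119,1)] (.node [] (.node [(216,(-1))] .nil .nil) .nil) (.node [(181,(-1))] (.node
    [(228,(-1))] .nil .nil) .nil))))) (.node [] (.node [(47,(-1))] (.node [] (.node [] (.node
    [(128,(-1))] .nil .nil) .nil) (.node [] .nil (.node [(176,(-1))] .nil .nil))) (.node
    [(86,(-1))] .nil (.node [] (.node [] (.node [(214,1)] .nil .nil) .nil) (.node [] (.node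
    [(226,1)] .nil .nil) .nil)))) (.node [(54,(-1))] (.node [(79,(-1))] (.node [(99,1)] (.node
    [(133,(-1))] .nil .nil) .nil) (.node [] (.node [] (.node [(210,1)] .nil .nil) .nil) .nil))
    (.node [(90,(-1))] (.node [] (.node [(157,1)] .nil .nil) .nil) (.node [(121,1)] .nil (.node
    [(183,1)] .nil .nil)))))) (.node [] (.node [] (.node [(41,(-1))] (.node [] (.node [] (.node []
    .nil (.node [(230,1)] .nil .nil)) (.node [(167,(-1))] (.node [(218,1)] .nil .nil) .nil)) (.node
    [] (.node [] .nil (.node [(233,1)] .nil .nil)) .nil)) (.node [] (.node [] (.node [(143,1)]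
    (.node [(195,(-1))] .nil .nil) .nil) .nil) (.node [(114,(-1))] .nil (.node [(180,(-1))] .nil
    .nil)))) (.node [] .nil (.node [] (.node [(103,1)] (.node [] (.node [(202,(-1))] .nil .nil)
    .nil) (.node [(172,(-1))] .nil .nil)) (.node [] (.node [] .nil (.node [(236,1)] .nil .nil))
    .nil)))) (.node [(31,(-1))] (.node [] (.node [] (.node [(92,1)] .nil .nil) (.node [(104,1)]
    (.node [(162,(-1))] .nil .nil) .nil)) (.node [] (.node [] (.node [(145,(-1))] (.node [(200,1)]
    .nil .nil) .nil) (.node [(170,1)] .nil .nil)) (.node [(116,1)] .nil .nil))) (.node [] (.node []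
    (.node [] (.node [] .nil (.node [(231,1)] .nil .nil)) .nil) (.node [] .nil (.node [(178,(-1))]
    .nil .nil))) (.node [] .nil (.node [] (.node [(165,1)] .nil (.node [(238,(-1))] .nil .nil))
    .nil))))))

/-- table -/
noncomputable def auxE8Chain180 : Tr (List (ℕ × ℤ)) :=
    (.node [(17,1)] (.node [] (.node [(20,1)] (.node [] (.node [] (.node [] (.node [] .nil (.node
    [(230,(-1))] .nil .nil)) (.node [] (.node [(218,(-1))] .nil .nil) .nil)) (.node [] (.node []
    .nil (.node [(233,(-1))] .nil .nil)) .nil)) (.node [(85,(-1))] (.node [] (.node [(143,1)]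
    (.node [(190,(-1))] .nil .nil) .nil) .nil) (.node [] .nil (.node [(179,(-1))] .nil .nil))))
    (.node [(53,(-1))] (.node [] .nil (.node [] (.node [] (.node [(206,(-1))] .nil .nil) .nil)
    .nil)) (.node [(89,(-1))] (.node [(103,1)] (.node [] (.node [(202,1)] .nil .nil) .nil) .nil)
    (.node [] (.node [] .nil (.node [(236,(-1))] .nil .nil)) (.node [(182,(-1))] .nil .nil)))))
    (.node [] (.node [(48,1)] (.node [] (.node [(92,1)] (.node [(129,(-1))] .nil .nil) .nil) (.node
    [(104,1)] (.node [(162,(-1))] .nil .nil) (.node [(177,(-1))] .nil .nil))) (.node [] (.node []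
    .nil (.node [(170,1)] .nil .nil)) (.node [(116,1)] (.node [] (.node [(215,1)] .nil .nil) .nil)
    (.node [] (.node [(227,1)] .nil .nil) .nil)))) (.node [] (.node [(80,1)] (.node [(100,(-1))]
    (.node [(134,(-1))] .nil (.node [(231,(-1))] .nil .nil)) .nil) (.node [] (.node [] (.node
    [(211,1)] .nil .nil) .nil) (.node [(178,(-1))] .nil .nil))) (.node [] (.node [] (.node
    [(158,1)] .nil .nil) .nil) (.node [(122,1)] (.node [(165,1)] .nil .nil) .nil))))) (.node []
    (.node [] (.node [(42,1)] (.node [] (.node [] .nil (.node [(168,(-1))] .nil .nil)) .nil) (.node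
    [(86,(-1))] (.node [] (.node [] (.node [(196,(-1))] .nil .nil) .nil) .nil) (.node [(115,1)]
    .nil .nil))) (.node [(54,(-1))] .nil (.node [(90,(-1))] (.node [] .nil (.node [(173,(-1))] .nil
    .nil)) (.node [(120,1)] .nil (.node [(183,(-1))] .nil .nil))))) (.node [(32,1)] (.node []
    (.node [] (.node [] (.node [(131,1)] .nil .nil) .nil) .nil) (.node [] (.node [] (.node
    [(146,(-1))] (.node [(201,1)] .nil .nil) .nil) .nil) (.node [] (.node [] (.node [(216,1)] .nil
    .nil) .nil) (.node [] (.node [(228,1)] .nil .nil) .nil)))) (.node [] (.node [] (.node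
    [(101,(-1))] .nil .nil) (.node [] (.node [] (.node [(212,1)] .nil .nil) .nil) .nil)) (.node []
    (.node [] .nil (.node [(174,1)] .nil .nil)) (.node [(126,1)] (.node [] .nil (.node [(239,(-1))]
    .nil .nil)) .nil))))))

/-- table -/
noncomputable def auxE8Chain181 : Tr (List (ℕ × ℤ)) :=
    (.node [] (.node [(18,(-1))] (.node [] (.node [] (.node [] (.node [] (.node [(127,1)] .nil
    .nil) (.node [(167,(-1))] .nil .nil)) (.node [] .nil (.node [(175,1)] .nil .nil))) (.node []
    (.node [(102,1)] (.node [] (.node [(191,(-1))] .nil .nil) .nil) .nil) (.node [] (.node []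
    (.node [(213,(-1))] .nil .nil) .nil) .nil))) (.node [] (.node [] (.node [] (.node [(132,1)]
    .nil .nil) .nil) (.node [] (.node [] (.node [(207,(-1))] .nil .nil) .nil) (.node [(178,1)] .nil
    .nil))) (.node [] (.node [] .nil (.node [(172,(-1))] .nil .nil)) (.node [] (.node [] (.node
    [(217,(-1))] .nil .nil) .nil) (.node [] (.node [(229,(-1))] .nil .nil) .nil))))) (.node []
    (.node [(49,1)] .nil (.node [(87,1)] (.node [] (.node [(145,(-1))] (.node [(200,(-1))] .nil
    .nil) .nil) .nil) (.node [(119,1)] .nil .nil))) (.node [(55,1)] (.node [(81,1)] .nil .nil)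
    (.node [(91,1)] (.node [] (.node [(159,1)] .nil .nil) .nil) (.node [(124,(-1))] (.node [] .nil
    (.node [(238,1)] .nil .nil)) .nil))))) (.node [(19,(-1))] (.node [] (.node [(43,1)] (.node []
    (.node [(92,1)] (.node [(128,(-1))] .nil .nil) .nil) (.node [(104,1)] (.node [(162,(-1))] .nil
    .nil) (.node [(176,(-1))] .nil .nil))) (.node [] (.node [] (.node [(144,1)] (.node [(197,(-1))]
    .nil .nil) .nil) .nil) (.node [(117,(-1))] (.node [] (.node [(214,(-1))] .nil .nil) .nil)
    (.node [(182,(-1))] (.node [(226,(-1))] .nil .nil) .nil)))) (.node [] (.node [] (.node [(99,1)]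
    (.node [(133,(-1))] .nil (.node [(231,(-1))] .nil .nil)) .nil) (.node [] (.node [] (.node
    [(210,(-1))] .nil .nil) .nil) (.node [(179,(-1))] .nil .nil))) (.node [] (.node [] (.node []
    (.node [(203,(-1))] .nil .nil) .nil) .nil) (.node [(123,1)] (.node [] .nil (.node [(237,1)]
    .nil .nil)) .nil)))) (.node [(33,1)] (.node [(52,1)] .nil (.node [(88,1)] (.node [(103,1)] .nil
    (.node [(171,1)] .nil .nil)) (.node [] .nil (.node [(183,1)] .nil .nil)))) (.node [] (.node
    [(84,1)] .nil .nil) (.node [] (.node [] (.node [] .nil (.node [(233,(-1))] .nil .nil)) .nil)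
    (.node [] (.node [(166,1)] (.node [(218,(-1))] .nil .nil) .nil) (.node [] (.node [(230,(-1))]
    .nil .nil) .nil)))))))

/-- table -/
noncomputable def auxE8Chain182 : Tr (List (ℕ × ℤ)) :=
    (.node [(18,(-1))] (.node [] (.node [] (.node [] (.node [] (.node [(92,1)] .nil (.node
    [(168,(-1))] .nil .nil)) (.node [(104,1)] (.node [(162,(-1))] .nil .nil) .nil)) (.node []
    (.node [] (.node [(144,1)] (.node [(192,(-1))] .nil .nil) .nil) .nil) (.node [] .nil (.node
    [(181,(-1))] .nil .nil)))) (.node [] (.node [] (.node [] (.node [] .nil (.node [(231,1)] .nil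
    .nil)) .nil) (.node [] (.node [] (.node [(208,(-1))] .nil .nil) .nil) .nil)) (.node [] (.node
    [] (.node [] (.node [(203,1)] .nil .nil) .nil) (.node [(173,(-1))] .nil .nil)) (.node [(123,1)]
    (.node [] .nil (.node [(237,(-1))] .nil .nil)) .nil)))) (.node [] (.node [(50,(-1))] .nil
    (.node [] (.node [(103,1)] (.node [(146,(-1))] (.node [(201,(-1))] .nil .nil) .nil) (.node
    [(171,1)] .nil .nil)) (.node [] .nil (.node [(183,(-1))] .nil .nil)))) (.node [] (.node
    [(82,(-1))] .nil .nil) (.node [] (.node [] (.node [(160,1)] .nil (.node [(233,1)] .nil .nil))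
    .nil) (.node [(125,(-1))] (.node [(166,1)] (.node [(218,1)] .nil .nil) (.node [(239,1)] .nil
    .nil)) (.node [] (.node [(230,1)] .nil .nil) .nil)))))) (.node [(20,1)] (.node [] (.node
    [(44,(-1))] (.node [] (.node [] (.node [(129,(-1))] .nil .nil) .nil) (.node [] .nil (.node
    [(177,(-1))] .nil .nil))) (.node [(87,1)] (.node [] (.node [] (.node [(198,(-1))] .nil .nil)
    .nil) .nil) (.node [(118,1)] (.node [] (.node [(215,(-1))] .nil .nil) .nil) (.node [] (.node
    [(227,(-1))] .nil .nil) .nil)))) (.node [(55,1)] (.node [] (.node [(100,(-1))] (.node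
    [(134,(-1))] .nil .nil) .nil) (.node [] (.node [] (.node [(211,(-1))] .nil .nil) .nil) (.node
    [(180,(-1))] .nil .nil))) (.node [(91,1)] .nil .nil))) (.node [(34,(-1))] (.node [(53,(-1))]
    (.node [] (.node [] (.node [(132,1)] .nil .nil) .nil) (.node [] .nil (.node [(178,1)] .nil
    .nil))) (.node [(89,(-1))] .nil (.node [(120,1)] (.node [] (.node [(217,1)] .nil .nil) .nil)
    (.node [] (.node [(229,1)] .nil .nil) .nil)))) (.node [] (.node [(85,(-1))] (.node [(102,1)]
    .nil .nil) (.node [] (.node [] (.node [(213,1)] .nil .nil) .nil) .nil)) (.node [] (.node []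
    .nil (.node [(175,1)] .nil .nil)) (.node [(127,1)] .nil .nil))))))

/-- table -/
noncomputable def auxE8Chain183 : Tr (List (ℕ × ℤ)) :=
    (.node [(19,1)] (.node [(20,1)] (.node [] (.node [] (.node [] (.node [] (.node [(129,(-1))]
    .nil .nil) .nil) (.node [] .nil (.node [(177,(-1))] .nil .nil))) (.node [(87,1)] (.node []
    (.node [(145,1)] (.node [(193,(-1))] .nil .nil) .nil) .nil) .nil)) (.node [(55,1)] (.node []
    (.node [] (.node [(134,(-1))] .nil .nil) .nil) (.node [] (.node [] (.node [(209,(-1))] .nil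
    .nil) .nil) (.node [(180,(-1))] .nil .nil))) (.node [(91,1)] .nil (.node [(124,1)] (.node []
    .nil (.node [(238,(-1))] .nil .nil)) .nil)))) (.node [] (.node [(51,1)] .nil (.node [] (.node
    [] (.node [] (.node [(202,(-1))] .nil .nil) .nil) (.node [(172,1)] .nil .nil)) (.node [(121,1)]
    (.node [] (.node [(217,(-1))] .nil .nil) .nil) (.node [] (.node [(229,(-1))] .nil .nil)
    .nil)))) (.node [] (.node [(83,1)] (.node [(102,1)] .nil .nil) (.node [] (.node [] (.node
    [(213,(-1))] .nil .nil) .nil) (.node [(181,1)] .nil .nil))) (.node [] (.node [] (.node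
    [(161,1)] .nil .nil) .nil) (.node [] (.node [(167,1)] .nil .nil) .nil))))) (.node [] (.node []
    (.node [(45,1)] .nil (.node [] (.node [(103,1)] (.node [(146,(-1))] (.node [(199,(-1))] .nil
    .nil) .nil) .nil) (.node [] (.node [] (.node [(216,(-1))] .nil .nil) .nil) (.node [] (.node
    [(228,(-1))] .nil .nil) .nil)))) (.node [] (.node [] (.node [(101,1)] .nil .nil) (.node []
    (.node [] (.node [(212,(-1))] .nil .nil) .nil) .nil)) (.node [] (.node [] (.node [] .nil (.node
    [(233,(-1))] .nil .nil)) .nil) (.node [(125,(-1))] (.node [] (.node [(218,(-1))] .nil .nil)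
    (.node [(239,(-1))] .nil .nil)) (.node [] (.node [(230,(-1))] .nil .nil) .nil))))) (.node
    [(35,1)] (.node [(54,1)] (.node [] (.node [] (.node [(133,1)] .nil (.node [(231,(-1))] .nil
    .nil)) .nil) (.node [] .nil (.node [(179,1)] .nil .nil))) (.node [(90,1)] (.node [] (.node []
    (.node [(203,(-1))] .nil .nil) .nil) (.node [(173,(-1))] .nil .nil)) (.node [(122,(-1))] .nil
    .nil))) (.node [] (.node [(86,1)] .nil (.node [] .nil (.node [(182,(-1))] .nil .nil))) (.node
    [(92,1)] (.node [(104,1)] (.node [(162,(-1))] .nil .nil) (.node [(176,1)] .nil .nil)) (.node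
    [(128,1)] (.node [(168,(-1))] .nil .nil) .nil))))))

/-- table -/
noncomputable def auxE8Chain184 : Tr (List (ℕ × ℤ)) :=
    (.node [] (.node [] (.node [(21,1)] (.node [(36,1)] (.node [] (.node [] (.node [] (.node
    [(188,1)] .nil .nil) .nil) (.node [] (.node [(219,(-1))] .nil .nil) .nil)) .nil) (.node []
    (.node [] .nil (.node [(170,1)] .nil .nil)) (.node [] (.node [(163,(-1))] .nil .nil) (.node []
    (.node [(228,1)] .nil .nil) .nil)))) (.node [(56,(-1))] (.node [(79,1)] (.node [(95,(-1))] .nil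
    .nil) (.node [(112,(-1))] .nil .nil)) (.node [] (.node [(105,1)] (.node [(148,(-1))] .nil
    (.node [(232,(-1))] .nil .nil)) .nil) (.node [] (.node [(164,1)] .nil .nil) (.node [(185,(-1))]
    .nil .nil))))) (.node [(26,1)] (.node [] (.node [] (.node [(93,(-1))] (.node [(135,1)] (.node
    [(190,1)] .nil .nil) .nil) (.node [] (.node [(221,(-1))] .nil .nil) .nil)) (.node [(110,(-1))]
    (.node [] (.node [(205,1)] .nil .nil) .nil) .nil)) (.node [] .nil (.node [] (.node [] .nil
    (.node [(235,(-1))] .nil .nil)) .nil))) (.node [(58,(-1))] (.node [] (.node [] (.node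
    [(136,(-1))] (.node [(195,(-1))] .nil .nil) .nil) .nil) (.node [(115,1)] (.node [] .nil (.node
    [(234,(-1))] .nil .nil)) (.node [] (.node [(226,1)] .nil .nil) .nil))) (.node [] (.node
    [(107,1)] .nil .nil) (.node [] .nil (.node [(187,(-1))] .nil .nil)))))) (.node [] (.node
    [(22,1)] (.node [] (.node [] (.node [] (.node [] (.node [(189,1)] .nil .nil) .nil) (.node []
    (.node [(220,(-1))] .nil .nil) .nil)) (.node [] (.node [] (.node [(204,1)] .nil .nil) .nil)
    .nil)) (.node [] (.node [] .nil (.node [(174,(-1))] .nil .nil)) .nil)) (.node [(57,(-1))]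
    (.node [(80,1)] (.node [] (.node [] (.node [(194,(-1))] .nil .nil) .nil) .nil) (.node [(114,1)]
    .nil .nil)) (.node [] (.node [(106,1)] (.node [(152,1)] .nil .nil) .nil) (.node [] (.node
    [(165,(-1))] .nil .nil) (.node [(186,(-1))] .nil .nil))))) (.node [] (.node [] (.node [(78,1)]
    (.node [(94,(-1))] .nil .nil) (.node [(111,(-1))] (.node [] (.node [(206,1)] .nil .nil) .nil)
    .nil)) (.node [] (.node [] (.node [(147,1)] .nil .nil) .nil) (.node [] (.node [] .nil (.node
    [(236,(-1))] .nil .nil)) .nil))) (.node [] (.node [] (.node [] (.node [(137,1)] (.node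
    [(196,(-1))] .nil .nil) .nil) (.node [(169,(-1))] .nil .nil)) (.node [(116,1)] .nil (.node []
    (.node [(227,1)] .nil .nil) .nil))) .nil))))

/-- table -/
noncomputable def auxE8Chain185 : Tr (List (ℕ × ℤ)) :=
    (.node [] (.node [] (.node [] (.node [(37,(-1))] (.node [] (.node [(93,(-1))] .nil .nil) (.node
    [(110,(-1))] (.node [] (.node [(204,(-1))] .nil .nil) .nil) .nil)) (.node [] (.node [] .nil
    (.node [(171,1)] .nil .nil)) (.node [(123,1)] .nil (.node [] (.node [(229,1)] .nil .nil)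
    .nil)))) (.node [] (.node [(81,(-1))] (.node [(96,1)] (.node [] (.node [(194,1)] .nil .nil)
    .nil) .nil) (.node [(113,1)] .nil (.node [] (.node [(226,(-1))] .nil .nil) .nil))) (.node []
    (.node [] (.node [(149,(-1))] .nil .nil) .nil) .nil))) (.node [(27,(-1))] (.node [] (.node
    [(78,1)] (.node [] (.node [] (.node [(192,1)] .nil .nil) .nil) (.node [] (.node [(222,(-1))]
    .nil .nil) .nil)) (.node [] (.node [] (.node [(207,1)] .nil .nil) .nil) .nil)) (.node [] (.node
    [(105,1)] (.node [(147,1)] .nil .nil) .nil) (.node [] .nil (.node [(186,(-1))] .nil .nil))))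
    (.node [(60,1)] (.node [] (.node [] (.node [] (.node [(197,(-1))] .nil .nil) .nil) (.node
    [(169,(-1))] .nil .nil)) (.node [(118,1)] .nil .nil)) (.node [] (.node [(108,(-1))] .nil .nil)
    (.node [] (.node [] (.node [(219,1)] .nil .nil) .nil) .nil))))) (.node [(21,1)] (.node
    [(23,(-1))] (.node [] (.node [] (.node [(94,(-1))] (.node [(135,1)] (.node [(191,1)] .nil .nil)
    .nil) .nil) (.node [(111,(-1))] .nil .nil)) (.node [] (.node [] .nil (.node [(175,(-1))] .nil
    .nil)) (.node [] (.node [] .nil (.node [(235,1)] .nil .nil)) .nil))) (.node [(59,1)] (.node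
    [(82,(-1))] (.node [] (.node [(136,(-1))] .nil .nil) .nil) (.node [(117,1)] (.node [] .nil
    (.node [(234,1)] .nil .nil)) (.node [(184,(-1))] (.node [(227,(-1))] .nil .nil) .nil))) (.node
    [] (.node [] (.node [(153,1)] .nil .nil) .nil) (.node [] (.node [(166,(-1))] .nil .nil)
    .nil)))) (.node [] (.node [(56,(-1))] (.node [] .nil (.node [] (.node [] (.node [(208,1)] .nil
    .nil) .nil) .nil)) (.node [] (.node [(106,1)] (.node [] .nil (.node [(232,1)] .nil .nil)) .nil)
    (.node [] (.node [(164,1)] .nil (.node [(237,(-1))] .nil .nil)) (.node [(187,(-1))] .nil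
    .nil)))) (.node [] (.node [] (.node [] (.node [(138,1)] (.node [(198,(-1))] .nil .nil) .nil)
    .nil) (.node [] (.node [(163,(-1))] .nil .nil) .nil)) (.node [] .nil (.node [] (.node [] (.node
    [(220,1)] .nil .nil) .nil) (.node [(188,(-1))] .nil .nil)))))))

/-- table -/
noncomputable def auxE8Chain186 : Tr (List (ℕ × ℤ)) :=
    (.node [] (.node [(21,1)] (.node [] (.node [(38,1)] (.node [] (.node [] (.node [(135,1)] (.node
    [(191,(-1))] .nil .nil) .nil) .nil) (.node [] (.node [] (.node [(205,(-1))] .nil .nil) .nil)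
    .nil)) (.node [] (.node [] .nil (.node [(172,1)] .nil .nil)) (.node [(124,1)] (.node [] .nil
    (.node [(235,(-1))] .nil .nil)) .nil))) (.node [(59,1)] (.node [] (.node [] (.node [(136,(-1))]
    (.node [(195,1)] .nil .nil) .nil) .nil) (.node [] (.node [] .nil (.node [(234,(-1))] .nil
    .nil)) (.node [(184,(-1))] .nil .nil))) (.node [] (.node [] (.node [(150,(-1))] .nil .nil)
    .nil) .nil))) (.node [(28,1)] (.node [] (.node [(79,(-1))] (.node [] (.node [] (.node [(193,1)]
    .nil .nil) .nil) .nil) .nil) (.node [] (.node [] (.node [] .nil (.node [(232,(-1))] .nil .nil))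
    .nil) (.node [] (.node [(164,1)] .nil .nil) .nil))) (.node [(61,(-1))] (.node [] .nil (.node []
    (.node [(163,(-1))] .nil .nil) .nil)) .nil))) (.node [] (.node [(24,1)] (.node [] (.node []
    (.node [(95,1)] .nil (.node [] (.node [(222,1)] .nil .nil) .nil)) (.node [(112,1)] (.node []
    (.node [(207,(-1))] .nil .nil) .nil) .nil)) (.node [] (.node [(105,1)] (.node [(147,1)] .nil
    .nil) (.node [(176,(-1))] .nil .nil)) (.node [] .nil (.node [(187,(-1))] .nil .nil)))) (.node
    [] (.node [(83,1)] (.node [] (.node [] (.node [(197,1)] .nil .nil) .nil) (.node [(169,(-1))]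
    .nil .nil)) (.node [(119,1)] .nil (.node [] (.node [(228,(-1))] .nil .nil) .nil))) (.node []
    (.node [(108,(-1))] (.node [(154,1)] .nil .nil) .nil) (.node [] (.node [(167,(-1))] (.node
    [(219,(-1))] .nil .nil) .nil) .nil)))) (.node [] (.node [(57,1)] (.node [(81,(-1))] (.node
    [(96,1)] .nil .nil) (.node [(113,1)] (.node [] (.node [(209,1)] .nil .nil) .nil) (.node []
    (.node [(226,1)] .nil .nil) .nil))) (.node [] (.node [(107,(-1))] .nil .nil) (.node [] (.node
    [] .nil (.node [(238,(-1))] .nil .nil)) .nil))) (.node [] (.node [] (.node [] (.node [(139,1)]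
    (.node [(199,(-1))] .nil .nil) .nil) .nil) (.node [(121,1)] .nil (.node [(185,(-1))] (.node
    [(229,(-1))] .nil .nil) .nil))) (.node [(93,(-1))] (.node [(110,(-1))] .nil .nil) (.node []
    (.node [] (.node [(221,1)] .nil .nil) .nil) (.node [(189,(-1))] .nil .nil)))))))

/-- table -/
noncomputable def auxE8Chain187 : Tr (List (ℕ × ℤ)) :=
    (.node [(21,1)] (.node [] (.node [] (.node [(39,(-1))] (.node [] (.node [(95,1)] (.node []
    (.node [(192,(-1))] .nil .nil) .nil) (.node [] (.node [(222,(-1))] .nil .nil) .nil)) (.node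
    [(112,1)] (.node [] (.node [(206,(-1))] .nil .nil) .nil) .nil)) (.node [] (.node [] (.node
    [(147,1)] .nil .nil) (.node [(173,1)] .nil .nil)) (.node [(125,1)] .nil (.node [(186,(-1))]
    .nil .nil)))) (.node [(60,(-1))] (.node [(83,1)] (.node [] (.node [] (.node [(196,1)] .nil
    .nil) .nil) (.node [(169,(-1))] .nil .nil)) (.node [] .nil (.node [] (.node [(228,1)] .nil
    .nil) .nil))) (.node [] (.node [(108,(-1))] (.node [(151,(-1))] .nil .nil) .nil) .nil))) (.node
    [(29,(-1))] (.node [] (.node [(80,1)] (.node [(96,1)] .nil .nil) (.node [(113,1)] (.node []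
    (.node [(209,(-1))] .nil .nil) .nil) .nil)) (.node [] (.node [(107,(-1))] .nil .nil) .nil))
    (.node [] (.node [] (.node [] (.node [] (.node [(199,1)] .nil .nil) .nil) .nil) (.node
    [(120,1)] .nil (.node [(185,(-1))] (.node [(229,1)] .nil .nil) .nil))) (.node [] .nil (.node []
    (.node [] (.node [(221,(-1))] .nil .nil) .nil) .nil))))) (.node [] (.node [(25,(-1))] (.node []
    (.node [] (.node [] (.node [] (.node [(193,(-1))] .nil .nil) .nil) .nil) (.node [] (.node []
    (.node [(208,(-1))] .nil .nil) .nil) .nil)) (.node [] (.node [(106,(-1))] (.node [] .nil (.node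
    [(232,1)] .nil .nil)) (.node [(177,(-1))] .nil .nil)) (.node [] (.node [(164,1)] .nil .nil)
    .nil))) (.node [(61,(-1))] (.node [] (.node [] (.node [] (.node [(198,1)] .nil .nil) .nil)
    .nil) (.node [] (.node [(163,(-1))] .nil .nil) .nil)) (.node [] (.node [] (.node [(155,1)] .nil
    .nil) .nil) (.node [] (.node [(168,(-1))] (.node [(220,(-1))] .nil .nil) .nil) .nil)))) (.node
    [] (.node [(58,(-1))] (.node [(82,1)] (.node [] (.node [(136,(-1))] .nil .nil) .nil) (.node []
    (.node [] .nil (.node [(234,1)] .nil .nil)) (.node [(184,(-1))] (.node [(227,1)] .nil .nil)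
    .nil))) (.node [] .nil (.node [] (.node [] .nil (.node [(239,(-1))] .nil .nil)) .nil))) (.node
    [] (.node [] (.node [] (.node [(140,1)] .nil .nil) .nil) (.node [(122,1)] (.node [] .nil (.node
    [(235,1)] .nil .nil)) .nil)) (.node [(94,1)] (.node [(111,1)] .nil .nil) (.node [(135,1)] .nil
    (.node [(190,(-1))] .nil .nil)))))))

/-- table -/
noncomputable def auxE8Chain188 : Tr (List (ℕ × ℤ)) :=
    (.node [] (.node [] (.node [(23,(-1))] (.node [(40,1)] (.node [] .nil (.node [(114,(-1))] .nil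
    .nil)) (.node [] (.node [(106,1)] (.node [] .nil (.node [(232,(-1))] .nil .nil)) .nil) (.node
    [(127,(-1))] .nil (.node [] (.node [(230,1)] .nil .nil) .nil)))) (.node [] (.node [(84,1)]
    (.node [(97,(-1))] .nil .nil) (.node [] (.node [(163,(-1))] .nil .nil) .nil)) (.node [] .nil
    (.node [] (.node [(166,(-1))] (.node [(220,(-1))] .nil .nil) .nil) .nil)))) (.node [(30,1)]
    (.node [(56,(-1))] (.node [] (.node [] .nil (.node [] (.node [(223,(-1))] .nil .nil) .nil))
    (.node [(117,1)] (.node [] (.node [(210,1)] .nil .nil) (.node [(234,(-1))] .nil .nil)) (.node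
    [(185,(-1))] (.node [(227,1)] .nil .nil) .nil))) (.node [] (.node [] (.node [(148,1)] .nil
    .nil) .nil) (.node [] (.node [] .nil (.node [(237,1)] .nil .nil)) (.node [(189,(-1))] .nil
    .nil)))) (.node [(63,(-1))] (.node [] (.node [] (.node [(138,1)] (.node [(200,(-1))] .nil .nil)
    .nil) (.node [(170,(-1))] .nil .nil)) .nil) (.node [(94,(-1))] (.node [(109,1)] .nil .nil)
    (.node [(135,1)] .nil (.node [(192,1)] .nil .nil)))))) (.node [(22,(-1))] (.node [] (.node []
    (.node [(78,1)] .nil (.node [(115,(-1))] .nil (.node [(184,1)] (.node [(226,1)] .nil .nil)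
    .nil))) (.node [] (.node [] .nil (.node [(178,(-1))] .nil .nil)) (.node [] (.node [] .nil
    (.node [(236,1)] .nil .nil)) .nil))) (.node [(62,(-1))] (.node [(85,1)] (.node [] (.node
    [(137,(-1))] .nil .nil) .nil) .nil) (.node [(93,(-1))] (.node [] (.node [(156,1)] .nil .nil)
    .nil) (.node [] .nil (.node [(191,1)] .nil .nil))))) (.node [] (.node [] (.node [] (.node []
    (.node [] (.node [(194,(-1))] .nil .nil) .nil) .nil) (.node [(118,1)] (.node [] (.node
    [(211,1)] .nil .nil) .nil) .nil)) (.node [] (.node [] (.node [(149,(-1))] .nil .nil) .nil)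
    (.node [] (.node [(165,1)] (.node [(219,(-1))] .nil .nil) .nil) (.node [(190,(-1))] .nil
    .nil)))) (.node [] (.node [] (.node [(105,1)] (.node [] (.node [(201,(-1))] .nil .nil) .nil)
    (.node [(171,1)] .nil .nil)) (.node [(126,1)] .nil .nil)) (.node [] (.node [] (.node [] (.node
    [(204,1)] .nil .nil) .nil) .nil) .nil)))))

/-- table -/
noncomputable def auxE8Chain189 : Tr (List (ℕ × ℤ)) :=
    (.node [] (.node [(22,(-1))] (.node [(24,1)] (.node [(41,(-1))] (.node [] .nil (.node [] .nil
    (.node [(184,1)] (.node [(226,(-1))] .nil .nil) .nil))) (.node [] (.node [(107,(-1))] .nil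
    .nil) (.node [(128,(-1))] (.node [] .nil (.node [(236,(-1))] .nil .nil)) .nil))) (.node
    [(62,(-1))] (.node [] (.node [] (.node [(137,(-1))] .nil .nil) .nil) (.node [(121,1)] .nil
    .nil)) (.node [(93,(-1))] .nil (.node [] (.node [(167,(-1))] (.node [(221,(-1))] .nil .nil)
    .nil) (.node [(191,(-1))] .nil .nil))))) (.node [(31,(-1))] (.node [(57,1)] (.node [] .nil
    (.node [(119,1)] .nil (.node [(186,(-1))] (.node [(228,1)] .nil .nil) .nil))) (.node [] .nil
    (.node [] (.node [(165,1)] (.node [(219,1)] .nil .nil) (.node [(238,1)] .nil .nil)) .nil)))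
    (.node [(64,1)] (.node [] (.node [(105,1)] (.node [(139,1)] .nil .nil) .nil) (.node [(126,1)]
    .nil .nil)) (.node [(95,1)] .nil (.node [] .nil (.node [(193,1)] .nil .nil)))))) (.node []
    (.node [] (.node [] (.node [(79,(-1))] (.node [] .nil (.node [] (.node [(223,1)] .nil .nil)
    .nil)) (.node [(116,1)] (.node [] (.node [(210,(-1))] .nil .nil) (.node [(234,1)] .nil .nil))
    .nil)) (.node [] (.node [] (.node [(148,1)] .nil .nil) (.node [(179,(-1))] .nil .nil)) (.node
    [] .nil (.node [(190,(-1))] .nil .nil)))) (.node [] (.node [(86,(-1))] (.node [] (.node []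
    (.node [(200,1)] .nil .nil) .nil) (.node [(170,(-1))] .nil .nil)) .nil) (.node [] (.node
    [(109,1)] (.node [(157,1)] .nil .nil) .nil) (.node [(135,1)] .nil .nil)))) (.node [] (.node []
    (.node [(84,1)] (.node [(97,(-1))] (.node [] (.node [(195,(-1))] .nil .nil) .nil) .nil) (.node
    [] (.node [(163,(-1))] (.node [(212,1)] .nil .nil) .nil) .nil)) (.node [] (.node [] (.node
    [(150,(-1))] .nil .nil) .nil) .nil)) (.node [] (.node [] (.node [] (.node [] (.node
    [(202,(-1))] .nil .nil) (.node [(232,1)] .nil .nil)) (.node [(172,1)] .nil .nil)) (.node []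
    .nil (.node [(188,(-1))] (.node [(230,(-1))] .nil .nil) .nil))) (.node [] (.node [(114,(-1))]
    (.node [] (.node [(205,1)] .nil .nil) .nil) .nil) .nil)))))

/-- table -/
noncomputable def auxE8Chain190 : Tr (List (ℕ × ℤ)) :=
    (.node [(22,(-1))] (.node [] (.node [(25,(-1))] (.node [(42,1)] (.node [] (.node [] .nil (.node
    [] (.node [(223,(-1))] .nil .nil) .nil)) (.node [(116,1)] (.node [] .nil (.node [(234,(-1))]
    .nil .nil)) (.node [] (.node [(227,(-1))] .nil .nil) .nil))) (.node [] (.node [] (.node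
    [(148,1)] .nil .nil) .nil) (.node [(129,(-1))] .nil (.node [(189,(-1))] .nil .nil)))) (.node
    [(63,1)] (.node [(86,(-1))] (.node [] .nil (.node [(170,(-1))] .nil .nil)) (.node [(122,1)]
    .nil .nil)) (.node [(94,1)] (.node [(109,1)] .nil .nil) (.node [(135,1)] (.node [(168,(-1))]
    .nil .nil) (.node [(192,(-1))] .nil .nil))))) (.node [(32,1)] (.node [(58,(-1))] (.node []
    (.node [(97,(-1))] .nil .nil) (.node [] (.node [(163,(-1))] (.node [(212,(-1))] .nil .nil)
    .nil) (.node [(187,(-1))] .nil .nil))) (.node [] .nil (.node [] (.node [] (.node [(220,1)] .nil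
    .nil) (.node [(239,1)] .nil .nil)) .nil))) (.node [] (.node [] (.node [(106,(-1))] (.node
    [(140,1)] (.node [(202,1)] .nil .nil) (.node [(232,(-1))] .nil .nil)) .nil) (.node [] .nil
    (.node [(188,(-1))] (.node [(230,1)] .nil .nil) .nil))) .nil))) (.node [] (.node [] (.node []
    (.node [(80,1)] .nil (.node [] (.node [] (.node [(211,(-1))] .nil .nil) .nil) (.node [] (.node
    [(228,(-1))] .nil .nil) .nil))) (.node [] (.node [] .nil (.node [(180,(-1))] .nil .nil)) (.node
    [] (.node [(165,1)] .nil .nil) .nil))) (.node [(64,1)] (.node [] (.node [] (.node [] (.node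
    [(201,1)] .nil .nil) .nil) .nil) (.node [(126,1)] .nil .nil)) (.node [(95,1)] (.node [] (.node
    [(158,1)] .nil .nil) .nil) (.node [] .nil (.node [(193,(-1))] .nil .nil))))) (.node [] (.node
    [] (.node [(85,(-1))] (.node [] (.node [(137,(-1))] (.node [(196,(-1))] .nil .nil) .nil) .nil)
    (.node [(120,1)] .nil .nil)) (.node [] (.node [] (.node [(151,(-1))] .nil .nil) .nil) (.node []
    (.node [] (.node [(221,1)] .nil .nil) .nil) .nil))) (.node [] (.node [] (.node [(107,(-1))]
    .nil (.node [(173,1)] .nil .nil)) (.node [] (.node [] .nil (.node [(236,1)] .nil .nil)) .nil))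
    (.node [] (.node [(115,1)] (.node [] (.node [(206,1)] .nil .nil) .nil) (.node [(184,1)] .nil
    .nil)) .nil)))))

/-- table -/
noncomputable def auxE8Chain191 : Tr (List (ℕ × ℤ)) :=
    (.node [] (.node [(23,1)] (.node [] (.node [(43,1)] (.node [] .nil (.node [(119,1)] (.node []
    (.node [(210,1)] .nil .nil) .nil) (.node [(185,1)] .nil .nil))) (.node [] (.node [(108,1)] .nil
    .nil) (.node [] (.node [] .nil (.node [(237,(-1))] .nil .nil)) .nil))) (.node [] (.node []
    (.node [] (.node [(138,(-1))] (.node [(200,(-1))] .nil .nil) .nil) .nil) (.node [(124,(-1))]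
    .nil (.node [(188,1)] .nil .nil))) (.node [] .nil (.node [] (.node [] (.node [(222,(-1))] .nil
    .nil) .nil) .nil)))) (.node [(33,1)] (.node [(59,(-1))] (.node [(84,1)] .nil (.node [] .nil
    (.node [] (.node [(229,1)] .nil .nil) .nil))) (.node [] (.node [] (.node [(150,(-1))] .nil
    .nil) .nil) (.node [] (.node [(166,1)] .nil .nil) .nil))) (.node [(65,(-1))] (.node [] (.node
    [] .nil (.node [(172,1)] .nil .nil)) (.node [(127,1)] .nil .nil)) (.node [(96,(-1))] .nil
    .nil)))) (.node [(24,1)] (.node [] (.node [] (.node [(81,1)] (.node [(97,(-1))] .nil .nil)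
    (.node [] (.node [(163,(-1))] .nil .nil) (.node [(186,(-1))] .nil .nil))) (.node [] (.node []
    (.node [(149,1)] .nil .nil) (.node [(181,(-1))] .nil .nil)) (.node [] (.node [] (.node
    [(219,(-1))] .nil .nil) (.node [(238,(-1))] .nil .nil)) (.node [(192,(-1))] .nil .nil))))
    (.node [] (.node [(87,1)] (.node [(105,1)] (.node [(139,1)] .nil (.node [(232,(-1))] .nil
    .nil)) (.node [(171,(-1))] .nil .nil)) (.node [] .nil (.node [(189,(-1))] (.node [(230,1)] .nil
    .nil) .nil))) (.node [] (.node [] (.node [(159,1)] .nil .nil) .nil) .nil))) (.node [] (.node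
    [(62,(-1))] (.node [] (.node [] (.node [] (.node [(197,(-1))] .nil .nil) .nil) .nil) (.node
    [(123,1)] (.node [] (.node [(213,1)] .nil .nil) .nil) .nil)) (.node [(93,(-1))] (.node
    [(109,1)] .nil .nil) (.node [(135,1)] (.node [(167,(-1))] .nil .nil) (.node [(193,1)] .nil
    .nil)))) (.node [] (.node [] (.node [] (.node [] (.node [(203,(-1))] .nil .nil) .nil) .nil)
    (.node [(128,(-1))] .nil .nil)) (.node [] (.node [(117,(-1))] (.node [] (.node [(207,1)] .nil
    .nil) (.node [(234,(-1))] .nil .nil)) (.node [] (.node [(226,1)] .nil .nil) .nil)) (.node []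
    (.node [] (.node [(223,(-1))] .nil .nil) .nil) .nil))))))

/-- table -/
noncomputable def auxE8Chain192 : Tr (List (ℕ × ℤ)) :=
    (.node [(23,1)] (.node [] (.node [] (.node [(44,(-1))] (.node [] (.node [(97,(-1))] .nil .nil)
    (.node [] (.node [(163,(-1))] (.node [(211,1)] .nil .nil) .nil) .nil)) (.node [] (.node []
    (.node [(149,1)] .nil .nil) .nil) (.node [] .nil (.node [(191,(-1))] .nil .nil)))) (.node []
    (.node [(87,1)] (.node [] (.node [] (.node [(201,(-1))] .nil .nil) (.node [(232,1)] .nil .nil))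
    (.node [(171,(-1))] .nil .nil)) (.node [(125,(-1))] .nil (.node [] (.node [(230,(-1))] .nil
    .nil) .nil))) .nil)) (.node [(34,(-1))] (.node [(60,1)] (.node [(85,(-1))] .nil (.node
    [(123,1)] (.node [] (.node [(213,(-1))] .nil .nil) .nil) .nil)) (.node [] (.node [(109,1)]
    (.node [(151,(-1))] .nil .nil) .nil) (.node [(135,1)] .nil (.node [(193,(-1))] .nil .nil))))
    (.node [] (.node [] (.node [] (.node [] (.node [(203,1)] .nil .nil) .nil) (.node [(173,1)] .nil
    .nil)) .nil) (.node [] (.node [] (.node [] .nil (.node [(234,1)] .nil .nil)) .nil) (.node []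
    (.node [] (.node [(223,1)] .nil .nil) .nil) .nil))))) (.node [(25,(-1))] (.node [] (.node []
    (.node [(82,(-1))] .nil (.node [(120,1)] .nil (.node [(187,(-1))] (.node [(229,(-1))] .nil
    .nil) .nil))) (.node [] (.node [] .nil (.node [(182,(-1))] .nil .nil)) (.node [] (.node
    [(166,1)] (.node [(220,(-1))] .nil .nil) (.node [(239,(-1))] .nil .nil)) .nil))) (.node
    [(65,(-1))] (.node [] (.node [(106,(-1))] (.node [(140,1)] .nil .nil) .nil) (.node [(127,1)]
    .nil (.node [(190,(-1))] .nil .nil))) (.node [(96,(-1))] (.node [] (.node [(160,1)] .nil .nil)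
    .nil) .nil))) (.node [] (.node [(63,1)] (.node [] (.node [] (.node [(138,(-1))] (.node
    [(198,(-1))] .nil .nil) .nil) .nil) (.node [] .nil (.node [(188,1)] .nil .nil))) (.node
    [(94,1)] .nil (.node [] (.node [(168,(-1))] (.node [(222,1)] .nil .nil) .nil) .nil))) (.node []
    (.node [] (.node [(108,1)] .nil .nil) (.node [(129,(-1))] (.node [] .nil (.node [(237,1)] .nil
    .nil)) .nil)) (.node [] (.node [(118,1)] (.node [] (.node [(208,1)] .nil .nil) .nil) (.node
    [(185,1)] (.node [(227,1)] .nil .nil) .nil)) .nil)))))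

/-- table -/
noncomputable def auxE8Chain193 : Tr (List (ℕ × ℤ)) :=
    (.node [(24,(-1))] (.node [(25,(-1))] (.node [] (.node [(45,1)] (.node [] .nil (.node [(121,1)]
    (.node [] (.node [(212,1)] .nil .nil) .nil) (.node [(187,(-1))] (.node [(229,1)] .nil .nil)
    .nil))) (.node [] (.node [] (.node [(150,1)] .nil .nil) .nil) (.node [] (.node [] .nil (.node
    [(239,1)] .nil .nil)) .nil))) (.node [(65,(-1))] (.node [] (.node [] (.node [(140,1)] (.node
    [(202,(-1))] .nil .nil) .nil) (.node [(172,(-1))] .nil .nil)) (.node [] .nil (.node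
    [(190,(-1))] .nil .nil))) (.node [(96,(-1))] .nil .nil))) (.node [(35,1)] (.node [(61,(-1))]
    (.node [(86,1)] .nil (.node [(124,1)] .nil .nil)) (.node [] .nil (.node [] (.node [(168,(-1))]
    (.node [(222,(-1))] .nil .nil) .nil) .nil))) (.node [] (.node [] (.node [(108,1)] .nil .nil)
    (.node [(129,(-1))] .nil (.node [(191,1)] .nil .nil))) .nil))) (.node [] (.node [] (.node []
    (.node [(83,1)] .nil (.node [(122,(-1))] (.node [] (.node [(213,1)] .nil .nil) .nil) .nil))
    (.node [] (.node [(109,1)] (.node [(151,(-1))] .nil .nil) (.node [(183,(-1))] .nil .nil))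
    (.node [(135,1)] (.node [(167,1)] (.node [(221,(-1))] .nil .nil) .nil) .nil))) (.node [] (.node
    [] (.node [(107,1)] (.node [] (.node [(203,(-1))] .nil .nil) .nil) (.node [(173,1)] .nil .nil))
    (.node [(128,1)] .nil .nil)) (.node [] (.node [] (.node [(161,1)] .nil (.node [(234,(-1))] .nil
    .nil)) .nil) (.node [] (.node [] (.node [(223,(-1))] .nil .nil) .nil) .nil)))) (.node [] (.node
    [(64,(-1))] (.node [(87,1)] (.node [] (.node [(139,(-1))] (.node [(199,(-1))] .nil .nil) (.node
    [(232,(-1))] .nil .nil)) .nil) (.node [(125,(-1))] .nil (.node [(189,1)] (.node [(230,1)] .nil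
    .nil) .nil))) (.node [(95,(-1))] .nil .nil)) (.node [] (.node [] .nil (.node [] (.node [] .nil
    (.node [(238,1)] .nil .nil)) (.node [(192,(-1))] .nil .nil))) (.node [(97,(-1))] (.node []
    (.node [(163,(-1))] (.node [(209,1)] .nil .nil) .nil) (.node [(186,1)] (.node [(228,1)] .nil
    .nil) .nil)) .nil)))))

/-- table -/
noncomputable def auxE8Chain194 : Tr (List (ℕ × ℤ)) :=
    (.node [] (.node [] (.node [(27,1)] (.node [(46,(-1))] (.node [(78,1)] .nil .nil) (.node []
    (.node [(111,1)] .nil (.node [(178,(-1))] .nil .nil)) (.node [(132,1)] (.node [(166,(-1))]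
    (.node [(220,1)] .nil .nil) .nil) (.node [] (.node [(231,1)] .nil .nil) .nil)))) (.node []
    (.node [(88,(-1))] (.node [(98,1)] .nil .nil) (.node [(130,1)] (.node [(164,(-1))] .nil .nil)
    .nil)) (.node [] (.node [(117,1)] (.node [(156,1)] .nil .nil) (.node [(184,(-1))] .nil .nil))
    .nil))) (.node [] (.node [] (.node [] (.node [] (.node [(138,1)] (.node [(201,(-1))] .nil .nil)
    (.node [(232,1)] .nil .nil)) (.node [] (.node [(224,(-1))] .nil .nil) .nil)) (.node [] (.node
    [] (.node [(214,1)] .nil .nil) (.node [(235,(-1))] .nil .nil)) .nil)) (.node [(94,(-1))] (.node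
    [(114,(-1))] (.node [(152,1)] .nil .nil) .nil) (.node [] .nil (.node [(195,(-1))] .nil .nil))))
    (.node [(67,1)] (.node [] (.node [] .nil (.node [(174,(-1))] .nil .nil)) (.node [] (.node []
    .nil (.node [(237,(-1))] .nil .nil)) .nil)) (.node [] (.node [] (.node [] (.node [(204,(-1))]
    .nil .nil) .nil) (.node [(188,(-1))] (.node [(227,(-1))] .nil .nil) .nil)) (.node [(136,1)]
    .nil (.node [(198,1)] .nil .nil)))))) (.node [(26,1)] (.node [(30,1)] (.node [(56,(-1))] (.node
    [] (.node [] (.node [(137,(-1))] (.node [(200,(-1))] .nil .nil) .nil) .nil) .nil) (.node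
    [(93,(-1))] .nil .nil)) (.node [(66,1)] (.node [(89,(-1))] .nil (.node [] (.node [] .nil (.node
    [(236,(-1))] .nil .nil)) .nil)) (.node [] (.node [(118,1)] .nil (.node [(185,1)] (.node
    [(226,(-1))] .nil .nil) .nil)) (.node [] .nil (.node [(197,1)] .nil .nil))))) (.node [] (.node
    [] (.node [] .nil (.node [] (.node [] (.node [(215,1)] .nil .nil) .nil) .nil)) (.node [] (.node
    [(115,(-1))] (.node [(153,(-1))] .nil .nil) .nil) (.node [] .nil (.node [(196,(-1))] .nil
    .nil)))) (.node [] (.node [] (.node [(110,1)] .nil (.node [(175,1)] .nil .nil)) (.node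
    [(131,(-1))] (.node [(165,1)] (.node [(219,1)] .nil .nil) .nil) .nil)) .nil))))

/-- table -/
noncomputable def auxE8Chain195 : Tr (List (ℕ × ℤ)) :=
    (.node [] (.node [(26,1)] (.node [(28,(-1))] (.node [(47,1)] (.node [(79,(-1))] (.node []
    (.node [(137,(-1))] (.node [(200,1)] .nil .nil) .nil) .nil) .nil) (.node [(93,(-1))] (.node
    [(112,(-1))] .nil (.node [(179,(-1))] .nil .nil)) (.node [(133,1)] (.node [(167,(-1))] (.node
    [(221,1)] .nil .nil) .nil) .nil))) (.node [(66,1)] (.node [] .nil (.node [] (.node [] .nil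
    (.node [(236,1)] .nil .nil)) .nil)) (.node [] (.node [(119,1)] (.node [(157,1)] .nil .nil)
    (.node [] (.node [(226,1)] .nil .nil) .nil)) (.node [] .nil (.node [(197,(-1))] .nil .nil)))))
    (.node [] (.node [] (.node [] (.node [] (.node [(139,1)] (.node [(202,(-1))] .nil .nil) .nil)
    .nil) .nil) (.node [(95,1)] .nil .nil)) (.node [(68,(-1))] (.node [] (.node [(110,1)] .nil
    .nil) (.node [(131,(-1))] (.node [(165,1)] (.node [(219,(-1))] .nil .nil) (.node [(238,(-1))]
    .nil .nil)) .nil)) (.node [] (.node [(121,1)] (.node [] (.node [(205,(-1))] .nil .nil) .nil)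
    (.node [(189,(-1))] (.node [(228,(-1))] .nil .nil) .nil)) (.node [] .nil (.node [(199,1)] .nil
    .nil)))))) (.node [] (.node [(31,(-1))] (.node [(57,1)] (.node [] (.node [] (.node [] .nil
    (.node [(232,(-1))] .nil .nil)) (.node [] (.node [(224,1)] .nil .nil) .nil)) (.node [] (.node
    [] (.node [(214,(-1))] .nil .nil) (.node [(235,1)] .nil .nil)) .nil)) (.node [] (.node
    [(114,(-1))] (.node [(152,1)] .nil .nil) .nil) (.node [] .nil (.node [(196,(-1))] .nil .nil))))
    (.node [] (.node [(90,1)] (.node [] .nil (.node [(174,(-1))] .nil .nil)) .nil) (.node [] (.node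
    [] .nil (.node [(186,1)] .nil .nil)) (.node [(136,1)] .nil .nil)))) (.node [] (.node [] (.node
    [(88,(-1))] (.node [(98,1)] .nil .nil) (.node [(130,1)] (.node [(164,(-1))] (.node [(216,1)]
    .nil .nil) .nil) .nil)) (.node [] (.node [(116,1)] (.node [(154,(-1))] .nil .nil) (.node
    [(184,(-1))] .nil .nil)) .nil)) (.node [] (.node [] (.node [] .nil (.node [(176,1)] .nil .nil))
    (.node [] .nil (.node [(194,(-1))] (.node [(231,(-1))] .nil .nil) .nil))) .nil))))

/-- table -/
noncomputable def auxE8Chain196 : Tr (List (ℕ × ℤ)) :=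
    (.node [(26,1)] (.node [] (.node [(29,1)] (.node [(48,(-1))] (.node [(80,1)] (.node [] (.node
    [] (.node [(201,1)] .nil .nil) (.node [(232,1)] .nil .nil)) (.node [] (.node [(224,(-1))] .nil
    .nil) .nil)) (.node [] (.node [] .nil (.node [(235,(-1))] .nil .nil)) .nil)) (.node [(94,1)]
    (.node [] (.node [(152,1)] .nil .nil) (.node [(180,(-1))] .nil .nil)) (.node [(134,1)] (.node
    [(168,(-1))] .nil .nil) (.node [(195,(-1))] .nil .nil)))) (.node [(67,(-1))] (.node [(90,1)]
    (.node [] .nil (.node [(174,(-1))] .nil .nil)) .nil) (.node [] (.node [] (.node [(158,1)] .nil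
    .nil) (.node [] (.node [(227,1)] .nil .nil) .nil)) (.node [(136,1)] .nil (.node [(198,(-1))]
    .nil .nil))))) (.node [] (.node [] (.node [] (.node [(98,1)] (.node [(140,1)] .nil .nil) .nil)
    (.node [(130,1)] (.node [(164,(-1))] (.node [(216,(-1))] .nil .nil) .nil) .nil)) (.node []
    (.node [(116,1)] .nil (.node [(184,(-1))] .nil .nil)) .nil)) (.node [] (.node [] (.node
    [(111,(-1))] .nil .nil) (.node [] (.node [] (.node [(220,(-1))] .nil .nil) (.node [(239,(-1))]
    .nil .nil)) (.node [(194,(-1))] (.node [(231,1)] .nil .nil) .nil))) (.node [] (.node [(122,1)]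
    (.node [] (.node [(206,(-1))] .nil .nil) .nil) (.node [(190,(-1))] .nil .nil)) .nil)))) (.node
    [] (.node [(32,1)] (.node [(58,(-1))] (.node [] (.node [] (.node [] (.node [(202,1)] .nil .nil)
    .nil) .nil) (.node [] (.node [] (.node [(215,(-1))] .nil .nil) .nil) .nil)) (.node [(95,1)]
    (.node [(115,1)] .nil .nil) .nil)) (.node [(68,(-1))] (.node [] .nil (.node [(131,(-1))] (.node
    [(165,1)] .nil .nil) .nil)) (.node [] (.node [(120,1)] .nil (.node [(187,1)] (.node [(228,1)]
    .nil .nil) .nil)) (.node [] .nil (.node [(199,(-1))] .nil .nil))))) (.node [] (.node [] (.node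
    [(89,1)] .nil (.node [] (.node [] .nil (.node [(236,(-1))] .nil .nil)) .nil)) (.node [] (.node
    [] (.node [(155,(-1))] .nil .nil) .nil) .nil)) (.node [] (.node [] (.node [(112,(-1))] .nil
    (.node [(177,1)] .nil .nil)) (.node [] (.node [] (.node [(221,(-1))] .nil .nil) .nil) .nil))
    (.node [] .nil (.node [(137,(-1))] .nil .nil))))))

/-- table -/
noncomputable def auxE8Chain197 : Tr (List (ℕ × ℤ)) :=
    (.node [] (.node [(27,(-1))] (.node [] (.node [(49,(-1))] (.node [(81,1)] (.node [] (.node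
    [(138,(-1))] .nil .nil) .nil) (.node [] (.node [] (.node [(214,1)] .nil .nil) .nil) .nil))
    (.node [] (.node [(113,1)] .nil (.node [(181,(-1))] .nil .nil)) (.node [] (.node [] (.node
    [(222,1)] .nil .nil) .nil) .nil))) (.node [] (.node [] .nil (.node [] (.node [] .nil (.node
    [(237,1)] .nil .nil)) (.node [(194,1)] .nil .nil))) (.node [] (.node [] (.node [(159,1)] .nil
    .nil) (.node [(186,1)] .nil .nil)) .nil))) (.node [] (.node [] (.node [(88,(-1))] (.node []
    (.node [] (.node [(203,(-1))] .nil .nil) .nil) .nil) .nil) (.node [(96,(-1))] (.node [(119,1)]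
    (.node [(154,(-1))] .nil .nil) .nil) .nil)) (.node [(69,1)] (.node [] (.node [] .nil (.node
    [(176,1)] .nil .nil)) (.node [(132,(-1))] (.node [(166,1)] .nil .nil) .nil)) (.node [] (.node
    [(124,(-1))] (.node [] (.node [(207,(-1))] .nil .nil) .nil) (.node [(191,(-1))] (.node
    [(229,(-1))] .nil .nil) .nil)) .nil)))) (.node [(28,(-1))] (.node [(33,1)] (.node [(59,(-1))]
    (.node [] (.node [(98,1)] (.node [(139,1)] .nil .nil) .nil) (.node [(130,1)] (.node
    [(164,(-1))] .nil .nil) .nil)) (.node [] (.node [(117,(-1))] (.node [(153,1)] .nil .nil) .nil)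
    (.node [] .nil (.node [(198,(-1))] .nil .nil)))) (.node [] (.node [(91,(-1))] (.node [(110,1)]
    .nil (.node [(175,(-1))] .nil .nil)) (.node [] (.node [] (.node [(219,1)] .nil .nil) (.node
    [(238,1)] .nil .nil)) (.node [(195,(-1))] (.node [(231,1)] .nil .nil) .nil))) (.node [] (.node
    [(123,1)] .nil .nil) .nil))) (.node [] (.node [(66,1)] (.node [] .nil (.node [] (.node []
    (.node [(217,1)] .nil .nil) .nil) .nil)) (.node [] (.node [] .nil (.node [(185,(-1))] (.node
    [(226,(-1))] .nil .nil) .nil)) (.node [(136,1)] .nil (.node [(199,1)] .nil .nil)))) (.node []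
    (.node [(93,(-1))] .nil (.node [(133,1)] (.node [(167,(-1))] .nil .nil) .nil)) (.node [] (.node
    [] (.node [] .nil (.node [(235,(-1))] .nil .nil)) .nil) (.node [] (.node [] (.node [(224,(-1))]
    .nil .nil) .nil) (.node [(200,(-1))] (.node [(232,1)] .nil .nil) .nil)))))))

/-- table -/
noncomputable def auxE8Chain198 : Tr (List (ℕ × ℤ)) :=
    (.node [(27,(-1))] (.node [] (.node [] (.node [(50,1)] (.node [(82,(-1))] (.node [(98,1)] .nil
    .nil) (.node [(130,1)] (.node [(164,(-1))] (.node [(215,1)] .nil .nil) .nil) .nil)) (.node []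
    (.node [] (.node [(153,1)] .nil .nil) (.node [(182,(-1))] .nil .nil)) (.node [] .nil (.node
    [(197,(-1))] .nil .nil)))) (.node [] (.node [(91,(-1))] (.node [] .nil (.node [(175,(-1))] .nil
    .nil)) (.node [] .nil (.node [] (.node [(231,(-1))] .nil .nil) .nil))) (.node [] (.node
    [(123,1)] (.node [(160,1)] .nil .nil) (.node [(187,1)] .nil .nil)) .nil))) (.node [] (.node []
    (.node [(89,1)] .nil (.node [] (.node [] (.node [(217,(-1))] .nil .nil) .nil) .nil)) (.node []
    (.node [] (.node [(155,(-1))] .nil .nil) (.node [(185,(-1))] .nil .nil)) (.node [(136,1)] .nil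
    (.node [(199,(-1))] .nil .nil)))) (.node [] (.node [] (.node [] .nil (.node [(177,1)] .nil
    .nil)) .nil) (.node [] (.node [(125,(-1))] (.node [] (.node [(208,(-1))] .nil .nil) (.node
    [(235,1)] .nil .nil)) (.node [(192,(-1))] .nil .nil)) (.node [] (.node [] (.node [(224,1)] .nil
    .nil) .nil) (.node [] (.node [(232,(-1))] .nil .nil) .nil)))))) (.node [(29,1)] (.node
    [(34,(-1))] (.node [(60,1)] (.node [] (.node [] (.node [(140,1)] (.node [(203,1)] .nil .nil)
    .nil) .nil) .nil) (.node [(96,(-1))] (.node [(118,1)] .nil .nil) .nil)) (.node [(69,1)] (.node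
    [] (.node [(111,(-1))] .nil .nil) (.node [(132,(-1))] (.node [(166,1)] (.node [(220,1)] .nil
    .nil) (.node [(239,1)] .nil .nil)) (.node [(196,(-1))] .nil .nil))) (.node [] (.node [] .nil
    (.node [] (.node [(229,1)] .nil .nil) .nil)) .nil))) (.node [] (.node [(67,(-1))] (.node []
    .nil (.node [] (.node [] .nil (.node [(237,(-1))] .nil .nil)) (.node [(194,1)] .nil .nil)))
    (.node [] (.node [(120,1)] .nil (.node [] (.node [(227,(-1))] .nil .nil) .nil)) .nil)) (.node
    [] (.node [(94,1)] (.node [(113,1)] .nil .nil) (.node [(134,1)] (.node [(168,(-1))] (.node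
    [(222,(-1))] .nil .nil) .nil) .nil)) (.node [] .nil (.node [(138,(-1))] .nil (.node
    [(201,(-1))] .nil .nil)))))))

/-- table -/
noncomputable def auxE8Chain199 : Tr (List (ℕ × ℤ)) :=
    (.node [(28,1)] (.node [(29,1)] (.node [] (.node [(51,(-1))] (.node [(83,1)] (.node [] (.node
    [(140,1)] (.node [(203,(-1))] .nil .nil) .nil) .nil) (.node [] (.node [] (.node [(216,1)] .nil
    .nil) .nil) .nil)) (.node [(96,(-1))] (.node [] (.node [(154,1)] .nil .nil) (.node [(183,(-1))]
    .nil .nil)) .nil)) (.node [(69,1)] (.node [] (.node [] .nil (.node [(176,(-1))] .nil .nil))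
    (.node [] (.node [] .nil (.node [(239,(-1))] .nil .nil)) (.node [(196,(-1))] .nil .nil)))
    (.node [] (.node [(124,1)] (.node [(161,1)] .nil .nil) (.node [] (.node [(229,(-1))] .nil .nil)
    .nil)) .nil))) (.node [] (.node [] (.node [(90,(-1))] .nil .nil) (.node [] (.node [(121,1)]
    .nil (.node [(186,(-1))] .nil .nil)) .nil)) (.node [] (.node [] (.node [(113,1)] .nil .nil)
    (.node [(134,1)] (.node [(168,(-1))] (.node [(222,1)] .nil .nil) .nil) (.node [(197,1)] .nil
    .nil))) (.node [] (.node [] (.node [] (.node [(209,(-1))] .nil .nil) .nil) (.node [(193,(-1))]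
    .nil .nil)) .nil)))) (.node [] (.node [(35,1)] (.node [(61,(-1))] (.node [] .nil (.node []
    (.node [] (.node [(217,1)] .nil .nil) .nil) .nil)) (.node [] (.node [] (.node [(155,(-1))] .nil
    .nil) .nil) (.node [(136,1)] .nil .nil))) (.node [] (.node [] (.node [(112,1)] .nil (.node
    [(177,1)] .nil .nil)) (.node [(133,(-1))] (.node [(167,1)] (.node [(221,1)] .nil .nil) .nil)
    .nil)) (.node [] (.node [(125,(-1))] (.node [] .nil (.node [(235,(-1))] .nil .nil)) .nil)
    (.node [] (.node [] (.node [(224,(-1))] .nil .nil) .nil) (.node [] (.node [(232,1)] .nil .nil)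
    .nil))))) (.node [] (.node [(68,1)] (.node [(91,(-1))] .nil (.node [] (.node [] .nil (.node
    [(238,(-1))] .nil .nil)) (.node [(195,1)] (.node [(231,1)] .nil .nil) .nil))) (.node [] (.node
    [(122,(-1))] .nil (.node [(187,1)] (.node [(228,(-1))] .nil .nil) .nil)) .nil)) (.node []
    (.node [(95,(-1))] .nil (.node [] .nil (.node [(198,(-1))] .nil .nil))) (.node [(98,1)] (.node
    [(130,1)] (.node [(164,(-1))] .nil .nil) .nil) (.node [(139,(-1))] .nil (.node [(202,(-1))]
    .nil .nil)))))))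

/-- table -/
noncomputable def auxE8Chain200 : Tr (List (ℕ × ℤ)) :=
    (.node [] (.node [(30,1)] (.node [(33,1)] (.node [(52,1)] (.node [(84,(-1))] .nil (.node []
    .nil (.node [(194,(-1))] .nil .nil))) (.node [] .nil (.node [] (.node [] (.node [(223,1)] .nil
    .nil) .nil) .nil))) (.node [] (.node [] .nil (.node [(133,1)] (.node [(167,(-1))] (.node
    [(219,(-1))] .nil .nil) .nil) .nil)) (.node [] (.node [] .nil (.node [(189,1)] .nil .nil))
    (.node [] (.node [] (.node [(224,1)] .nil .nil) .nil) (.node [] (.node [(232,(-1))] .nil .nil)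
    .nil))))) (.node [] (.node [(66,1)] (.node [] .nil (.node [] (.node [] .nil (.node [(238,(-1))]
    .nil .nil)) (.node [(197,(-1))] (.node [(231,(-1))] .nil .nil) .nil))) (.node [(97,1)] (.node
    [] (.node [(157,(-1))] .nil .nil) (.node [] (.node [(226,1)] .nil .nil) .nil)) .nil)) (.node
    [(70,(-1))] (.node [(93,(-1))] (.node [(117,(-1))] .nil (.node [(179,1)] .nil .nil)) .nil)
    (.node [(98,1)] (.node [(128,1)] (.node [] (.node [(210,(-1))] .nil .nil) .nil) (.node []
    (.node [(230,(-1))] .nil .nil) .nil)) (.node [(139,1)] .nil (.node [(203,(-1))] .nil .nil))))))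
    (.node [(31,1)] (.node [] (.node [(62,1)] (.node [(88,(-1))] .nil (.node [(131,1)] (.node
    [(165,(-1))] .nil (.node [(237,(-1))] .nil .nil)) (.node [(195,1)] .nil .nil))) (.node []
    (.node [] (.node [(156,1)] .nil .nil) .nil) (.node [] .nil (.node [(201,(-1))] .nil .nil))))
    (.node [] (.node [(92,1)] (.node [(114,1)] .nil (.node [(178,(-1))] .nil .nil)) .nil) (.node []
    (.node [(127,(-1))] .nil (.node [(191,(-1))] .nil .nil)) (.node [(138,(-1))] .nil .nil))))
    (.node [] (.node [] (.node [] .nil (.node [(132,(-1))] (.node [(166,1)] (.node [(218,1)] .nil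
    .nil) .nil) .nil)) (.node [] (.node [(126,1)] (.node [(159,1)] .nil .nil) (.node [(188,(-1))]
    .nil .nil)) (.node [(137,1)] .nil (.node [(202,1)] .nil .nil)))) (.node [] (.node [] (.node
    [(119,1)] .nil (.node [(181,(-1))] .nil .nil)) .nil) (.node [] (.node [] (.node [] (.node
    [(214,(-1))] .nil .nil) (.node [(236,(-1))] .nil .nil)) .nil) .nil)))))

/-- table -/
noncomputable def auxE8Chain201 : Tr (List (ℕ × ℤ)) :=
    (.node [(30,1)] (.node [] (.node [(34,(-1))] (.node [(53,(-1))] (.node [(85,1)] .nil (.node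
    [(131,1)] (.node [(165,(-1))] .nil (.node [(237,1)] .nil .nil)) .nil)) (.node [] (.node
    [(120,1)] (.node [(156,1)] .nil .nil) .nil) (.node [] .nil (.node [(200,(-1))] .nil .nil))))
    (.node [] (.node [(92,1)] (.node [] .nil (.node [(178,(-1))] .nil .nil)) (.node [(134,1)]
    (.node [(168,(-1))] (.node [(220,(-1))] .nil .nil) .nil) .nil)) (.node [] (.node [(127,(-1))]
    .nil (.node [(190,1)] .nil .nil)) (.node [(138,(-1))] .nil .nil)))) (.node [] (.node
    [(67,(-1))] (.node [] .nil (.node [(132,(-1))] (.node [(166,1)] (.node [(218,(-1))] .nil .nil)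
    (.node [(239,(-1))] .nil .nil)) (.node [(198,(-1))] .nil .nil))) (.node [] (.node [(126,1)]
    (.node [(158,(-1))] .nil .nil) (.node [(188,(-1))] (.node [(227,1)] .nil .nil) .nil)) (.node
    [(137,1)] .nil (.node [(202,(-1))] .nil .nil)))) (.node [] (.node [(94,1)] (.node [(118,1)]
    .nil (.node [(180,1)] .nil .nil)) .nil) (.node [] (.node [(129,1)] (.node [] (.node
    [(211,(-1))] .nil .nil) (.node [(236,1)] .nil .nil)) .nil) (.node [(140,1)] .nil .nil)))))
    (.node [(32,(-1))] (.node [] (.node [(63,(-1))] (.node [(89,1)] .nil (.node [] .nil (.node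
    [(196,1)] (.node [(231,1)] .nil .nil) .nil))) (.node [(97,1)] .nil .nil)) (.node [(70,(-1))]
    (.node [] (.node [(115,(-1))] .nil .nil) .nil) (.node [(98,1)] (.node [] .nil (.node
    [(192,(-1))] (.node [(230,1)] .nil .nil) .nil)) (.node [] .nil (.node [(203,1)] .nil .nil)))))
    (.node [] (.node [] .nil (.node [] (.node [] (.node [(160,1)] .nil .nil) .nil) (.node [] (.node
    [] (.node [(224,(-1))] .nil .nil) .nil) (.node [] (.node [(232,1)] .nil .nil) .nil)))) (.node
    [] (.node [] (.node [] .nil (.node [(182,(-1))] .nil .nil)) (.node [] (.node [] (.node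
    [(223,(-1))] .nil .nil) .nil) .nil)) (.node [] (.node [] (.node [] (.node [(215,(-1))] .nil
    .nil) .nil) (.node [(194,(-1))] .nil .nil)) .nil)))))

/-- table -/
noncomputable def auxE8Chain202 : Tr (List (ℕ × ℤ)) :=
    (.node [(31,(-1))] (.node [(32,(-1))] (.node [(35,1)] (.node [(54,1)] (.node [(86,(-1))] .nil
    (.node [] (.node [] .nil (.node [(238,1)] .nil .nil)) (.node [(196,1)] (.node [(231,(-1))] .nil
    .nil) .nil))) (.node [(97,1)] (.node [(122,(-1))] (.node [(157,1)] .nil .nil) .nil) .nil))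
    (.node [(70,(-1))] (.node [] (.node [] .nil (.node [(179,(-1))] .nil .nil)) (.node [] (.node []
    (.node [(221,(-1))] .nil .nil) .nil) .nil)) (.node [(98,1)] (.node [(128,(-1))] .nil (.node []
    (.node [(230,(-1))] .nil .nil) .nil)) (.node [(139,(-1))] .nil (.node [(203,(-1))] .nil
    .nil))))) (.node [] (.node [(68,1)] (.node [] .nil (.node [(133,(-1))] (.node [(167,1)] .nil
    .nil) (.node [(199,(-1))] .nil .nil))) (.node [] (.node [] .nil (.node [(189,(-1))] (.node
    [(228,1)] .nil .nil) .nil)) (.node [] (.node [] (.node [(224,1)] .nil .nil) .nil) (.node []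
    (.node [(232,(-1))] .nil .nil) .nil)))) (.node [] (.node [(95,(-1))] .nil (.node [] (.node []
    (.node [(223,1)] .nil .nil) .nil) (.node [(200,1)] .nil .nil))) (.node [] (.node [] (.node []
    (.node [(212,(-1))] .nil .nil) .nil) .nil) .nil)))) (.node [] (.node [] (.node [(64,1)] (.node
    [(90,(-1))] .nil (.node [] (.node [] (.node [(218,1)] .nil .nil) (.node [(239,1)] .nil .nil))
    .nil)) (.node [] (.node [(126,1)] (.node [(158,(-1))] .nil .nil) .nil) (.node [(137,1)] .nil
    .nil))) (.node [] (.node [] (.node [(116,1)] .nil (.node [(180,1)] .nil .nil)) .nil) (.node []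
    (.node [(129,1)] (.node [] .nil (.node [(236,(-1))] .nil .nil)) (.node [(193,(-1))] .nil .nil))
    (.node [(140,1)] .nil .nil)))) (.node [] (.node [] (.node [(92,1)] .nil (.node [(134,1)] (.node
    [(168,(-1))] .nil .nil) .nil)) (.node [] (.node [] (.node [(161,1)] .nil .nil) (.node [(190,1)]
    .nil .nil)) .nil)) (.node [] (.node [] (.node [(121,1)] .nil (.node [(183,(-1))] .nil .nil))
    (.node [] .nil (.node [(201,(-1))] .nil .nil))) (.node [] (.node [(131,1)] (.node [(165,(-1))]
    (.node [(216,(-1))] .nil .nil) .nil) (.node [(195,(-1))] .nil .nil)) .nil)))))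

/-- table -/
noncomputable def auxE8Chain203 : Tr (List (ℕ × ℤ)) :=
    (.node [(33,1)] (.node [(34,1)] (.node [] (.node [(55,(-1))] (.node [(87,1)] .nil (.node
    [(133,(-1))] (.node [(167,1)] (.node [(218,(-1))] .nil .nil) .nil) (.node [(198,1)] .nil
    .nil))) (.node [] (.node [(125,1)] (.node [(159,1)] .nil .nil) .nil) .nil)) (.node [] (.node []
    (.node [] .nil (.node [(181,(-1))] .nil .nil)) (.node [] (.node [] (.node [(222,(-1))] .nil
    .nil) .nil) (.node [(201,1)] .nil .nil))) (.node [] (.node [] .nil (.node [(193,(-1))] .nil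
    .nil)) .nil))) (.node [] (.node [(69,(-1))] (.node [(92,1)] .nil .nil) (.node [] (.node
    [(128,(-1))] (.node [(161,1)] .nil .nil) (.node [(191,(-1))] (.node [(229,1)] .nil .nil) .nil))
    (.node [(139,(-1))] .nil .nil))) (.node [] (.node [(96,1)] (.node [(123,1)] .nil (.node
    [(183,(-1))] .nil .nil)) .nil) (.node [] (.node [] (.node [] (.node [(213,(-1))] .nil .nil)
    (.node [(238,(-1))] .nil .nil)) .nil) .nil)))) (.node [(35,1)] (.node [] (.node [(65,(-1))]
    (.node [(91,1)] .nil (.node [(134,1)] (.node [(168,(-1))] .nil .nil) (.node [(199,(-1))] .nil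
    .nil))) (.node [] (.node [(127,1)] (.node [(160,(-1))] .nil .nil) .nil) (.node [(138,1)] (.node
    [] (.node [(224,(-1))] .nil .nil) .nil) (.node [] (.node [(232,1)] .nil .nil) .nil)))) (.node
    [] (.node [] (.node [] .nil (.node [(182,1)] .nil .nil)) (.node [] (.node [] (.node
    [(223,(-1))] .nil .nil) .nil) (.node [(202,(-1))] .nil .nil))) (.node [] (.node [] (.node []
    .nil (.node [(237,(-1))] .nil .nil)) .nil) .nil))) (.node [] (.node [(70,(-1))] (.node [] .nil
    (.node [] .nil (.node [(200,(-1))] .nil .nil))) (.node [(98,1)] (.node [(129,1)] .nil (.node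
    [(192,1)] (.node [(230,1)] .nil .nil) .nil)) (.node [(140,1)] .nil .nil))) (.node [] (.node
    [(97,1)] (.node [(124,(-1))] .nil .nil) .nil) (.node [] (.node [(132,1)] (.node [(166,(-1))]
    (.node [(217,(-1))] .nil .nil) (.node [(239,(-1))] .nil .nil)) (.node [(197,(-1))] (.node
    [(231,1)] .nil .nil) .nil)) .nil)))))

/-- table -/
noncomputable def auxE8Chain204 : Tr (List (ℕ × ℤ)) :=
    (.node [] (.node [] (.node [(37,(-1))] (.node [] (.node [] (.node [(114,(-1))] .nil (.node
    [(184,1)] .nil .nil)) .nil) (.node [] (.node [] (.node [] .nil (.node [(235,1)] .nil .nil))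
    (.node [] (.node [(226,1)] .nil .nil) .nil)) (.node [(144,(-1))] (.node [(171,(-1))] .nil .nil)
    (.node [] (.node [(233,1)] .nil .nil) .nil)))) (.node [] (.node [(99,1)] .nil (.node
    [(142,(-1))] (.node [(169,(-1))] .nil .nil) .nil)) (.node [] (.node [] (.node [] (.node
    [(219,(-1))] .nil .nil) (.node [(237,1)] .nil .nil)) .nil) (.node [] (.node [(175,1)] .nil
    .nil) .nil)))) (.node [(46,(-1))] (.node [] (.node [] (.node [(117,1)] (.node [(149,1)] (.node
    [(211,(-1))] .nil .nil) (.node [(234,1)] .nil .nil)) (.node [(188,1)] (.node [(225,(-1))] .nil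
    .nil) .nil)) .nil) (.node [(106,(-1))] .nil (.node [] .nil (.node [(205,(-1))] .nil .nil))))
    (.node [(72,(-1))] (.node [] (.node [] (.node [(153,(-1))] (.node [(214,1)] .nil .nil) .nil)
    .nil) .nil) (.node [(111,1)] (.node [(141,1)] .nil .nil) (.node [(147,1)] .nil (.node [(208,1)]
    .nil .nil)))))) (.node [(36,(-1))] (.node [(40,(-1))] (.node [] (.node [] (.node [(115,(-1))]
    (.node [(148,(-1))] (.node [(210,(-1))] .nil .nil) .nil) (.node [(185,(-1))] .nil .nil)) .nil)
    (.node [(105,(-1))] (.node [] .nil (.node [] (.node [(227,1)] .nil .nil) .nil)) .nil)) (.node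
    [(71,(-1))] (.node [(100,1)] (.node [] (.node [(152,1)] .nil .nil) .nil) .nil) (.node [(110,1)]
    (.node [] (.node [] (.node [(220,(-1))] .nil .nil) .nil) .nil) (.node [] (.node [(178,(-1))]
    .nil .nil) (.node [(207,1)] .nil .nil))))) (.node [(56,(-1))] (.node [] (.node [] (.node
    [(118,1)] .nil (.node [(194,(-1))] .nil .nil)) .nil) (.node [] (.node [] (.node [] .nil (.node
    [(236,1)] .nil .nil)) .nil) (.node [] (.node [(174,(-1))] .nil .nil) (.node [(206,(-1))] .nil
    .nil)))) (.node [(78,1)] (.node [] (.node [] (.node [(156,1)] (.node [(215,1)] .nil .nil) .nil)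
    .nil) (.node [(143,1)] (.node [(170,1)] .nil .nil) .nil)) .nil))))

/-- table -/
noncomputable def auxE8Chain205 : Tr (List (ℕ × ℤ)) :=
    (.node [] (.node [(36,(-1))] (.node [(38,1)] (.node [] (.node [] (.node [] (.node [(148,(-1))]
    (.node [(210,1)] .nil .nil) .nil) .nil) .nil) (.node [(105,(-1))] .nil (.node [(145,(-1))]
    (.node [(172,(-1))] .nil .nil) .nil))) (.node [(71,(-1))] (.node [] (.node [(121,1)] (.node
    [(152,1)] .nil .nil) .nil) .nil) (.node [(110,1)] (.node [] (.node [] .nil (.node [(238,1)]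
    .nil .nil)) .nil) (.node [] (.node [(176,1)] .nil .nil) (.node [(207,(-1))] .nil .nil)))))
    (.node [(47,1)] (.node [] (.node [] (.node [(119,1)] (.node [(150,1)] (.node [(212,(-1))] .nil
    .nil) .nil) (.node [(189,1)] .nil .nil)) .nil) (.node [(107,1)] (.node [] (.node [] .nil (.node
    [(236,(-1))] .nil .nil)) .nil) (.node [] (.node [(174,(-1))] .nil .nil) .nil))) (.node [(73,1)]
    (.node [] (.node [] (.node [(154,(-1))] .nil .nil) .nil) (.node [(143,1)] (.node [(170,1)] .nil
    .nil) .nil)) (.node [(112,(-1))] .nil (.node [] .nil (.node [(209,1)] .nil .nil)))))) (.node []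
    (.node [(41,1)] (.node [] (.node [] (.node [(116,1)] (.node [] .nil (.node [(234,(-1))] .nil
    .nil)) (.node [(186,(-1))] (.node [(225,1)] .nil .nil) .nil)) .nil) (.node [] (.node [] .nil
    (.node [] (.node [(228,1)] .nil .nil) .nil)) (.node [] .nil (.node [(206,(-1))] .nil .nil))))
    (.node [] (.node [(101,(-1))] (.node [] (.node [] (.node [(214,(-1))] .nil .nil) .nil) .nil)
    .nil) (.node [] (.node [(141,1)] (.node [] (.node [(221,(-1))] .nil .nil) .nil) .nil) (.node
    [(147,1)] (.node [(179,(-1))] .nil .nil) .nil)))) (.node [(57,1)] (.node [] (.node [(99,1)]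
    (.node [] .nil (.node [(195,(-1))] .nil .nil)) (.node [(142,(-1))] (.node [(169,(-1))] .nil
    .nil) .nil)) (.node [] (.node [] (.node [] (.node [(219,1)] .nil .nil) .nil) .nil) .nil))
    (.node [(79,(-1))] (.node [] (.node [] (.node [(157,1)] (.node [(216,1)] .nil .nil) (.node
    [(235,(-1))] .nil .nil)) (.node [] (.node [(226,(-1))] .nil .nil) .nil)) (.node [] .nil (.node
    [(204,(-1))] (.node [(233,(-1))] .nil .nil) .nil))) (.node [(114,(-1))] .nil (.node [] (.node
    [(184,1)] .nil .nil) .nil))))))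

/-- table -/
noncomputable def auxE8Chain206 : Tr (List (ℕ × ℤ)) :=
    (.node [(36,(-1))] (.node [] (.node [(39,(-1))] (.node [] (.node [] (.node [(116,1)] (.node []
    (.node [(211,1)] .nil .nil) (.node [(234,1)] .nil .nil)) (.node [] (.node [(225,(-1))] .nil
    .nil) .nil)) .nil) (.node [(106,1)] (.node [] .nil (.node [] (.node [(228,(-1))] .nil .nil)
    .nil)) (.node [(146,(-1))] (.node [(173,(-1))] .nil .nil) (.node [(205,(-1))] .nil .nil))))
    (.node [(72,1)] (.node [(101,(-1))] (.node [(122,1)] .nil .nil) .nil) (.node [(111,(-1))]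
    (.node [(141,1)] (.node [] (.node [(221,1)] .nil .nil) (.node [(239,1)] .nil .nil)) .nil)
    (.node [(147,1)] (.node [(177,1)] .nil .nil) (.node [(208,(-1))] .nil .nil))))) (.node
    [(48,(-1))] (.node [] (.node [] (.node [] (.node [(151,1)] .nil .nil) (.node [(190,1)] .nil
    .nil)) (.node [(142,(-1))] (.node [(169,(-1))] .nil .nil) .nil)) .nil) (.node [] (.node []
    (.node [] (.node [(155,(-1))] (.node [(216,(-1))] .nil .nil) (.node [(235,1)] .nil .nil)) .nil)
    (.node [] .nil (.node [(204,(-1))] (.node [(233,1)] .nil .nil) .nil))) (.node [] .nil (.node []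
    (.node [(184,1)] .nil .nil) .nil))))) (.node [] (.node [(42,(-1))] (.node [] (.node [] (.node
    [] (.node [] (.node [(212,1)] .nil .nil) .nil) (.node [(187,(-1))] .nil .nil)) .nil) (.node
    [(107,1)] (.node [] (.node [] .nil (.node [(236,1)] .nil .nil)) .nil) (.node [] (.node
    [(174,(-1))] .nil .nil) .nil))) (.node [(73,1)] (.node [] (.node [] (.node [] (.node
    [(215,(-1))] .nil .nil) .nil) .nil) (.node [(143,1)] (.node [(170,1)] .nil .nil) .nil)) (.node
    [(112,(-1))] .nil (.node [] (.node [(180,(-1))] .nil .nil) (.node [(209,(-1))] .nil .nil)))))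
    (.node [(58,(-1))] (.node [] (.node [(100,(-1))] (.node [(120,1)] (.node [(152,1)] .nil .nil)
    (.node [(196,(-1))] .nil .nil)) .nil) (.node [] (.node [] (.node [] (.node [(220,1)] .nil .nil)
    .nil) .nil) .nil)) (.node [(80,1)] (.node [] (.node [] (.node [(158,1)] .nil .nil) (.node []
    (.node [(227,(-1))] .nil .nil) .nil)) .nil) (.node [(115,1)] .nil (.node [(148,(-1))] .nil
    .nil))))))

/-- table -/
noncomputable def auxE8Chain207 : Tr (List (ℕ × ℤ)) :=
    (.node [] (.node [(37,1)] (.node [] (.node [] (.node [] (.node [(119,1)] (.node [(149,(-1))]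
    .nil .nil) (.node [(186,(-1))] .nil .nil)) .nil) .nil) (.node [] (.node [] (.node [(124,(-1))]
    (.node [(153,1)] (.node [(214,1)] .nil .nil) .nil) .nil) (.node [] .nil (.node [(204,1)] .nil
    .nil))) .nil)) (.node [(49,(-1))] (.node [] (.node [(99,1)] (.node [] (.node [] (.node
    [(213,(-1))] .nil .nil) .nil) (.node [(191,1)] .nil .nil)) .nil) (.node [(108,(-1))] (.node []
    (.node [] (.node [(219,(-1))] .nil .nil) (.node [(237,(-1))] .nil .nil)) .nil) (.node [] (.node
    [(175,(-1))] .nil .nil) .nil))) (.node [(74,(-1))] (.node [] (.node [] .nil (.node [] (.node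
    [(226,1)] .nil .nil) .nil)) (.node [(144,1)] (.node [(171,1)] .nil .nil) .nil)) (.node
    [(113,1)] .nil .nil)))) (.node [(38,1)] (.node [(43,(-1))] (.node [] (.node [] (.node [] (.node
    [(150,1)] .nil .nil) .nil) (.node [(142,(-1))] (.node [(169,(-1))] .nil .nil) .nil)) (.node []
    (.node [] .nil (.node [] (.node [(229,1)] .nil .nil) .nil)) (.node [] .nil (.node [(208,(-1))]
    .nil .nil)))) (.node [] (.node [(102,1)] (.node [] (.node [(154,(-1))] .nil (.node [(235,1)]
    .nil .nil)) .nil) (.node [] .nil (.node [(205,(-1))] (.node [(233,1)] .nil .nil) .nil))) (.node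
    [] (.node [] (.node [] (.node [(222,(-1))] .nil .nil) .nil) .nil) (.node [] (.node [(181,(-1))]
    .nil .nil) .nil)))) (.node [(59,(-1))] (.node [(71,(-1))] (.node [] (.node [(123,1)] .nil
    (.node [(197,(-1))] .nil .nil)) .nil) (.node [(110,1)] (.node [(141,1)] (.node [] .nil (.node
    [(238,(-1))] .nil .nil)) .nil) (.node [(147,1)] (.node [(176,1)] .nil .nil) (.node [(209,1)]
    .nil .nil)))) (.node [(81,1)] (.node [(105,(-1))] (.node [] (.node [(159,1)] (.node [(217,1)]
    .nil .nil) .nil) .nil) (.node [(145,(-1))] (.node [(172,(-1))] .nil .nil) .nil)) (.node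
    [(117,(-1))] .nil (.node [] (.node [(185,1)] (.node [(225,(-1))] .nil .nil) .nil) (.node
    [(210,(-1))] (.node [(234,1)] .nil .nil) .nil)))))))

/-- table -/
noncomputable def auxE8Chain208 : Tr (List (ℕ × ℤ)) :=
    (.node [(37,1)] (.node [] (.node [] (.node [] (.node [] (.node [] .nil (.node [(187,(-1))] .nil
    .nil)) (.node [(142,(-1))] (.node [(169,(-1))] .nil .nil) .nil)) (.node [] (.node [] .nil
    (.node [] (.node [(229,(-1))] .nil .nil) .nil)) (.node [] .nil (.node [(207,(-1))] .nil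
    .nil)))) (.node [] (.node [(102,1)] (.node [(125,(-1))] (.node [] (.node [(215,1)] .nil .nil)
    (.node [(235,(-1))] .nil .nil)) .nil) (.node [] .nil (.node [] (.node [(233,(-1))] .nil .nil)
    .nil))) (.node [] (.node [] (.node [] (.node [(222,1)] .nil .nil) .nil) .nil) .nil))) (.node
    [(50,1)] (.node [] (.node [(100,(-1))] (.node [(123,1)] .nil (.node [(192,1)] .nil .nil)) .nil)
    (.node [] (.node [(141,1)] (.node [] (.node [(220,(-1))] .nil .nil) .nil) .nil) (.node
    [(147,1)] .nil (.node [(209,(-1))] .nil .nil)))) (.node [] (.node [] (.node [] (.node [] (.node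
    [(217,(-1))] .nil .nil) .nil) (.node [] (.node [(227,1)] .nil .nil) .nil)) .nil) (.node [] .nil
    (.node [] (.node [(185,1)] (.node [(225,1)] .nil .nil) .nil) (.node [] (.node [(234,(-1))] .nil
    .nil) .nil)))))) (.node [(39,(-1))] (.node [(44,1)] (.node [] (.node [] (.node [(120,1)] (.node
    [(151,1)] (.node [(213,1)] .nil .nil) .nil) .nil) .nil) (.node [(108,(-1))] (.node [] (.node []
    .nil (.node [(237,1)] .nil .nil)) .nil) (.node [] (.node [(175,(-1))] .nil .nil) .nil))) (.node
    [(74,(-1))] (.node [] (.node [] (.node [(155,(-1))] .nil .nil) .nil) (.node [(144,1)] (.node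
    [(171,1)] .nil .nil) (.node [(206,(-1))] .nil .nil))) (.node [(113,1)] .nil (.node [] (.node
    [(182,(-1))] .nil .nil) .nil)))) (.node [(60,1)] (.node [(72,1)] (.node [] (.node [] (.node
    [(153,1)] .nil .nil) (.node [(198,(-1))] .nil .nil)) (.node [] .nil (.node [(204,1)] .nil
    .nil))) (.node [(111,(-1))] (.node [] (.node [] .nil (.node [(239,(-1))] .nil .nil)) .nil)
    (.node [] (.node [(177,1)] .nil .nil) .nil))) (.node [(82,(-1))] (.node [(106,1)] (.node []
    (.node [(160,1)] .nil .nil) .nil) (.node [(146,(-1))] (.node [(173,(-1))] .nil .nil) .nil))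
    (.node [(118,1)] .nil (.node [(149,(-1))] .nil (.node [(211,(-1))] .nil .nil)))))))

/-- table -/
noncomputable def auxE8Chain209 : Tr (List (ℕ × ℤ)) :=
    (.node [(38,(-1))] (.node [(39,(-1))] (.node [] (.node [] (.node [] (.node [(121,1)] (.node
    [(151,1)] (.node [(213,(-1))] .nil .nil) .nil) .nil) .nil) (.node [(108,(-1))] .nil .nil))
    (.node [(74,(-1))] (.node [] (.node [] (.node [(155,(-1))] (.node [(216,1)] .nil .nil) .nil)
    .nil) (.node [] .nil (.node [(206,(-1))] .nil .nil))) (.node [(113,1)] .nil .nil))) (.node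
    [(51,(-1))] (.node [] (.node [(101,1)] (.node [(124,1)] .nil (.node [(193,1)] .nil .nil)) .nil)
    (.node [] (.node [] (.node [] (.node [(221,(-1))] .nil .nil) (.node [(239,1)] .nil .nil)) .nil)
    (.node [] (.node [(177,1)] .nil .nil) .nil))) (.node [] (.node [] (.node [] .nil (.node []
    (.node [(228,1)] .nil .nil) .nil)) (.node [(146,(-1))] (.node [(173,(-1))] .nil .nil) (.node
    [(207,1)] .nil .nil))) (.node [] .nil (.node [] (.node [(186,1)] .nil .nil) .nil))))) (.node []
    (.node [(45,(-1))] (.node [] (.node [] (.node [(122,(-1))] .nil .nil) .nil) (.node [] (.node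
    [(141,1)] (.node [] .nil (.node [(238,1)] .nil .nil)) .nil) (.node [(147,1)] (.node
    [(176,(-1))] .nil .nil) .nil))) (.node [] (.node [] (.node [] (.node [] (.node [(217,1)] .nil
    .nil) .nil) .nil) (.node [(145,1)] (.node [(172,1)] .nil .nil) .nil)) (.node [] .nil (.node []
    (.node [(183,(-1))] (.node [(225,(-1))] .nil .nil) .nil) (.node [] (.node [(234,1)] .nil .nil)
    .nil))))) (.node [(61,(-1))] (.node [(73,(-1))] (.node [(102,1)] (.node [(125,(-1))] (.node
    [(154,1)] .nil (.node [(235,1)] .nil .nil)) (.node [(199,(-1))] .nil .nil)) (.node [] .nil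
    (.node [(205,1)] (.node [(233,1)] .nil .nil) .nil))) (.node [(112,1)] (.node [] (.node []
    (.node [(222,(-1))] .nil .nil) .nil) .nil) .nil)) (.node [(83,1)] (.node [(107,(-1))] (.node []
    (.node [(161,1)] .nil .nil) (.node [] (.node [(229,1)] .nil .nil) .nil)) (.node [] .nil (.node
    [(208,(-1))] .nil .nil))) (.node [] (.node [(142,(-1))] (.node [(169,(-1))] .nil .nil) .nil)
    (.node [(150,(-1))] (.node [(187,(-1))] .nil .nil) (.node [(212,(-1))] .nil .nil)))))))

/-- table -/
noncomputable def auxE8Chain210 : Tr (List (ℕ × ℤ)) :=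
    (.node [] (.node [(40,(-1))] (.node [(43,(-1))] (.node [] (.node [] (.node [] .nil (.node
    [(189,(-1))] .nil .nil)) (.node [] .nil (.node [(204,(-1))] .nil .nil))) (.node [] (.node
    [(141,1)] (.node [] .nil (.node [(238,1)] .nil .nil)) .nil) .nil)) (.node [] (.node [] (.node
    [(128,1)] (.node [(156,1)] .nil .nil) .nil) (.node [(145,(-1))] (.node [(172,(-1))] .nil .nil)
    .nil)) (.node [(117,(-1))] .nil (.node [] (.node [(181,(-1))] (.node [(225,1)] .nil .nil) .nil)
    (.node [] (.node [(234,(-1))] .nil .nil) .nil))))) (.node [(52,1)] (.node [(71,(-1))] (.node []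
    .nil (.node [] .nil (.node [(207,(-1))] (.node [(233,(-1))] .nil .nil) .nil))) (.node [(109,1)]
    .nil (.node [] (.node [(178,(-1))] .nil .nil) .nil))) (.node [(75,1)] (.node [(105,(-1))]
    (.node [] (.node [(159,1)] .nil .nil) .nil) .nil) (.node [] .nil (.node [(150,1)] .nil (.node
    [(213,(-1))] .nil .nil)))))) (.node [(41,(-1))] (.node [] (.node [] (.node [(99,1)] (.node
    [(126,1)] .nil (.node [(191,1)] .nil .nil)) (.node [(143,(-1))] (.node [(170,(-1))] .nil .nil)
    (.node [(205,1)] .nil .nil))) (.node [] (.node [] (.node [] (.node [(219,1)] .nil .nil) .nil)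
    (.node [] (.node [(230,1)] .nil .nil) .nil)) (.node [] .nil (.node [(211,(-1))] .nil .nil))))
    (.node [] (.node [(103,(-1))] (.node [] (.node [(157,(-1))] .nil (.node [(236,1)] .nil .nil))
    (.node [] (.node [(226,(-1))] .nil .nil) .nil)) .nil) (.node [(119,1)] (.node [] (.node []
    (.node [(223,(-1))] .nil .nil) .nil) .nil) (.node [(149,(-1))] .nil .nil)))) (.node [(62,1)]
    (.node [] (.node [] (.node [(127,(-1))] (.node [] (.node [(214,(-1))] .nil .nil) .nil) (.node
    [(200,(-1))] .nil .nil)) (.node [(144,1)] (.node [(171,1)] .nil .nil) .nil)) (.node [(114,1)]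
    .nil (.node [(148,1)] (.node [(179,1)] .nil .nil) (.node [(212,1)] .nil .nil)))) (.node
    [(84,(-1))] (.node [] (.node [] (.node [] (.node [(218,1)] .nil .nil) (.node [(237,1)] .nil
    .nil)) .nil) .nil) (.node [] .nil (.node [] (.node [(188,1)] .nil .nil) .nil))))))

/-- table -/
noncomputable def auxE8Chain211 : Tr (List (ℕ × ℤ)) :=
    (.node [(40,(-1))] (.node [] (.node [(44,1)] (.node [] (.node [] (.node [(126,1)] .nil (.node
    [(190,(-1))] .nil .nil)) (.node [(143,(-1))] (.node [(170,(-1))] .nil .nil) .nil)) (.node []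
    (.node [] (.node [] .nil (.node [(239,1)] .nil .nil)) (.node [] (.node [(230,(-1))] .nil .nil)
    .nil)) (.node [] .nil (.node [(210,(-1))] .nil .nil)))) (.node [] (.node [(103,(-1))] (.node
    [(129,1)] (.node [] .nil (.node [(236,(-1))] .nil .nil)) .nil) (.node [(146,(-1))] (.node
    [(173,(-1))] .nil .nil) .nil)) (.node [(118,1)] (.node [] (.node [] (.node [(223,1)] .nil .nil)
    .nil) .nil) (.node [(149,(-1))] (.node [(182,(-1))] .nil .nil) .nil)))) (.node [(53,(-1))]
    (.node [(72,1)] (.node [] (.node [(127,(-1))] .nil .nil) (.node [(144,1)] (.node [(171,1)] .nil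
    .nil) (.node [(208,(-1))] .nil .nil))) (.node [] .nil (.node [(148,1)] .nil (.node [(212,(-1))]
    .nil .nil)))) (.node [] (.node [(106,1)] (.node [] (.node [(160,1)] (.node [(218,(-1))] .nil
    .nil) (.node [(237,(-1))] .nil .nil)) .nil) .nil) (.node [(120,1)] .nil (.node [(151,1)] (.node
    [(188,1)] .nil .nil) .nil))))) (.node [(42,1)] (.node [] (.node [] (.node [(100,(-1))] (.node
    [] .nil (.node [(192,1)] .nil .nil)) (.node [] .nil (.node [(206,1)] (.node [(233,1)] .nil
    .nil) .nil))) (.node [(109,1)] (.node [] (.node [] (.node [(220,1)] .nil .nil) .nil) .nil)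
    (.node [] (.node [(178,(-1))] .nil .nil) .nil))) (.node [(75,1)] (.node [] (.node [] (.node
    [(158,(-1))] .nil .nil) (.node [] (.node [(227,(-1))] .nil .nil) .nil)) .nil) (.node [] .nil
    (.node [] .nil (.node [(213,1)] .nil .nil))))) (.node [(63,(-1))] (.node [] (.node [] (.node []
    (.node [(156,1)] (.node [(215,(-1))] .nil .nil) .nil) (.node [(201,(-1))] .nil .nil)) .nil)
    (.node [(115,(-1))] .nil (.node [] (.node [(180,1)] (.node [(225,(-1))] .nil .nil) .nil) (.node
    [] (.node [(234,1)] .nil .nil) .nil)))) (.node [(85,1)] (.node [] (.node [(141,1)] .nil .nil)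
    .nil) (.node [] (.node [] .nil (.node [(204,(-1))] .nil .nil)) .nil)))))

/-- table -/
noncomputable def auxE8Chain212 : Tr (List (ℕ × ℤ)) :=
    (.node [(41,1)] (.node [(42,1)] (.node [(45,(-1))] (.node [] (.node [] .nil (.node [] .nil
    (.node [(206,1)] (.node [(233,(-1))] .nil .nil) .nil))) (.node [(109,1)] .nil .nil)) (.node
    [(75,1)] (.node [] (.node [] (.node [(158,(-1))] .nil .nil) .nil) .nil) (.node [] .nil (.node
    [(150,(-1))] (.node [(183,(-1))] .nil .nil) (.node [(213,(-1))] .nil .nil))))) (.node [(54,1)]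
    (.node [(73,(-1))] (.node [] (.node [(128,(-1))] .nil .nil) (.node [(145,1)] (.node [(172,1)]
    .nil .nil) (.node [(209,(-1))] .nil .nil))) (.node [] .nil (.node [] (.node [(180,1)] (.node
    [(225,1)] .nil .nil) .nil) (.node [] (.node [(234,(-1))] .nil .nil) .nil)))) (.node [] (.node
    [(107,(-1))] (.node [(141,1)] (.node [(161,1)] .nil (.node [(238,(-1))] .nil .nil)) .nil)
    (.node [] .nil (.node [(210,1)] .nil .nil))) (.node [(122,(-1))] .nil (.node [] (.node
    [(189,1)] .nil .nil) .nil))))) (.node [] (.node [] (.node [] (.node [(101,1)] (.node [] .nil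
    (.node [(193,1)] .nil .nil)) .nil) (.node [] (.node [] (.node [] (.node [(221,1)] .nil .nil)
    .nil) .nil) (.node [(148,1)] (.node [(179,(-1))] .nil .nil) .nil))) (.node [] (.node [] (.node
    [] (.node [] (.node [(218,1)] .nil .nil) .nil) (.node [] (.node [(228,(-1))] .nil .nil) .nil))
    .nil) (.node [(121,1)] .nil (.node [(151,1)] .nil .nil)))) (.node [(64,1)] (.node [] (.node
    [(103,(-1))] (.node [(129,1)] (.node [(157,1)] (.node [(216,(-1))] .nil .nil) (.node [(236,1)]
    .nil .nil)) (.node [(202,(-1))] .nil .nil)) (.node [(146,(-1))] (.node [(173,(-1))] .nil .nil)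
    .nil)) (.node [(116,1)] (.node [] (.node [] (.node [(223,(-1))] .nil .nil) .nil) .nil) .nil))
    (.node [(86,(-1))] (.node [] (.node [] (.node [] .nil (.node [(239,(-1))] .nil .nil)) (.node []
    (.node [(230,1)] .nil .nil) .nil)) (.node [] .nil (.node [(211,(-1))] .nil .nil))) (.node
    [(126,1)] (.node [(143,(-1))] (.node [(170,(-1))] .nil .nil) (.node [(205,(-1))] .nil .nil))
    (.node [] (.node [(190,(-1))] .nil .nil) .nil))))))

/-- table -/
noncomputable def auxE8Chain213 : Tr (List (ℕ × ℤ)) :=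
    (.node [(43,(-1))] (.node [(44,(-1))] (.node [] (.node [] (.node [] (.node [(128,(-1))] .nil
    (.node [(193,1)] .nil .nil)) (.node [(145,1)] (.node [(172,1)] .nil .nil) (.node [(208,1)] .nil
    .nil))) .nil) (.node [] (.node [] (.node [] (.node [(160,(-1))] (.node [(218,(-1))] .nil .nil)
    (.node [(238,1)] .nil .nil)) .nil) (.node [] .nil (.node [(211,1)] .nil .nil))) (.node
    [(123,1)] .nil .nil))) (.node [(55,(-1))] (.node [(74,1)] (.node [(103,(-1))] .nil .nil) (.node
    [] (.node [] (.node [] (.node [(223,1)] .nil .nil) .nil) .nil) (.node [(150,(-1))] (.node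
    [(182,1)] .nil .nil) .nil))) (.node [] (.node [(108,1)] (.node [] .nil (.node [] (.node
    [(230,(-1))] .nil .nil) .nil)) .nil) (.node [(125,1)] .nil (.node [] (.node [(191,1)] .nil
    .nil) .nil))))) (.node [(45,(-1))] (.node [] (.node [] (.node [(102,(-1))] (.node [(129,1)]
    .nil .nil) (.node [(146,(-1))] (.node [(173,(-1))] .nil .nil) (.node [(209,(-1))] .nil .nil)))
    (.node [] (.node [] (.node [] (.node [(222,1)] .nil .nil) .nil) .nil) (.node [(149,1)] (.node
    [(181,(-1))] (.node [(225,(-1))] .nil .nil) .nil) (.node [] (.node [(234,1)] .nil .nil)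
    .nil)))) (.node [] (.node [] (.node [(141,1)] (.node [(161,1)] .nil (.node [(239,1)] .nil
    .nil)) (.node [] (.node [(229,(-1))] .nil .nil) .nil)) (.node [] .nil (.node [(212,(-1))] .nil
    .nil))) (.node [(124,(-1))] .nil .nil))) (.node [(65,(-1))] (.node [(75,1)] (.node [] (.node []
    (.node [(159,1)] (.node [(217,(-1))] .nil .nil) (.node [(237,1)] .nil .nil)) (.node
    [(203,(-1))] .nil .nil)) (.node [] .nil (.node [(210,(-1))] .nil .nil))) (.node [] .nil (.node
    [(151,1)] (.node [(183,(-1))] .nil .nil) .nil))) (.node [(87,1)] (.node [(109,1)] .nil .nil)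
    (.node [(127,1)] (.node [(144,(-1))] (.node [(171,(-1))] .nil .nil) (.node [(207,(-1))] (.node
    [(233,1)] .nil .nil) .nil)) (.node [] (.node [(192,(-1))] .nil .nil) .nil))))))

/-- table -/
noncomputable def auxE8Chain214 : Tr (List (ℕ × ℤ)) :=
    (.node [] (.node [(46,1)] (.node [(49,1)] (.node [] (.node [(99,1)] (.node [] (.node [(156,1)]
    .nil .nil) (.node [(195,(-1))] .nil .nil)) .nil) (.node [(117,(-1))] (.node [(142,1)] (.node []
    (.node [(219,(-1))] .nil .nil) .nil) .nil) (.node [] (.node [(181,(-1))] (.node [(225,(-1))]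
    .nil .nil) .nil) .nil))) (.node [] (.node [] (.node [(133,(-1))] .nil (.node [] (.node
    [(226,1)] .nil .nil) .nil)) (.node [] (.node [(176,(-1))] .nil .nil) .nil)) (.node [] (.node []
    .nil (.node [(205,(-1))] .nil .nil)) (.node [] .nil (.node [] (.node [(235,(-1))] .nil .nil)
    .nil))))) (.node [] (.node [] (.node [] (.node [] (.node [(159,1)] (.node [(218,1)] .nil .nil)
    (.node [(238,(-1))] .nil .nil)) (.node [(200,(-1))] .nil .nil)) .nil) .nil) (.node [(76,(-1))]
    (.node [(110,(-1))] .nil (.node [] (.node [(178,(-1))] .nil .nil) .nil)) (.node [(130,1)]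
    (.node [(145,(-1))] .nil (.node [(210,(-1))] (.node [(233,1)] .nil .nil) .nil)) (.node
    [(154,1)] .nil (.node [(217,(-1))] .nil .nil)))))) (.node [(47,1)] (.node [(52,1)] (.node
    [(71,(-1))] (.node [] (.node [(131,(-1))] (.node [(157,(-1))] .nil (.node [(237,(-1))] .nil
    .nil)) (.node [(197,1)] .nil .nil)) (.node [] (.node [(174,(-1))] .nil .nil) .nil)) (.node
    [(119,1)] (.node [] .nil (.node [] (.node [(231,1)] .nil .nil) .nil)) (.node [] .nil (.node
    [(215,(-1))] .nil .nil)))) (.node [] (.node [(104,1)] .nil .nil) (.node [] (.node [(144,1)]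
    (.node [] (.node [(224,(-1))] .nil .nil) .nil) (.node [(207,1)] .nil .nil)) (.node [(153,(-1))]
    .nil .nil)))) (.node [(66,(-1))] (.node [] (.node [] (.node [(132,1)] .nil .nil) (.node []
    (.node [(175,1)] .nil .nil) .nil)) (.node [] (.node [(143,(-1))] .nil (.node [(204,1)] .nil
    .nil)) (.node [(152,1)] .nil (.node [(216,1)] .nil .nil)))) (.node [(88,1)] (.node [(114,1)]
    .nil (.node [] (.node [(179,1)] .nil .nil) .nil)) (.node [] .nil (.node [] (.node [(194,1)]
    .nil .nil) (.node [] (.node [(236,(-1))] .nil .nil) .nil)))))))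

/-- table -/
noncomputable def auxE8Chain215 : Tr (List (ℕ × ℤ)) :=
    (.node [(46,1)] (.node [] (.node [(50,(-1))] (.node [] (.node [(100,(-1))] (.node [(131,(-1))]
    (.node [] .nil (.node [(237,1)] .nil .nil)) (.node [(196,(-1))] .nil .nil)) (.node [] (.node
    [(174,(-1))] .nil .nil) .nil)) (.node [(118,1)] (.node [] (.node [] (.node [(220,(-1))] .nil
    .nil) .nil) (.node [] (.node [(231,(-1))] .nil .nil) .nil)) (.node [] (.node [(182,(-1))] .nil
    .nil) (.node [(214,(-1))] .nil .nil)))) (.node [] (.node [(104,1)] (.node [(134,(-1))] .nil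
    (.node [] (.node [(227,1)] .nil .nil) .nil)) (.node [] (.node [(177,(-1))] .nil .nil) .nil))
    (.node [] (.node [(144,1)] (.node [] (.node [(224,1)] .nil .nil) .nil) (.node [(206,(-1))] .nil
    .nil)) (.node [(153,(-1))] .nil .nil)))) (.node [] (.node [] (.node [] (.node [(132,1)] (.node
    [(160,1)] .nil (.node [(239,(-1))] .nil .nil)) (.node [(201,(-1))] .nil .nil)) (.node [] (.node
    [(175,1)] .nil .nil) .nil)) (.node [(120,1)] (.node [(143,(-1))] .nil (.node [(204,1)] .nil
    .nil)) (.node [(152,1)] .nil (.node [(216,(-1))] .nil .nil)))) (.node [] (.node [(111,1)] .nil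
    .nil) (.node [] (.node [(146,(-1))] .nil (.node [(211,(-1))] .nil .nil)) (.node [(155,1)]
    (.node [(194,1)] .nil .nil) (.node [] (.node [(236,1)] .nil .nil) .nil)))))) (.node [(48,(-1))]
    (.node [(53,(-1))] (.node [(72,1)] (.node [] (.node [] (.node [(158,(-1))] (.node [(218,(-1))]
    .nil .nil) .nil) (.node [(198,1)] .nil .nil)) .nil) .nil) (.node [(76,(-1))] (.node [] .nil
    (.node [] (.node [(178,(-1))] .nil .nil) .nil)) (.node [(130,1)] (.node [] .nil (.node
    [(208,1)] (.node [(233,(-1))] .nil .nil) .nil)) (.node [] .nil (.node [(217,1)] .nil .nil)))))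
    (.node [(67,1)] (.node [] .nil (.node [] .nil (.node [] .nil (.node [] (.node [(235,1)] .nil
    .nil) .nil)))) (.node [(89,(-1))] (.node [(115,(-1))] (.node [(142,1)] .nil .nil) (.node []
    (.node [(180,1)] (.node [(225,1)] .nil .nil) .nil) .nil)) (.node [] .nil (.node [(156,1)] .nil
    .nil))))))

/-- table -/
noncomputable def auxE8Chain216 : Tr (List (ℕ × ℤ)) :=
    (.node [(47,(-1))] (.node [(48,(-1))] (.node [(51,1)] (.node [] (.node [(101,1)] (.node []
    (.node [(158,(-1))] (.node [(218,1)] .nil .nil) (.node [(238,1)] .nil .nil)) .nil) .nil) (.node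
    [] (.node [] (.node [] (.node [(221,(-1))] .nil .nil) .nil) .nil) (.node [] (.node [(183,(-1))]
    .nil .nil) .nil))) (.node [(76,(-1))] (.node [] (.node [] .nil (.node [] (.node [(228,1)] .nil
    .nil) .nil)) .nil) (.node [(130,1)] (.node [(145,1)] .nil (.node [] (.node [(233,1)] .nil .nil)
    .nil)) (.node [(154,(-1))] .nil (.node [(217,(-1))] .nil .nil))))) (.node [] (.node [] (.node
    [] (.node [(133,1)] (.node [(161,1)] .nil .nil) (.node [(202,(-1))] .nil .nil)) (.node []
    (.node [(176,1)] .nil .nil) .nil)) (.node [(122,(-1))] (.node [] .nil (.node [(205,1)] .nil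
    .nil)) (.node [] .nil (.node [] (.node [(235,(-1))] .nil .nil) .nil)))) (.node [] (.node
    [(112,(-1))] (.node [(142,1)] .nil .nil) (.node [] (.node [(180,1)] (.node [(225,(-1))] .nil
    .nil) .nil) (.node [(214,1)] .nil .nil))) (.node [] (.node [] .nil (.node [(212,(-1))] .nil
    .nil)) (.node [] (.node [(195,1)] .nil .nil) .nil))))) (.node [] (.node [(54,1)] (.node
    [(73,(-1))] (.node [] (.node [] (.node [] .nil (.node [(239,1)] .nil .nil)) (.node [(199,1)]
    .nil .nil)) .nil) (.node [(121,1)] (.node [(143,(-1))] .nil .nil) (.node [(152,1)] .nil .nil)))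
    (.node [] (.node [] .nil (.node [] (.node [(179,(-1))] .nil .nil) .nil)) (.node [] (.node
    [(146,(-1))] .nil (.node [(209,1)] .nil .nil)) (.node [(155,1)] .nil (.node [] (.node
    [(236,(-1))] .nil .nil) .nil))))) (.node [(68,(-1))] (.node [] (.node [(104,1)] (.node
    [(134,(-1))] .nil .nil) (.node [] (.node [(177,(-1))] .nil .nil) .nil)) (.node [] (.node []
    (.node [] (.node [(224,(-1))] .nil .nil) .nil) (.node [(206,(-1))] .nil .nil)) .nil)) (.node
    [(90,1)] (.node [(116,1)] (.node [] .nil (.node [] (.node [(231,1)] .nil .nil) .nil)) (.node []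
    .nil (.node [(215,(-1))] .nil .nil))) (.node [(131,(-1))] (.node [] (.node [(174,(-1))] .nil
    .nil) .nil) (.node [(157,1)] (.node [(196,(-1))] .nil .nil) .nil))))))

/-- table -/
noncomputable def auxE8Chain217 : Tr (List (ℕ × ℤ)) :=
    (.node [(49,1)] (.node [(50,1)] (.node [] (.node [] (.node [(102,(-1))] (.node [(133,1)] (.node
    [(160,(-1))] .nil .nil) (.node [(199,1)] .nil .nil)) (.node [] (.node [(176,1)] .nil .nil)
    .nil)) (.node [(123,1)] (.node [] (.node [] (.node [(222,(-1))] .nil .nil) .nil) .nil) .nil))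
    (.node [] (.node [] (.node [] .nil (.node [] (.node [(229,1)] .nil .nil) .nil)) (.node [] .nil
    (.node [(215,1)] .nil .nil))) (.node [] (.node [] .nil (.node [(209,1)] .nil .nil)) .nil)))
    (.node [] (.node [] (.node [(104,1)] (.node [] .nil (.node [(203,(-1))] .nil .nil)) .nil)
    (.node [(125,1)] (.node [(145,1)] (.node [] (.node [(224,1)] .nil .nil) .nil) (.node [(207,1)]
    .nil .nil)) (.node [(154,(-1))] .nil .nil))) (.node [] (.node [(113,1)] (.node [] .nil (.node
    [] (.node [(231,(-1))] .nil .nil) .nil)) (.node [] (.node [(182,1)] .nil .nil) .nil)) (.node []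
    (.node [] .nil (.node [(213,(-1))] .nil .nil)) (.node [] (.node [(197,1)] .nil .nil) (.node []
    (.node [(238,(-1))] .nil .nil) .nil)))))) (.node [(51,1)] (.node [(55,(-1))] (.node [(74,1)]
    (.node [] (.node [(134,(-1))] (.node [(161,1)] .nil .nil) .nil) (.node [] (.node [(177,(-1))]
    .nil .nil) .nil)) (.node [(124,(-1))] (.node [(144,(-1))] .nil .nil) (.node [(153,1)] .nil
    (.node [] (.node [(235,1)] .nil .nil) .nil)))) (.node [] (.node [] (.node [(142,1)] .nil .nil)
    (.node [] (.node [(181,(-1))] (.node [(225,1)] .nil .nil) .nil) (.node [(216,(-1))] .nil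
    .nil))) (.node [] .nil (.node [] .nil (.node [] (.node [(237,(-1))] .nil .nil) .nil))))) (.node
    [(69,1)] (.node [(76,(-1))] (.node [] .nil (.node [] .nil (.node [(214,(-1))] .nil .nil)))
    (.node [(130,1)] (.node [(146,(-1))] .nil (.node [(208,(-1))] (.node [(233,(-1))] .nil .nil)
    .nil)) (.node [(155,1)] .nil .nil))) (.node [(91,(-1))] (.node [] .nil (.node [] (.node
    [(183,(-1))] .nil .nil) .nil)) (.node [(132,(-1))] (.node [] (.node [(175,(-1))] .nil .nil)
    .nil) (.node [(159,1)] (.node [(198,(-1))] .nil .nil) (.node [(218,(-1))] (.node [(239,(-1))]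
    .nil .nil) .nil)))))))

/-- table -/
noncomputable def auxE8Chain218 : Tr (List (ℕ × ℤ)) :=
    (.node [(52,(-1))] (.node [(53,(-1))] (.node [(55,(-1))] (.node [] (.node [(103,1)] (.node []
    .nil (.node [(202,1)] .nil .nil)) (.node [] (.node [(179,1)] .nil .nil) (.node [(215,(-1))]
    .nil .nil))) (.node [(127,(-1))] (.node [(146,(-1))] (.node [] (.node [(223,(-1))] .nil .nil)
    .nil) .nil) .nil)) (.node [] (.node [] (.node [] .nil (.node [] (.node [(230,1)] .nil .nil)
    .nil)) (.node [] (.node [(183,(-1))] (.node [(225,(-1))] .nil .nil) .nil) .nil)) (.node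
    [(132,(-1))] (.node [] .nil (.node [(212,1)] .nil .nil)) (.node [(159,1)] .nil (.node [] (.node
    [(239,1)] .nil .nil) .nil))))) (.node [] (.node [(76,(-1))] (.node [] .nil (.node [] (.node
    [(181,(-1))] .nil .nil) (.node [(217,(-1))] .nil .nil))) (.node [(129,(-1))] (.node [] .nil
    (.node [(210,1)] (.node [(233,1)] .nil .nil) .nil)) (.node [(157,(-1))] .nil (.node [] (.node
    [(237,1)] .nil .nil) .nil)))) (.node [] (.node [] (.node [(144,(-1))] .nil .nil) .nil) (.node
    [(134,(-1))] .nil (.node [(161,1)] (.node [(200,1)] .nil .nil) .nil))))) (.node [(54,(-1))]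
    (.node [] (.node [(75,(-1))] (.node [(104,1)] (.node [] .nil (.node [(203,(-1))] .nil .nil))
    (.node [] (.node [(180,(-1))] .nil .nil) (.node [(216,1)] .nil .nil))) (.node [(128,1)] (.node
    [] (.node [] (.node [(224,(-1))] .nil .nil) .nil) .nil) (.node [(156,1)] .nil (.node [] (.node
    [(236,1)] .nil .nil) .nil)))) (.node [] (.node [] (.node [(143,1)] .nil (.node [] (.node
    [(231,1)] .nil .nil) .nil)) .nil) (.node [(133,1)] (.node [] .nil (.node [(213,(-1))] .nil
    .nil)) (.node [(160,(-1))] .nil .nil)))) (.node [(70,(-1))] (.node [] (.node [] .nil (.node []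
    (.node [(182,1)] .nil .nil) .nil)) (.node [(131,1)] (.node [] .nil (.node [(211,(-1))] .nil
    .nil)) (.node [(158,1)] .nil (.node [] (.node [(238,1)] .nil .nil) .nil)))) (.node [(92,1)]
    (.node [(126,1)] (.node [(145,1)] .nil .nil) .nil) (.node [] (.node [] (.node [(178,(-1))] .nil
    .nil) (.node [(214,1)] .nil .nil)) (.node [] (.node [(201,(-1))] .nil .nil) .nil))))))

/-- table -/
noncomputable def auxE8Chain219 : Tr (List (ℕ × ℤ)) :=
    (.node [] (.node [(56,(-1))] (.node [(59,(-1))] (.node [(71,(-1))] (.node [(105,1)] .nil .nil)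
    (.node [] (.node [(147,1)] .nil (.node [(210,1)] .nil .nil)) (.node [(159,1)] (.node
    [(191,(-1))] .nil .nil) (.node [] (.node [(238,1)] .nil .nil) .nil)))) (.node [] (.node
    [(119,1)] (.node [(139,1)] .nil .nil) (.node [(154,1)] (.node [(186,(-1))] .nil .nil) .nil))
    (.node [] .nil (.node [] (.node [(197,1)] .nil .nil) .nil)))) (.node [(66,(-1))] (.node []
    (.node [(114,1)] (.node [] (.node [] (.node [(223,1)] .nil .nil) .nil) .nil) (.node [] .nil
    (.node [] (.node [(235,1)] .nil .nil) .nil))) (.node [(135,1)] .nil (.node [] (.node [(194,1)]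
    .nil .nil) .nil))) (.node [(77,1)] (.node [] (.node [] .nil (.node [(205,1)] .nil .nil)) (.node
    [(156,1)] (.node [(188,(-1))] .nil .nil) .nil)) (.node [(136,(-1))] (.node [(150,(-1))] .nil
    (.node [] (.node [(234,1)] .nil .nil) .nil)) (.node [] .nil (.node [(222,(-1))] .nil .nil))))))
    (.node [(57,(-1))] (.node [(62,(-1))] (.node [] (.node [(110,(-1))] (.node [(137,1)] .nil .nil)
    (.node [(152,1)] (.node [(184,(-1))] .nil .nil) .nil)) (.node [] (.node [] .nil (.node
    [(214,(-1))] (.node [(232,1)] .nil .nil) .nil)) (.node [] .nil (.node [(220,(-1))] .nil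
    .nil)))) (.node [] (.node [] (.node [] .nil (.node [(204,(-1))] .nil .nil)) (.node [] .nil
    (.node [] (.node [(236,1)] .nil .nil) .nil))) (.node [] (.node [(149,1)] .nil .nil) (.node []
    (.node [(200,(-1))] .nil .nil) .nil)))) (.node [] (.node [] (.node [(117,(-1))] (.node
    [(138,(-1))] .nil (.node [] (.node [(226,(-1))] .nil .nil) .nil)) (.node [(153,(-1))] (.node
    [(185,1)] (.node [(225,1)] .nil .nil) .nil) .nil)) (.node [] (.node [(148,(-1))] .nil .nil)
    (.node [] (.node [(195,(-1))] .nil .nil) (.node [(221,1)] .nil .nil)))) (.node [(93,(-1))]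
    (.node [] (.node [] (.node [] (.node [(224,(-1))] .nil .nil) .nil) (.node [(207,(-1))] .nil
    .nil)) (.node [(157,(-1))] (.node [(189,1)] .nil .nil) (.node [] (.node [(237,1)] .nil .nil)
    .nil))) .nil))))

/-- table -/
noncomputable def auxE8Chain220 : Tr (List (ℕ × ℤ)) :=
    (.node [(56,(-1))] (.node [] (.node [(60,1)] (.node [(72,1)] (.node [(106,(-1))] (.node
    [(137,1)] .nil .nil) (.node [(152,1)] (.node [(184,(-1))] .nil .nil) .nil)) (.node [] (.node []
    .nil (.node [(211,1)] (.node [(232,(-1))] .nil .nil) .nil)) (.node [(160,1)] (.node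
    [(192,(-1))] .nil .nil) (.node [(219,(-1))] (.node [(239,1)] .nil .nil) .nil)))) (.node []
    (.node [] (.node [(140,1)] .nil (.node [(204,(-1))] .nil .nil)) (.node [(155,1)] (.node
    [(187,(-1))] .nil .nil) (.node [] (.node [(236,(-1))] .nil .nil) .nil))) (.node [] (.node
    [(149,1)] .nil .nil) (.node [] (.node [(198,1)] .nil .nil) .nil)))) (.node [(67,1)] (.node []
    (.node [(115,(-1))] (.node [(138,(-1))] .nil .nil) (.node [(153,(-1))] (.node [(185,1)] (.node
    [(225,(-1))] .nil .nil) .nil) .nil)) (.node [] (.node [(148,(-1))] .nil .nil) (.node [] .nil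
    (.node [(221,(-1))] .nil .nil)))) (.node [] (.node [] (.node [] (.node [] (.node [(224,1)] .nil
    .nil) .nil) (.node [(206,1)] .nil .nil)) (.node [] .nil (.node [] (.node [(237,(-1))] .nil
    .nil) .nil))) (.node [] (.node [(151,(-1))] .nil .nil) .nil)))) (.node [(58,1)] (.node [(63,1)]
    (.node [] (.node [(111,1)] (.node [] (.node [] (.node [(223,(-1))] .nil .nil) .nil) .nil)
    (.node [] .nil (.node [] (.node [(235,(-1))] .nil .nil) .nil))) (.node [(135,1)] (.node [] .nil
    (.node [(215,(-1))] .nil .nil)) (.node [] (.node [(194,1)] .nil .nil) .nil))) (.node [(77,1)]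
    (.node [(120,1)] .nil (.node [(156,1)] (.node [(188,(-1))] .nil .nil) .nil)) (.node
    [(136,(-1))] (.node [] .nil (.node [] (.node [(234,(-1))] .nil .nil) .nil)) (.node [] (.node
    [(201,(-1))] .nil .nil) (.node [(222,1)] .nil .nil))))) (.node [] (.node [] (.node [(118,1)]
    (.node [] .nil (.node [] (.node [(227,(-1))] .nil .nil) .nil)) .nil) (.node [] .nil (.node []
    (.node [(196,(-1))] .nil .nil) .nil))) (.node [(94,1)] (.node [] (.node [(147,1)] .nil (.node
    [(208,(-1))] .nil .nil)) (.node [(158,(-1))] (.node [(190,1)] .nil .nil) .nil)) .nil))))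

/-- table -/
noncomputable def auxE8Chain221 : Tr (List (ℕ × ℤ)) :=
    (.node [(57,1)] (.node [(58,1)] (.node [(61,(-1))] (.node [(73,(-1))] (.node [(107,1)] (.node
    [] (.node [] (.node [(223,1)] .nil .nil) .nil) .nil) (.node [] .nil (.node [] (.node [(235,1)]
    .nil .nil) .nil))) (.node [(135,1)] (.node [] .nil (.node [(212,1)] .nil .nil)) (.node
    [(161,1)] (.node [(193,(-1))] .nil .nil) .nil))) (.node [(77,1)] (.node [(121,1)] (.node []
    .nil (.node [(205,(-1))] .nil .nil)) .nil) (.node [(136,(-1))] (.node [(150,1)] .nil (.node []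
    (.node [(234,1)] .nil .nil) .nil)) (.node [] (.node [(199,1)] .nil .nil) (.node [(222,(-1))]
    .nil .nil))))) (.node [(68,(-1))] (.node [] (.node [(116,1)] (.node [(139,(-1))] .nil .nil)
    (.node [(154,(-1))] (.node [(186,1)] .nil .nil) .nil)) (.node [] .nil (.node [] (.node
    [(196,(-1))] .nil .nil) .nil))) (.node [] (.node [] (.node [(147,1)] .nil .nil) (.node
    [(158,(-1))] (.node [(190,1)] .nil .nil) (.node [(219,1)] (.node [(238,(-1))] .nil .nil)
    .nil))) .nil))) (.node [] (.node [(64,(-1))] (.node [] (.node [(112,(-1))] .nil (.node []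
    (.node [] (.node [(225,1)] .nil .nil) .nil) .nil)) (.node [] (.node [(148,(-1))] .nil (.node
    [(216,(-1))] .nil .nil)) (.node [] (.node [(195,1)] .nil .nil) .nil))) (.node [] (.node
    [(122,(-1))] (.node [] (.node [] (.node [(224,(-1))] .nil .nil) .nil) (.node [(206,1)] .nil
    .nil)) (.node [(157,1)] (.node [(189,(-1))] .nil .nil) .nil)) (.node [] (.node [(151,(-1))]
    .nil .nil) (.node [] (.node [(202,(-1))] .nil .nil) .nil)))) (.node [] (.node [] (.node []
    (.node [(140,1)] .nil (.node [] (.node [(228,(-1))] .nil .nil) .nil)) (.node [(155,1)] (.node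
    [(187,(-1))] .nil .nil) (.node [] (.node [(236,1)] .nil .nil) .nil))) .nil) (.node [(95,(-1))]
    (.node [] (.node [] .nil (.node [(209,(-1))] (.node [(232,1)] .nil .nil) .nil)) (.node [] .nil
    (.node [(220,(-1))] (.node [(239,(-1))] .nil .nil) .nil))) (.node [(137,1)] (.node [(152,1)]
    (.node [(184,(-1))] .nil .nil) .nil) .nil)))))

/-- table -/
noncomputable def auxE8Chain222 : Tr (List (ℕ × ℤ)) :=
    (.node [(59,(-1))] (.node [(60,(-1))] (.node [] (.node [(74,1)] (.node [(108,(-1))] (.node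
    [(139,(-1))] .nil .nil) (.node [(154,(-1))] (.node [(186,1)] (.node [(225,(-1))] .nil .nil)
    .nil) .nil)) (.node [] (.node [] .nil (.node [(213,1)] .nil .nil)) .nil)) (.node [] (.node
    [(124,(-1))] (.node [] (.node [] (.node [(224,1)] .nil .nil) .nil) (.node [(207,(-1))] .nil
    .nil)) (.node [] .nil (.node [(220,1)] (.node [(238,1)] .nil .nil) .nil))) .nil)) (.node
    [(69,1)] (.node [] .nil (.node [] (.node [(150,1)] .nil .nil) (.node [] (.node [(198,(-1))]
    .nil .nil) .nil))) (.node [] (.node [] (.node [] .nil (.node [(209,(-1))] (.node [(232,(-1))]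
    .nil .nil) .nil)) (.node [(160,(-1))] (.node [(192,1)] .nil .nil) .nil)) .nil))) (.node
    [(61,(-1))] (.node [(65,1)] (.node [] (.node [(113,1)] (.node [(140,1)] .nil .nil) (.node
    [(155,1)] (.node [(187,(-1))] .nil .nil) .nil)) (.node [] (.node [(149,(-1))] .nil (.node
    [(217,(-1))] .nil .nil)) (.node [] (.node [(197,1)] .nil .nil) .nil))) (.node [] (.node
    [(125,1)] (.node [(147,1)] .nil (.node [(208,1)] .nil .nil)) (.node [(159,1)] (.node
    [(191,(-1))] .nil .nil) (.node [(221,(-1))] (.node [(239,1)] .nil .nil) .nil))) (.node [] .nil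
    (.node [] (.node [(203,(-1))] .nil .nil) .nil)))) (.node [] (.node [(77,1)] (.node [(123,1)]
    (.node [] .nil (.node [] (.node [(229,(-1))] .nil .nil) .nil)) (.node [] .nil (.node
    [(219,(-1))] (.node [(237,1)] .nil .nil) .nil))) (.node [(136,(-1))] (.node [(151,(-1))] .nil
    (.node [] (.node [(234,(-1))] .nil .nil) .nil)) (.node [] (.node [(199,1)] .nil .nil) .nil)))
    (.node [(96,1)] (.node [(135,1)] .nil (.node [(161,1)] (.node [(193,(-1))] .nil .nil) .nil))
    (.node [(138,1)] (.node [(153,1)] (.node [(185,(-1))] .nil .nil) (.node [] (.node [(235,(-1))]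
    .nil .nil) .nil)) (.node [] .nil (.node [(223,(-1))] .nil .nil)))))))

/-- table -/
noncomputable def auxE8Chain223 : Tr (List (ℕ × ℤ)) :=
    (.node [(62,1)] (.node [(63,1)] (.node [(65,1)] (.node [(75,(-1))] (.node [(109,1)] .nil (.node
    [(157,(-1))] (.node [(189,1)] .nil .nil) (.node [(220,(-1))] (.node [(237,(-1))] .nil .nil)
    .nil))) (.node [] (.node [(151,(-1))] .nil .nil) .nil)) (.node [] (.node [(128,1)] (.node []
    .nil (.node [(210,(-1))] .nil .nil)) (.node [(161,1)] (.node [(193,(-1))] .nil .nil) .nil))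
    (.node [(138,1)] .nil (.node [] (.node [(203,(-1))] .nil .nil) .nil)))) (.node [(70,(-1))]
    (.node [(77,1)] (.node [(126,1)] .nil (.node [(159,1)] (.node [(191,(-1))] .nil .nil) (.node
    [(222,(-1))] (.node [(239,(-1))] .nil .nil) .nil))) (.node [] (.node [] .nil (.node [] (.node
    [(234,1)] .nil .nil) .nil)) (.node [] (.node [(201,(-1))] .nil .nil) .nil))) (.node [] (.node
    [(135,1)] (.node [(149,(-1))] .nil (.node [(212,(-1))] .nil .nil)) .nil) (.node [(140,1)] .nil
    .nil)))) (.node [(64,1)] (.node [] (.node [] (.node [] .nil (.node [(158,1)] (.node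
    [(190,(-1))] .nil .nil) (.node [(221,1)] (.node [(238,(-1))] .nil .nil) .nil))) (.node []
    (.node [] .nil (.node [(218,(-1))] .nil .nil)) (.node [] (.node [(200,1)] .nil .nil) .nil)))
    (.node [] (.node [(129,(-1))] (.node [(148,1)] .nil (.node [(211,1)] (.node [(232,1)] .nil
    .nil) .nil)) .nil) (.node [(139,(-1))] .nil .nil))) (.node [] (.node [] (.node [(127,(-1))]
    (.node [] (.node [] (.node [(224,(-1))] .nil .nil) .nil) (.node [] (.node [(230,(-1))] .nil
    .nil) .nil)) (.node [(160,(-1))] (.node [(192,1)] .nil .nil) .nil)) (.node [(137,(-1))] .nil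
    (.node [] (.node [(202,1)] .nil .nil) .nil))) (.node [(97,(-1))] (.node [] (.node [(150,1)]
    .nil (.node [(213,1)] .nil .nil)) .nil) (.node [] (.node [(156,1)] (.node [(188,(-1))] (.node
    [(225,1)] .nil .nil) .nil) (.node [(219,1)] (.node [(236,(-1))] .nil .nil) .nil)) .nil)))))

/-- table -/
noncomputable def auxE8Chain224 : Tr (List (ℕ × ℤ)) :=
    (.node [(66,(-1))] (.node [(67,(-1))] (.node [(69,(-1))] (.node [(76,1)] (.node [] .nil (.node
    [] (.node [(195,1)] .nil .nil) .nil)) (.node [(138,1)] (.node [(155,(-1))] .nil (.node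
    [(218,(-1))] .nil .nil)) (.node [] (.node [(203,(-1))] .nil .nil) .nil))) (.node [] (.node
    [(133,(-1))] (.node [] .nil (.node [(214,(-1))] (.node [(232,(-1))] .nil .nil) .nil)) (.node []
    (.node [(199,(-1))] .nil .nil) .nil)) (.node [] (.node [(159,1)] .nil (.node [(221,(-1))]
    (.node [(237,1)] .nil .nil) .nil)) .nil))) (.node [] (.node [] (.node [(131,(-1))] .nil (.node
    [] (.node [(197,(-1))] .nil .nil) .nil)) (.node [(140,1)] (.node [(157,(-1))] .nil (.node
    [(219,(-1))] (.node [(235,1)] .nil .nil) .nil)) .nil)) (.node [] (.node [(136,1)] (.node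
    [(153,(-1))] .nil (.node [(216,(-1))] .nil .nil)) (.node [] (.node [(201,(-1))] .nil .nil)
    .nil)) (.node [] (.node [(161,1)] (.node [] (.node [(225,(-1))] .nil .nil) .nil) (.node
    [(223,(-1))] (.node [(239,1)] .nil .nil) .nil)) .nil)))) (.node [(68,(-1))] (.node [(70,(-1))]
    (.node [(77,1)] (.node [(130,1)] .nil (.node [] (.node [(196,(-1))] .nil .nil) .nil)) (.node
    [(139,(-1))] (.node [(156,1)] .nil .nil) .nil)) (.node [] (.node [(134,1)] (.node [(152,1)]
    .nil (.node [(215,1)] .nil .nil)) (.node [] (.node [(200,1)] .nil .nil) .nil)) (.node [] (.node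
    [(160,(-1))] .nil (.node [(222,1)] (.node [(238,1)] .nil .nil) .nil)) .nil))) (.node [] (.node
    [] (.node [(132,1)] (.node [] .nil (.node [] (.node [(231,(-1))] .nil .nil) .nil)) (.node []
    (.node [(198,1)] .nil .nil) .nil)) (.node [] (.node [(158,1)] .nil (.node [(220,1)] (.node
    [(236,1)] .nil .nil) .nil)) .nil)) (.node [(98,1)] (.node [(137,(-1))] (.node [(154,1)] .nil
    (.node [(217,1)] .nil .nil)) (.node [] (.node [(202,1)] .nil .nil) .nil)) (.node [] (.node []
    (.node [(194,(-1))] .nil .nil) .nil) .nil)))))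

/-- table -/
noncomputable def auxE8Chain225 : Tr (List (ℕ × ℤ)) :=
    (.node [(71,1)] (.node [(72,1)] (.node [(74,1)] (.node [] (.node [(141,1)] (.node [(157,(-1))]
    .nil (.node [(221,1)] .nil .nil)) (.node [] (.node [(205,1)] .nil .nil) .nil)) (.node [(149,1)]
    (.node [] .nil (.node [] (.node [(238,(-1))] .nil .nil) .nil)) (.node [] (.node [(213,(-1))]
    .nil .nil) .nil))) (.node [] (.node [(145,1)] (.node [(161,1)] .nil (.node [] (.node
    [(234,(-1))] .nil .nil) .nil)) (.node [] (.node [(209,(-1))] .nil .nil) .nil)) (.node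
    [(153,(-1))] .nil (.node [] (.node [(217,1)] .nil .nil) .nil)))) (.node [(76,1)] (.node []
    (.node [(143,1)] (.node [(159,1)] .nil (.node [(223,1)] .nil .nil)) (.node [] (.node
    [(207,(-1))] .nil .nil) .nil)) (.node [(151,1)] .nil (.node [] (.node [(215,1)] .nil .nil)
    .nil))) (.node [] (.node [(147,1)] (.node [] .nil (.node [] (.node [(236,(-1))] .nil .nil)
    .nil)) (.node [] (.node [(211,(-1))] .nil .nil) .nil)) (.node [(155,(-1))] .nil (.node []
    (.node [(219,1)] .nil .nil) .nil))))) (.node [(73,1)] (.node [(75,1)] (.node [] (.node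
    [(142,(-1))] (.node [(158,1)] .nil (.node [(222,(-1))] .nil .nil)) (.node [] (.node
    [(206,(-1))] .nil .nil) .nil)) (.node [(150,(-1))] (.node [] .nil (.node [] (.node [(239,(-1))]
    .nil .nil) .nil)) (.node [] (.node [(214,(-1))] .nil .nil) .nil))) (.node [] (.node
    [(146,(-1))] (.node [] .nil (.node [] (.node [(235,(-1))] .nil .nil) .nil)) (.node [] (.node
    [(210,1)] .nil .nil) .nil)) (.node [(154,1)] .nil (.node [] (.node [(218,(-1))] .nil .nil)
    .nil)))) (.node [(77,1)] (.node [] (.node [(144,(-1))] (.node [(160,(-1))] .nil (.node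
    [(224,(-1))] (.node [(233,(-1))] .nil .nil) .nil)) (.node [] (.node [(208,1)] .nil .nil) .nil))
    (.node [(152,1)] .nil (.node [] (.node [(216,(-1))] .nil .nil) .nil))) (.node [] (.node
    [(148,(-1))] (.node [] .nil (.node [] (.node [(237,(-1))] .nil .nil) .nil)) (.node [] (.node
    [(212,1)] .nil .nil) .nil)) (.node [(156,1)] (.node [] (.node [(204,(-1))] .nil .nil) .nil)
    (.node [] (.node [(220,(-1))] .nil .nil) .nil))))))

/-- table -/
noncomputable def auxE8Chain226 : Tr (List (ℕ × ℤ)) :=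
    (.node [] (.node [(78,(-1))] (.node [(81,(-1))] (.node [(99,(-1))] (.node [] (.node [] (.node
    [(188,1)] .nil .nil) .nil) .nil) (.node [] (.node [(169,(-1))] .nil .nil) (.node [(181,(-1))]
    (.node [] (.node [(234,1)] .nil .nil) .nil) .nil))) (.node [(117,(-1))] (.node [] (.node
    [(167,(-1))] (.node [(194,(-1))] .nil .nil) .nil) (.node [(176,(-1))] .nil .nil)) (.node []
    (.node [] (.node [(210,(-1))] .nil .nil) .nil) (.node [] (.node [] (.node [(235,1)] .nil .nil)
    .nil) .nil)))) (.node [(88,(-1))] (.node [(110,(-1))] (.node [] (.node [] (.node [(191,1)]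
    (.node [(230,1)] .nil .nil) .nil) (.node [] (.node [(238,1)] .nil .nil) .nil)) .nil) (.node
    [(163,(-1))] (.node [] (.node [(205,(-1))] .nil .nil) .nil) .nil)) (.node [] (.node [] (.node
    [] (.node [(197,(-1))] .nil .nil) .nil) (.node [(178,(-1))] .nil .nil)) (.node [(164,1)] (.node
    [(172,1)] (.node [(219,(-1))] .nil .nil) .nil) (.node [(186,1)] .nil (.node [(229,(-1))] .nil
    .nil)))))) (.node [(79,(-1))] (.node [(84,(-1))] (.node [(105,1)] (.node [] (.node [(165,(-1))]
    (.node [(189,(-1))] .nil .nil) (.node [] (.node [(237,1)] .nil .nil) .nil)) (.node [(174,(-1))]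
    .nil .nil)) (.node [] (.node [] (.node [(204,1)] .nil .nil) .nil) (.node [] .nil (.node
    [(227,(-1))] .nil .nil)))) (.node [(119,1)] (.node [(162,1)] (.node [] (.node [(195,1)] .nil
    .nil) .nil) .nil) (.node [] (.node [(171,(-1))] (.node [(214,1)] (.node [(232,1)] .nil .nil)
    .nil) .nil) (.node [(185,(-1))] .nil .nil)))) (.node [(93,(-1))] (.node [(114,1)] (.node []
    (.node [(166,1)] .nil .nil) (.node [(175,1)] (.node [] (.node [(233,1)] .nil .nil) .nil) .nil))
    (.node [] (.node [(170,1)] (.node [(207,1)] .nil .nil) .nil) (.node [(184,1)] .nil (.node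
    [(228,1)] .nil .nil)))) (.node [] (.node [] (.node [] (.node [(200,1)] (.node [(231,(-1))] .nil
    .nil) .nil) .nil) (.node [(179,1)] .nil .nil)) (.node [] .nil (.node [] (.node [] (.node
    [(236,1)] .nil .nil) .nil) .nil))))))

/-- table -/
noncomputable def auxE8Chain227 : Tr (List (ℕ × ℤ)) :=
    (.node [(78,(-1))] (.node [] (.node [(82,1)] (.node [(100,1)] (.node [] (.node [(165,(-1))]
    .nil (.node [] (.node [(237,(-1))] .nil .nil) .nil)) (.node [(174,(-1))] .nil .nil)) (.node []
    (.node [] (.node [(204,1)] .nil .nil) .nil) (.node [(182,(-1))] .nil (.node [(226,(-1))] .nil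
    .nil)))) (.node [(118,1)] (.node [(162,1)] (.node [(168,(-1))] .nil .nil) (.node [(177,(-1))]
    .nil .nil)) (.node [] (.node [(171,(-1))] (.node [(211,(-1))] (.node [(232,(-1))] .nil .nil)
    .nil) .nil) (.node [(185,(-1))] .nil .nil)))) (.node [(89,1)] (.node [(111,1)] (.node [] (.node
    [(166,1)] (.node [(192,1)] .nil .nil) (.node [] (.node [(239,1)] .nil .nil) .nil)) (.node
    [(175,1)] (.node [] (.node [(233,(-1))] .nil .nil) .nil) .nil)) (.node [] (.node [(170,1)]
    (.node [(206,(-1))] .nil .nil) .nil) (.node [(184,1)] .nil (.node [(228,(-1))] .nil .nil))))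
    (.node [(120,1)] (.node [] (.node [] (.node [(198,(-1))] (.node [(231,1)] .nil .nil) .nil)
    .nil) .nil) (.node [] (.node [(173,1)] (.node [(220,(-1))] .nil .nil) .nil) (.node [(187,1)]
    (.node [] (.node [(236,(-1))] .nil .nil) .nil) .nil))))) (.node [(80,1)] (.node [(85,1)] (.node
    [(106,(-1))] (.node [] (.node [] (.node [(190,(-1))] (.node [(230,(-1))] .nil .nil) .nil) .nil)
    .nil) (.node [(163,(-1))] .nil .nil)) (.node [] (.node [] (.node [] (.node [(196,1)] .nil .nil)
    .nil) (.node [(178,(-1))] .nil .nil)) (.node [(164,1)] (.node [] (.node [(215,1)] .nil .nil)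
    .nil) (.node [] .nil (.node [(229,1)] .nil .nil))))) (.node [(94,1)] (.node [(115,(-1))] (.node
    [] (.node [] (.node [(194,(-1))] .nil .nil) .nil) .nil) (.node [] (.node [] (.node [(208,1)]
    .nil .nil) .nil) (.node [] (.node [] (.node [(235,(-1))] .nil .nil) .nil) .nil))) (.node []
    (.node [] (.node [(169,(-1))] (.node [(201,1)] .nil .nil) .nil) (.node [(180,1)] (.node []
    (.node [(234,(-1))] .nil .nil) .nil) .nil)) (.node [] .nil (.node [(188,1)] .nil .nil))))))

/-- table -/
noncomputable def auxE8Chain228 : Tr (List (ℕ × ℤ)) :=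
    (.node [(79,1)] (.node [(80,1)] (.node [(83,(-1))] (.node [(101,(-1))] (.node [] (.node []
    (.node [(190,(-1))] (.node [(230,1)] .nil .nil) .nil) (.node [] (.node [(238,(-1))] .nil .nil)
    .nil)) .nil) (.node [(163,(-1))] (.node [] (.node [(205,1)] .nil .nil) .nil) (.node
    [(183,(-1))] .nil .nil))) (.node [] (.node [] (.node [] (.node [(196,1)] .nil .nil) .nil) .nil)
    (.node [(164,1)] (.node [(172,(-1))] (.node [(212,(-1))] .nil .nil) .nil) (.node [(186,(-1))]
    .nil (.node [(229,(-1))] .nil .nil))))) (.node [(90,(-1))] (.node [(112,(-1))] (.node [] (.node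
    [(167,1)] (.node [(193,1)] .nil .nil) .nil) (.node [(176,1)] .nil .nil)) (.node [] .nil (.node
    [] (.node [] (.node [(235,1)] .nil .nil) .nil) .nil))) (.node [(122,(-1))] (.node [] (.node
    [(169,(-1))] (.node [(199,(-1))] .nil .nil) .nil) (.node [(180,1)] (.node [] (.node [(234,1)]
    .nil .nil) .nil) (.node [(226,1)] .nil .nil))) (.node [] (.node [] (.node [(221,(-1))] .nil
    .nil) .nil) .nil)))) (.node [] (.node [(86,(-1))] (.node [(107,1)] (.node [] (.node [] .nil
    (.node [] (.node [(239,(-1))] .nil .nil) .nil)) (.node [] (.node [] (.node [(233,1)] .nil .nil)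
    .nil) .nil)) (.node [] (.node [(170,1)] (.node [(206,(-1))] .nil .nil) .nil) (.node [(184,1)]
    .nil .nil))) (.node [(121,1)] (.node [] (.node [] (.node [] (.node [(231,(-1))] .nil .nil)
    .nil) .nil) (.node [(179,(-1))] .nil .nil)) (.node [] (.node [(173,1)] (.node [(216,1)] .nil
    .nil) .nil) (.node [(187,1)] (.node [] (.node [(236,1)] .nil .nil) .nil) .nil)))) (.node
    [(95,(-1))] (.node [(116,1)] (.node [(162,1)] (.node [(168,(-1))] (.node [(195,(-1))] .nil
    .nil) .nil) (.node [(177,(-1))] .nil .nil)) (.node [] (.node [] (.node [(209,1)] (.node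
    [(232,1)] .nil .nil) .nil) .nil) .nil)) (.node [] (.node [] (.node [] (.node [(202,1)] .nil
    .nil) .nil) (.node [] .nil (.node [(227,(-1))] .nil .nil))) (.node [(165,(-1))] (.node
    [(174,(-1))] .nil .nil) (.node [(189,1)] .nil .nil))))))

/-- table -/
noncomputable def auxE8Chain229 : Tr (List (ℕ × ℤ)) :=
    (.node [(81,(-1))] (.node [(82,(-1))] (.node [] (.node [(102,1)] (.node [] (.node [(167,1)]
    (.node [(192,(-1))] .nil .nil) .nil) (.node [(176,1)] (.node [] (.node [(233,(-1))] .nil .nil)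
    .nil) .nil)) (.node [] (.node [] (.node [(207,1)] .nil .nil) .nil) .nil)) (.node [(123,1)]
    (.node [] (.node [] (.node [(198,1)] (.node [(231,1)] .nil .nil) .nil) .nil) (.node [] .nil
    (.node [(227,1)] .nil .nil))) (.node [] (.node [] (.node [(213,(-1))] .nil .nil) .nil) .nil)))
    (.node [(91,1)] (.node [(113,1)] (.node [(162,1)] .nil .nil) (.node [] (.node [(172,(-1))]
    (.node [(209,1)] (.node [(232,(-1))] .nil .nil) .nil) .nil) (.node [(186,(-1))] .nil .nil)))
    (.node [(125,1)] (.node [] .nil (.node [(182,1)] .nil .nil)) (.node [] (.node [] (.node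
    [(222,(-1))] .nil .nil) .nil) (.node [] (.node [] (.node [(238,1)] .nil .nil) .nil) .nil)))))
    (.node [(83,(-1))] (.node [(87,1)] (.node [(108,(-1))] (.node [] (.node [(168,(-1))] (.node
    [(193,1)] .nil .nil) .nil) (.node [(177,(-1))] .nil .nil)) (.node [] (.node [(171,1)] (.node
    [(208,(-1))] .nil .nil) .nil) (.node [(185,1)] (.node [] (.node [(235,(-1))] .nil .nil) .nil)
    .nil))) (.node [(124,(-1))] (.node [] (.node [(169,(-1))] (.node [(199,(-1))] .nil .nil) .nil)
    (.node [(181,(-1))] (.node [] (.node [(234,(-1))] .nil .nil) .nil) (.node [(228,(-1))] .nil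
    .nil))) (.node [] (.node [] (.node [(217,1)] .nil .nil) .nil) (.node [] (.node [] (.node
    [(237,1)] .nil .nil) .nil) .nil)))) (.node [(96,1)] (.node [] (.node [] (.node [] (.node
    [(197,(-1))] .nil .nil) .nil) (.node [] .nil (.node [(226,(-1))] .nil .nil))) (.node [(164,1)]
    (.node [(173,1)] .nil .nil) (.node [(187,1)] .nil .nil))) (.node [] (.node [(163,(-1))] (.node
    [] (.node [(203,1)] .nil .nil) .nil) (.node [(183,(-1))] .nil .nil)) (.node [(166,(-1))] (.node
    [(175,(-1))] .nil .nil) (.node [(191,1)] (.node [] (.node [(239,1)] .nil .nil) .nil) (.node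
    [(230,(-1))] .nil .nil)))))))

/-- table -/
noncomputable def auxE8Chain230 : Tr (List (ℕ × ℤ)) :=
    (.node [(84,1)] (.node [(85,1)] (.node [(87,1)] (.node [(103,(-1))] (.node [] .nil (.node
    [(179,1)] .nil (.node [(227,(-1))] .nil .nil))) (.node [] (.node [(173,1)] (.node [(210,1)]
    .nil .nil) .nil) .nil)) (.node [(127,(-1))] (.node [] (.node [] (.node [(201,1)] .nil .nil)
    .nil) (.node [(183,(-1))] (.node [] (.node [(234,1)] .nil .nil) .nil) .nil)) (.node
    [(166,(-1))] .nil (.node [(191,1)] (.node [] (.node [(239,(-1))] .nil .nil) .nil) .nil))))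
    (.node [(92,(-1))] (.node [] (.node [] .nil (.node [(181,(-1))] .nil (.node [(229,(-1))] .nil
    .nil))) (.node [] (.node [] (.node [(212,1)] .nil .nil) .nil) (.node [(189,(-1))] (.node []
    (.node [(237,(-1))] .nil .nil) .nil) .nil))) (.node [(129,(-1))] (.node [(163,(-1))] (.node
    [(171,1)] (.node [(203,1)] .nil .nil) .nil) .nil) (.node [(168,(-1))] (.node [] (.node
    [(223,(-1))] .nil .nil) .nil) (.node [(193,1)] .nil .nil))))) (.node [(86,1)] (.node [] (.node
    [(109,1)] (.node [(162,1)] .nil (.node [(180,(-1))] .nil (.node [(228,1)] .nil .nil))) (.node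
    [] (.node [] (.node [(211,(-1))] (.node [(232,1)] .nil .nil) .nil) .nil) (.node [(188,1)]
    (.node [] (.node [(236,(-1))] .nil .nil) .nil) .nil))) (.node [(128,1)] (.node [] (.node
    [(170,(-1))] (.node [(202,(-1))] .nil .nil) .nil) .nil) (.node [(167,1)] (.node [] (.node
    [(218,1)] .nil .nil) .nil) (.node [(192,(-1))] .nil .nil)))) (.node [(97,(-1))] (.node
    [(126,1)] (.node [] (.node [] (.node [(200,(-1))] (.node [(231,(-1))] .nil .nil) .nil) .nil)
    (.node [(182,1)] .nil .nil)) (.node [(165,1)] (.node [] (.node [(213,(-1))] .nil .nil) .nil)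
    (.node [(190,1)] (.node [] (.node [(238,(-1))] .nil .nil) .nil) .nil))) (.node [] (.node []
    (.node [(172,(-1))] .nil .nil) .nil) (.node [] (.node [(178,(-1))] (.node [] (.node [(233,1)]
    .nil .nil) .nil) (.node [(226,1)] .nil .nil)) .nil)))))

/-- table -/
noncomputable def auxE8Chain231 : Tr (List (ℕ × ℤ)) :=
    (.node [(88,(-1))] (.node [(89,(-1))] (.node [(91,(-1))] (.node [(104,1)] (.node [(162,1)]
    (.node [] (.node [(201,1)] .nil .nil) .nil) .nil) (.node [(166,(-1))] (.node [(177,1)] (.node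
    [(214,1)] (.node [(232,(-1))] .nil .nil) .nil) .nil) (.node [] (.node [] (.node [(239,1)] .nil
    .nil) .nil) .nil))) (.node [(132,1)] (.node [] .nil (.node [] (.node [] (.node [(235,1)] .nil
    .nil) .nil) .nil)) (.node [] (.node [(181,(-1))] (.node [(218,1)] .nil .nil) (.node
    [(228,(-1))] .nil .nil)) (.node [(197,1)] .nil .nil)))) (.node [] (.node [(130,1)] (.node []
    (.node [] (.node [(203,1)] .nil .nil) .nil) .nil) (.node [(168,(-1))] (.node [(179,1)] (.node
    [(216,1)] .nil .nil) (.node [(226,(-1))] .nil .nil)) (.node [(195,(-1))] .nil .nil))) (.node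
    [(134,1)] (.node [(164,(-1))] (.node [(175,1)] .nil .nil) (.node [] (.node [] (.node [(237,1)]
    .nil .nil) .nil) .nil)) (.node [] (.node [(183,(-1))] (.node [(224,(-1))] (.node [(233,(-1))]
    .nil .nil) .nil) (.node [(230,(-1))] .nil .nil)) (.node [(199,1)] .nil .nil))))) (.node
    [(90,(-1))] (.node [(92,(-1))] (.node [] (.node [] (.node [] (.node [(202,(-1))] .nil .nil)
    .nil) .nil) (.node [(167,1)] (.node [(178,(-1))] (.node [(215,(-1))] .nil .nil) .nil) (.node
    [(194,1)] .nil .nil))) (.node [(133,(-1))] (.node [] (.node [(174,(-1))] .nil .nil) (.node []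
    (.node [] (.node [(236,1)] .nil .nil) .nil) .nil)) (.node [] (.node [(182,1)] .nil (.node
    [(229,1)] .nil .nil)) (.node [(198,(-1))] .nil .nil)))) (.node [(98,1)] (.node [(131,(-1))]
    .nil (.node [] (.node [(180,(-1))] (.node [(217,(-1))] .nil .nil) (.node [(227,1)] .nil .nil))
    (.node [(196,1)] .nil .nil))) (.node [] (.node [(165,1)] (.node [(176,(-1))] .nil .nil) (.node
    [] (.node [] (.node [(238,1)] .nil .nil) .nil) .nil)) (.node [] .nil (.node [(200,(-1))] .nil
    .nil))))))

/-- table -/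
noncomputable def auxE8Chain232 : Tr (List (ℕ × ℤ)) :=
    (.node [(93,1)] (.node [(94,1)] (.node [(96,1)] (.node [] (.node [(163,1)] .nil (.node
    [(195,(-1))] (.node [] (.node [(236,(-1))] .nil .nil) .nil) .nil)) (.node [] (.node [(187,1)]
    (.node [(219,1)] .nil .nil) (.node [(230,1)] .nil .nil)) (.node [(203,1)] .nil .nil))) (.node
    [(138,(-1))] (.node [(167,1)] (.node [] .nil (.node [(226,1)] .nil .nil)) (.node [(199,1)] .nil
    .nil)) (.node [] (.node [(191,(-1))] (.node [(223,1)] .nil .nil) .nil) .nil))) (.node [(98,1)]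
    (.node [(136,(-1))] (.node [(165,1)] .nil (.node [(197,1)] (.node [] (.node [(238,(-1))] .nil
    .nil) .nil) .nil)) (.node [] (.node [(189,1)] (.node [(221,1)] .nil .nil) .nil) .nil)) (.node
    [(140,(-1))] (.node [] (.node [(185,1)] .nil (.node [(228,1)] .nil .nil)) (.node [(201,1)] .nil
    .nil)) (.node [] (.node [(193,(-1))] (.node [] (.node [(234,(-1))] .nil .nil) .nil) .nil)
    .nil)))) (.node [(95,1)] (.node [(97,1)] (.node [(135,1)] (.node [(164,(-1))] .nil (.node
    [(196,1)] (.node [] (.node [(237,(-1))] .nil .nil) .nil) .nil)) (.node [] (.node [(188,(-1))]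
    (.node [(220,(-1))] .nil .nil) (.node [(231,(-1))] .nil .nil)) .nil)) (.node [(139,1)] (.node
    [(168,(-1))] (.node [(184,(-1))] .nil (.node [(227,(-1))] .nil .nil)) (.node [(200,(-1))] .nil
    .nil)) (.node [] (.node [(192,1)] (.node [(224,(-1))] .nil .nil) .nil) .nil))) (.node [] (.node
    [(137,1)] (.node [(166,(-1))] .nil (.node [(198,(-1))] (.node [] (.node [(239,(-1))] .nil .nil)
    .nil) .nil)) (.node [] (.node [(190,(-1))] (.node [(222,(-1))] .nil .nil) .nil) .nil)) (.node
    [] (.node [] (.node [(186,(-1))] .nil (.node [(229,(-1))] .nil .nil)) (.node [(202,(-1))] .nil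
    .nil)) (.node [] (.node [(194,1)] (.node [] (.node [(235,(-1))] .nil .nil) .nil) .nil)
    .nil)))))

/-- table -/
noncomputable def auxE8Chain233 : Tr (List (ℕ × ℤ)) :=
    (.node [(99,1)] (.node [(100,1)] (.node [(102,1)] (.node [] (.node [] (.node [(179,1)] (.node
    [(211,1)] .nil .nil) (.node [(228,1)] .nil .nil)) .nil) (.node [(171,(-1))] (.node [] (.node []
    (.node [(234,(-1))] .nil .nil) .nil) .nil) .nil)) (.node [(144,(-1))] (.node [] (.node
    [(183,(-1))] (.node [(215,(-1))] .nil .nil) .nil) .nil) (.node [(175,1)] (.node [] (.node []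
    (.node [(238,(-1))] .nil .nil) .nil) .nil) (.node [(207,1)] .nil .nil)))) (.node [(104,1)]
    (.node [(142,(-1))] (.node [] (.node [(181,(-1))] (.node [(213,1)] .nil .nil) (.node [(230,1)]
    .nil .nil)) .nil) (.node [(173,(-1))] (.node [] (.node [] (.node [(236,(-1))] .nil .nil) .nil)
    .nil) (.node [(205,(-1))] .nil .nil))) (.node [(146,(-1))] (.node [(169,(-1))] (.node [] (.node
    [(217,(-1))] .nil .nil) .nil) .nil) (.node [(177,1)] (.node [] (.node [(225,(-1))] .nil .nil)
    .nil) (.node [(209,1)] (.node [(226,1)] .nil .nil) .nil))))) (.node [(101,1)] (.node [(103,1)]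
    (.node [(141,1)] (.node [] (.node [(180,(-1))] (.node [(212,(-1))] .nil .nil) (.node
    [(229,(-1))] .nil .nil)) .nil) (.node [(172,1)] (.node [] (.node [] (.node [(235,(-1))] .nil
    .nil) .nil) .nil) (.node [(204,1)] .nil .nil))) (.node [(145,1)] (.node [] (.node [] (.node
    [(216,1)] .nil .nil) .nil) .nil) (.node [(176,(-1))] (.node [] (.node [] (.node [(239,(-1))]
    .nil .nil) .nil) .nil) (.node [(208,(-1))] .nil .nil)))) (.node [] (.node [(143,1)] (.node []
    (.node [(182,1)] (.node [(214,1)] .nil .nil) (.node [(231,(-1))] .nil .nil)) .nil) (.node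
    [(174,(-1))] (.node [] (.node [] (.node [(237,(-1))] .nil .nil) .nil) .nil) (.node [(206,1)]
    .nil .nil))) (.node [(162,1)] (.node [(170,1)] (.node [] (.node [(218,1)] .nil .nil) .nil)
    .nil) (.node [(178,(-1))] .nil (.node [(210,(-1))] (.node [(227,(-1))] .nil .nil) .nil))))))

/-- table -/
noncomputable def auxE8Chain234 : Tr (List (ℕ × ℤ)) :=
    (.node [(105,1)] (.node [(106,1)] (.node [(108,1)] (.node [(141,1)] (.node [] (.node [(189,1)]
    .nil .nil) (.node [(205,(-1))] .nil .nil)) (.node [] .nil (.node [(213,1)] .nil .nil))) (.node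
    [(149,(-1))] (.node [(172,1)] (.node [(193,(-1))] (.node [(220,(-1))] (.node [(236,(-1))] .nil
    .nil) .nil) .nil) (.node [(209,1)] .nil .nil)) (.node [(185,1)] .nil (.node [] (.node
    [(229,(-1))] .nil .nil) .nil)))) (.node [] (.node [(147,(-1))] (.node [(170,1)] (.node
    [(191,(-1))] .nil .nil) (.node [(207,1)] .nil .nil)) (.node [] .nil (.node [] (.node
    [(227,(-1))] .nil .nil) .nil))) (.node [(151,(-1))] (.node [] (.node [] (.node [(222,(-1))]
    (.node [(238,(-1))] .nil .nil) .nil) .nil) (.node [(211,1)] .nil .nil)) (.node [(187,1)] .nil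
    .nil)))) (.node [(107,1)] (.node [(109,1)] (.node [] (.node [(169,(-1))] (.node [(190,(-1))]
    .nil .nil) (.node [(206,1)] .nil .nil)) (.node [] (.node [] .nil (.node [(233,(-1))] .nil
    .nil)) (.node [] (.node [(226,1)] .nil .nil) .nil))) (.node [(150,1)] (.node [(173,(-1))]
    (.node [] (.node [(221,1)] (.node [(237,(-1))] .nil .nil) .nil) .nil) (.node [(210,(-1))] .nil
    .nil)) (.node [(186,(-1))] (.node [] (.node [(225,(-1))] .nil .nil) .nil) (.node [] (.node
    [(230,1)] .nil .nil) .nil)))) (.node [(135,1)] (.node [(148,1)] (.node [(171,(-1))] (.node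
    [(192,1)] (.node [(219,1)] (.node [(235,(-1))] .nil .nil) .nil) (.node [(232,(-1))] .nil .nil))
    (.node [(208,(-1))] .nil .nil)) (.node [(184,(-1))] .nil (.node [] (.node [(228,1)] .nil .nil)
    .nil))) (.node [(163,1)] (.node [] (.node [] (.node [(223,1)] (.node [(239,(-1))] .nil .nil)
    .nil) .nil) (.node [(212,(-1))] .nil .nil)) (.node [(188,(-1))] (.node [(204,1)] .nil .nil)
    .nil)))))

/-- table -/
noncomputable def auxE8Chain235 : Tr (List (ℕ × ℤ)) :=
    (.node [(110,1)] (.node [(111,1)] (.node [(113,1)] (.node [(142,1)] (.node [(169,(-1))] (.node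
    [(195,1)] (.node [(220,(-1))] (.node [(237,(-1))] .nil .nil) .nil) .nil) .nil) (.node [(185,1)]
    (.node [] .nil (.node [(233,(-1))] .nil .nil)) (.node [(217,1)] (.node [(229,(-1))] .nil .nil)
    .nil))) (.node [(153,(-1))] (.node [(176,1)] (.node [(199,(-1))] .nil .nil) .nil) (.node []
    (.node [(207,1)] (.node [(225,(-1))] .nil .nil) .nil) .nil))) (.node [(130,1)] (.node [] (.node
    [(174,1)] (.node [(197,(-1))] (.node [(222,(-1))] (.node [(239,(-1))] .nil .nil) .nil) (.node
    [(232,(-1))] .nil .nil)) .nil) (.node [(187,1)] (.node [(205,(-1))] .nil .nil) .nil)) (.node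
    [(155,(-1))] (.node [] .nil (.node [(215,1)] (.node [(227,(-1))] .nil .nil) .nil)) (.node []
    (.node [(209,1)] .nil (.node [(234,(-1))] .nil .nil)) .nil)))) (.node [(112,1)] (.node []
    (.node [(147,(-1))] (.node [] (.node [(196,(-1))] (.node [(221,1)] (.node [(238,(-1))] .nil
    .nil) .nil) .nil) .nil) (.node [(186,(-1))] (.node [(204,1)] .nil .nil) .nil)) (.node [(154,1)]
    (.node [(177,(-1))] .nil (.node [(214,(-1))] (.node [(226,1)] .nil .nil) .nil)) (.node []
    (.node [(208,(-1))] .nil .nil) (.node [] (.node [(231,1)] .nil .nil) .nil)))) (.node [(136,1)]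
    (.node [(152,1)] (.node [(175,(-1))] (.node [(198,1)] .nil .nil) .nil) (.node [] (.node
    [(206,1)] .nil .nil) .nil)) (.node [(164,1)] (.node [(184,(-1))] (.node [] (.node [(224,1)]
    .nil .nil) .nil) (.node [(216,(-1))] (.node [(228,1)] .nil .nil) .nil)) (.node [(194,(-1))]
    .nil (.node [(219,1)] .nil (.node [(236,(-1))] .nil .nil)))))))

/-- table -/
noncomputable def auxE8Chain236 : Tr (List (ℕ × ℤ)) :=
    (.node [(114,1)] (.node [(115,1)] (.node [] (.node [(143,1)] (.node [(170,(-1))] .nil .nil)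
    (.node [(188,1)] (.node [(206,1)] .nil .nil) (.node [(218,1)] (.node [(230,(-1))] .nil .nil)
    .nil))) (.node [(156,(-1))] (.node [(179,1)] (.node [(202,(-1))] .nil .nil) (.node [(216,(-1))]
    (.node [(228,1)] .nil .nil) .nil)) (.node [(194,(-1))] (.node [(210,1)] .nil .nil) (.node
    [(219,1)] (.node [(231,1)] .nil .nil) (.node [(237,(-1))] .nil .nil))))) (.node [(131,1)]
    (.node [(152,1)] (.node [] (.node [(200,(-1))] (.node [(223,(-1))] .nil .nil) .nil) (.node
    [(214,(-1))] (.node [(226,1)] .nil .nil) (.node [(235,(-1))] .nil .nil))) (.node [(190,1)] .nil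
    .nil)) (.node [(158,(-1))] (.node [(184,(-1))] (.node [(204,1)] (.node [(224,1)] .nil .nil)
    .nil) .nil) (.node [(196,(-1))] (.node [(212,1)] .nil .nil) (.node [(221,1)] .nil (.node
    [(239,(-1))] .nil .nil)))))) (.node [(116,1)] (.node [(126,1)] (.node [(148,(-1))] (.node
    [(174,1)] (.node [] .nil (.node [(232,(-1))] .nil .nil)) .nil) (.node [(189,(-1))] .nil .nil))
    (.node [(157,1)] (.node [(180,(-1))] .nil .nil) (.node [(195,1)] (.node [(211,(-1))] .nil
    (.node [(234,(-1))] .nil .nil)) (.node [(220,(-1))] .nil (.node [(238,(-1))] .nil .nil)))))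
    (.node [(137,1)] (.node [] (.node [(178,(-1))] (.node [(201,1)] .nil .nil) (.node [(215,1)]
    (.node [(227,(-1))] .nil .nil) .nil)) (.node [] (.node [] (.node [(225,(-1))] .nil .nil) .nil)
    .nil)) (.node [(165,1)] (.node [] (.node [(205,(-1))] .nil (.node [(233,(-1))] .nil .nil))
    .nil) .nil))))

/-- table -/
noncomputable def auxE8Chain237 : Tr (List (ℕ × ℤ)) :=
    (.node [(117,1)] (.node [(118,1)] (.node [(123,1)] (.node [(144,1)] (.node [(171,(-1))] (.node
    [(200,(-1))] .nil (.node [(232,(-1))] .nil .nil)) (.node [(214,(-1))] (.node [(226,1)] .nil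
    .nil) .nil)) (.node [] (.node [(208,1)] .nil .nil) .nil)) (.node [] (.node [(181,1)] (.node
    [(203,(-1))] .nil .nil) (.node [(217,(-1))] (.node [(229,1)] .nil .nil) .nil)) (.node [] (.node
    [] .nil (.node [(234,(-1))] .nil .nil)) .nil))) (.node [(132,1)] (.node [(153,1)] (.node
    [(178,(-1))] .nil .nil) (.node [(192,1)] (.node [(210,1)] (.node [(225,(-1))] .nil .nil) .nil)
    (.node [(219,1)] .nil (.node [(238,(-1))] .nil .nil)))) (.node [(160,(-1))] (.node [(185,(-1))]
    (.node [] .nil (.node [(233,(-1))] .nil .nil)) .nil) (.node [(198,(-1))] (.node [(213,1)] .nil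
    .nil) (.node [(222,1)] .nil .nil))))) (.node [] (.node [(127,1)] (.node [(149,(-1))] (.node
    [(175,1)] (.node [(201,1)] (.node [(223,(-1))] .nil .nil) .nil) (.node [(215,1)] (.node
    [(227,(-1))] .nil .nil) (.node [(235,(-1))] .nil .nil))) (.node [(191,(-1))] .nil .nil)) (.node
    [(159,1)] (.node [(182,(-1))] (.node [(204,1)] (.node [(224,1)] .nil .nil) .nil) (.node [] .nil
    (.node [(236,(-1))] .nil .nil))) (.node [(197,1)] .nil .nil))) (.node [(138,1)] (.node
    [(156,(-1))] .nil (.node [(194,(-1))] (.node [(211,(-1))] .nil .nil) (.node [(220,(-1))] (.node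
    [(231,1)] .nil .nil) (.node [(239,(-1))] .nil .nil)))) (.node [(166,1)] (.node [(188,1)] (.node
    [(207,(-1))] .nil .nil) (.node [(218,1)] (.node [(230,(-1))] .nil .nil) .nil)) .nil))))

/-- table -/
noncomputable def auxE8Chain238 : Tr (List (ℕ × ℤ)) :=
    (.node [(119,1)] (.node [] (.node [(124,1)] (.node [(145,1)] (.node [(172,(-1))] (.node []
    (.node [(223,(-1))] .nil .nil) .nil) (.node [] .nil (.node [(235,(-1))] .nil .nil))) (.node
    [(191,(-1))] (.node [(209,1)] .nil .nil) .nil)) (.node [(159,1)] (.node [] (.node [] (.node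
    [(224,1)] .nil .nil) .nil) (.node [] .nil (.node [(236,(-1))] .nil .nil))) (.node [(197,1)]
    .nil .nil))) (.node [(133,1)] (.node [(154,1)] (.node [(179,(-1))] .nil .nil) (.node [(193,1)]
    .nil (.node [] (.node [(231,1)] .nil .nil) .nil))) (.node [(161,(-1))] (.node [(186,(-1))]
    (.node [(207,(-1))] .nil .nil) (.node [(218,1)] (.node [(230,(-1))] .nil .nil) .nil)) (.node
    [(199,(-1))] .nil .nil)))) (.node [(121,1)] (.node [(128,1)] (.node [(150,(-1))] (.node
    [(176,1)] (.node [(202,1)] .nil .nil) (.node [(216,1)] (.node [(228,(-1))] .nil .nil) .nil))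
    (.node [] (.node [(210,1)] (.node [(225,(-1))] .nil .nil) .nil) (.node [(219,1)] .nil (.node
    [(239,(-1))] .nil .nil)))) (.node [] (.node [(183,(-1))] (.node [(205,1)] .nil (.node
    [(233,(-1))] .nil .nil)) .nil) (.node [] (.node [(213,1)] .nil .nil) (.node [(222,1)] .nil
    .nil)))) (.node [(139,1)] (.node [(157,(-1))] (.node [(181,1)] (.node [(203,(-1))] .nil .nil)
    (.node [(217,(-1))] (.node [(229,1)] .nil .nil) .nil)) (.node [(195,(-1))] (.node [(212,(-1))]
    .nil (.node [(234,(-1))] .nil .nil)) (.node [(221,(-1))] .nil .nil))) (.node [(167,1)] (.node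
    [(189,1)] .nil (.node [] .nil (.node [(237,(-1))] .nil .nil))) (.node [(200,(-1))] (.node
    [(214,(-1))] (.node [(226,1)] .nil .nil) .nil) (.node [] (.node [(232,(-1))] .nil .nil)
    .nil))))))

/-- table -/
noncomputable def auxE8Chain239 : Tr (List (ℕ × ℤ)) :=
    (.node [] (.node [(120,1)] (.node [(125,1)] (.node [(146,1)] (.node [(173,(-1))] (.node
    [(202,1)] .nil .nil) (.node [(216,1)] (.node [(228,(-1))] .nil .nil) .nil)) (.node [(192,(-1))]
    (.node [] (.node [(225,(-1))] .nil .nil) .nil) (.node [] .nil (.node [(238,(-1))] .nil .nil))))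
    (.node [(160,1)] (.node [(183,(-1))] (.node [] .nil (.node [(233,(-1))] .nil .nil)) .nil)
    (.node [(198,1)] (.node [(213,1)] .nil .nil) (.node [(222,1)] .nil .nil)))) (.node [(134,1)]
    (.node [(155,1)] (.node [(180,(-1))] (.node [(203,(-1))] .nil .nil) (.node [(217,(-1))] (.node
    [(229,1)] .nil .nil) .nil)) (.node [] (.node [(212,(-1))] .nil (.node [(234,(-1))] .nil .nil))
    (.node [(221,(-1))] .nil .nil))) (.node [] (.node [(187,(-1))] (.node [(208,(-1))] .nil .nil)
    (.node [] .nil (.node [(237,(-1))] .nil .nil))) (.node [] .nil (.node [] (.node [(232,(-1))]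
    .nil .nil) .nil))))) (.node [(122,1)] (.node [(129,1)] (.node [(151,(-1))] (.node [(177,1)]
    .nil .nil) (.node [(193,1)] (.node [(211,1)] .nil .nil) (.node [(220,1)] (.node [(231,1)] .nil
    .nil) .nil))) (.node [(161,(-1))] (.node [] (.node [(206,1)] .nil .nil) (.node [(218,1)] (.node
    [(230,(-1))] .nil .nil) .nil)) (.node [(199,(-1))] .nil .nil))) (.node [(140,1)] (.node
    [(158,(-1))] (.node [(182,1)] (.node [] (.node [(224,1)] .nil .nil) .nil) (.node [] .nil (.node
    [(236,(-1))] .nil .nil))) (.node [(196,(-1))] .nil .nil)) (.node [(168,1)] (.node [(190,1)]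
    (.node [(209,1)] .nil .nil) .nil) (.node [(201,(-1))] (.node [(215,(-1))] (.node [(227,1)] .nil
    .nil) (.node [(235,(-1))] .nil .nil)) (.node [(223,(-1))] .nil .nil))))))

/-- table -/
noncomputable def auxE8Chain : Tr (Tr (List (ℕ × ℤ))) :=
    (.node auxE8Chain0 (.node auxE8Chain1 (.node auxE8Chain3 (.node auxE8Chain7 (.node auxE8Chain15
    (.node auxE8Chain31 (.node auxE8Chain63 (.node auxE8Chain127 .nil .nil) (.node auxE8Chain191
    .nil .nil)) (.node auxE8Chain95 (.node auxE8Chain159 .nil .nil) (.node auxE8Chain223 .nil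
    .nil))) (.node auxE8Chain47 (.node auxE8Chain79 (.node auxE8Chain143 .nil .nil) (.node
    auxE8Chain207 .nil .nil)) (.node auxE8Chain111 (.node auxE8Chain175 .nil .nil) (.node
    auxE8Chain239 .nil .nil)))) (.node auxE8Chain23 (.node auxE8Chain39 (.node auxE8Chain71 (.node
    auxE8Chain135 .nil .nil) (.node auxE8Chain199 .nil .nil)) (.node auxE8Chain103 (.node
    auxE8Chain167 .nil .nil) (.node auxE8Chain231 .nil .nil))) (.node auxE8Chain55 (.node
    auxE8Chain87 (.node auxE8Chain151 .nil .nil) (.node auxE8Chain215 .nil .nil)) (.node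
    auxE8Chain119 (.node auxE8Chain183 .nil .nil) .nil)))) (.node auxE8Chain11 (.node auxE8Chain19
    (.node auxE8Chain35 (.node auxE8Chain67 (.node auxE8Chain131 .nil .nil) (.node auxE8Chain195
    .nil .nil)) (.node auxE8Chain99 (.node auxE8Chain163 .nil .nil) (.node auxE8Chain227 .nil
    .nil))) (.node auxE8Chain51 (.node auxE8Chain83 (.node auxE8Chain147 .nil .nil) (.node
    auxE8Chain211 .nil .nil)) (.node auxE8Chain115 (.node auxE8Chain179 .nil .nil) .nil))) (.node
    auxE8Chain27 (.node auxE8Chain43 (.node auxE8Chain75 (.node auxE8Chain139 .nil .nil) (.node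
    auxE8Chain203 .nil .nil)) (.node auxE8Chain107 (.node auxE8Chain171 .nil .nil) (.node
    auxE8Chain235 .nil .nil))) (.node auxE8Chain59 (.node auxE8Chain91 (.node auxE8Chain155 .nil
    .nil) (.node auxE8Chain219 .nil .nil)) (.node auxE8Chain123 (.node auxE8Chain187 .nil .nil)
    .nil))))) (.node auxE8Chain5 (.node auxE8Chain9 (.node auxE8Chain17 (.node auxE8Chain33 (.node
    auxE8Chain65 (.node auxE8Chain129 .nil .nil) (.node auxE8Chain193 .nil .nil)) (.node
    auxE8Chain97 (.node auxE8Chain161 .nil .nil) (.node auxE8Chain225 .nil .nil))) (.node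
    auxE8Chain49 (.node auxE8Chain81 (.node auxE8Chain145 .nil .nil) (.node auxE8Chain209 .nil
    .nil)) (.node auxE8Chain113 (.node auxE8Chain177 .nil .nil) .nil))) (.node auxE8Chain25 (.node
    auxE8Chain41 (.node auxE8Chain73 (.node auxE8Chain137 .nil .nil) (.node auxE8Chain201 .nil
    .nil)) (.node auxE8Chain105 (.node auxE8Chain169 .nil .nil) (.node auxE8Chain233 .nil .nil)))
    (.node auxE8Chain57 (.node auxE8Chain89 (.node auxE8Chain153 .nil .nil) (.node auxE8Chain217
    .nil .nil)) (.node auxE8Chain121 (.node auxE8Chain185 .nil .nil) .nil)))) (.node auxE8Chain13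
    (.node auxE8Chain21 (.node auxE8Chain37 (.node auxE8Chain69 (.node auxE8Chain133 .nil .nil)
    (.node auxE8Chain197 .nil .nil)) (.node auxE8Chain101 (.node auxE8Chain165 .nil .nil) (.node
    auxE8Chain229 .nil .nil))) (.node auxE8Chain53 (.node auxE8Chain85 (.node auxE8Chain149 .nil
    .nil) (.node auxE8Chain213 .nil .nil)) (.node auxE8Chain117 (.node auxE8Chain181 .nil .nil)
    .nil))) (.node auxE8Chain29 (.node auxE8Chain45 (.node auxE8Chain77 (.node auxE8Chain141 .nil
    .nil) (.node auxE8Chain205 .nil .nil)) (.node auxE8Chain109 (.node auxE8Chain173 .nil .nil)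
    (.node auxE8Chain237 .nil .nil))) (.node auxE8Chain61 (.node auxE8Chain93 (.node auxE8Chain157
    .nil .nil) (.node auxE8Chain221 .nil .nil)) (.node auxE8Chain125 (.node auxE8Chain189 .nil
    .nil) .nil)))))) (.node auxE8Chain2 (.node auxE8Chain4 (.node auxE8Chain8 (.node auxE8Chain16
    (.node auxE8Chain32 (.node auxE8Chain64 (.node auxE8Chain128 .nil .nil) (.node auxE8Chain192
    .nil .nil)) (.node auxE8Chain96 (.node auxE8Chain160 .nil .nil) (.node auxE8Chain224 .nil
    .nil))) (.node auxE8Chain48 (.node auxE8Chain80 (.node auxE8Chain144 .nil .nil) (.node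
    auxE8Chain208 .nil .nil)) (.node auxE8Chain112 (.node auxE8Chain176 .nil .nil) .nil))) (.node
    auxE8Chain24 (.node auxE8Chain40 (.node auxE8Chain72 (.node auxE8Chain136 .nil .nil) (.node
    auxE8Chain200 .nil .nil)) (.node auxE8Chain104 (.node auxE8Chain168 .nil .nil) (.node
    auxE8Chain232 .nil .nil))) (.node auxE8Chain56 (.node auxE8Chain88 (.node auxE8Chain152 .nil
    .nil) (.node auxE8Chain216 .nil .nil)) (.node auxE8Chain120 (.node auxE8Chain184 .nil .nil)
    .nil)))) (.node auxE8Chain12 (.node auxE8Chain20 (.node auxE8Chain36 (.node auxE8Chain68 (.node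
    auxE8Chain132 .nil .nil) (.node auxE8Chain196 .nil .nil)) (.node auxE8Chain100 (.node
    auxE8Chain164 .nil .nil) (.node auxE8Chain228 .nil .nil))) (.node auxE8Chain52 (.node
    auxE8Chain84 (.node auxE8Chain148 .nil .nil) (.node auxE8Chain212 .nil .nil)) (.node
    auxE8Chain116 (.node auxE8Chain180 .nil .nil) .nil))) (.node auxE8Chain28 (.node auxE8Chain44
    (.node auxE8Chain76 (.node auxE8Chain140 .nil .nil) (.node auxE8Chain204 .nil .nil)) (.node
    auxE8Chain108 (.node auxE8Chain172 .nil .nil) (.node auxE8Chain236 .nil .nil))) (.node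
    auxE8Chain60 (.node auxE8Chain92 (.node auxE8Chain156 .nil .nil) (.node auxE8Chain220 .nil
    .nil)) (.node auxE8Chain124 (.node auxE8Chain188 .nil .nil) .nil))))) (.node auxE8Chain6 (.node
    auxE8Chain10 (.node auxE8Chain18 (.node auxE8Chain34 (.node auxE8Chain66 (.node auxE8Chain130
    .nil .nil) (.node auxE8Chain194 .nil .nil)) (.node auxE8Chain98 (.node auxE8Chain162 .nil .nil)
    (.node auxE8Chain226 .nil .nil))) (.node auxE8Chain50 (.node auxE8Chain82 (.node auxE8Chain146
    .nil .nil) (.node auxE8Chain210 .nil .nil)) (.node auxE8Chain114 (.node auxE8Chain178 .nil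
    .nil) .nil))) (.node auxE8Chain26 (.node auxE8Chain42 (.node auxE8Chain74 (.node auxE8Chain138
    .nil .nil) (.node auxE8Chain202 .nil .nil)) (.node auxE8Chain106 (.node auxE8Chain170 .nil
    .nil) (.node auxE8Chain234 .nil .nil))) (.node auxE8Chain58 (.node auxE8Chain90 (.node
    auxE8Chain154 .nil .nil) (.node auxE8Chain218 .nil .nil)) (.node auxE8Chain122 (.node
    auxE8Chain186 .nil .nil) .nil)))) (.node auxE8Chain14 (.node auxE8Chain22 (.node auxE8Chain38
    (.node auxE8Chain70 (.node auxE8Chain134 .nil .nil) (.node auxE8Chain198 .nil .nil)) (.node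
    auxE8Chain102 (.node auxE8Chain166 .nil .nil) (.node auxE8Chain230 .nil .nil))) (.node
    auxE8Chain54 (.node auxE8Chain86 (.node auxE8Chain150 .nil .nil) (.node auxE8Chain214 .nil
    .nil)) (.node auxE8Chain118 (.node auxE8Chain182 .nil .nil) .nil))) (.node auxE8Chain30 (.node
    auxE8Chain46 (.node auxE8Chain78 (.node auxE8Chain142 .nil .nil) (.node auxE8Chain206 .nil
    .nil)) (.node auxE8Chain110 (.node auxE8Chain174 .nil .nil) (.node auxE8Chain238 .nil .nil)))
    (.node auxE8Chain62 (.node auxE8Chain94 (.node auxE8Chain158 .nil .nil) (.node auxE8Chain222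
    .nil .nil)) (.node auxE8Chain126 (.node auxE8Chain190 .nil .nil) .nil)))))))

/-- table -/
noncomputable def auxE8Up : Tr ℕ :=
    (.node 7 (.node 6 (.node 4 (.node 2 (.node 3 (.node 5 (.node 3 (.node 6 .nil .nil) (.node 7
    .nil .nil)) (.node 1 (.node 7 .nil .nil) (.node 4 .nil .nil))) (.node 5 (.node 5 (.node 5 .nil
    .nil) (.node 7 .nil .nil)) (.node 4 (.node 6 .nil .nil) (.node 7 .nil .nil)))) (.node 6 (.node
    4 (.node 0 (.node 3 .nil .nil) (.node 6 .nil .nil)) (.node 2 (.node 7 .nil .nil) (.node 3 .nil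
    .nil))) (.node 2 (.node 3 (.node 2 .nil .nil) (.node 3 .nil .nil)) (.node 7 (.node 6 .nil .nil)
    .nil)))) (.node 6 (.node 2 (.node 1 (.node 0 (.node 5 .nil .nil) (.node 7 .nil .nil)) (.node 2
    (.node 3 .nil .nil) (.node 0 .nil .nil))) (.node 4 (.node 4 (.node 4 .nil .nil) (.node 4 .nil
    .nil)) (.node 5 (.node 7 .nil .nil) .nil))) (.node 6 (.node 3 (.node 0 (.node 7 .nil .nil)
    (.node 5 .nil .nil)) (.node 3 (.node 6 .nil .nil) (.node 3 .nil .nil))) (.node 4 (.node 2
    (.node 3 .nil .nil) (.node 7 .nil .nil)) (.node 6 (.node 2 .nil .nil) .nil))))) (.node 2 (.node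
    4 (.node 5 (.node 1 (.node 3 (.node 4 .nil .nil) (.node 6 .nil .nil)) (.node 1 (.node 6 .nil
    .nil) (.node 1 .nil .nil))) (.node 4 (.node 4 (.node 7 .nil .nil) (.node 6 .nil .nil)) (.node 4
    (.node 3 .nil .nil) .nil))) (.node 3 (.node 5 (.node 0 (.node 5 .nil .nil) (.node 4 .nil .nil))
    (.node 3 (.node 4 .nil .nil) (.node 1 .nil .nil))) (.node 5 (.node 2 (.node 6 .nil .nil) (.node
    5 .nil .nil)) (.node 7 (.node 6 .nil .nil) .nil)))) (.node 0 (.node 4 (.node 6 (.node 0 (.node
    7 .nil .nil) (.node 7 .nil .nil)) (.node 2 (.node 5 .nil .nil) (.node 5 .nil .nil))) (.node 2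
    (.node 3 (.node 6 .nil .nil) (.node 5 .nil .nil)) (.node 6 (.node 7 .nil .nil) .nil))) (.node 4
    (.node 3 (.node 0 (.node 3 .nil .nil) (.node 7 .nil .nil)) (.node 3 (.node 0 .nil .nil) (.node
    5 .nil .nil))) (.node 4 (.node 1 (.node 7 .nil .nil) (.node 6 .nil .nil)) (.node 5 (.node 7
    .nil .nil) .nil)))))) (.node 5 (.node 3 (.node 3 (.node 4 (.node 5 (.node 3 (.node 7 .nil .nil)
    (.node 5 .nil .nil)) (.node 1 (.node 5 .nil .nil) (.node 3 .nil .nil))) (.node 5 (.node 5
    (.node 6 .nil .nil) (.node 5 .nil .nil)) (.node 4 (.node 7 .nil .nil) .nil))) (.node 3 (.node 6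
    (.node 0 (.node 4 .nil .nil) (.node 7 .nil .nil)) (.node 2 (.node 0 .nil .nil) (.node 2 .nil
    .nil))) (.node 6 (.node 2 (.node 5 .nil .nil) (.node 6 .nil .nil)) (.node 0 (.node 5 .nil .nil)
    .nil)))) (.node 0 (.node 2 (.node 5 (.node 0 (.node 6 .nil .nil) (.node 3 .nil .nil)) (.node 2
    (.node 4 .nil .nil) (.node 6 .nil .nil))) (.node 2 (.node 3 (.node 5 .nil .nil) (.node 6 .nil
    .nil)) (.node 5 (.node 4 .nil .nil) .nil))) (.node 4 (.node 3 (.node 0 (.node 2 .nil .nil)
    (.node 6 .nil .nil)) (.node 3 (.node 7 .nil .nil) (.node 4 .nil .nil))) (.node 4 (.node 2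
    (.node 6 .nil .nil) (.node 2 .nil .nil)) (.node 7 (.node 6 .nil .nil) .nil))))) (.node 1 (.node
    5 (.node 6 (.node 1 (.node 0 (.node 4 .nil .nil) (.node 6 .nil .nil)) (.node 1 (.node 2 .nil
    .nil) (.node 7 .nil .nil))) (.node 4 (.node 4 (.node 1 .nil .nil) (.node 7 .nil .nil)) (.node 5
    (.node 6 .nil .nil) .nil))) (.node 5 (.node 5 (.node 0 (.node 6 .nil .nil) (.node 6 .nil .nil))
    (.node 3 (.node 5 .nil .nil) (.node 2 .nil .nil))) (.node 5 (.node 2 (.node 7 .nil .nil) (.node
    4 .nil .nil)) (.node 6 (.node 7 .nil .nil) .nil)))) (.node 1 (.node 5 (.node 4 (.node 0 (.node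
    3 .nil .nil) (.node 5 .nil .nil)) (.node 2 (.node 6 .nil .nil) (.node 4 .nil .nil))) (.node 2
    (.node 3 (.node 7 .nil .nil) (.node 7 .nil .nil)) (.node 6 (.node 5 .nil .nil) .nil))) (.node 6
    (.node 6 (.node 6 (.node 4 .nil .nil) (.node 1 .nil .nil)) (.node 4 (.node 5 .nil .nil) (.node
    6 .nil .nil))) (.node 3 (.node 1 (.node 4 .nil .nil) (.node 5 .nil .nil)) (.node 5 (.node 4
    .nil .nil) .nil)))))))

/-- table -/
noncomputable def auxE8Dist : Tr ℕ :=
    (.node 29 (.node 28 (.node 26 (.node 23 (.node 21 (.node 14 (.node 10 (.node 5 .nil .nil)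
    (.node 12 .nil .nil)) (.node 8 (.node 10 .nil .nil) (.node 19 .nil .nil))) (.node 12 (.node 10
    (.node 8 .nil .nil) (.node 14 .nil .nil)) (.node 5 (.node 10 .nil .nil) (.node 28 .nil .nil))))
    (.node 17 (.node 15 (.node 7 (.node 10 .nil .nil) (.node 13 .nil .nil)) (.node 10 (.node 7 .nil
    .nil) (.node 21 .nil .nil))) (.node 13 (.node 11 (.node 6 .nil .nil) (.node 15 .nil .nil))
    (.node 1 (.node 11 .nil .nil) .nil)))) (.node 19 (.node 17 (.node 15 (.node 9 (.node 7 .nil
    .nil) (.node 12 .nil .nil)) (.node 6 (.node 11 .nil .nil) (.node 17 .nil .nil))) (.node 13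
    (.node 11 (.node 10 .nil .nil) (.node 14 .nil .nil)) (.node 4 (.node 10 .nil .nil) .nil)))
    (.node 16 (.node 12 (.node 11 (.node 6 .nil .nil) (.node 15 .nil .nil)) (.node 7 (.node 9 .nil
    .nil) (.node 24 .nil .nil))) (.node 10 (.node 10 (.node 7 .nil .nil) (.node 17 .nil .nil))
    (.node 4 (.node 9 .nil .nil) .nil))))) (.node 24 (.node 21 (.node 19 (.node 13 (.node 12 (.node
    3 .nil .nil) (.node 12 .nil .nil)) (.node 10 (.node 10 .nil .nil) (.node 21 .nil .nil))) (.node
    11 (.node 9 (.node 6 .nil .nil) (.node 14 .nil .nil)) (.node 7 (.node 8 .nil .nil) .nil)))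
    (.node 17 (.node 13 (.node 9 (.node 8 .nil .nil) (.node 13 .nil .nil)) (.node 5 (.node 11 .nil
    .nil) (.node 22 .nil .nil))) (.node 11 (.node 8 (.node 9 .nil .nil) (.node 17 .nil .nil))
    (.node 2 (.node 11 .nil .nil) .nil)))) (.node 19 (.node 19 (.node 15 (.node 11 (.node 5 .nil
    .nil) (.node 13 .nil .nil)) (.node 8 (.node 9 .nil .nil) (.node 19 .nil .nil))) (.node 11
    (.node 9 (.node 8 .nil .nil) (.node 16 .nil .nil)) (.node 2 (.node 11 .nil .nil) .nil))) (.node
    16 (.node 14 (.node 13 (.node 10 .nil .nil) (.node 13 .nil .nil)) (.node 9 (.node 7 .nil .nil)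
    (.node 26 .nil .nil))) (.node 12 (.node 6 (.node 9 .nil .nil) (.node 17 .nil .nil)) (.node 2
    (.node 11 .nil .nil) .nil)))))) (.node 27 (.node 25 (.node 22 (.node 20 (.node 15 (.node 11
    (.node 4 .nil .nil) (.node 11 .nil .nil)) (.node 9 (.node 9 .nil .nil) (.node 20 .nil .nil)))
    (.node 13 (.node 11 (.node 7 .nil .nil) (.node 13 .nil .nil)) (.node 6 (.node 9 .nil .nil)
    .nil))) (.node 16 (.node 14 (.node 8 (.node 9 .nil .nil) (.node 14 .nil .nil)) (.node 11 (.node
    6 .nil .nil) (.node 22 .nil .nil))) (.node 12 (.node 7 (.node 10 .nil .nil) (.node 16 .nil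
    .nil)) (.node 0 (.node 12 .nil .nil) .nil)))) (.node 18 (.node 18 (.node 16 (.node 10 (.node 6
    .nil .nil) (.node 11 .nil .nil)) (.node 7 (.node 10 .nil .nil) (.node 18 .nil .nil))) (.node 10
    (.node 8 (.node 9 .nil .nil) (.node 15 .nil .nil)) (.node 5 (.node 9 .nil .nil) .nil))) (.node
    15 (.node 13 (.node 12 (.node 5 .nil .nil) (.node 14 .nil .nil)) (.node 8 (.node 8 .nil .nil)
    (.node 25 .nil .nil))) (.node 11 (.node 11 (.node 10 .nil .nil) (.node 16 .nil .nil)) (.node 3
    (.node 12 .nil .nil) .nil))))) (.node 23 (.node 20 (.node 18 (.node 14 (.node 8 (.node 8 .nil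
    .nil) (.node 13 .nil .nil)) (.node 11 (.node 12 .nil .nil) (.node 18 .nil .nil))) (.node 12
    (.node 10 (.node 5 .nil .nil) (.node 15 .nil .nil)) (.node 3 (.node 11 .nil .nil) .nil)))
    (.node 17 (.node 14 (.node 10 (.node 7 .nil .nil) (.node 14 .nil .nil)) (.node 6 (.node 10 .nil
    .nil) (.node 23 .nil .nil))) (.node 12 (.node 9 (.node 8 .nil .nil) (.node 18 .nil .nil))
    (.node 1 (.node 10 .nil .nil) .nil)))) (.node 22 (.node 18 (.node 14 (.node 12 (.node 4 .nil
    .nil) (.node 12 .nil .nil)) (.node 9 (.node 8 .nil .nil) (.node 20 .nil .nil))) (.node 12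
    (.node 10 (.node 7 .nil .nil) (.node 16 .nil .nil)) (.node 3 (.node 10 .nil .nil) .nil)))
    (.node 15 (.node 13 (.node 11 (.node 9 .nil .nil) (.node 12 .nil .nil)) (.node 4 (.node 11 .nil
    .nil) (.node 27 .nil .nil))) (.node 9 (.node 7 (.node 8 .nil .nil) (.node 18 .nil .nil)) (.node
    6 (.node 10 .nil .nil) .nil)))))))

/-- table -/
noncomputable def auxE8Stab0 : Tr ℕ :=
    (.node 8 (.node 8 (.node 5 (.node 1 (.node 0 (.node 4 (.node 2 (.node 4 .nil .nil) (.node 2
    .nil .nil)) (.node 2 (.node 5 .nil .nil) (.node 2 .nil .nil))) (.node 3 (.node 0 (.node 1 .nil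
    .nil) (.node 1 .nil .nil)) (.node 3 (.node 0 .nil .nil) (.node 8 .nil .nil)))) (.node 2 (.node
    1 (.node 1 (.node 2 .nil .nil) (.node 3 .nil .nil)) (.node 0 (.node 0 .nil .nil) (.node 0 .nil
    .nil))) (.node 5 (.node 0 (.node 1 .nil .nil) (.node 3 .nil .nil)) (.node 8 (.node 0 .nil .nil)
    .nil)))) (.node 5 (.node 0 (.node 8 (.node 3 (.node 3 .nil .nil) (.node 3 .nil .nil)) (.node 0
    (.node 0 .nil .nil) (.node 0 .nil .nil))) (.node 3 (.node 0 (.node 1 .nil .nil) (.node 1 .nil
    .nil)) (.node 4 (.node 0 .nil .nil) .nil))) (.node 3 (.node 1 (.node 1 (.node 2 .nil .nil)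
    (.node 5 .nil .nil)) (.node 1 (.node 0 .nil .nil) (.node 3 .nil .nil))) (.node 2 (.node 0
    (.node 3 .nil .nil) (.node 2 .nil .nil)) (.node 5 (.node 2 .nil .nil) .nil))))) (.node 3 (.node
    3 (.node 0 (.node 5 (.node 2 (.node 4 .nil .nil) (.node 2 .nil .nil)) (.node 2 (.node 8 .nil
    .nil) (.node 1 .nil .nil))) (.node 3 (.node 0 (.node 1 .nil .nil) (.node 1 .nil .nil)) (.node 3
    (.node 0 .nil .nil) .nil))) (.node 2 (.node 1 (.node 1 (.node 2 .nil .nil) (.node 4 .nil .nil))
    (.node 1 (.node 0 .nil .nil) (.node 0 .nil .nil))) (.node 2 (.node 0 (.node 3 .nil .nil) (.node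
    3 .nil .nil)) (.node 8 (.node 2 .nil .nil) .nil)))) (.node 8 (.node 2 (.node 1 (.node 3 (.node
    3 .nil .nil) (.node 3 .nil .nil)) (.node 0 (.node 0 .nil .nil) (.node 0 .nil .nil))) (.node 4
    (.node 0 (.node 1 .nil .nil) (.node 1 .nil .nil)) (.node 5 (.node 0 .nil .nil) .nil))) (.node 3
    (.node 1 (.node 2 (.node 1 .nil .nil) (.node 1 .nil .nil)) (.node 1 (.node 0 .nil .nil) (.node
    5 .nil .nil))) (.node 2 (.node 2 (.node 4 .nil .nil) (.node 2 .nil .nil)) (.node 5 (.node 2
    .nil .nil) .nil)))))) (.node 8 (.node 4 (.node 1 (.node 0 (.node 4 (.node 2 (.node 4 .nil .nil)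
    (.node 2 .nil .nil)) (.node 2 (.node 5 .nil .nil) (.node 3 .nil .nil))) (.node 3 (.node 0
    (.node 1 .nil .nil) (.node 1 .nil .nil)) (.node 3 (.node 0 .nil .nil) .nil))) (.node 2 (.node 1
    (.node 1 (.node 2 .nil .nil) (.node 4 .nil .nil)) (.node 0 (.node 0 .nil .nil) (.node 2 .nil
    .nil))) (.node 2 (.node 0 (.node 3 .nil .nil) (.node 3 .nil .nil)) (.node 8 (.node 2 .nil .nil)
    .nil)))) (.node 8 (.node 0 (.node 1 (.node 3 (.node 3 .nil .nil) (.node 3 .nil .nil)) (.node 0
    (.node 0 .nil .nil) (.node 0 .nil .nil))) (.node 4 (.node 0 (.node 1 .nil .nil) (.node 1 .nil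
    .nil)) (.node 4 (.node 0 .nil .nil) .nil))) (.node 3 (.node 1 (.node 3 (.node 2 .nil .nil)
    (.node 1 .nil .nil)) (.node 1 (.node 0 .nil .nil) (.node 4 .nil .nil))) (.node 2 (.node 0
    (.node 4 .nil .nil) (.node 2 .nil .nil)) (.node 5 (.node 2 .nil .nil) .nil))))) (.node 2 (.node
    4 (.node 0 (.node 5 (.node 3 (.node 3 .nil .nil) (.node 3 .nil .nil)) (.node 3 (.node 0 .nil
    .nil) (.node 0 .nil .nil))) (.node 3 (.node 0 (.node 1 .nil .nil) (.node 1 .nil .nil)) (.node 4
    (.node 0 .nil .nil) .nil))) (.node 3 (.node 1 (.node 1 (.node 2 .nil .nil) (.node 4 .nil .nil))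
    (.node 1 (.node 0 .nil .nil) (.node 1 .nil .nil))) (.node 2 (.node 0 (.node 3 .nil .nil) (.node
    4 .nil .nil)) (.node 8 (.node 2 .nil .nil) .nil)))) (.node 0 (.node 2 (.node 1 (.node 4 (.node
    3 .nil .nil) (.node 3 .nil .nil)) (.node 0 (.node 0 .nil .nil) (.node 0 .nil .nil))) (.node 4
    (.node 0 (.node 1 .nil .nil) (.node 3 .nil .nil)) (.node 5 (.node 0 .nil .nil) .nil))) (.node 4
    (.node 3 (.node 0 (.node 1 .nil .nil) (.node 1 .nil .nil)) (.node 3 (.node 0 .nil .nil) (.node
    8 .nil .nil))) (.node 2 (.node 2 (.node 4 .nil .nil) (.node 2 .nil .nil)) (.node 4 (.node 2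
    .nil .nil) .nil)))))))

/-- auxiliary tables for type E8 -/
noncomputable def auxE8 : Aux where
  rootT := auxE8Root
  negT := auxE8Neg
  coroT := auxE8Coro
  cartT := [auxE8Cart0, auxE8Cart1, auxE8Cart2, auxE8Cart3, auxE8Cart4, auxE8Cart5, auxE8Cart6, auxE8Cart7]
  chainT := auxE8Chain
  reflT := [auxE8Refl0, auxE8Refl1, auxE8Refl2, auxE8Refl3, auxE8Refl4, auxE8Refl5, auxE8Refl6, auxE8Refl7]
  etaT := [auxE8Eta0, auxE8Eta1, auxE8Eta2, auxE8Eta3, auxE8Eta4, auxE8Eta5, auxE8Eta6, auxE8Eta7]
  upT := auxE8Up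
  distT := auxE8Dist
  reps := [7]
  stabT := [auxE8Stab0]

end CfsgLib.Chev
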