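import Cfsg.Agent.Lib.Chev.Data.WeylE8
import Cfsg.Agent.Lib.Chev.Data.AuxE8
import Cfsg.Prelude.Def_ChevE8

set_option autoImplicit false
set_option maxRecDepth 100000

namespace CfsgLib.Chev

open Cfsg.Lie

theorem weylOKE8 : checkWeyl chevE8 auxE8 weylE8 = true := by decide +kernel

end CfsgLib.Chev
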