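import Cfsg.Agent.Lib.Chev.Fast
/-! Generated auxiliary tables for type F4. -/

set_option autoImplicit false
set_option maxRecDepth 100000

namespace CfsgLib.Chev

/-- table -/
noncomputable def auxF4Root : Tr (List ℤ) :=
    (.node [(-2),(-4),(-3),(-2)] (.node [(-2),(-4),(-3),(-1)] (.node [(-2),(-3),(-2),(-1)] (.node
    [(-1),(-3),(-2),(-1)] (.node [0,(-2),(-2),(-1)] (.node [0,2,1,1] .nil .nil) (.node [2,4,3,2]
    .nil .nil)) (.node [0,0,0,(-1)] (.node [1,2,2,1] .nil .nil) .nil)) (.node [(-1),(-1),(-1),(-1)]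
    (.node [0,(-1),(-1),0] (.node [1,1,1,0] .nil .nil) .nil) (.node [0,1,0,0] (.node [2,2,2,1] .nil
    .nil) .nil))) (.node [(-2),(-2),(-1),(-1)] (.node [(-1),(-2),(-1),(-1)] (.node [0,(-2),(-1),0]
    (.node [1,0,0,0] .nil .nil) .nil) (.node [0,0,1,0] (.node [2,2,1,0] .nil .nil) .nil)) (.node
    [(-1),(-1),0,0] (.node [0,0,(-1),(-1)] (.node [1,2,1,0] .nil .nil) .nil) (.node [0,1,1,1]
    (.node [2,4,2,1] .nil .nil) .nil)))) (.node [(-2),(-4),(-2),(-1)] (.node [(-2),(-2),(-2),(-1)]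
    (.node [(-1),(-2),(-2),(-1)] (.node [0,(-2),(-1),(-1)] (.node [0,2,2,1] .nil .nil) .nil) (.node
    [0,0,0,1] (.node [1,3,2,1] .nil .nil) .nil)) (.node [(-1),(-1),(-1),0] (.node [0,(-1),0,0]
    (.node [1,1,1,1] .nil .nil) .nil) (.node [0,1,1,0] (.node [2,3,2,1] .nil .nil) .nil))) (.node
    [(-2),(-2),(-1),0] (.node [(-1),(-2),(-1),0] (.node [0,(-1),(-1),(-1)] (.node [1,1,0,0] .nil
    .nil) .nil) (.node [0,0,1,1] (.node [2,2,1,1] .nil .nil) .nil)) (.node [(-1),0,0,0] (.node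
    [0,0,(-1),0] (.node [1,2,1,1] .nil .nil) .nil) (.node [0,2,1,0] (.node [2,4,3,1] .nil .nil)
    .nil)))))

/-- table -/
noncomputable def auxF4Neg : Tr ℕ :=
    (.node 47 (.node 46 (.node 44 (.node 40 (.node 32 (.node 16 .nil .nil) (.node 0 .nil .nil))
    (.node 24 (.node 8 .nil .nil) .nil)) (.node 36 (.node 28 (.node 12 .nil .nil) .nil) (.node 20
    (.node 4 .nil .nil) .nil))) (.node 42 (.node 38 (.node 30 (.node 14 .nil .nil) .nil) (.node 22
    (.node 6 .nil .nil) .nil)) (.node 34 (.node 26 (.node 10 .nil .nil) .nil) (.node 18 (.node 2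
    .nil .nil) .nil)))) (.node 45 (.node 43 (.node 39 (.node 31 (.node 15 .nil .nil) .nil) (.node
    23 (.node 7 .nil .nil) .nil)) (.node 35 (.node 27 (.node 11 .nil .nil) .nil) (.node 19 (.node 3
    .nil .nil) .nil))) (.node 41 (.node 37 (.node 29 (.node 13 .nil .nil) .nil) (.node 21 (.node 5
    .nil .nil) .nil)) (.node 33 (.node 25 (.node 9 .nil .nil) .nil) (.node 17 (.node 1 .nil .nil)
    .nil)))))

/-- table -/
noncomputable def auxF4Coro : Tr (List ℤ) :=
    (.node [(-1),(-2),(-3),(-2)] (.node [(-1),(-2),(-3),(-1)] (.node [(-2),(-3),(-4),(-2)] (.node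
    [(-1),(-3),(-4),(-2)] (.node [0,(-1),(-2),(-1)] (.node [0,1,1,1] .nil .nil) (.node [1,2,3,2]
    .nil .nil)) (.node [0,0,0,(-1)] (.node [1,2,4,2] .nil .nil) .nil)) (.node [(-1),(-1),(-2),(-2)]
    (.node [0,(-1),(-2),0] (.node [1,1,2,0] .nil .nil) .nil) (.node [0,1,0,0] (.node [1,1,2,1] .nil
    .nil) .nil))) (.node [(-1),(-1),(-1),(-1)] (.node [(-1),(-2),(-2),(-2)] (.node [0,(-1),(-1),0]
    (.node [1,0,0,0] .nil .nil) .nil) (.node [0,0,1,0] (.node [1,1,1,0] .nil .nil) .nil)) (.node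
    [(-1),(-1),0,0] (.node [0,0,(-1),(-1)] (.node [1,2,2,0] .nil .nil) .nil) (.node [0,1,2,2]
    (.node [1,2,2,1] .nil .nil) .nil)))) (.node [(-1),(-2),(-2),(-1)] (.node [(-1),(-1),(-2),(-1)]
    (.node [(-1),(-2),(-4),(-2)] (.node [0,(-1),(-1),(-1)] (.node [0,1,2,1] .nil .nil) .nil) (.node
    [0,0,0,1] (.node [1,3,4,2] .nil .nil) .nil)) (.node [(-1),(-1),(-2),0] (.node [0,(-1),0,0]
    (.node [1,1,2,2] .nil .nil) .nil) (.node [0,1,2,0] (.node [2,3,4,2] .nil .nil) .nil))) (.node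
    [(-1),(-1),(-1),0] (.node [(-1),(-2),(-2),0] (.node [0,(-1),(-2),(-2)] (.node [1,1,0,0] .nil
    .nil) .nil) (.node [0,0,1,1] (.node [1,1,1,1] .nil .nil) .nil)) (.node [(-1),0,0,0] (.node
    [0,0,(-1),0] (.node [1,2,2,2] .nil .nil) .nil) (.node [0,1,1,0] (.node [1,2,3,1] .nil .nil)
    .nil)))))

/-- table -/
noncomputable def auxF4Cart0 : Tr ℤ :=
    (.node 0 (.node 0 (.node (-1) (.node 1 (.node 2 (.node (-2) .nil .nil) (.node 0 .nil .nil))
    (.node 0 (.node 0 .nil .nil) .nil)) (.node (-1) (.node 1 (.node 1 .nil .nil) .nil) (.node (-1)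
    (.node 2 .nil .nil) .nil))) (.node (-2) (.node 0 (.node 2 (.node 2 .nil .nil) .nil) (.node 0
    (.node 2 .nil .nil) .nil)) (.node (-1) (.node 0 (.node 0 .nil .nil) .nil) (.node (-1) (.node 0
    .nil .nil) .nil)))) (.node 0 (.node (-2) (.node 0 (.node 2 (.node (-2) .nil .nil) .nil) (.node
    0 (.node (-1) .nil .nil) .nil)) (.node (-1) (.node 1 (.node 1 .nil .nil) .nil) (.node (-1)
    (.node 1 .nil .nil) .nil))) (.node (-2) (.node 0 (.node 1 (.node 1 .nil .nil) .nil) (.node 0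
    (.node 2 .nil .nil) .nil)) (.node (-2) (.node 0 (.node 0 .nil .nil) .nil) (.node (-2) (.node 0
    .nil .nil) .nil)))))

/-- table -/
noncomputable def auxF4Refl0 : Tr ℕ :=
    (.node 0 (.node 1 (.node 7 (.node 3 (.node 4 (.node 42 .nil .nil) (.node 47 .nil .nil)) (.node
    23 (.node 39 .nil .nil) .nil)) (.node 18 (.node 12 (.node 28 .nil .nil) .nil) (.node 34 (.node
    32 .nil .nil) .nil))) (.node 16 (.node 9 (.node 6 (.node 14 .nil .nil) .nil) (.node 25 (.node
    30 .nil .nil) .nil)) (.node 20 (.node 21 (.node 37 .nil .nil) .nil) (.node 36 (.node 45 .nil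
    .nil) .nil)))) (.node 2 (.node 15 (.node 8 (.node 5 (.node 43 .nil .nil) .nil) (.node 24 (.node
    44 .nil .nil) .nil)) (.node 19 (.node 13 (.node 29 .nil .nil) .nil) (.node 35 (.node 40 .nil
    .nil) .nil))) (.node 17 (.node 10 (.node 11 (.node 27 .nil .nil) .nil) (.node 26 (.node 31 .nil
    .nil) .nil)) (.node 33 (.node 22 (.node 38 .nil .nil) .nil) (.node 41 (.node 46 .nil .nil)
    .nil)))))

/-- table -/
noncomputable def auxF4Eta0 : Tr ℤ :=
    (.node 1 (.node 1 (.node (-1) (.node 1 (.node (-1) (.node (-1) .nil .nil) (.node 1 .nil .nil))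
    (.node 1 (.node (-1) .nil .nil) .nil)) (.node 1 (.node (-1) (.node 1 .nil .nil) .nil) (.node
    (-1) (.node (-1) .nil .nil) .nil))) (.node (-1) (.node (-1) (.node (-1) (.node (-1) .nil .nil)
    .nil) (.node 1 (.node (-1) .nil .nil) .nil)) (.node 1 (.node 1 (.node (-1) .nil .nil) .nil)
    (.node (-1) (.node 1 .nil .nil) .nil)))) (.node 1 (.node (-1) (.node (-1) (.node (-1) (.node
    (-1) .nil .nil) .nil) (.node 1 (.node 1 .nil .nil) .nil)) (.node 1 (.node (-1) (.node 1 .nil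
    .nil) .nil) (.node (-1) (.node (-1) .nil .nil) .nil))) (.node (-1) (.node (-1) (.node (-1)
    (.node 1 .nil .nil) .nil) (.node 1 (.node (-1) .nil .nil) .nil)) (.node (-1) (.node 1 (.node
    (-1) .nil .nil) .nil) (.node (-1) (.node 1 .nil .nil) .nil)))))

/-- table -/
noncomputable def auxF4Cart1 : Tr ℤ :=
    (.node 0 (.node 0 (.node 0 (.node (-1) (.node 0 (.node 2 .nil .nil) (.node 0 .nil .nil)) (.node
    0 (.node (-1) .nil .nil) .nil)) (.node 1 (.node 0 (.node (-1) .nil .nil) .nil) (.node 2 (.node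
    (-2) .nil .nil) .nil))) (.node 0 (.node (-1) (.node (-2) (.node (-1) .nil .nil) .nil) (.node
    (-2) (.node 0 .nil .nil) .nil)) (.node (-1) (.node 2 (.node 1 .nil .nil) .nil) (.node 0 (.node
    2 .nil .nil) .nil)))) (.node (-2) (.node 2 (.node 1 (.node (-2) (.node 0 .nil .nil) .nil)
    (.node 0 (.node 1 .nil .nil) .nil)) (.node 1 (.node (-2) (.node (-1) .nil .nil) .nil) (.node 0
    (.node 0 .nil .nil) .nil))) (.node 0 (.node (-1) (.node 0 (.node 1 .nil .nil) .nil) (.node (-2)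
    (.node 0 .nil .nil) .nil)) (.node 1 (.node 2 (.node 1 .nil .nil) .nil) (.node 2 (.node 0 .nil
    .nil) .nil)))))

/-- table -/
noncomputable def auxF4Refl1 : Tr ℕ :=
    (.node 0 (.node 1 (.node 3 (.node 8 (.node 15 (.node 26 .nil .nil) (.node 47 .nil .nil)) (.node
    23 (.node 40 .nil .nil) .nil)) (.node 9 (.node 19 (.node 37 .nil .nil) .nil) (.node 20 (.node
    45 .nil .nil) .nil))) (.node 5 (.node 11 (.node 22 (.node 34 .nil .nil) .nil) (.node 30 (.node
    41 .nil .nil) .nil)) (.node 14 (.node 16 (.node 35 .nil .nil) .nil) (.node 29 (.node 43 .nil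
    .nil) .nil)))) (.node 4 (.node 2 (.node 7 (.node 21 (.node 32 .nil .nil) .nil) (.node 24 (.node
    39 .nil .nil) .nil)) (.node 10 (.node 27 (.node 38 .nil .nil) .nil) (.node 28 (.node 44 .nil
    .nil) .nil))) (.node 6 (.node 12 (.node 18 (.node 33 .nil .nil) .nil) (.node 31 (.node 42 .nil
    .nil) .nil)) (.node 13 (.node 17 (.node 36 .nil .nil) .nil) (.node 25 (.node 46 .nil .nil)
    .nil)))))

/-- table -/
noncomputable def auxF4Eta1 : Tr ℤ :=
    (.node 1 (.node 1 (.node (-1) (.node (-1) (.node 1 (.node (-1) .nil .nil) (.node 1 .nil .nil))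
    (.node 1 (.node 1 .nil .nil) .nil)) (.node 1 (.node (-1) (.node 1 .nil .nil) .nil) (.node (-1)
    (.node 1 .nil .nil) .nil))) (.node 1 (.node (-1) (.node (-1) (.node 1 .nil .nil) .nil) (.node
    (-1) (.node 1 .nil .nil) .nil)) (.node (-1) (.node (-1) (.node (-1) .nil .nil) .nil) (.node
    (-1) (.node 1 .nil .nil) .nil)))) (.node 1 (.node 1 (.node 1 (.node (-1) (.node 1 .nil .nil)
    .nil) (.node 1 (.node (-1) .nil .nil) .nil)) (.node 1 (.node (-1) (.node 1 .nil .nil) .nil)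
    (.node (-1) (.node (-1) .nil .nil) .nil))) (.node 1 (.node (-1) (.node (-1) (.node (-1) .nil
    .nil) .nil) (.node (-1) (.node 1 .nil .nil) .nil)) (.node 1 (.node (-1) (.node (-1) .nil .nil)
    .nil) (.node (-1) (.node 1 .nil .nil) .nil)))))

/-- table -/
noncomputable def auxF4Cart2 : Tr ℤ :=
    (.node 0 (.node (-1) (.node 0 (.node 0 (.node (-1) (.node (-1) .nil .nil) (.node 0 .nil .nil))
    (.node 1 (.node 1 .nil .nil) .nil)) (.node 0 (.node (-1) (.node 1 .nil .nil) .nil) (.node (-1)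
    (.node 1 .nil .nil) .nil))) (.node 1 (.node 1 (.node 0 (.node 0 .nil .nil) .nil) (.node 2
    (.node 0 .nil .nil) .nil)) (.node 1 (.node (-1) (.node 0 .nil .nil) .nil) (.node 0 (.node (-1)
    .nil .nil) .nil)))) (.node 1 (.node (-1) (.node (-1) (.node 1 (.node 1 .nil .nil) .nil) (.node
    (-1) (.node 0 .nil .nil) .nil)) (.node (-1) (.node 1 (.node 0 .nil .nil) .nil) (.node 1 (.node
    0 .nil .nil) .nil))) (.node 0 (.node 0 (.node 0 (.node (-1) .nil .nil) .nil) (.node 1 (.node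
    (-1) .nil .nil) .nil)) (.node 0 (.node (-2) (.node (-1) .nil .nil) .nil) (.node 0 (.node 1 .nil
    .nil) .nil)))))

/-- table -/
noncomputable def auxF4Refl2 : Tr ℕ :=
    (.node 0 (.node 2 (.node 3 (.node 7 (.node 16 (.node 32 .nil .nil) (.node 47 .nil .nil)) (.node
    21 (.node 38 .nil .nil) .nil)) (.node 11 (.node 20 (.node 34 .nil .nil) .nil) (.node 28 (.node
    42 .nil .nil) .nil))) (.node 4 (.node 8 (.node 17 (.node 33 .nil .nil) .nil) (.node 22 (.node
    41 .nil .nil) .nil)) (.node 12 (.node 23 (.node 37 .nil .nil) .nil) (.node 29 (.node 46 .nil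
    .nil) .nil)))) (.node 1 (.node 5 (.node 9 (.node 15 (.node 31 .nil .nil) .nil) (.node 26 (.node
    40 .nil .nil) .nil)) (.node 13 (.node 19 (.node 36 .nil .nil) .nil) (.node 27 (.node 44 .nil
    .nil) .nil))) (.node 6 (.node 10 (.node 18 (.node 35 .nil .nil) .nil) (.node 24 (.node 43 .nil
    .nil) .nil)) (.node 14 (.node 25 (.node 39 .nil .nil) .nil) (.node 30 (.node 45 .nil .nil)
    .nil)))))

/-- table -/
noncomputable def auxF4Eta2 : Tr ℤ :=
    (.node 1 (.node (-1) (.node 1 (.node 1 (.node (-1) (.node 1 .nil .nil) (.node 1 .nil .nil))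
    (.node (-1) (.node (-1) .nil .nil) .nil)) (.node 1 (.node (-1) (.node (-1) .nil .nil) .nil)
    (.node 1 (.node (-1) .nil .nil) .nil))) (.node 1 (.node 1 (.node 1 (.node 1 .nil .nil) .nil)
    (.node (-1) (.node 1 .nil .nil) .nil)) (.node 1 (.node 1 (.node 1 .nil .nil) .nil) (.node 1
    (.node 1 .nil .nil) .nil)))) (.node 1 (.node (-1) (.node (-1) (.node 1 (.node (-1) .nil .nil)
    .nil) (.node (-1) (.node 1 .nil .nil) .nil)) (.node (-1) (.node 1 (.node 1 .nil .nil) .nil)
    (.node (-1) (.node 1 .nil .nil) .nil))) (.node 1 (.node 1 (.node 1 (.node 1 .nil .nil) .nil)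
    (.node 1 (.node 1 .nil .nil) .nil)) (.node 1 (.node (-1) (.node 1 .nil .nil) .nil) (.node 1
    (.node (-1) .nil .nil) .nil)))))

/-- table -/
noncomputable def auxF4Cart3 : Tr ℤ :=
    (.node (-1) (.node 1 (.node 0 (.node 0 (.node 0 (.node 1 .nil .nil) (.node 1 .nil .nil)) (.node
    (-2) (.node 0 .nil .nil) .nil)) (.node (-1) (.node 1 (.node (-1) .nil .nil) .nil) (.node 0
    (.node 0 .nil .nil) .nil))) (.node (-1) (.node (-1) (.node 1 (.node 0 .nil .nil) .nil) (.node
    (-1) (.node (-1) .nil .nil) .nil)) (.node 0 (.node (-1) (.node (-1) .nil .nil) .nil) (.node 1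
    (.node 0 .nil .nil) .nil)))) (.node 0 (.node 0 (.node 0 (.node (-1) (.node 0 .nil .nil) .nil)
    (.node 2 (.node 0 .nil .nil) .nil)) (.node 1 (.node 0 (.node 1 .nil .nil) .nil) (.node (-1)
    (.node 0 .nil .nil) .nil))) (.node 1 (.node 1 (.node (-1) (.node 0 .nil .nil) .nil) (.node 1
    (.node 1 .nil .nil) .nil)) (.node 0 (.node 1 (.node 1 .nil .nil) .nil) (.node (-1) (.node (-1)
    .nil .nil) .nil)))))

/-- table -/
noncomputable def auxF4Refl3 : Tr ℕ :=
    (.node 1 (.node 0 (.node 3 (.node 7 (.node 15 (.node 30 .nil .nil) (.node 46 .nil .nil)) (.node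
    24 (.node 39 .nil .nil) .nil)) (.node 12 (.node 18 (.node 36 .nil .nil) .nil) (.node 27 (.node
    43 .nil .nil) .nil))) (.node 6 (.node 10 (.node 16 (.node 33 .nil .nil) .nil) (.node 26 (.node
    42 .nil .nil) .nil)) (.node 13 (.node 22 (.node 38 .nil .nil) .nil) (.node 28 (.node 45 .nil
    .nil) .nil)))) (.node 2 (.node 4 (.node 8 (.node 17 (.node 32 .nil .nil) .nil) (.node 23 (.node
    40 .nil .nil) .nil)) (.node 11 (.node 20 (.node 35 .nil .nil) .nil) (.node 29 (.node 44 .nil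
    .nil) .nil))) (.node 5 (.node 9 (.node 19 (.node 34 .nil .nil) .nil) (.node 25 (.node 41 .nil
    .nil) .nil)) (.node 14 (.node 21 (.node 37 .nil .nil) .nil) (.node 31 (.node 47 .nil .nil)
    .nil)))))

/-- table -/
noncomputable def auxF4Eta3 : Tr ℤ :=
    (.node (-1) (.node 1 (.node 1 (.node 1 (.node 1 (.node (-1) .nil .nil) (.node (-1) .nil .nil))
    (.node (-1) (.node 1 .nil .nil) .nil)) (.node (-1) (.node 1 (.node 1 .nil .nil) .nil) (.node 1
    (.node 1 .nil .nil) .nil))) (.node (-1) (.node (-1) (.node 1 (.node 1 .nil .nil) .nil) (.node 1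
    (.node 1 .nil .nil) .nil)) (.node 1 (.node (-1) (.node 1 .nil .nil) .nil) (.node (-1) (.node 1
    .nil .nil) .nil)))) (.node 1 (.node 1 (.node 1 (.node (-1) (.node 1 .nil .nil) .nil) (.node
    (-1) (.node 1 .nil .nil) .nil)) (.node 1 (.node 1 (.node (-1) .nil .nil) .nil) (.node 1 (.node
    1 .nil .nil) .nil))) (.node 1 (.node 1 (.node (-1) (.node 1 .nil .nil) .nil) (.node (-1) (.node
    (-1) .nil .nil) .nil)) (.node 1 (.node 1 (.node (-1) .nil .nil) .nil) (.node 1 (.node 1 .nil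
    .nil) .nil)))))

/-- table -/
noncomputable def auxF4Chain0 : Tr (List (ℕ × ℤ)) :=
    (.node [] (.node [] (.node [] (.node [] (.node [] (.node [(4,(-1))] .nil .nil) .nil) (.node []
    (.node [(9,1)] .nil .nil) .nil)) (.node [] .nil (.node [] (.node [(16,1)] .nil .nil) .nil)))
    (.node [] .nil (.node [] .nil (.node [(3,1)] (.node [(21,(-1))] .nil .nil) .nil)))) (.node []
    (.node [] (.node [] (.node [] (.node [(5,1)] .nil .nil) .nil) (.node [(1,1)] (.node [(11,(-1))]
    .nil .nil) .nil)) (.node [] (.node [] (.node [(7,1)] .nil .nil) .nil) (.node [] (.node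
    [(18,(-1))] .nil .nil) .nil))) (.node [] (.node [] .nil (.node [(2,1)] (.node [(15,(-1))] .nil
    .nil) .nil)) (.node [] (.node [] (.node [(8,(-1))] .nil .nil) .nil) (.node [] (.node
    [(23,(-1))] .nil .nil) .nil)))))

/-- table -/
noncomputable def auxF4Chain1 : Tr (List (ℕ × ℤ)) :=
    (.node [] (.node [] (.node [] (.node [] (.node [] .nil (.node [(24,(-1))] .nil .nil)) (.node
    [(0,1)] (.node [(10,1)] .nil .nil) .nil)) (.node [] (.node [] (.node [(7,1)] .nil .nil) .nil)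
    (.node [] (.node [(17,1)] .nil .nil) .nil))) (.node [] (.node [] .nil (.node [(2,1)] (.node
    [(15,(-1))] .nil .nil) .nil)) (.node [] (.node [] (.node [(8,(-1))] .nil .nil) .nil) (.node []
    (.node [(22,(-1))] .nil .nil) .nil)))) (.node [] (.node [] (.node [] (.node [] (.node [(6,1)]
    .nil .nil) .nil) (.node [] (.node [(12,(-1))] .nil .nil) .nil)) (.node [] .nil (.node [(3,1)]
    (.node [(19,(-1))] .nil .nil) .nil))) (.node [] .nil (.node [] .nil (.node [(4,(-1))] .nil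
    .nil)))))

/-- table -/
noncomputable def auxF4Chain2 : Tr (List (ℕ × ℤ)) :=
    (.node [] (.node [] (.node [] (.node [] (.node [] (.node [(6,1)] .nil .nil) (.node [(26,(-1))]
    .nil .nil)) .nil) (.node [] .nil (.node [(3,1)] .nil .nil))) (.node [] (.node [] .nil (.node []
    (.node [(16,(-1))] .nil .nil) .nil)) (.node [] (.node [(0,1)] (.node [(9,(-1))] .nil .nil)
    .nil) .nil))) (.node [] (.node [] (.node [] .nil (.node [] (.node [(13,(-1))] .nil .nil) .nil))
    (.node [] .nil (.node [] (.node [(20,(-1))] .nil .nil) .nil))) (.node [] (.node [] (.node []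
    (.node [(7,1)] .nil .nil) .nil) (.node [] (.node [(17,1)] .nil .nil) .nil)) (.node [] (.node
    [(1,1)] (.node [(10,1)] .nil .nil) .nil) (.node [(5,(-1))] (.node [(25,(-1))] .nil .nil)
    .nil)))))

/-- table -/
noncomputable def auxF4Chain3 : Tr (List (ℕ × ℤ)) :=
    (.node [] (.node [] (.node [] (.node [] (.node [] .nil (.node [(29,(-1)),(6,(-1))] .nil .nil))
    (.node [] (.node [(13,(-1))] .nil .nil) .nil)) (.node [] (.node [(1,2)] (.node [(9,(-1))] .nil
    .nil) .nil) (.node [(4,2)] (.node [(20,(-1)),(2,(-1))] .nil .nil) .nil))) (.node [] (.node []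
    (.node [] (.node [(7,1)] .nil .nil) .nil) (.node [] (.node [(18,(-1)),(0,(-1))] .nil .nil)
    .nil)) (.node [] (.node [] (.node [(11,(-1))] .nil .nil) .nil) (.node [(6,2)] (.node
    [(27,(-1)),(4,(-1))] .nil .nil) .nil)))) (.node [] (.node [] (.node [] .nil (.node [] (.node
    [(14,(-1))] .nil .nil) .nil)) (.node [] (.node [(2,2)] (.node [(10,1)] .nil .nil) .nil) (.node
    [(5,(-2))] .nil .nil))) (.node [] (.node [] (.node [(0,2)] (.node [(8,1)] .nil .nil) .nil)
    (.node [] (.node [(19,1),(1,1)] .nil .nil) .nil)) (.node [] (.node [] (.node [(12,1)] .nil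
    .nil) .nil) (.node [] (.node [(28,(-1)),(5,1)] .nil .nil) .nil)))))

/-- table -/
noncomputable def auxF4Chain4 : Tr (List (ℕ × ℤ)) :=
    (.node [] (.node [] (.node [] (.node [] (.node [] .nil (.node [(31,1)] .nil .nil)) (.node []
    (.node [(14,(-1))] .nil .nil) .nil)) (.node [] (.node [] (.node [(11,(-1))] .nil .nil) .nil)
    .nil)) (.node [] (.node [] (.node [(1,(-1))] (.node [(8,1)] .nil .nil) .nil) (.node [(5,1)]
    (.node [(21,1)] .nil .nil) .nil)) .nil)) (.node [] (.node [] (.node [] (.node [(0,(-1))] .nil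
    .nil) .nil) (.node [] (.node [(3,1)] (.node [(12,1)] .nil .nil) .nil) (.node [] (.node
    [(27,(-1))] .nil .nil) .nil))) (.node [] (.node [] .nil (.node [(6,(-1))] (.node [(22,(-1))]
    .nil .nil) .nil)) (.node [] .nil (.node [] (.node [(30,1)] .nil .nil) .nil)))))

/-- table -/
noncomputable def auxF4Chain5 : Tr (List (ℕ × ℤ)) :=
    (.node [] (.node [] (.node [] (.node [] (.node [(0,1)] .nil (.node [(32,(-1))] .nil .nil))
    .nil) (.node [] (.node [(3,(-1))] .nil .nil) (.node [] (.node [(25,(-1))] .nil .nil) .nil)))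
    (.node [] (.node [] (.node [(2,(-1))] (.node [(9,1)] .nil .nil) .nil) (.node [] (.node
    [(23,(-1))] .nil .nil) .nil)) (.node [] .nil (.node [] (.node [(30,1)] .nil .nil) .nil))))
    (.node [] (.node [] (.node [] .nil (.node [(6,1)] .nil .nil)) (.node [] (.node [] (.node
    [(13,1)] .nil .nil) .nil) (.node [] (.node [(28,1)] .nil .nil) .nil))) (.node [] (.node []
    (.node [] (.node [(11,(-1))] .nil .nil) .nil) .nil) (.node [] (.node [(4,1)] (.node [(14,(-1))]
    .nil .nil) .nil) .nil))))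

/-- table -/
noncomputable def auxF4Chain6 : Tr (List (ℕ × ℤ)) :=
    (.node [] (.node [] (.node [] (.node [] (.node [(1,1)] .nil .nil) (.node [(5,1)] .nil .nil))
    (.node [] (.node [] (.node [(13,1)] .nil .nil) .nil) (.node [] (.node [(26,1)] .nil .nil)
    .nil))) (.node [] (.node [] (.node [] (.node [(10,1)] .nil .nil) .nil) .nil) (.node [] (.node
    [(4,(-1))] (.node [(14,(-1))] .nil .nil) .nil) (.node [] (.node [(31,(-1))] .nil .nil) .nil))))
    (.node [] (.node [] (.node [] (.node [(2,1)] .nil .nil) .nil) (.node [] .nil (.node [] (.node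
    [(29,(-1))] .nil .nil) .nil))) (.node [] (.node [] (.node [(3,1)] (.node [(12,(-1))] .nil .nil)
    .nil) (.node [] (.node [(24,(-1))] .nil .nil) .nil)) (.node [] .nil (.node [] (.node
    [(32,(-1))] .nil .nil) .nil)))))

/-- table -/
noncomputable def auxF4Chain7 : Tr (List (ℕ × ℤ)) :=
    (.node [] (.node [] (.node [] (.node [] (.node [] (.node [(12,(-1)),(1,(-1))] .nil .nil) (.node
    [(36,(-1)),(17,1)] .nil .nil)) (.node [] (.node [(20,(-1))] .nil .nil) .nil)) (.node [(0,2)]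
    (.node [] (.node [(16,2)] .nil .nil) .nil) (.node [(8,1)] .nil .nil))) (.node [] .nil (.node
    [(2,2)] (.node [] (.node [(18,(-1))] .nil .nil) .nil) (.node [(10,1)] (.node [(34,(-1)),(15,1)]
    .nil .nil) .nil)))) (.node [] (.node [] (.node [] (.node [] (.node [(13,1),(2,1)] .nil .nil)
    .nil) .nil) (.node [(1,2)] (.node [] (.node [(17,(-2))] .nil .nil) .nil) (.node [(9,(-1))]
    (.node [(33,(-1))] .nil .nil) .nil))) (.node [] (.node [] (.node [] (.node [(15,(-2))] .nil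
    .nil) .nil) .nil) (.node [(3,1)] (.node [] (.node [(19,1)] .nil .nil) .nil) (.node
    [(11,1),(0,1)] (.node [(35,(-1)),(16,(-1))] .nil .nil) .nil)))))

/-- table -/
noncomputable def auxF4Chain8 : Tr (List (ℕ × ℤ)) :=
    (.node [] (.node [] (.node [] (.node [] (.node [] .nil (.node [(38,1),(22,(-1))] .nil .nil))
    .nil) (.node [] (.node [] (.node [(18,1)] .nil .nil) .nil) (.node [] (.node [(33,(-1)),(15,1)]
    .nil .nil) .nil))) (.node [] (.node [(0,(-2))] (.node [] (.node [(15,(-2))] .nil .nil) .nil)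
    (.node [(9,1),(0,(-1))] .nil .nil)) (.node [(3,1)] (.node [] (.node [(21,2)] .nil .nil) .nil)
    (.node [(12,(-1))] .nil .nil)))) (.node [] (.node [] (.node [] (.node [] (.node [(14,1),(4,1)]
    .nil .nil) .nil) (.node [] (.node [(27,(-1))] .nil .nil) .nil)) (.node [] (.node [(7,1)] (.node
    [(19,(-1))] .nil .nil) .nil) (.node [(11,1)] (.node [(34,(-1))] .nil .nil) .nil))) (.node []
    (.node [(1,(-2))] .nil (.node [(10,(-1)),(1,1)] .nil .nil)) (.node [(4,2)] (.node [] (.node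
    [(22,(-2))] .nil .nil) .nil) (.node [] (.node [(37,1),(21,1)] .nil .nil) .nil)))))

/-- table -/
noncomputable def auxF4Chain9 : Tr (List (ℕ × ℤ)) :=
    (.node [] (.node [] (.node [] (.node [] (.node [] (.node [(14,1),(5,1)] .nil .nil) (.node
    [(39,(-1)),(25,1)] .nil .nil)) (.node [] (.node [(25,(-2))] .nil .nil) .nil)) (.node [] (.node
    [(7,(-1))] .nil .nil) (.node [(11,1)] .nil .nil))) (.node [] (.node [] (.node [] (.node
    [(16,(-2))] .nil .nil) .nil) .nil) (.node [] (.node [] (.node [(23,(-2))] .nil .nil) .nil)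
    (.node [(13,(-1))] (.node [(37,1),(23,(-1))] .nil .nil) .nil)))) (.node [] (.node [] (.node
    [(0,2)] .nil (.node [(10,1),(2,(-1))] (.node [(28,1)] .nil .nil) .nil)) (.node [(3,(-1))]
    (.node [] (.node [(20,(-1))] .nil .nil) .nil) (.node [] (.node [(35,1)] .nil .nil) .nil)))
    (.node [] (.node [(2,(-2))] (.node [] (.node [(18,1)] .nil .nil) .nil) (.node [] (.node
    [(33,(-1)),(16,1)] .nil .nil) .nil)) (.node [(5,2)] (.node [(8,1),(0,1)] .nil .nil) .nil))))

/-- table -/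
noncomputable def auxF4Chain10 : Tr (List (ℕ × ℤ)) :=
    (.node [] (.node [] (.node [] (.node [] .nil (.node [(9,1),(2,1)] (.node [(26,2)] .nil .nil)
    .nil)) (.node [(3,1)] (.node [] (.node [(20,(-1))] .nil .nil) .nil) (.node [(12,1)] .nil
    .nil))) (.node [] (.node [(2,2)] (.node [] (.node [(17,(-2))] .nil .nil) .nil) (.node [] (.node
    [(33,(-1)),(17,1)] .nil .nil) .nil)) (.node [] (.node [(8,(-1)),(1,(-1))] .nil .nil) (.node []
    (.node [(38,(-1)),(24,1)] .nil .nil) .nil)))) (.node [] (.node [] (.node [(1,2)] .nil (.node []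
    (.node [(29,(-1))] .nil .nil) .nil)) (.node [] .nil (.node [(13,(-1))] (.node [(36,(-1))] .nil
    .nil) .nil))) (.node [] (.node [] (.node [(7,1)] (.node [(19,1)] .nil .nil) .nil) .nil) (.node
    [(6,2)] (.node [] (.node [(24,(-2))] .nil .nil) .nil) (.node [(14,1),(6,1)] (.node
    [(39,(-1)),(26,(-1))] .nil .nil) .nil)))))

/-- table -/
noncomputable def auxF4Chain11 : Tr (List (ℕ × ℤ)) :=
    (.node [] (.node [] (.node [] (.node [(0,(-2))] (.node [] .nil (.node [(40,1),(30,(-1))] .nil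
    .nil)) (.node [] (.node [(28,(-1))] .nil .nil) .nil)) (.node [] (.node [(8,1)] (.node
    [(23,(-2))] .nil .nil) .nil) (.node [] (.node [(35,1),(23,(-1))] .nil .nil) .nil))) (.node []
    (.node [] (.node [(7,1),(0,(-1))] (.node [(18,(-1))] .nil .nil) .nil) .nil) (.node [(5,(-2))]
    .nil (.node [(14,1)] .nil .nil)))) (.node [] (.node [] (.node [] .nil (.node [(12,1),(4,(-1))]
    (.node [(30,(-2))] .nil .nil) .nil)) (.node [(4,(-2))] (.node [(9,1)] .nil .nil) (.node []
    (.node [(37,1)] .nil .nil) .nil))) (.node [] (.node [(3,(-1))] (.node [] (.node [(21,(-2))]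
    .nil .nil) .nil) (.node [(13,1),(5,(-1))] (.node [(34,1),(21,(-1))] .nil .nil) .nil)) (.node []
    (.node [] (.node [(27,(-1))] .nil .nil) .nil) .nil))))

/-- table -/
noncomputable def auxF4Chain12 : Tr (List (ℕ × ℤ)) :=
    (.node [] (.node [] (.node [] (.node [(1,(-2))] .nil (.node [(11,1),(4,1)] (.node [(29,1)] .nil
    .nil) .nil)) (.node [(4,2)] .nil (.node [] (.node [(36,(-1)),(24,1)] .nil .nil) .nil))) (.node
    [] (.node [(3,1)] (.node [] (.node [(19,(-1))] .nil .nil) .nil) (.node [(13,1),(6,(-1))] (.node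
    [(34,1),(22,(-1))] .nil .nil) .nil)) (.node [(6,(-2))] (.node [] (.node [(27,(-1))] .nil .nil)
    .nil) .nil))) (.node [] (.node [] (.node [] (.node [(7,(-1)),(1,1)] .nil .nil) (.node [] (.node
    [(31,2)] .nil .nil) .nil)) (.node [] (.node [(10,1)] (.node [(24,(-2))] .nil .nil) .nil) (.node
    [(14,1)] (.node [(38,(-1))] .nil .nil) .nil))) (.node [] (.node [] (.node [(8,(-1))] (.node
    [(22,(-2))] .nil .nil) .nil) .nil) (.node [] .nil (.node [] (.node [(40,1),(31,1)] .nil .nil)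
    .nil)))))

/-- table -/
noncomputable def auxF4Chain13 : Tr (List (ℕ × ℤ)) :=
    (.node [] (.node [] (.node [] (.node [(2,(-2))] (.node [(7,1),(2,(-1))] .nil .nil) .nil) (.node
    [(5,2)] (.node [(10,(-1))] (.node [(25,(-2))] .nil .nil) .nil) (.node [(14,1)] .nil .nil)))
    (.node [] (.node [] (.node [] (.node [(20,(-1))] .nil .nil) .nil) (.node [] (.node
    [(35,(-1)),(25,1)] .nil .nil) .nil)) (.node [] (.node [(11,1),(5,1)] (.node [(28,1)] .nil .nil)
    .nil) (.node [] (.node [(40,1),(32,(-1))] .nil .nil) .nil)))) (.node [] (.node [] (.node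
    [(3,(-1))] .nil (.node [] (.node [(32,(-2))] .nil .nil) .nil)) (.node [(6,2)] (.node [] (.node
    [(26,(-2))] .nil .nil) .nil) (.node [] (.node [(39,1)] .nil .nil) .nil))) (.node [] (.node []
    (.node [(9,(-1))] .nil .nil) (.node [] (.node [(36,(-1)),(26,1)] .nil .nil) .nil)) (.node []
    (.node [(12,1),(6,1)] (.node [(29,1)] .nil .nil) .nil) .nil))))

/-- table -/
noncomputable def auxF4Chain14 : Tr (List (ℕ × ℤ)) :=
    (.node [] (.node [] (.node [] (.node [(3,(-1))] (.node [(8,1),(4,(-1))] .nil .nil) (.node []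
    (.node [(32,(-2))] .nil .nil) .nil)) (.node [] (.node [(12,1)] (.node [(28,(-1))] .nil .nil)
    .nil) (.node [] (.node [(39,1),(32,(-1))] .nil .nil) .nil))) (.node [] (.node [(5,(-2))] (.node
    [(10,1),(6,(-1))] .nil .nil) (.node [] (.node [(37,1),(30,(-1))] .nil .nil) .nil)) (.node []
    (.node [] (.node [(30,(-2))] .nil .nil) .nil) .nil))) (.node [] (.node [] (.node [(4,(-2))]
    (.node [(9,1),(5,(-1))] .nil .nil) .nil) (.node [] (.node [(13,1)] (.node [(29,(-1))] .nil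
    .nil) .nil) (.node [] (.node [(40,1)] .nil .nil) .nil))) (.node [] (.node [(6,(-2))] (.node
    [(11,1)] (.node [(27,(-1))] .nil .nil) .nil) (.node [] (.node [(38,1),(31,(-1))] .nil .nil)
    .nil)) (.node [] (.node [] (.node [(31,(-2))] .nil .nil) .nil) .nil))))

/-- table -/
noncomputable def auxF4Chain15 : Tr (List (ℕ × ℤ)) :=
    (.node [] (.node [] (.node [] (.node [] (.node [] (.node [(22,(-1))] .nil .nil) (.node [(42,1)]
    .nil .nil)) (.node [] (.node [(33,1)] .nil .nil) .nil)) .nil) (.node [(0,(-1))] (.node [] .nil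
    (.node [(16,1)] .nil .nil)) (.node [(7,(-1))] .nil (.node [(19,(-1))] .nil .nil)))) (.node []
    (.node [] (.node [] .nil (.node [] (.node [(34,1)] .nil .nil) .nil)) (.node [] .nil (.node
    [(18,1)] .nil .nil))) (.node [(1,(-1))] (.node [] .nil (.node [(17,(-1))] .nil .nil)) (.node
    [(8,(-1))] .nil (.node [(21,1)] (.node [(41,1)] .nil .nil) .nil)))))

/-- table -/
noncomputable def auxF4Chain16 : Tr (List (ℕ × ℤ)) :=
    (.node [] (.node [] (.node [] (.node [] (.node [] .nil (.node [(43,(-1))] .nil .nil)) .nil)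
    (.node [] .nil (.node [(18,1)] .nil .nil))) (.node [] .nil (.node [] .nil (.node [(20,(-1))]
    (.node [(41,1)] .nil .nil) .nil)))) (.node [] (.node [(0,1)] (.node [] (.node [] (.node
    [(25,(-1))] .nil .nil) .nil) (.node [(17,1)] (.node [(35,(-1))] .nil .nil) .nil)) (.node
    [(7,1)] .nil .nil)) (.node [(2,(-1))] .nil (.node [(9,(-1))] (.node [(15,1)] (.node [(33,1)]
    .nil .nil) .nil) (.node [(23,(-1))] .nil .nil)))))

/-- table -/
noncomputable def auxF4Chain17 : Tr (List (ℕ × ℤ)) :=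
    (.node [] (.node [] (.node [] (.node [] (.node [] (.node [(24,(-1))] .nil .nil) .nil) (.node
    [(16,1)] .nil .nil)) (.node [(7,(-1))] .nil (.node [(19,1)] .nil .nil))) (.node [(2,1)] .nil
    (.node [] (.node [(15,(-1))] (.node [(33,1)] .nil .nil) .nil) (.node [] (.node [(42,(-1))] .nil
    .nil) .nil)))) (.node [] (.node [(1,1)] (.node [] (.node [] (.node [(26,1)] .nil .nil) .nil)
    (.node [] (.node [(36,1)] .nil .nil) .nil)) (.node [] .nil (.node [(20,(-1))] .nil .nil)))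
    (.node [] .nil (.node [(10,(-1))] .nil (.node [] (.node [(43,(-1))] .nil .nil) .nil)))))

/-- table -/
noncomputable def auxF4Chain18 : Tr (List (ℕ × ℤ)) :=
    (.node [] (.node [] (.node [(0,(-2))] (.node [] (.node [] (.node [(27,(-1)),(21,1)] .nil .nil)
    (.node [(44,1),(41,1)] .nil .nil)) (.node [] (.node [(35,(-1))] .nil .nil) .nil)) (.node []
    (.node [(15,2)] .nil .nil) (.node [(21,(-2))] .nil .nil))) (.node [] .nil (.node [(9,1)] .nil
    .nil))) (.node [] (.node [] (.node [] (.node [] (.node [(28,(-1)),(23,1)] .nil .nil) .nil)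
    (.node [(19,1),(15,1)] (.node [(37,1)] .nil .nil) .nil)) (.node [(8,1)] (.node [(16,2)] (.node
    [(33,1)] .nil .nil) .nil) (.node [(23,(-2))] (.node [(41,2)] .nil .nil) .nil))) (.node
    [(3,(-1)),(0,1)] (.node [(7,(-1))] .nil (.node [(20,1),(16,1)] .nil .nil)) (.node [(11,(-1))]
    (.node [] (.node [(34,(-1))] .nil .nil) .nil) .nil))))

/-- table -/
noncomputable def auxF4Chain19 : Tr (List (ℕ × ℤ)) :=
    (.node [] (.node [] (.node [(1,(-2))] (.node [] .nil (.node [(18,1),(15,(-1))] (.node [(36,1)]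
    .nil .nil) .nil)) (.node [(8,(-1))] (.node [] (.node [(33,1)] .nil .nil) .nil) (.node
    [(22,(-2))] .nil .nil))) (.node [(3,1),(1,(-1))] (.node [(7,1)] .nil (.node [(20,1),(17,1)]
    .nil .nil)) (.node [(10,1)] (.node [] (.node [(34,(-1))] .nil .nil) .nil) (.node [(24,(-2))]
    .nil .nil)))) (.node [] (.node [] (.node [] (.node [] (.node [(29,1),(24,(-1))] .nil .nil)
    .nil) (.node [] (.node [(38,(-1))] .nil .nil) .nil)) (.node [] (.node [(17,2)] .nil .nil)
    (.node [] (.node [(42,(-2))] .nil .nil) .nil))) (.node [] (.node [] (.node [(15,(-2))] .nil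
    .nil) .nil) (.node [(12,(-1))] .nil (.node [(27,(-1)),(22,1)] (.node [(44,1),(42,(-1))] .nil
    .nil) .nil)))))

/-- table -/
noncomputable def auxF4Chain20 : Tr (List (ℕ × ℤ)) :=
    (.node [] (.node [] (.node [(2,(-2))] (.node [] (.node [] (.node [(29,1),(26,(-1))] .nil .nil)
    .nil) .nil) (.node [(9,(-1))] (.node [(17,(-2))] .nil .nil) .nil)) (.node [] .nil (.node []
    (.node [(18,1),(16,(-1))] (.node [(35,1)] .nil .nil) .nil) (.node [(26,(-2))] (.node
    [(44,1),(43,1)] .nil .nil) .nil)))) (.node [] (.node [(3,(-1)),(2,1)] (.node [(7,(-1))] .nil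
    (.node [] (.node [(39,1)] .nil .nil) .nil)) (.node [(10,(-1))] .nil (.node [(25,(-2))] (.node
    [(43,2)] .nil .nil) .nil))) (.node [] (.node [] (.node [(16,(-2))] (.node [(33,1)] .nil .nil)
    .nil) .nil) (.node [(13,(-1))] (.node [(19,1),(17,(-1))] (.node [(36,1)] .nil .nil) .nil)
    (.node [(28,1),(25,(-1))] .nil .nil)))))

/-- table -/
noncomputable def auxF4Chain21 : Tr (List (ℕ × ℤ)) :=
    (.node [] (.node [] (.node [] (.node [] (.node [] .nil (.node [(45,1)] .nil .nil)) (.node []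
    (.node [(37,(-1))] .nil .nil) .nil)) (.node [] .nil (.node [] (.node [(41,(-1))] .nil .nil)
    .nil))) (.node [] (.node [] (.node [(15,1)] .nil .nil) (.node [(23,(-1))] .nil .nil)) (.node
    [(11,(-1))] .nil (.node [(27,1)] .nil .nil)))) (.node [(0,(-1))] (.node [] (.node [] (.node []
    (.node [(30,(-1))] .nil .nil) .nil) (.node [(22,1)] .nil .nil)) (.node [] (.node [(18,(-1))]
    (.node [(34,1)] .nil .nil) .nil) .nil)) (.node [(4,1)] (.node [(8,1)] .nil .nil) .nil)))

/-- table -/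
noncomputable def auxF4Chain22 : Tr (List (ℕ × ℤ)) :=
    (.node [] (.node [] (.node [] (.node [] .nil (.node [(21,1)] (.node [(38,1)] .nil .nil) .nil))
    (.node [] (.node [] (.node [(34,1)] .nil .nil) .nil) (.node [] (.node [(42,1)] .nil .nil)
    .nil))) (.node [(4,(-1))] (.node [(8,(-1))] .nil .nil) (.node [(12,(-1))] .nil .nil))) (.node
    [(1,(-1))] (.node [] (.node [] (.node [(15,(-1))] (.node [(31,1)] .nil .nil) .nil) .nil) (.node
    [] (.node [(19,(-1))] .nil .nil) (.node [(27,1)] .nil .nil))) (.node [] (.node [] .nil (.node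
    [(24,(-1))] .nil .nil)) (.node [] .nil (.node [] (.node [(45,1)] .nil .nil) .nil)))))

/-- table -/
noncomputable def auxF4Chain23 : Tr (List (ℕ × ℤ)) :=
    (.node [] (.node [(0,(-1))] (.node [] (.node [] (.node [] (.node [(30,1)] .nil .nil) (.node
    [(46,1)] .nil .nil)) .nil) (.node [] (.node [(18,(-1))] .nil .nil) .nil)) (.node [] (.node []
    (.node [(16,(-1))] .nil .nil) .nil) (.node [] .nil (.node [(28,1)] .nil .nil)))) (.node []
    (.node [] .nil (.node [(11,(-1))] (.node [] (.node [(35,1)] .nil .nil) .nil) .nil)) (.node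
    [(5,(-1))] (.node [(9,(-1))] .nil (.node [(25,1)] (.node [(41,1)] .nil .nil) .nil)) (.node []
    (.node [(21,(-1))] (.node [(37,1)] .nil .nil) .nil) .nil))))

/-- table -/
noncomputable def auxF4Chain24 : Tr (List (ℕ × ℤ)) :=
    (.node [(1,(-1))] (.node [] (.node [] .nil (.node [(12,(-1))] (.node [] (.node [(36,1)] .nil
    .nil) .nil) .nil)) (.node [(6,(-1))] (.node [(10,(-1))] .nil (.node [(26,1)] (.node [(42,1)]
    .nil .nil) .nil)) (.node [] (.node [(22,(-1))] (.node [(38,1)] .nil .nil) .nil) .nil))) (.node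
    [] (.node [] (.node [] (.node [(17,(-1))] .nil .nil) .nil) (.node [] .nil (.node [(29,1)] .nil
    .nil))) (.node [] (.node [] (.node [(19,(-1))] .nil .nil) .nil) (.node [] .nil (.node [(31,1)]
    (.node [(47,1)] .nil .nil) .nil)))))

/-- table -/
noncomputable def auxF4Chain25 : Tr (List (ℕ × ℤ)) :=
    (.node [] (.node [(2,(-1))] (.node [] (.node [] (.node [(16,(-1))] (.node [(32,1)] .nil .nil)
    .nil) .nil) (.node [] (.node [(20,(-1))] .nil .nil) (.node [(28,1)] .nil .nil))) (.node [] .nil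
    (.node [] (.node [(23,1)] .nil .nil) (.node [] (.node [(46,1)] .nil .nil) .nil)))) (.node []
    (.node [(5,(-1))] (.node [(9,(-1))] .nil (.node [(26,(-1))] .nil .nil)) (.node [(13,(-1))] .nil
    .nil)) (.node [] (.node [] (.node [] (.node [(35,1)] .nil .nil) .nil) (.node [] (.node [(43,1)]
    .nil .nil) .nil)) (.node [] (.node [] (.node [(39,1)] .nil .nil) .nil) .nil))))

/-- table -/
noncomputable def auxF4Chain26 : Tr (List (ℕ × ℤ)) :=
    (.node [(2,(-1))] (.node [] (.node [] (.node [] (.node [(17,1)] .nil .nil) (.node [(25,(-1))]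
    .nil .nil)) (.node [(13,(-1))] .nil (.node [(29,1)] .nil .nil))) (.node [] (.node [] .nil
    (.node [] (.node [(43,(-1))] .nil .nil) .nil)) (.node [] (.node [] (.node [(39,(-1))] .nil
    .nil) .nil) (.node [] (.node [(47,1)] .nil .nil) .nil)))) (.node [] (.node [(6,1)] (.node
    [(10,1)] .nil .nil) .nil) (.node [] (.node [] (.node [(20,(-1))] (.node [(36,1)] .nil .nil)
    .nil) .nil) (.node [] (.node [(24,1)] .nil .nil) (.node [(32,(-1))] .nil .nil)))))

/-- table -/
noncomputable def auxF4Chain27 : Tr (List (ℕ × ℤ)) :=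
    (.node [] (.node [] (.node [(4,(-2))] (.node [(8,(-1))] .nil (.node [] (.node [(40,1)] .nil
    .nil) .nil)) (.node [] (.node [(22,2)] (.node [(37,1)] .nil .nil) .nil) (.node [] (.node
    [(44,1),(45,1)] .nil .nil) .nil))) (.node [] (.node [(11,(-1))] (.node [(19,(-1)),(22,(-1))]
    (.node [(34,1)] .nil .nil) .nil) (.node [(28,(-1)),(30,(-1))] .nil .nil)) (.node [(14,(-1))]
    .nil (.node [(31,2)] .nil .nil)))) (.node [(3,(-1)),(4,1)] (.node [] (.node [] (.node
    [(18,(-1)),(21,(-1))] .nil .nil) .nil) (.node [] (.node [] (.node [(38,1)] .nil .nil) .nil)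
    (.node [(30,2)] (.node [(45,2)] .nil .nil) .nil))) (.node [] (.node [(12,(-1))] (.node [(21,2)]
    .nil .nil) (.node [(29,(-1)),(31,(-1))] .nil .nil)) .nil)))

/-- table -/
noncomputable def auxF4Chain28 : Tr (List (ℕ × ℤ)) :=
    (.node [] (.node [(3,(-1)),(5,(-1))] (.node [(5,2)] (.node [(9,1)] (.node [(18,(-1)),(23,(-1))]
    .nil .nil) .nil) (.node [] .nil (.node [(30,(-2))] .nil .nil))) (.node [] (.node [] (.node
    [(20,1),(25,1)] (.node [(35,1)] .nil .nil) .nil) .nil) (.node [] .nil (.node [(32,2)] .nil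
    .nil)))) (.node [] (.node [] (.node [(11,(-1))] .nil (.node [(29,(-1)),(32,(-1))] .nil .nil))
    (.node [(14,(-1))] (.node [(25,2)] (.node [(39,1)] .nil .nil) .nil) (.node [] (.node [(46,2)]
    .nil .nil) .nil))) (.node [] (.node [(13,1)] (.node [(23,2)] (.node [(37,(-1))] .nil .nil)
    .nil) (.node [] (.node [(44,(-1)),(46,(-1))] .nil .nil) .nil)) (.node [] (.node
    [(27,(-1)),(30,1)] (.node [(40,(-1))] .nil .nil) .nil) .nil))))

/-- table -/
noncomputable def auxF4Chain29 : Tr (List (ℕ × ℤ)) :=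
    (.node [(3,(-1)),(6,1)] (.node [] (.node [(6,(-2))] (.node [(10,(-1))] (.node [(19,1),(24,1)]
    .nil .nil) (.node [(28,(-1)),(32,1)] .nil .nil)) (.node [(14,(-1))] (.node [(24,2)] (.node
    [(39,(-1))] .nil .nil) .nil) (.node [(31,(-2))] .nil .nil))) (.node [] (.node [(13,1)] (.node
    [] (.node [(36,1)] .nil .nil) .nil) (.node [] (.node [(44,1),(47,1)] .nil .nil) .nil)) (.node
    [] (.node [(27,(-1)),(31,1)] (.node [(40,1)] .nil .nil) .nil) .nil))) (.node [] (.node []
    (.node [(12,1)] (.node [(20,1),(26,1)] .nil .nil) .nil) (.node [] (.node [(26,2)] .nil .nil)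
    (.node [(32,(-2))] (.node [(47,2)] .nil .nil) .nil))) (.node [] (.node [] (.node [] (.node
    [(38,(-1))] .nil .nil) .nil) .nil) .nil)))

/-- table -/
noncomputable def auxF4Chain30 : Tr (List (ℕ × ℤ)) :=
    (.node [] (.node [(4,1)] (.node [] (.node [(11,(-1))] (.node [(21,(-1))] .nil .nil) .nil)
    (.node [] (.node [(27,1)] .nil .nil) (.node [] (.node [(46,(-1))] .nil .nil) .nil))) (.node []
    (.node [] (.node [] (.node [(37,1)] .nil .nil) .nil) .nil) .nil)) (.node [(5,1)] (.node []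
    (.node [] (.node [(23,1)] .nil .nil) (.node [(31,(-1))] .nil .nil)) (.node [] (.node
    [(28,(-1))] (.node [(40,1)] .nil .nil) .nil) .nil)) (.node [] (.node [(14,(-1))] .nil (.node
    [(32,1)] (.node [(45,(-1))] .nil .nil) .nil)) .nil)))

/-- table -/
noncomputable def auxF4Chain31 : Tr (List (ℕ × ℤ)) :=
    (.node [(4,1)] (.node [] (.node [] (.node [(12,1)] (.node [(22,1)] .nil .nil) (.node
    [(30,(-1))] .nil .nil)) (.node [] (.node [] (.node [(40,(-1))] .nil .nil) .nil) (.node []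
    (.node [(47,(-1))] .nil .nil) .nil))) (.node [] (.node [(14,(-1))] (.node [(24,1)] (.node
    [(38,1)] .nil .nil) .nil) (.node [(32,(-1))] (.node [(45,1)] .nil .nil) .nil)) .nil)) (.node
    [(6,(-1))] (.node [] .nil (.node [] (.node [(29,(-1))] .nil .nil) .nil)) (.node [] (.node []
    (.node [(27,1)] .nil .nil) .nil) .nil)))

/-- table -/
noncomputable def auxF4Chain32 : Tr (List (ℕ × ℤ)) :=
    (.node [(5,(-1))] (.node [(6,(-1))] (.node [] (.node [(13,(-1))] .nil .nil) (.node [] (.node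
    [(29,(-1))] .nil .nil) .nil)) (.node [] (.node [] (.node [(26,(-1))] (.node [(39,1)] .nil .nil)
    .nil) (.node [] (.node [(46,1)] .nil .nil) .nil)) (.node [] (.node [(30,1)] .nil .nil) .nil)))
    (.node [] (.node [] (.node [(14,(-1))] (.node [(25,1)] .nil .nil) .nil) .nil) (.node [] (.node
    [] (.node [(28,1)] (.node [(40,1)] .nil .nil) .nil) (.node [] (.node [(47,1)] .nil .nil) .nil))
    (.node [] (.node [(31,(-1))] .nil .nil) .nil))))

/-- table -/
noncomputable def auxF4Chain33 : Tr (List (ℕ × ℤ)) :=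
    (.node [] (.node [] (.node [(7,(-1))] (.node [] (.node [] (.node [(38,(-1)),(42,(-1))] .nil
    .nil) .nil) (.node [] (.node [(43,2)] .nil .nil) .nil)) (.node [(18,1)] .nil (.node [(34,(-1))]
    .nil .nil))) (.node [(9,(-1)),(16,(-1))] (.node [(16,2)] .nil .nil) (.node [(20,1)] (.node []
    (.node [(41,2)] .nil .nil) .nil) (.node [(36,(-1))] .nil .nil)))) (.node [] (.node
    [(8,(-1)),(15,(-1))] (.node [(15,2)] (.node [] (.node [(39,(-1)),(43,(-1))] .nil .nil) .nil)
    (.node [] (.node [(44,1)] .nil .nil) .nil)) (.node [(19,1)] .nil (.node [(35,(-1))] .nil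
    .nil))) (.node [(10,(-1)),(17,(-1))] (.node [(17,2)] .nil .nil) (.node [] (.node [] (.node
    [(42,2)] .nil .nil) .nil) (.node [(37,(-1)),(41,(-1))] .nil .nil)))))

/-- table -/
noncomputable def auxF4Chain34 : Tr (List (ℕ × ℤ)) :=
    (.node [] (.node [] (.node [(8,(-1))] (.node [(15,2)] .nil (.node [] (.node [(44,1)] .nil .nil)
    .nil)) (.node [(21,2)] (.node [] (.node [(41,(-2))] .nil .nil) .nil) .nil)) (.node
    [(11,1),(21,1)] (.node [(18,(-1))] .nil (.node [(35,(-1)),(41,1)] .nil .nil)) (.node [] .nil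
    (.node [(38,1)] .nil .nil)))) (.node [(7,(-1)),(15,(-1))] (.node [] (.node [] (.node [] (.node
    [(40,(-1)),(45,(-1))] .nil .nil) .nil) (.node [] (.node [(45,2)] .nil .nil) .nil)) (.node
    [(22,2)] (.node [(33,(-1))] (.node [(42,(-2))] .nil .nil) .nil) (.node [(37,1)] .nil .nil)))
    (.node [(12,1),(22,1)] (.node [(19,(-1))] .nil (.node [(36,(-1)),(42,1)] .nil .nil)) (.node
    [(27,1)] .nil .nil))))

/-- table -/
noncomputable def auxF4Chain35 : Tr (List (ℕ × ℤ)) :=
    (.node [] (.node [(7,(-1)),(16,1)] (.node [(9,1)] (.node [(16,(-2))] (.node [] (.node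
    [(40,1),(46,1)] .nil .nil) .nil) .nil) (.node [(23,2)] (.node [(33,(-1))] .nil .nil) (.node
    [(37,(-1))] .nil .nil))) (.node [] .nil (.node [(25,2)] .nil (.node [(39,1)] .nil .nil))))
    (.node [] (.node [(11,1),(23,1)] (.node [(18,(-1))] .nil (.node [(36,(-1)),(43,1)] (.node
    [(46,2)] .nil .nil) .nil)) (.node [] (.node [] (.node [(43,(-2))] .nil .nil) .nil) .nil))
    (.node [(13,(-1)),(25,(-1))] (.node [(20,1)] (.node [] (.node [(41,2)] .nil .nil) .nil) .nil)
    (.node [(28,1)] (.node [(34,(-1)),(41,(-1))] (.node [(44,(-1))] .nil .nil) .nil) .nil))))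

/-- table -/
noncomputable def auxF4Chain36 : Tr (List (ℕ × ℤ)) :=
    (.node [(7,(-1)),(17,(-1))] (.node [] (.node [(10,(-1))] (.node [(17,2)] .nil (.node
    [(35,(-1)),(43,(-1))] .nil .nil)) (.node [] (.node [] (.node [(43,2)] .nil .nil) .nil) (.node
    [(38,(-1))] .nil .nil))) (.node [(13,(-1)),(26,(-1))] (.node [(20,1)] .nil .nil) (.node
    [(26,2)] (.node [(34,(-1)),(42,(-1))] (.node [(44,1)] .nil .nil) .nil) .nil))) (.node [] (.node
    [(12,(-1)),(24,(-1))] (.node [(19,1)] .nil (.node [] (.node [(47,2)] .nil .nil) .nil)) (.node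
    [(24,2)] .nil (.node [(39,(-1))] .nil .nil))) (.node [] (.node [] (.node [(33,(-1))] (.node
    [(42,2)] .nil .nil) .nil) .nil) (.node [(29,1)] .nil (.node [(40,(-1)),(47,(-1))] .nil
    .nil)))))

/-- table -/
noncomputable def auxF4Chain37 : Tr (List (ℕ × ℤ)) :=
    (.node [] (.node [(8,1),(21,(-1))] (.node [(11,1)] (.node [(18,1)] .nil (.node [] (.node
    [(46,(-2))] .nil .nil) .nil)) (.node [] (.node [(34,1)] .nil .nil) .nil)) (.node [] (.node
    [(23,2)] (.node [(33,(-1)),(41,1)] (.node [(41,(-2))] .nil .nil) .nil) .nil) (.node [(28,(-1))]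
    .nil (.node [(40,(-1))] .nil .nil)))) (.node [(9,1),(23,1)] (.node [] (.node [(21,(-2))] .nil
    (.node [(38,(-1)),(45,1)] .nil .nil)) (.node [(27,1)] (.node [(35,(-1))] (.node [(44,(-1))]
    .nil .nil) .nil) .nil)) (.node [(14,1),(30,1)] (.node [] .nil (.node [(39,1),(46,(-1))] .nil
    .nil)) (.node [(30,2)] (.node [] (.node [(45,(-2))] .nil .nil) .nil) .nil))))

/-- table -/
noncomputable def auxF4Chain38 : Tr (List (ℕ × ℤ)) :=
    (.node [(8,1),(22,1)] (.node [] (.node [(12,(-1))] (.node [(19,(-1))] .nil (.node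
    [(37,(-1)),(45,(-1))] (.node [(47,(-2))] .nil .nil) .nil)) (.node [(27,1)] (.node [] (.node
    [(44,1)] .nil .nil) .nil) .nil)) (.node [(14,1),(31,1)] (.node [] (.node [] (.node [(42,(-2))]
    .nil .nil) .nil) (.node [(39,(-1)),(47,1)] .nil .nil)) (.node [(29,(-1))] (.node [] (.node
    [(45,2)] .nil .nil) .nil) .nil))) (.node [(10,(-1)),(24,(-1))] (.node [] (.node [(22,2)] (.node
    [(33,(-1)),(42,1)] .nil .nil) .nil) (.node [] (.node [(36,(-1))] .nil .nil) (.node [(40,1)]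
    .nil .nil))) (.node [] (.node [(24,2)] (.node [(34,1)] .nil .nil) .nil) (.node [(31,2)] .nil
    .nil))))

/-- table -/
noncomputable def auxF4Chain39 : Tr (List (ℕ × ℤ)) :=
    (.node [(9,(-1)),(25,(-1))] (.node [(10,(-1)),(26,1)] (.node [(13,1)] (.node [(20,1)] (.node
    [(33,(-1)),(43,1)] .nil .nil) .nil) (.node [(28,1)] (.node [(36,(-1))] .nil .nil) (.node
    [(40,(-1))] .nil .nil))) (.node [] (.node [(25,2)] (.node [] (.node [(43,(-2))] .nil .nil)
    .nil) .nil) (.node [] (.node [(37,1),(46,1)] (.node [(46,2)] .nil .nil) .nil) .nil))) (.node []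
    (.node [(14,1),(32,1)] .nil (.node [(29,(-1))] .nil .nil)) (.node [] (.node [(26,(-2))] (.node
    [(35,1)] (.node [(44,(-1))] .nil .nil) .nil) .nil) (.node [(32,2)] (.node [(38,(-1)),(47,(-1))]
    (.node [(47,2)] .nil .nil) .nil) .nil))))

/-- table -/
noncomputable def auxF4Chain40 : Tr (List (ℕ × ℤ)) :=
    (.node [(11,1),(30,1)] (.node [(12,1),(31,(-1))] (.node [(14,1)] (.node [] (.node
    [(34,(-1)),(45,1)] .nil .nil) .nil) (.node [(30,2)] (.node [(38,1)] (.node [(46,(-2))] .nil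
    .nil) .nil) .nil)) (.node [] (.node [(28,(-1))] (.node [(36,(-1)),(47,1)] (.node [(44,(-1))]
    .nil .nil) .nil) .nil) (.node [(32,2)] .nil .nil))) (.node [(13,1),(32,1)] (.node [] (.node
    [(27,1)] (.node [(35,1),(46,(-1))] .nil .nil) .nil) (.node [(31,(-2))] (.node [(39,(-1))]
    (.node [(47,(-2))] .nil .nil) .nil) .nil)) (.node [] (.node [(29,1)] (.node [(37,(-1))] (.node
    [(45,(-2))] .nil .nil) .nil) .nil) .nil)))

/-- table -/
noncomputable def auxF4Chain41 : Tr (List (ℕ × ℤ)) :=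
    (.node [] (.node [(15,1)] (.node [(18,1)] (.node [] (.node [] (.node [(45,(-1))] .nil .nil)
    .nil) .nil) .nil) (.node [(23,1)] .nil (.node [(35,1)] .nil (.node [(44,(-1))] .nil .nil))))
    (.node [(16,1)] (.node [(21,(-1))] (.node [] (.node [] (.node [(46,(-1))] .nil .nil) .nil)
    (.node [(42,(-1))] .nil .nil)) (.node [(34,(-1))] .nil .nil)) (.node [] (.node [(33,1)] .nil
    (.node [(43,1)] .nil .nil)) (.node [(37,(-1))] .nil .nil))))

/-- table -/
noncomputable def auxF4Chain42 : Tr (List (ℕ × ℤ)) :=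
    (.node [(15,1)] (.node [] (.node [(19,(-1))] (.node [] .nil (.node [(41,(-1))] .nil .nil))
    (.node [(34,(-1))] .nil .nil)) (.node [] (.node [(33,1)] .nil (.node [(43,(-1))] .nil .nil))
    (.node [(36,1)] .nil .nil))) (.node [(17,(-1))] (.node [(22,1)] (.node [] (.node [] (.node
    [(47,(-1))] .nil .nil) .nil) .nil) (.node [] .nil (.node [(44,1)] .nil .nil))) (.node [(24,1)]
    .nil (.node [(38,(-1))] .nil (.node [(45,1)] .nil .nil)))))

/-- table -/
noncomputable def auxF4Chain43 : Tr (List (ℕ × ℤ)) :=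
    (.node [(16,(-1))] (.node [(17,(-1))] (.node [(20,1)] (.node [] (.node [] (.node [(47,1)] .nil
    .nil) .nil) .nil) (.node [(35,(-1))] .nil (.node [(44,(-1))] .nil .nil))) (.node [(25,1)] .nil
    (.node [] (.node [(41,1)] .nil .nil) .nil))) (.node [] (.node [] (.node [(33,1)] .nil .nil)
    (.node [(36,1)] .nil .nil)) (.node [(26,(-1))] .nil (.node [(39,(-1))] (.node [(42,(-1))] .nil
    .nil) (.node [(46,1)] .nil .nil)))))

/-- table -/
noncomputable def auxF4Chain44 : Tr (List (ℕ × ℤ)) :=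
    (.node [(18,1),(41,(-1))] (.node [(19,1),(42,1)] (.node [] (.node [(33,1)] .nil .nil) (.node
    [(37,(-1))] (.node [(42,2)] .nil .nil) (.node [(45,(-2))] .nil .nil))) (.node
    [(28,(-1)),(46,1)] (.node [(35,(-1))] .nil .nil) (.node [(39,(-1))] .nil (.node [(47,(-2))]
    .nil .nil)))) (.node [(20,1),(43,(-1))] (.node [(27,1),(45,(-1))] (.node [(34,1)] .nil .nil)
    (.node [(38,1)] (.node [(43,(-2))] .nil .nil) (.node [(46,(-2))] .nil .nil))) (.node
    [(29,1),(47,(-1))] (.node [(36,1)] (.node [(41,(-2))] .nil .nil) .nil) (.node [(40,(-1))] .nil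
    .nil))))

/-- table -/
noncomputable def auxF4Chain45 : Tr (List (ℕ × ℤ)) :=
    (.node [(21,1)] (.node [(22,1)] (.node [(27,1)] (.node [(34,1)] .nil .nil) .nil) (.node
    [(30,(-1))] (.node [(37,(-1))] (.node [(42,1)] .nil .nil) (.node [(46,(-1))] .nil .nil)) (.node
    [(40,(-1))] .nil .nil))) (.node [] (.node [] (.node [] (.node [(41,(-1))] .nil .nil) .nil)
    (.node [] (.node [(44,(-1))] .nil .nil) .nil)) (.node [(31,1)] (.node [(38,1)] .nil (.node
    [(47,(-1))] .nil .nil)) .nil)))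

/-- table -/
noncomputable def auxF4Chain46 : Tr (List (ℕ × ℤ)) :=
    (.node [(23,1)] (.node [] (.node [(28,1)] (.node [(35,1)] (.node [(41,(-1))] .nil .nil) .nil)
    (.node [] (.node [(44,(-1))] .nil .nil) .nil)) (.node [] (.node [] (.node [(43,1)] .nil .nil)
    .nil) .nil)) (.node [(25,1)] (.node [(30,(-1))] (.node [(37,(-1))] .nil (.node [(47,(-1))] .nil
    .nil)) (.node [(40,(-1))] .nil .nil)) (.node [(32,1)] (.node [(39,1)] .nil .nil) (.node []
    (.node [(45,(-1))] .nil .nil) .nil))))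

/-- table -/
noncomputable def auxF4Chain47 : Tr (List (ℕ × ℤ)) :=
    (.node [] (.node [(24,1)] (.node [(29,1)] (.node [(36,1)] (.node [(42,(-1))] .nil .nil) (.node
    [(46,(-1))] .nil .nil)) (.node [(40,(-1))] .nil .nil)) (.node [(32,1)] (.node [(39,1)] .nil
    .nil) (.node [] (.node [(45,(-1))] .nil .nil) .nil))) (.node [(26,1)] (.node [(31,(-1))] (.node
    [(38,(-1))] (.node [(43,1)] .nil .nil) .nil) .nil) (.node [] (.node [] (.node [(44,(-1))] .nil
    .nil) .nil) .nil)))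

/-- table -/
noncomputable def auxF4Chain : Tr (Tr (List (ℕ × ℤ))) :=
    (.node auxF4Chain0 (.node auxF4Chain1 (.node auxF4Chain3 (.node auxF4Chain7 (.node auxF4Chain15
    (.node auxF4Chain31 .nil .nil) (.node auxF4Chain47 .nil .nil)) (.node auxF4Chain23 (.node
    auxF4Chain39 .nil .nil) .nil)) (.node auxF4Chain11 (.node auxF4Chain19 (.node auxF4Chain35 .nil
    .nil) .nil) (.node auxF4Chain27 (.node auxF4Chain43 .nil .nil) .nil))) (.node auxF4Chain5
    (.node auxF4Chain9 (.node auxF4Chain17 (.node auxF4Chain33 .nil .nil) .nil) (.node auxF4Chain25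
    (.node auxF4Chain41 .nil .nil) .nil)) (.node auxF4Chain13 (.node auxF4Chain21 (.node
    auxF4Chain37 .nil .nil) .nil) (.node auxF4Chain29 (.node auxF4Chain45 .nil .nil) .nil))))
    (.node auxF4Chain2 (.node auxF4Chain4 (.node auxF4Chain8 (.node auxF4Chain16 (.node
    auxF4Chain32 .nil .nil) .nil) (.node auxF4Chain24 (.node auxF4Chain40 .nil .nil) .nil)) (.node
    auxF4Chain12 (.node auxF4Chain20 (.node auxF4Chain36 .nil .nil) .nil) (.node auxF4Chain28
    (.node auxF4Chain44 .nil .nil) .nil))) (.node auxF4Chain6 (.node auxF4Chain10 (.node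
    auxF4Chain18 (.node auxF4Chain34 .nil .nil) .nil) (.node auxF4Chain26 (.node auxF4Chain42 .nil
    .nil) .nil)) (.node auxF4Chain14 (.node auxF4Chain22 (.node auxF4Chain38 .nil .nil) .nil)
    (.node auxF4Chain30 (.node auxF4Chain46 .nil .nil) .nil)))))

/-- table -/
noncomputable def auxF4Up : Tr ℕ :=
    (.node 3 (.node 2 (.node 0 (.node 1 (.node 2 (.node 1 .nil .nil) (.node 3 .nil .nil)) (.node 3
    (.node 2 .nil .nil) .nil)) (.node 3 (.node 2 (.node 2 .nil .nil) .nil) (.node 0 (.node 2 .nil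
    .nil) .nil))) (.node 0 (.node 3 (.node 1 (.node 0 .nil .nil) .nil) (.node 3 (.node 3 .nil .nil)
    .nil)) (.node 1 (.node 2 (.node 1 .nil .nil) .nil) (.node 3 (.node 1 .nil .nil) .nil)))) (.node
    1 (.node 2 (.node 2 (.node 1 (.node 2 .nil .nil) .nil) (.node 0 (.node 1 .nil .nil) .nil))
    (.node 2 (.node 0 (.node 3 .nil .nil) .nil) (.node 2 (.node 0 .nil .nil) .nil))) (.node 0
    (.node 1 (.node 3 (.node 1 .nil .nil) .nil) (.node 2 (.node 0 .nil .nil) .nil)) (.node 0 (.node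
    2 (.node 3 .nil .nil) .nil) (.node 3 (.node 2 .nil .nil) .nil)))))

/-- table -/
noncomputable def auxF4Dist : Tr ℕ :=
    (.node 8 (.node 7 (.node 8 (.node 7 (.node 4 (.node 2 .nil .nil) (.node 7 .nil .nil)) (.node 1
    (.node 5 .nil .nil) .nil)) (.node 4 (.node 4 (.node 2 .nil .nil) .nil) (.node 2 (.node 4 .nil
    .nil) .nil))) (.node 4 (.node 5 (.node 4 (.node 0 .nil .nil) .nil) (.node 2 (.node 4 .nil .nil)
    .nil)) (.node 2 (.node 2 (.node 3 .nil .nil) .nil) (.node 4 (.node 5 .nil .nil) .nil)))) (.node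
    6 (.node 5 (.node 6 (.node 3 (.node 3 .nil .nil) .nil) (.node 0 (.node 6 .nil .nil) .nil))
    (.node 3 (.node 3 (.node 3 .nil .nil) .nil) (.node 3 (.node 7 .nil .nil) .nil))) (.node 5
    (.node 4 (.node 5 (.node 1 .nil .nil) .nil) (.node 1 (.node 3 .nil .nil) .nil)) (.node 1 (.node
    3 (.node 4 .nil .nil) .nil) (.node 3 (.node 6 .nil .nil) .nil)))))

/-- table -/
noncomputable def auxF4Stab0 : Tr ℕ :=
    (.node 4 (.node 3 (.node 4 (.node 4 (.node 4 (.node 3 .nil .nil) (.node 3 .nil .nil)) (.node 2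
    (.node 2 .nil .nil) .nil)) (.node 4 (.node 3 (.node 2 .nil .nil) .nil) (.node 4 (.node 2 .nil
    .nil) .nil))) (.node 2 (.node 2 (.node 3 (.node 4 .nil .nil) .nil) (.node 2 (.node 4 .nil .nil)
    .nil)) (.node 2 (.node 4 (.node 4 .nil .nil) .nil) (.node 3 (.node 4 .nil .nil) .nil)))) (.node
    2 (.node 4 (.node 4 (.node 2 (.node 2 .nil .nil) .nil) (.node 3 (.node 4 .nil .nil) .nil))
    (.node 3 (.node 2 (.node 3 .nil .nil) .nil) (.node 2 (.node 4 .nil .nil) .nil))) (.node 3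
    (.node 3 (.node 4 (.node 4 .nil .nil) .nil) (.node 2 (.node 3 .nil .nil) .nil)) (.node 4 (.node
    3 (.node 3 .nil .nil) .nil) (.node 4 (.node 2 .nil .nil) .nil)))))

/-- table -/
noncomputable def auxF4Stab1 : Tr ℕ :=
    (.node 4 (.node 4 (.node 4 (.node 0 (.node 0 (.node 1 .nil .nil) (.node 4 .nil .nil)) (.node 4
    (.node 4 .nil .nil) .nil)) (.node 1 (.node 0 (.node 0 .nil .nil) .nil) (.node 1 (.node 0 .nil
    .nil) .nil))) (.node 4 (.node 4 (.node 0 (.node 0 .nil .nil) .nil) (.node 4 (.node 0 .nil .nil)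
    .nil)) (.node 4 (.node 1 (.node 1 .nil .nil) .nil) (.node 4 (.node 1 .nil .nil) .nil)))) (.node
    4 (.node 1 (.node 1 (.node 0 (.node 4 .nil .nil) .nil) (.node 4 (.node 1 .nil .nil) .nil))
    (.node 1 (.node 0 (.node 0 .nil .nil) .nil) (.node 4 (.node 0 .nil .nil) .nil))) (.node 4
    (.node 4 (.node 0 (.node 0 .nil .nil) .nil) (.node 4 (.node 0 .nil .nil) .nil)) (.node 1 (.node
    1 (.node 1 .nil .nil) .nil) (.node 1 (.node 4 .nil .nil) .nil)))))

/-- auxiliary tables for type F4 -/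
noncomputable def auxF4 : Aux where
  rootT := auxF4Root
  negT := auxF4Neg
  coroT := auxF4Coro
  cartT := [auxF4Cart0, auxF4Cart1, auxF4Cart2, auxF4Cart3]
  chainT := auxF4Chain
  reflT := [auxF4Refl0, auxF4Refl1, auxF4Refl2, auxF4Refl3]
  etaT := [auxF4Eta0, auxF4Eta1, auxF4Eta2, auxF4Eta3]
  upT := auxF4Up
  distT := auxF4Dist
  reps := [0, 3]
  stabT := [auxF4Stab0, auxF4Stab1]

end CfsgLib.Chev
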