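import Cfsg.Agent.Lib.Chev.Data.WeylF4
import Cfsg.Agent.Lib.Chev.Data.AuxF4
import Cfsg.Prelude.Def_ChevF4

set_option autoImplicit false
set_option maxRecDepth 100000

namespace CfsgLib.Chev

open Cfsg.Lie

theorem weylOKF4 : checkWeyl chevF4 auxF4 weylF4 = true := by decide +kernel

end CfsgLib.Chev
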