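import Cfsg.Agent.Lib.Chev.Fast
/-! Generated auxiliary tables for type G2. -/

set_option autoImplicit false
set_option maxRecDepth 100000

namespace CfsgLib.Chev

/-- table -/
noncomputable def auxG2Root : Tr (List ℤ) :=
    (.node [(-3),(-2)] (.node [(-3),(-1)] (.node [(-1),(-1)] (.node [1,0] .nil .nil) (.node [3,2]
    .nil .nil)) (.node [0,(-1)] (.node [2,1] .nil .nil) .nil)) (.node [(-2),(-1)] (.node [(-1),0]
    (.node [1,1] .nil .nil) .nil) (.node [0,1] (.node [3,1] .nil .nil) .nil)))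

/-- table -/
noncomputable def auxG2Neg : Tr ℕ :=
    (.node 11 (.node 10 (.node 8 (.node 4 .nil .nil) (.node 0 .nil .nil)) (.node 6 (.node 2 .nil
    .nil) .nil)) (.node 9 (.node 7 (.node 3 .nil .nil) .nil) (.node 5 (.node 1 .nil .nil) .nil)))

/-- table -/
noncomputable def auxG2Coro : Tr (List ℤ) :=
    (.node [(-1),(-2)] (.node [(-1),(-1)] (.node [(-1),(-3)] (.node [1,0] .nil .nil) (.node [1,2]
    .nil .nil)) (.node [0,(-1)] (.node [2,3] .nil .nil) .nil)) (.node [(-2),(-3)] (.node [(-1),0]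
    (.node [1,3] .nil .nil) .nil) (.node [0,1] (.node [1,1] .nil .nil) .nil)))

/-- table -/
noncomputable def auxG2Cart0 : Tr ℤ :=
    (.node 0 (.node (-3) (.node 1 (.node 2 .nil .nil) (.node 0 .nil .nil)) (.node 3 (.node 1 .nil
    .nil) .nil)) (.node (-1) (.node (-2) (.node (-1) .nil .nil) .nil) (.node (-3) (.node 3 .nil
    .nil) .nil)))

/-- table -/
noncomputable def auxG2Refl0 : Tr ℕ :=
    (.node 0 (.node 5 (.node 2 (.node 4 .nil .nil) (.node 11 .nil .nil)) (.node 1 (.node 8 .nil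
    .nil) .nil)) (.node 3 (.node 7 (.node 9 .nil .nil) .nil) (.node 10 (.node 6 .nil .nil) .nil)))

/-- table -/
noncomputable def auxG2Eta0 : Tr ℤ :=
    (.node 1 (.node (-1) (.node 1 (.node (-1) .nil .nil) (.node 1 .nil .nil)) (.node 1 (.node (-1)
    .nil .nil) .nil)) (.node (-1) (.node (-1) (.node 1 .nil .nil) .nil) (.node 1 (.node (-1) .nil
    .nil) .nil)))

/-- table -/
noncomputable def auxG2Cart1 : Tr ℤ :=
    (.node (-1) (.node 1 (.node (-1) (.node (-1) .nil .nil) (.node 1 .nil .nil)) (.node (-2) (.node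
    0 .nil .nil) .nil)) (.node 0 (.node 1 (.node 1 .nil .nil) .nil) (.node 2 (.node (-1) .nil .nil)
    .nil)))

/-- table -/
noncomputable def auxG2Refl1 : Tr ℕ :=
    (.node 1 (.node 0 (.node 4 (.node 8 .nil .nil) (.node 10 .nil .nil)) (.node 6 (.node 9 .nil
    .nil) .nil)) (.node 2 (.node 3 (.node 7 .nil .nil) .nil) (.node 5 (.node 11 .nil .nil) .nil)))

/-- table -/
noncomputable def auxG2Eta1 : Tr ℤ :=
    (.node (-1) (.node 1 (.node (-1) (.node 1 .nil .nil) (.node (-1) .nil .nil)) (.node (-1) (.node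
    1 .nil .nil) .nil)) (.node 1 (.node 1 (.node (-1) .nil .nil) .nil) (.node (-1) (.node 1 .nil
    .nil) .nil)))

/-- table -/
noncomputable def auxG2Chain0 : Tr (List (ℕ × ℤ)) :=
    (.node [] (.node [] .nil (.node [] (.node [(3,(-1))] .nil .nil) .nil)) (.node [] (.node []
    (.node [(2,1)] .nil .nil) .nil) (.node [(1,1)] (.node [(5,(-1))] .nil .nil) .nil)))

/-- table -/
noncomputable def auxG2Chain1 : Tr (List (ℕ × ℤ)) :=
    (.node [] (.node [] (.node [] (.node [(2,1)] .nil .nil) (.node [(6,(-1))] .nil .nil)) (.node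
    [(0,1)] (.node [(4,(-1))] .nil .nil) .nil)) .nil)

/-- table -/
noncomputable def auxG2Chain2 : Tr (List (ℕ × ℤ)) :=
    (.node [] (.node [] (.node [(0,3)] (.node [(3,(-2)),(0,(-3))] .nil .nil) (.node
    [(8,(-1)),(4,(-1)),(1,(-1))] .nil .nil)) .nil) (.node [] (.node [(1,3)] (.node [(4,2),(1,3)]
    .nil .nil) .nil) (.node [] (.node [(7,(-1)),(3,1),(0,1)] .nil .nil) .nil)))

/-- table -/
noncomputable def auxG2Chain3 : Tr (List (ℕ × ℤ)) :=
    (.node [] (.node [] (.node [] (.node [(5,(-3))] .nil .nil) (.node [(9,1),(7,1),(5,(-1))] .nil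
    .nil)) (.node [] (.node [(7,2),(5,(-3))] .nil .nil) .nil)) (.node [(0,(-3))] (.node
    [(2,(-2)),(0,3)] .nil .nil) (.node [(4,1),(2,(-1)),(0,1)] .nil .nil)))

/-- table -/
noncomputable def auxG2Chain4 : Tr (List (ℕ × ℤ)) :=
    (.node [] (.node [] (.node [(2,2),(1,(-3))] .nil .nil) (.node [(3,1),(2,1),(1,(-1))] (.node
    [(8,(-2)),(6,3)] .nil .nil) .nil)) (.node [(1,(-3))] (.node [] (.node [(6,(-3))] .nil .nil)
    .nil) (.node [] (.node [(9,1),(8,(-1)),(6,1)] .nil .nil) .nil)))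

/-- table -/
noncomputable def auxG2Chain5 : Tr (List (ℕ × ℤ)) :=
    (.node [] (.node [(0,(-1))] (.node [] .nil (.node [(10,1)] .nil .nil)) .nil) (.node [] (.node
    [(3,(-1))] (.node [(7,1)] .nil .nil) .nil) .nil))

/-- table -/
noncomputable def auxG2Chain6 : Tr (List (ℕ × ℤ)) :=
    (.node [(1,(-1))] (.node [] (.node [(4,(-1))] (.node [(8,1)] .nil .nil) .nil) .nil) (.node []
    .nil (.node [] (.node [(11,1)] .nil .nil) .nil)))

/-- table -/
noncomputable def auxG2Chain7 : Tr (List (ℕ × ℤ)) :=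
    (.node [] (.node [(2,(-1)),(3,(-1)),(5,(-1))] (.node [(5,3)] .nil .nil) (.node [] (.node
    [(10,3)] .nil .nil) .nil)) (.node [(3,2),(5,3)] (.node [] (.node [(9,(-2)),(10,(-3))] .nil
    .nil) .nil) (.node [(8,(-1)),(9,1),(10,1)] .nil .nil)))

/-- table -/
noncomputable def auxG2Chain8 : Tr (List (ℕ × ℤ)) :=
    (.node [(2,(-1)),(4,1),(6,1)] (.node [] (.node [] (.node [(9,2),(11,3)] .nil .nil) .nil) (.node
    [(7,(-1)),(9,(-1)),(11,(-1))] (.node [(11,3)] .nil .nil) .nil)) (.node [(4,(-2)),(6,(-3))]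
    (.node [(6,3)] .nil .nil) .nil))

/-- table -/
noncomputable def auxG2Chain9 : Tr (List (ℕ × ℤ)) :=
    (.node [(3,1),(7,(-1)),(10,1)] (.node [(4,1),(8,1),(11,(-1))] (.node [(7,(-2)),(10,3)] (.node
    [(10,(-3))] .nil .nil) .nil) .nil) (.node [] (.node [(8,2),(11,(-3))] (.node [(11,(-3))] .nil
    .nil) .nil) .nil))

/-- table -/
noncomputable def auxG2Chain10 : Tr (List (ℕ × ℤ)) :=
    (.node [(5,1)] .nil (.node [(7,1)] (.node [(9,(-1))] .nil .nil) (.node [(11,(-1))] .nil .nil)))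

/-- table -/
noncomputable def auxG2Chain11 : Tr (List (ℕ × ℤ)) :=
    (.node [] (.node [(6,1)] (.node [(9,(-1))] .nil .nil) (.node [(10,(-1))] .nil .nil)) (.node
    [(8,1)] .nil .nil))

/-- table -/
noncomputable def auxG2Chain : Tr (Tr (List (ℕ × ℤ))) :=
    (.node auxG2Chain0 (.node auxG2Chain1 (.node auxG2Chain3 (.node auxG2Chain7 .nil .nil) (.node
    auxG2Chain11 .nil .nil)) (.node auxG2Chain5 (.node auxG2Chain9 .nil .nil) .nil)) (.node
    auxG2Chain2 (.node auxG2Chain4 (.node auxG2Chain8 .nil .nil) .nil) (.node auxG2Chain6 (.node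
    auxG2Chain10 .nil .nil) .nil)))

/-- table -/
noncomputable def auxG2Up : Tr ℕ :=
    (.node 1 (.node 0 (.node 1 (.node 0 .nil .nil) (.node 1 .nil .nil)) (.node 1 (.node 0 .nil
    .nil) .nil)) (.node 0 (.node 0 (.node 1 .nil .nil) .nil) (.node 0 (.node 0 .nil .nil) .nil)))

/-- table -/
noncomputable def auxG2Dist : Tr ℕ :=
    (.node 3 (.node 2 (.node 2 (.node 0 .nil .nil) (.node 2 .nil .nil)) (.node 1 (.node 2 .nil
    .nil) .nil)) (.node 3 (.node 1 (.node 1 .nil .nil) .nil) (.node 0 (.node 1 .nil .nil) .nil)))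

/-- table -/
noncomputable def auxG2Stab0 : Tr ℕ :=
    (.node 2 (.node 2 (.node 2 (.node 2 .nil .nil) (.node 2 .nil .nil)) (.node 2 (.node 2 .nil
    .nil) .nil)) (.node 2 (.node 2 (.node 2 .nil .nil) .nil) (.node 2 (.node 2 .nil .nil) .nil)))

/-- table -/
noncomputable def auxG2Stab1 : Tr ℕ :=
    (.node 2 (.node 2 (.node 2 (.node 2 .nil .nil) (.node 2 .nil .nil)) (.node 2 (.node 2 .nil
    .nil) .nil)) (.node 2 (.node 2 (.node 2 .nil .nil) .nil) (.node 2 (.node 2 .nil .nil) .nil)))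

/-- auxiliary tables for type G2 -/
noncomputable def auxG2 : Aux where
  rootT := auxG2Root
  negT := auxG2Neg
  coroT := auxG2Coro
  cartT := [auxG2Cart0, auxG2Cart1]
  chainT := auxG2Chain
  reflT := [auxG2Refl0, auxG2Refl1]
  etaT := [auxG2Eta0, auxG2Eta1]
  upT := auxG2Up
  distT := auxG2Dist
  reps := [0, 1]
  stabT := [auxG2Stab0, auxG2Stab1]

end CfsgLib.Chev
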