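import Cfsg.Agent.Lib.Chev.Data.FoldF42
import Cfsg.Agent.Lib.Chev.Types
/-! Checks of folding data. -/

set_option autoImplicit false
set_option maxRecDepth 100000

namespace CfsgLib.Chev

open Cfsg.Lie

theorem foldF42_check : foldF42.check chevF4 auxF4 = true := by decide +kernel

theorem foldF42_valid : foldF42.Valid chevF4 auxF4 := Fold.valid_of_check stdF4.good foldF42_check

theorem ftabF42_check : ftabCheck chevF4 auxF4 foldF42 ftabF42 = true := by decide +kernel

theorem ftabF42_ok : FTabOK chevF4 auxF4 foldF42 ftabF42 :=
  ftabOK_of_check stdF4 foldF42_valid ftabF42_check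

end CfsgLib.Chev
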