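import Cfsg.Agent.Lib.Chev.Data.FoldD43
import Cfsg.Agent.Lib.Chev.Types
/-! Checks of folding data. -/

set_option autoImplicit false
set_option maxRecDepth 100000

namespace CfsgLib.Chev

open Cfsg.Lie

theorem foldD43_check : foldD43.check chevD4 auxD4 = true := by decide +kernel

theorem foldD43_valid : foldD43.Valid chevD4 auxD4 := Fold.valid_of_check stdD4.good foldD43_check

theorem ftabD43_check : ftabCheck chevD4 auxD4 foldD43 ftabD43 = true := by decide +kernel

theorem ftabD43_ok : FTabOK chevD4 auxD4 foldD43 ftabD43 :=
  ftabOK_of_check stdD4 foldD43_valid ftabD43_check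

end CfsgLib.Chev
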