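import Cfsg.Agent.Lib.Chev.Data.FoldE62
import Cfsg.Agent.Lib.Chev.Types
/-! Checks of folding data. -/

set_option autoImplicit false
set_option maxRecDepth 100000

namespace CfsgLib.Chev

open Cfsg.Lie

theorem foldE62_check : foldE62.check chevE6 auxE6 = true := by decide +kernel

theorem foldE62_valid : foldE62.Valid chevE6 auxE6 := Fold.valid_of_check stdE6.good foldE62_check

theorem ftabE62_check : ftabCheck chevE6 auxE6 foldE62 ftabE62 = true := by decide +kernel

theorem ftabE62_ok : FTabOK chevE6 auxE6 foldE62 ftabE62 :=
  ftabOK_of_check stdE6 foldE62_valid ftabE62_check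

end CfsgLib.Chev
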