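import Cfsg.Agent.Lib.Chev.Data.FoldG22
import Cfsg.Agent.Lib.Chev.Types
/-! Checks of folding data. -/

set_option autoImplicit false
set_option maxRecDepth 100000

namespace CfsgLib.Chev

open Cfsg.Lie

theorem foldG22_check : foldG22.check chevG2 auxG2 = true := by decide +kernel

theorem foldG22_valid : foldG22.Valid chevG2 auxG2 := Fold.valid_of_check stdG2.good foldG22_check

theorem ftabG22_check : ftabCheck chevG2 auxG2 foldG22 ftabG22 = true := by decide +kernel

theorem ftabG22_ok : FTabOK chevG2 auxG2 foldG22 ftabG22 :=
  ftabOK_of_check stdG2 foldG22_valid ftabG22_check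

end CfsgLib.Chev
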