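import Cfsg.Agent.Lib.Chev.WeylDef
/-! Generated coset representatives for the Weyl group of type F4. -/

set_option autoImplicit false
set_option maxRecDepth 100000

namespace CfsgLib.Chev

/-- table -/
def weylF4L0 : List Rep :=
  [⟨[], 0, [1, 0, 0, 0], [33, 27, 25, 24], [(true, 1)]⟩,
   ⟨[0], 0, [-1, 1, 0, 0], [14, 34, 25, 24], [(true, 0)]⟩]

/-- table -/
def weylF4L1 : List Rep :=
  [⟨[], 0, [0, 1, 0, 0], [33, 27, 25, 24], [(false, 0), (true, 1)]⟩,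
   ⟨[1], 0, [1, -1, 2, 0], [34, 20, 30, 24], [(true, 2), (true, 0)]⟩,
   ⟨[0, 1], 1, [-1, 0, 2, 0], [27, 13, 41, 24], [(true, 1), (false, 0)]⟩]

/-- table -/
def weylF4L2 : List Rep :=
  [⟨[], 0, [0, 0, 1, 0], [33, 27, 25, 24], [(false, 0), (false, 1), (true, 1)]⟩,
   ⟨[2], 0, [0, 1, -1, 1], [33, 28, 22, 26], [(false, 0), (true, 2), (true, 0)]⟩,
   ⟨[1, 2], 1, [1, -1, 1, 1], [34, 28, 17, 31], [(true, 3), (true, 1), (true, 4)]⟩,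
   ⟨[0, 1, 2], 2, [-1, 0, 1, 1], [27, 35, 6, 42], [(true, 2), (false, 0), (true, 5)]⟩,
   ⟨[2, 1, 2], 2, [1, 0, -1, 2], [35, 27, 17, 32], [(true, 5), (false, 1), (true, 2)]⟩,
   ⟨[2, 0, 1, 2], 3, [-1, 1, -1, 2], [28, 34, 6, 43], [(true, 4), (true, 6), (true, 3)]⟩,
   ⟨[1, 2, 0, 1, 2], 5, [0, -1, 1, 2], [28, 33, 6, 45], [(false, 1), (true, 5), (true, 7)]⟩,
   ⟨[2, 1, 2, 0, 1, 2], 6, [0, 0, -1, 3], [27, 33, 6, 46], [(false, 1), (false, 0), (true, 6)]⟩]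

/-- table -/
def weylF4L3 : List Rep :=
  [⟨[], 0, [0, 0, 0, 1], [33, 27, 25, 24], [(false, 0), (false, 1), (false, 2), (true, 1)]⟩,
   ⟨[3], 0, [0, 0, 1, -1], [33, 27, 26, 23], [(false, 0), (false, 1), (true, 2), (true, 0)]⟩,
   ⟨[2, 3], 1, [0, 1, -1, 0], [33, 28, 24, 21], [(false, 0), (true, 3), (true, 1), (false, 2)]⟩,
   ⟨[1, 2, 3], 2, [1, -1, 1, 0], [34, 28, 24, 16], [(true, 4), (true, 2), (true, 5), (false, 2)]⟩,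
   ⟨[0, 1, 2, 3], 3, [-1, 0, 1, 0], [27, 35, 24, 5], [(true, 3), (false, 0), (true, 6), (false, 2)]⟩,
   ⟨[2, 1, 2, 3], 3, [1, 0, -1, 1], [35, 27, 26, 15], [(true, 6), (false, 1), (true, 3), (true, 7)]⟩,
   ⟨[2, 0, 1, 2, 3], 4, [-1, 1, -1, 1], [28, 34, 26, 4], [(true, 5), (true, 8), (true, 4), (true, 9)]⟩,
   ⟨[3, 2, 1, 2, 3], 5, [1, 0, 0, -1], [36, 27, 25, 15], [(true, 9), (false, 1), (false, 2), (true, 5)]⟩,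
   ⟨[1, 2, 0, 1, 2, 3], 6, [0, -1, 1, 1], [28, 33, 31, 2], [(false, 1), (true, 6), (true, 10), (true, 11)]⟩,
   ⟨[3, 2, 0, 1, 2, 3], 6, [-1, 1, 0, -1], [29, 34, 25, 4], [(true, 7), (true, 11), (false, 2), (true, 6)]⟩,
   ⟨[2, 1, 2, 0, 1, 2, 3], 8, [0, 0, -1, 2], [27, 33, 32, 1], [(false, 1), (false, 0), (true, 8), (true, 12)]⟩,
   ⟨[3, 1, 2, 0, 1, 2, 3], 8, [0, -1, 2, -1], [29, 33, 30, 2], [(false, 1), (true, 9), (true, 13), (true, 8)]⟩,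
   ⟨[3, 2, 1, 2, 0, 1, 2, 3], 10, [0, 0, 1, -2], [27, 33, 32, 0], [(false, 1), (false, 0), (true, 14), (true, 10)]⟩,
   ⟨[2, 3, 1, 2, 0, 1, 2, 3], 11, [0, 1, -2, 1], [29, 33, 30, 1], [(false, 1), (true, 15), (true, 11), (true, 14)]⟩,
   ⟨[2, 3, 2, 1, 2, 0, 1, 2, 3], 12, [0, 1, -1, -1], [28, 33, 31, 0], [(false, 1), (true, 16), (true, 12), (true, 13)]⟩,
   ⟨[1, 2, 3, 1, 2, 0, 1, 2, 3], 13, [1, -1, 0, 1], [29, 34, 25, 1], [(true, 17), (true, 13), (false, 2), (true, 16)]⟩,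
   ⟨[1, 2, 3, 2, 1, 2, 0, 1, 2, 3], 14, [1, -1, 1, -1], [28, 34, 26, 0], [(true, 18), (true, 14), (true, 19), (true, 15)]⟩,
   ⟨[0, 1, 2, 3, 1, 2, 0, 1, 2, 3], 15, [-1, 0, 0, 1], [36, 27, 25, 1], [(true, 15), (false, 1), (false, 2), (true, 18)]⟩,
   ⟨[0, 1, 2, 3, 2, 1, 2, 0, 1, 2, 3], 16, [-1, 0, 1, -1], [35, 27, 26, 0], [(true, 16), (false, 1), (true, 20), (true, 17)]⟩,
   ⟨[2, 1, 2, 3, 2, 1, 2, 0, 1, 2, 3], 16, [1, 0, -1, 0], [27, 35, 24, 0], [(true, 20), (false, 0), (true, 16), (false, 2)]⟩,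
   ⟨[2, 0, 1, 2, 3, 2, 1, 2, 0, 1, 2, 3], 18, [-1, 1, -1, 0], [34, 28, 24, 0], [(true, 19), (true, 21), (true, 18), (false, 2)]⟩,
   ⟨[1, 2, 0, 1, 2, 3, 2, 1, 2, 0, 1, 2, 3], 20, [0, -1, 1, 0], [33, 28, 24, 0], [(false, 0), (true, 20), (true, 22), (false, 2)]⟩,
   ⟨[2, 1, 2, 0, 1, 2, 3, 2, 1, 2, 0, 1, 2, 3], 21, [0, 0, -1, 1], [33, 27, 26, 0], [(false, 0), (false, 1), (true, 21), (true, 23)]⟩,
   ⟨[3, 2, 1, 2, 0, 1, 2, 3, 2, 1, 2, 0, 1, 2, 3], 22, [0, 0, 0, -1], [33, 27, 25, 1], [(false, 0), (false, 1), (false, 2), (true, 22)]⟩]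

/-- table -/
def weylF4 : List (List Rep) :=
  [weylF4L0, weylF4L1, weylF4L2, weylF4L3]

end CfsgLib.Chev
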