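import Cfsg.Agent.Lib.Chev.WeylDef
/-! Generated coset representatives for the Weyl group of type G2. -/

set_option autoImplicit false
set_option maxRecDepth 100000

namespace CfsgLib.Chev

/-- table -/
def weylG2L0 : List Rep :=
  [⟨[], 0, [1, 0], [7, 6], [(true, 1)]⟩,
   ⟨[0], 0, [-1, 3], [4, 10], [(true, 0)]⟩]

/-- table -/
def weylG2L1 : List Rep :=
  [⟨[], 0, [0, 1], [7, 6], [(false, 0), (true, 1)]⟩,
   ⟨[1], 0, [1, -1], [8, 5], [(true, 2), (true, 0)]⟩,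
   ⟨[0, 1], 1, [-1, 2], [9, 1], [(true, 1), (true, 3)]⟩,
   ⟨[1, 0, 1], 2, [1, -2], [9, 0], [(true, 4), (true, 2)]⟩,
   ⟨[0, 1, 0, 1], 3, [-1, 1], [8, 0], [(true, 3), (true, 5)]⟩,
   ⟨[1, 0, 1, 0, 1], 4, [0, -1], [7, 1], [(false, 0), (true, 4)]⟩]

/-- table -/
def weylG2 : List (List Rep) :=
  [weylG2L0, weylG2L1]

end CfsgLib.Chev
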