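import Cfsg.Agent.Lib.Chev.Data.AuxE7
import Cfsg.Prelude.Def_ChevE7
/-! The table checks for type E7, evaluated by the kernel. -/

set_option autoImplicit false
set_option maxHeartbeats 0

namespace CfsgLib.Chev

open Cfsg.Lie

theorem syncE7 : checkSync chevE7 auxE7 = true := by decide +kernel

theorem rootsE7 : checkRoots chevE7 auxE7 = true := by decide +kernel

theorem chainsE7 : checkChains chevE7 auxE7 = true := by decide +kernel

theorem upE7 : checkUp chevE7 auxE7 = true := by decide +kernel

theorem addE7 : checkAdd chevE7 auxE7 = true := by decide +kernel

theorem commE7 : checkComm chevE7 auxE7 = true := by decide +kernel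

end CfsgLib.Chev
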