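import Cfsg.Agent.Lib.Chev.Twist.FoldTab
import Cfsg.Agent.Lib.Chev.Data.AuxD4
/-! Generated folding data. -/

set_option autoImplicit false
set_option maxRecDepth 100000

namespace CfsgLib.Chev

open Cfsg.Lie

/-- folding -/
def foldD43 : Fold := ⟨[2, 1, 3, 0], [0, 1, 6, 2, 7, 10, 3, 8, 4, 9, 11, 5, 18, 12, 14, 19, 15, 20, 13, 16, 21, 17, 22, 23], [[1], [0, 2, 3]], [[1], [0, 2, 3]]⟩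

/-- table -/
def ftabD43P0 : List FState :=
  [⟨[0, 1, 0, 1], 8, [6, 22, 3, 2], [1, 2]⟩,
   ⟨[1, 0, 1], 7, [6, 23, 3, 2], [0, 3]⟩,
   ⟨[1, 0, 1, 0, 1], 11, [4, 14, 7, 8], [4, 0]⟩,
   ⟨[0, 1], 4, [4, 23, 7, 8], [5, 1]⟩,
   ⟨[1, 0, 1, 0, 1, 0], 12, [5, 9, 10, 11], [2, 6]⟩,
   ⟨[1], 3, [5, 22, 10, 11], [3, 7]⟩,
   ⟨[0, 1, 0, 1, 0], 9, [18, 1, 13, 12], [8, 4]⟩,
   ⟨[], 0, [18, 14, 13, 12], [9, 5]⟩,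
   ⟨[1, 0, 1, 0], 8, [19, 0, 16, 15], [6, 10]⟩,
   ⟨[0], 1, [19, 9, 16, 15], [7, 11]⟩,
   ⟨[0, 1, 0], 5, [17, 0, 20, 21], [11, 8]⟩,
   ⟨[1, 0], 4, [17, 1, 20, 21], [10, 9]⟩]

/-- table -/
def ftabD43 : List FState := ftabD43P0

end CfsgLib.Chev
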