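import Cfsg.Agent.Lib.Chev.Twist.FoldTab
import Cfsg.Agent.Lib.Chev.Data.AuxF4
/-! Generated folding data. -/

set_option autoImplicit false
set_option maxRecDepth 100000

namespace CfsgLib.Chev

open Cfsg.Lie

/-- folding -/
def foldF42 : Fold := ⟨[3, 2, 1, 0], [3, 7, 8, 0, 9, 11, 18, 1, 2, 4, 15, 5, 16, 21, 23, 10, 12, 19, 6, 17, 22, 13, 20, 14, 33, 27, 34, 25, 30, 41, 28, 35, 37, 24, 26, 31, 42, 32, 43, 45, 46, 29, 36, 38, 47, 39, 40, 44], [[0, 3], [1, 2]], [[0, 3], [1, 2, 1, 2]]⟩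

/-- table -/
def ftabF42P0 : List FState :=
  [⟨[0, 1, 0, 1, 0], 14, [8, 35, 31, 2], [1, 2]⟩,
   ⟨[1, 0, 1, 0], 12, [8, 29, 41, 2], [0, 3]⟩,
   ⟨[1, 0, 1, 0, 1, 0], 18, [9, 34, 26, 4], [4, 0]⟩,
   ⟨[0, 1, 0], 8, [9, 29, 41, 4], [5, 1]⟩,
   ⟨[0, 1, 0, 1, 0, 1, 0], 20, [10, 27, 25, 15], [2, 6]⟩,
   ⟨[1, 0], 6, [10, 35, 31, 15], [3, 7]⟩,
   ⟨[1, 0, 1, 0, 1, 0, 1, 0], 24, [14, 20, 22, 23], [8, 4]⟩,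
   ⟨[0], 2, [14, 34, 26, 23], [9, 5]⟩,
   ⟨[1, 0, 1, 0, 1, 0, 1], 22, [33, 13, 21, 24], [6, 10]⟩,
   ⟨[], 0, [33, 27, 25, 24], [7, 11]⟩,
   ⟨[0, 1, 0, 1, 0, 1], 18, [37, 12, 16, 32], [12, 8]⟩,
   ⟨[1], 4, [37, 20, 22, 32], [13, 9]⟩,
   ⟨[1, 0, 1, 0, 1], 16, [38, 18, 6, 43], [10, 14]⟩,
   ⟨[0, 1], 6, [38, 13, 21, 43], [11, 15]⟩,
   ⟨[0, 1, 0, 1], 12, [39, 18, 6, 45], [15, 12]⟩,
   ⟨[1, 0, 1], 10, [39, 12, 16, 45], [14, 13]⟩]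

/-- table -/
def ftabF42 : List FState := ftabF42P0

end CfsgLib.Chev
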