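import Cfsg.Agent.Lib.Chev.Twist.FoldTab
import Cfsg.Agent.Lib.Chev.Data.AuxG2
/-! Generated folding data. -/

set_option autoImplicit false
set_option maxRecDepth 100000

namespace CfsgLib.Chev

open Cfsg.Lie

/-- folding -/
def foldG22 : Fold := ⟨[1, 0], [2, 3, 0, 1, 5, 4, 7, 6, 10, 11, 8, 9], [[0, 1]], [[0, 1, 0, 1, 0, 1]]⟩

/-- table -/
def ftabG22P0 : List FState :=
  [⟨[0], 6, [4, 5], [1]⟩,
   ⟨[], 0, [7, 6], [0]⟩]

/-- table -/
def ftabG22 : List FState := ftabG22P0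

end CfsgLib.Chev
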