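import Cfsg.Agent.Lib.Chev.WeylDef
/-! Generated coset representatives for the Weyl group of type B2. -/

set_option autoImplicit false
set_option maxRecDepth 100000

namespace CfsgLib.Chev

/-- table -/
def weylB2L0 : List Rep :=
  [⟨[], 0, [1, 0], [5, 4], [(true, 1)]⟩,
   ⟨[0], 0, [-1, 2], [2, 7], [(true, 0)]⟩]

/-- table -/
def weylB2L1 : List Rep :=
  [⟨[], 0, [0, 1], [5, 4], [(false, 0), (true, 1)]⟩,
   ⟨[1], 0, [1, -1], [6, 3], [(true, 2), (true, 0)]⟩,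
   ⟨[0, 1], 1, [-1, 1], [6, 0], [(true, 1), (true, 3)]⟩,
   ⟨[1, 0, 1], 2, [0, -1], [5, 0], [(false, 0), (true, 2)]⟩]

/-- table -/
def weylB2 : List (List Rep) :=
  [weylB2L0, weylB2L1]

end CfsgLib.Chev
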