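import Cfsg.Agent.Lib.Chev.WeylDef
/-! Generated coset representatives for the Weyl group of type D4. -/

set_option autoImplicit false
set_option maxRecDepth 100000

namespace CfsgLib.Chev

/-- table -/
def weylD4L0 : List Rep :=
  [⟨[], 0, [1, 0, 0, 0], [18, 14, 13, 12], [(true, 1)]⟩,
   ⟨[0], 0, [-1, 1, 0, 0], [5, 19, 13, 12], [(true, 0)]⟩]

/-- table -/
def weylD4L1 : List Rep :=
  [⟨[], 0, [0, 1, 0, 0], [18, 14, 13, 12], [(false, 0), (true, 1)]⟩,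
   ⟨[1], 0, [1, -1, 1, 1], [19, 9, 16, 15], [(true, 2), (true, 0)]⟩,
   ⟨[0, 1], 1, [-1, 0, 1, 1], [14, 4, 21, 20], [(true, 1), (false, 0)]⟩]

/-- table -/
def weylD4L2 : List Rep :=
  [⟨[], 0, [0, 0, 1, 0], [18, 14, 13, 12], [(false, 0), (false, 1), (true, 1)]⟩,
   ⟨[2], 0, [0, 1, -1, 0], [18, 16, 10, 12], [(false, 0), (true, 2), (true, 0)]⟩,
   ⟨[1, 2], 1, [1, -1, 0, 1], [19, 13, 7, 15], [(true, 3), (true, 1), (false, 1)]⟩,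
   ⟨[0, 1, 2], 2, [-1, 0, 0, 1], [14, 13, 2, 20], [(true, 2), (false, 0), (false, 1)]⟩]

/-- table -/
def weylD4L3 : List Rep :=
  [⟨[], 0, [0, 0, 0, 1], [18, 14, 13, 12], [(false, 0), (false, 1), (false, 2), (true, 1)]⟩,
   ⟨[3], 0, [0, 1, 0, -1], [18, 15, 13, 11], [(false, 0), (true, 2), (false, 2), (true, 0)]⟩,
   ⟨[1, 3], 1, [1, -1, 1, 0], [19, 12, 16, 8], [(true, 3), (true, 1), (true, 4), (false, 1)]⟩,
   ⟨[0, 1, 3], 2, [-1, 0, 1, 0], [14, 12, 21, 3], [(true, 2), (false, 0), (true, 5), (false, 1)]⟩,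
   ⟨[2, 1, 3], 2, [1, 0, -1, 0], [21, 12, 14, 6], [(true, 5), (false, 2), (true, 2), (false, 1)]⟩,
   ⟨[2, 0, 1, 3], 3, [-1, 1, -1, 0], [16, 12, 19, 1], [(true, 4), (true, 6), (true, 3), (false, 1)]⟩,
   ⟨[1, 2, 0, 1, 3], 5, [0, -1, 0, 1], [13, 15, 18, 0], [(false, 2), (true, 5), (false, 0), (true, 7)]⟩,
   ⟨[3, 1, 2, 0, 1, 3], 6, [0, 0, 0, -1], [13, 14, 18, 0], [(false, 2), (false, 1), (false, 0), (true, 6)]⟩]

/-- table -/
def weylD4 : List (List Rep) :=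
  [weylD4L0, weylD4L1, weylD4L2, weylD4L3]

end CfsgLib.Chev
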