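import Cfsg.Agent.Lib.Chev.WeylDef
/-! Generated coset representatives for the Weyl group of type E6. -/

set_option autoImplicit false
set_option maxRecDepth 100000

namespace CfsgLib.Chev

/-- table -/
def weylE6L0 : List Rep :=
  [⟨[], 0, [1, 0, 0, 0, 0, 0], [56, 46, 42, 39, 37, 36], [(true, 1)]⟩,
   ⟨[0], 0, [-1, 0, 1, 0, 0, 0], [15, 46, 57, 39, 37, 36], [(true, 0)]⟩]

/-- table -/
def weylE6L1 : List Rep :=
  [⟨[], 0, [0, 1, 0, 0, 0, 0], [56, 46, 42, 39, 37, 36], [(false, 0), (true, 1)]⟩,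
   ⟨[1], 0, [0, -1, 0, 1, 0, 0], [56, 25, 42, 47, 37, 36], [(false, 0), (true, 0)]⟩]

/-- table -/
def weylE6L2 : List Rep :=
  [⟨[], 0, [0, 0, 1, 0, 0, 0], [56, 46, 42, 39, 37, 36], [(false, 0), (false, 1), (true, 1)]⟩,
   ⟨[2], 0, [1, 0, -1, 1, 0, 0], [57, 46, 29, 43, 37, 36], [(true, 2), (false, 1), (true, 0)]⟩,
   ⟨[0, 2], 1, [-1, 0, 0, 1, 0, 0], [42, 46, 14, 58, 37, 36], [(true, 1), (false, 1), (false, 0)]⟩]

/-- table -/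
def weylE6L3 : List Rep :=
  [⟨[], 0, [0, 0, 0, 1, 0, 0], [56, 46, 42, 39, 37, 36], [(false, 0), (false, 1), (false, 2), (true, 1)]⟩,
   ⟨[3], 0, [0, 1, 1, -1, 1, 0], [56, 47, 43, 32, 40, 36], [(false, 0), (true, 2), (true, 3), (true, 0)]⟩,
   ⟨[1, 3], 1, [0, -1, 1, 0, 1, 0], [56, 39, 50, 24, 48, 36], [(false, 0), (true, 1), (true, 4), (false, 1)]⟩,
   ⟨[2, 3], 1, [1, 1, -1, 0, 1, 0], [57, 50, 39, 28, 44, 36], [(true, 5), (true, 4), (true, 1), (false, 2)]⟩,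
   ⟨[2, 1, 3], 2, [1, -1, -1, 1, 1, 0], [57, 43, 47, 21, 51, 36], [(true, 6), (true, 3), (true, 2), (true, 7)]⟩,
   ⟨[0, 2, 3], 3, [-1, 1, 0, 0, 1, 0], [42, 61, 39, 13, 59, 36], [(true, 3), (true, 6), (false, 0), (false, 2)]⟩,
   ⟨[0, 2, 1, 3], 4, [-1, -1, 0, 1, 1, 0], [42, 58, 47, 10, 62, 36], [(true, 4), (true, 5), (false, 0), (true, 8)]⟩,
   ⟨[3, 2, 1, 3], 4, [1, 0, 0, -1, 2, 0], [58, 42, 46, 21, 53, 36], [(true, 8), (false, 2), (false, 1), (true, 4)]⟩,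
   ⟨[3, 0, 2, 1, 3], 6, [-1, 0, 1, -1, 2, 0], [43, 57, 46, 10, 64, 36], [(true, 7), (false, 2), (true, 9), (true, 6)]⟩,
   ⟨[2, 3, 0, 2, 1, 3], 8, [0, 0, -1, 0, 2, 0], [39, 56, 46, 10, 67, 36], [(false, 1), (false, 2), (true, 8), (false, 0)]⟩]

/-- table -/
def weylE6L4 : List Rep :=
  [⟨[], 0, [0, 0, 0, 0, 1, 0], [56, 46, 42, 39, 37, 36], [(false, 0), (false, 1), (false, 2), (false, 3), (true, 1)]⟩,
   ⟨[4], 0, [0, 0, 0, 1, -1, 1], [56, 46, 42, 40, 34, 38], [(false, 0), (false, 1), (false, 2), (true, 2), (true, 0)]⟩,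
   ⟨[3, 4], 1, [0, 1, 1, -1, 0, 1], [56, 47, 43, 37, 31, 41], [(false, 0), (true, 3), (true, 4), (true, 1), (false, 3)]⟩,
   ⟨[1, 3, 4], 2, [0, -1, 1, 0, 0, 1], [56, 39, 50, 37, 23, 49], [(false, 0), (true, 2), (true, 5), (false, 1), (false, 3)]⟩,
   ⟨[2, 3, 4], 2, [1, 1, -1, 0, 0, 1], [57, 50, 39, 37, 27, 45], [(true, 6), (true, 5), (true, 2), (false, 2), (false, 3)]⟩,
   ⟨[2, 1, 3, 4], 3, [1, -1, -1, 1, 0, 1], [57, 43, 47, 37, 20, 52], [(true, 7), (true, 4), (true, 3), (true, 8), (false, 3)]⟩,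
   ⟨[0, 2, 3, 4], 4, [-1, 1, 0, 0, 0, 1], [42, 61, 39, 37, 12, 60], [(true, 4), (true, 7), (false, 0), (false, 2), (false, 3)]⟩,
   ⟨[0, 2, 1, 3, 4], 5, [-1, -1, 0, 1, 0, 1], [42, 58, 47, 37, 9, 63], [(true, 5), (true, 6), (false, 0), (true, 9), (false, 3)]⟩,
   ⟨[3, 2, 1, 3, 4], 5, [1, 0, 0, -1, 1, 1], [58, 42, 46, 40, 18, 54], [(true, 9), (false, 2), (false, 1), (true, 5), (true, 10)]⟩,
   ⟨[3, 0, 2, 1, 3, 4], 7, [-1, 0, 1, -1, 1, 1], [43, 57, 46, 40, 7, 65], [(true, 8), (false, 2), (true, 11), (true, 7), (true, 12)]⟩,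
   ⟨[4, 3, 2, 1, 3, 4], 8, [1, 0, 0, 0, -1, 2], [59, 42, 46, 39, 18, 55], [(true, 12), (false, 2), (false, 1), (false, 3), (true, 8)]⟩,
   ⟨[2, 3, 0, 2, 1, 3, 4], 9, [0, 0, -1, 0, 1, 1], [39, 56, 46, 44, 4, 68], [(false, 1), (false, 2), (true, 9), (false, 0), (true, 13)]⟩,
   ⟨[4, 3, 0, 2, 1, 3, 4], 9, [-1, 0, 1, 0, -1, 2], [44, 57, 46, 39, 7, 66], [(true, 10), (false, 2), (true, 13), (false, 3), (true, 9)]⟩,
   ⟨[4, 2, 3, 0, 2, 1, 3, 4], 11, [0, 0, -1, 1, -1, 2], [40, 56, 46, 43, 4, 69], [(false, 1), (false, 2), (true, 12), (true, 14), (true, 11)]⟩,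
   ⟨[3, 4, 2, 3, 0, 2, 1, 3, 4], 13, [0, 1, 0, -1, 0, 2], [37, 56, 47, 42, 4, 70], [(false, 1), (true, 15), (false, 3), (true, 13), (false, 0)]⟩,
   ⟨[1, 3, 4, 2, 3, 0, 2, 1, 3, 4], 14, [0, -1, 0, 0, 0, 2], [37, 56, 39, 42, 4, 71], [(false, 1), (true, 14), (false, 3), (false, 2), (false, 0)]⟩]

/-- table -/
def weylE6L5 : List Rep :=
  [⟨[], 0, [0, 0, 0, 0, 0, 1], [56, 46, 42, 39, 37, 36], [(false, 0), (false, 1), (false, 2), (false, 3), (false, 4), (true, 1)]⟩,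
   ⟨[5], 0, [0, 0, 0, 0, 1, -1], [56, 46, 42, 39, 38, 35], [(false, 0), (false, 1), (false, 2), (false, 3), (true, 2), (true, 0)]⟩,
   ⟨[4, 5], 1, [0, 0, 0, 1, -1, 0], [56, 46, 42, 40, 36, 33], [(false, 0), (false, 1), (false, 2), (true, 3), (true, 1), (false, 4)]⟩,
   ⟨[3, 4, 5], 2, [0, 1, 1, -1, 0, 0], [56, 47, 43, 37, 36, 30], [(false, 0), (true, 4), (true, 5), (true, 2), (false, 3), (false, 4)]⟩,
   ⟨[1, 3, 4, 5], 3, [0, -1, 1, 0, 0, 0], [56, 39, 50, 37, 36, 22], [(false, 0), (true, 3), (true, 6), (false, 1), (false, 3), (false, 4)]⟩,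
   ⟨[2, 3, 4, 5], 3, [1, 1, -1, 0, 0, 0], [57, 50, 39, 37, 36, 26], [(true, 7), (true, 6), (true, 3), (false, 2), (false, 3), (false, 4)]⟩,
   ⟨[2, 1, 3, 4, 5], 4, [1, -1, -1, 1, 0, 0], [57, 43, 47, 37, 36, 19], [(true, 8), (true, 5), (true, 4), (true, 9), (false, 3), (false, 4)]⟩,
   ⟨[0, 2, 3, 4, 5], 5, [-1, 1, 0, 0, 0, 0], [42, 61, 39, 37, 36, 11], [(true, 5), (true, 8), (false, 0), (false, 2), (false, 3), (false, 4)]⟩,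
   ⟨[0, 2, 1, 3, 4, 5], 6, [-1, -1, 0, 1, 0, 0], [42, 58, 47, 37, 36, 8], [(true, 6), (true, 7), (false, 0), (true, 10), (false, 3), (false, 4)]⟩,
   ⟨[3, 2, 1, 3, 4, 5], 6, [1, 0, 0, -1, 1, 0], [58, 42, 46, 40, 36, 17], [(true, 10), (false, 2), (false, 1), (true, 6), (true, 11), (false, 4)]⟩,
   ⟨[3, 0, 2, 1, 3, 4, 5], 8, [-1, 0, 1, -1, 1, 0], [43, 57, 46, 40, 36, 6], [(true, 9), (false, 2), (true, 12), (true, 8), (true, 13), (false, 4)]⟩,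
   ⟨[4, 3, 2, 1, 3, 4, 5], 9, [1, 0, 0, 0, -1, 1], [59, 42, 46, 39, 38, 16], [(true, 13), (false, 2), (false, 1), (false, 3), (true, 9), (true, 14)]⟩,
   ⟨[2, 3, 0, 2, 1, 3, 4, 5], 10, [0, 0, -1, 0, 1, 0], [39, 56, 46, 44, 36, 3], [(false, 1), (false, 2), (true, 10), (false, 0), (true, 15), (false, 4)]⟩,
   ⟨[4, 3, 0, 2, 1, 3, 4, 5], 10, [-1, 0, 1, 0, -1, 1], [44, 57, 46, 39, 38, 5], [(true, 11), (false, 2), (true, 15), (false, 3), (true, 10), (true, 16)]⟩,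
   ⟨[5, 4, 3, 2, 1, 3, 4, 5], 11, [1, 0, 0, 0, 0, -1], [60, 42, 46, 39, 37, 16], [(true, 16), (false, 2), (false, 1), (false, 3), (false, 4), (true, 11)]⟩,
   ⟨[4, 2, 3, 0, 2, 1, 3, 4, 5], 12, [0, 0, -1, 1, -1, 1], [40, 56, 46, 43, 38, 2], [(false, 1), (false, 2), (true, 13), (true, 17), (true, 12), (true, 18)]⟩,
   ⟨[5, 4, 3, 0, 2, 1, 3, 4, 5], 13, [-1, 0, 1, 0, 0, -1], [45, 57, 46, 39, 37, 5], [(true, 14), (false, 2), (true, 18), (false, 3), (false, 4), (true, 13)]⟩,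
   ⟨[3, 4, 2, 3, 0, 2, 1, 3, 4, 5], 15, [0, 1, 0, -1, 0, 1], [37, 56, 47, 42, 41, 1], [(false, 1), (true, 19), (false, 3), (true, 15), (false, 0), (true, 20)]⟩,
   ⟨[5, 4, 2, 3, 0, 2, 1, 3, 4, 5], 15, [0, 0, -1, 1, 0, -1], [41, 56, 46, 43, 37, 2], [(false, 1), (false, 2), (true, 16), (true, 20), (false, 4), (true, 15)]⟩,
   ⟨[1, 3, 4, 2, 3, 0, 2, 1, 3, 4, 5], 17, [0, -1, 0, 0, 0, 1], [37, 56, 39, 42, 49, 0], [(false, 1), (true, 17), (false, 3), (false, 2), (false, 0), (true, 21)]⟩,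
   ⟨[5, 3, 4, 2, 3, 0, 2, 1, 3, 4, 5], 17, [0, 1, 0, -1, 1, -1], [38, 56, 47, 42, 40, 1], [(false, 1), (true, 21), (false, 3), (true, 18), (true, 22), (true, 17)]⟩,
   ⟨[5, 1, 3, 4, 2, 3, 0, 2, 1, 3, 4, 5], 19, [0, -1, 0, 0, 1, -1], [38, 56, 39, 42, 48, 0], [(false, 1), (true, 20), (false, 3), (false, 2), (true, 23), (true, 19)]⟩,
   ⟨[4, 5, 3, 4, 2, 3, 0, 2, 1, 3, 4, 5], 20, [0, 1, 0, 0, -1, 0], [36, 56, 48, 42, 39, 1], [(false, 1), (true, 23), (false, 3), (false, 4), (true, 20), (false, 0)]⟩,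
   ⟨[4, 5, 1, 3, 4, 2, 3, 0, 2, 1, 3, 4, 5], 21, [0, -1, 0, 1, -1, 0], [36, 56, 40, 42, 47, 0], [(false, 1), (true, 22), (false, 3), (true, 24), (true, 21), (false, 0)]⟩,
   ⟨[3, 4, 5, 1, 3, 4, 2, 3, 0, 2, 1, 3, 4, 5], 23, [0, 0, 1, -1, 0, 0], [36, 56, 37, 43, 46, 0], [(false, 1), (false, 4), (true, 25), (true, 23), (false, 2), (false, 0)]⟩,
   ⟨[2, 3, 4, 5, 1, 3, 4, 2, 3, 0, 2, 1, 3, 4, 5], 24, [1, 0, -1, 0, 0, 0], [36, 57, 37, 39, 46, 0], [(true, 26), (false, 4), (true, 24), (false, 3), (false, 2), (false, 0)]⟩,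
   ⟨[0, 2, 3, 4, 5, 1, 3, 4, 2, 3, 0, 2, 1, 3, 4, 5], 25, [-1, 0, 0, 0, 0, 0], [36, 42, 37, 39, 46, 0], [(true, 25), (false, 4), (false, 1), (false, 3), (false, 2), (false, 0)]⟩]

/-- table -/
def weylE6 : List (List Rep) :=
  [weylE6L0, weylE6L1, weylE6L2, weylE6L3, weylE6L4, weylE6L5]

end CfsgLib.Chev
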