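import Cfsg.Agent.Lib.Chev.WeylDef
/-! Generated coset representatives for the Weyl group of type E7. -/

set_option autoImplicit false
set_option maxRecDepth 100000

namespace CfsgLib.Chev

/-- table -/
def weylE7L0 : List Rep :=
  [⟨[], 0, [1, 0, 0, 0, 0, 0, 0], [93, 78, 73, 69, 66, 64, 63], [(true, 1)]⟩,
   ⟨[0], 0, [-1, 0, 1, 0, 0, 0, 0], [32, 78, 94, 69, 66, 64, 63], [(true, 0)]⟩]

/-- table -/
def weylE7L1 : List Rep :=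
  [⟨[], 0, [0, 1, 0, 0, 0, 0, 0], [93, 78, 73, 69, 66, 64, 63], [(false, 0), (true, 1)]⟩,
   ⟨[1], 0, [0, -1, 0, 1, 0, 0, 0], [93, 47, 73, 79, 66, 64, 63], [(false, 0), (true, 0)]⟩]

/-- table -/
def weylE7L2 : List Rep :=
  [⟨[], 0, [0, 0, 1, 0, 0, 0, 0], [93, 78, 73, 69, 66, 64, 63], [(false, 0), (false, 1), (true, 1)]⟩,
   ⟨[2], 0, [1, 0, -1, 1, 0, 0, 0], [94, 78, 52, 74, 66, 64, 63], [(true, 2), (false, 1), (true, 0)]⟩,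
   ⟨[0, 2], 1, [-1, 0, 0, 1, 0, 0, 0], [73, 78, 31, 95, 66, 64, 63], [(true, 1), (false, 1), (false, 0)]⟩]

/-- table -/
def weylE7L3 : List Rep :=
  [⟨[], 0, [0, 0, 0, 1, 0, 0, 0], [93, 78, 73, 69, 66, 64, 63], [(false, 0), (false, 1), (false, 2), (true, 1)]⟩,
   ⟨[3], 0, [0, 1, 1, -1, 1, 0, 0], [93, 79, 74, 56, 70, 64, 63], [(false, 0), (true, 2), (true, 3), (true, 0)]⟩,
   ⟨[1, 3], 1, [0, -1, 1, 0, 1, 0, 0], [93, 69, 83, 46, 80, 64, 63], [(false, 0), (true, 1), (true, 4), (false, 1)]⟩,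
   ⟨[2, 3], 1, [1, 1, -1, 0, 1, 0, 0], [94, 83, 69, 51, 75, 64, 63], [(true, 5), (true, 4), (true, 1), (false, 2)]⟩,
   ⟨[2, 1, 3], 2, [1, -1, -1, 1, 1, 0, 0], [94, 74, 79, 42, 84, 64, 63], [(true, 6), (true, 3), (true, 2), (true, 7)]⟩,
   ⟨[0, 2, 3], 3, [-1, 1, 0, 0, 1, 0, 0], [73, 99, 69, 30, 96, 64, 63], [(true, 3), (true, 6), (false, 0), (false, 2)]⟩,
   ⟨[0, 2, 1, 3], 4, [-1, -1, 0, 1, 1, 0, 0], [73, 95, 79, 26, 100, 64, 63], [(true, 4), (true, 5), (false, 0), (true, 8)]⟩,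
   ⟨[3, 2, 1, 3], 4, [1, 0, 0, -1, 2, 0, 0], [95, 73, 78, 42, 87, 64, 63], [(true, 8), (false, 2), (false, 1), (true, 4)]⟩,
   ⟨[3, 0, 2, 1, 3], 6, [-1, 0, 1, -1, 2, 0, 0], [74, 94, 78, 26, 103, 64, 63], [(true, 7), (false, 2), (true, 9), (true, 6)]⟩,
   ⟨[2, 3, 0, 2, 1, 3], 8, [0, 0, -1, 0, 2, 0, 0], [69, 93, 78, 26, 109, 64, 63], [(false, 1), (false, 2), (true, 8), (false, 0)]⟩]

/-- table -/
def weylE7L4 : List Rep :=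
  [⟨[], 0, [0, 0, 0, 0, 1, 0, 0], [93, 78, 73, 69, 66, 64, 63], [(false, 0), (false, 1), (false, 2), (false, 3), (true, 1)]⟩,
   ⟨[4], 0, [0, 0, 0, 1, -1, 1, 0], [93, 78, 73, 70, 59, 67, 63], [(false, 0), (false, 1), (false, 2), (true, 2), (true, 0)]⟩,
   ⟨[3, 4], 1, [0, 1, 1, -1, 0, 1, 0], [93, 79, 74, 66, 55, 71, 63], [(false, 0), (true, 3), (true, 4), (true, 1), (false, 3)]⟩,
   ⟨[1, 3, 4], 2, [0, -1, 1, 0, 0, 1, 0], [93, 69, 83, 66, 45, 81, 63], [(false, 0), (true, 2), (true, 5), (false, 1), (false, 3)]⟩,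
   ⟨[2, 3, 4], 2, [1, 1, -1, 0, 0, 1, 0], [94, 83, 69, 66, 50, 76, 63], [(true, 6), (true, 5), (true, 2), (false, 2), (false, 3)]⟩,
   ⟨[2, 1, 3, 4], 3, [1, -1, -1, 1, 0, 1, 0], [94, 74, 79, 66, 41, 85, 63], [(true, 7), (true, 4), (true, 3), (true, 8), (false, 3)]⟩,
   ⟨[0, 2, 3, 4], 4, [-1, 1, 0, 0, 0, 1, 0], [73, 99, 69, 66, 29, 97, 63], [(true, 4), (true, 7), (false, 0), (false, 2), (false, 3)]⟩,
   ⟨[0, 2, 1, 3, 4], 5, [-1, -1, 0, 1, 0, 1, 0], [73, 95, 79, 66, 25, 101, 63], [(true, 5), (true, 6), (false, 0), (true, 9), (false, 3)]⟩,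
   ⟨[3, 2, 1, 3, 4], 5, [1, 0, 0, -1, 1, 1, 0], [95, 73, 78, 70, 38, 88, 63], [(true, 9), (false, 2), (false, 1), (true, 5), (true, 10)]⟩,
   ⟨[3, 0, 2, 1, 3, 4], 7, [-1, 0, 1, -1, 1, 1, 0], [74, 94, 78, 70, 22, 104, 63], [(true, 8), (false, 2), (true, 11), (true, 7), (true, 12)]⟩,
   ⟨[4, 3, 2, 1, 3, 4], 8, [1, 0, 0, 0, -1, 2, 0], [96, 73, 78, 69, 38, 90, 63], [(true, 12), (false, 2), (false, 1), (false, 3), (true, 8)]⟩,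
   ⟨[2, 3, 0, 2, 1, 3, 4], 9, [0, 0, -1, 0, 1, 1, 0], [69, 93, 78, 75, 16, 110, 63], [(false, 1), (false, 2), (true, 9), (false, 0), (true, 13)]⟩,
   ⟨[4, 3, 0, 2, 1, 3, 4], 9, [-1, 0, 1, 0, -1, 2, 0], [75, 94, 78, 69, 22, 106, 63], [(true, 10), (false, 2), (true, 13), (false, 3), (true, 9)]⟩,
   ⟨[4, 2, 3, 0, 2, 1, 3, 4], 11, [0, 0, -1, 1, -1, 2, 0], [70, 93, 78, 74, 16, 112, 63], [(false, 1), (false, 2), (true, 12), (true, 14), (true, 11)]⟩,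
   ⟨[3, 4, 2, 3, 0, 2, 1, 3, 4], 13, [0, 1, 0, -1, 0, 2, 0], [66, 93, 79, 73, 16, 115, 63], [(false, 1), (true, 15), (false, 3), (true, 13), (false, 0)]⟩,
   ⟨[1, 3, 4, 2, 3, 0, 2, 1, 3, 4], 14, [0, -1, 0, 0, 0, 2, 0], [66, 93, 69, 73, 16, 119, 63], [(false, 1), (true, 14), (false, 3), (false, 2), (false, 0)]⟩]

/-- table -/
def weylE7L5 : List Rep :=
  [⟨[], 0, [0, 0, 0, 0, 0, 1, 0], [93, 78, 73, 69, 66, 64, 63], [(false, 0), (false, 1), (false, 2), (false, 3), (false, 4), (true, 1)]⟩,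
   ⟨[5], 0, [0, 0, 0, 0, 1, -1, 1], [93, 78, 73, 69, 67, 61, 65], [(false, 0), (false, 1), (false, 2), (false, 3), (true, 2), (true, 0)]⟩,
   ⟨[4, 5], 1, [0, 0, 0, 1, -1, 0, 1], [93, 78, 73, 70, 64, 58, 68], [(false, 0), (false, 1), (false, 2), (true, 3), (true, 1), (false, 4)]⟩,
   ⟨[3, 4, 5], 2, [0, 1, 1, -1, 0, 0, 1], [93, 79, 74, 66, 64, 54, 72], [(false, 0), (true, 4), (true, 5), (true, 2), (false, 3), (false, 4)]⟩,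
   ⟨[1, 3, 4, 5], 3, [0, -1, 1, 0, 0, 0, 1], [93, 69, 83, 66, 64, 44, 82], [(false, 0), (true, 3), (true, 6), (false, 1), (false, 3), (false, 4)]⟩,
   ⟨[2, 3, 4, 5], 3, [1, 1, -1, 0, 0, 0, 1], [94, 83, 69, 66, 64, 49, 77], [(true, 7), (true, 6), (true, 3), (false, 2), (false, 3), (false, 4)]⟩,
   ⟨[2, 1, 3, 4, 5], 4, [1, -1, -1, 1, 0, 0, 1], [94, 74, 79, 66, 64, 40, 86], [(true, 8), (true, 5), (true, 4), (true, 9), (false, 3), (false, 4)]⟩,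
   ⟨[0, 2, 3, 4, 5], 5, [-1, 1, 0, 0, 0, 0, 1], [73, 99, 69, 66, 64, 28, 98], [(true, 5), (true, 8), (false, 0), (false, 2), (false, 3), (false, 4)]⟩,
   ⟨[0, 2, 1, 3, 4, 5], 6, [-1, -1, 0, 1, 0, 0, 1], [73, 95, 79, 66, 64, 24, 102], [(true, 6), (true, 7), (false, 0), (true, 10), (false, 3), (false, 4)]⟩,
   ⟨[3, 2, 1, 3, 4, 5], 6, [1, 0, 0, -1, 1, 0, 1], [95, 73, 78, 70, 64, 37, 89], [(true, 10), (false, 2), (false, 1), (true, 6), (true, 11), (false, 4)]⟩,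
   ⟨[3, 0, 2, 1, 3, 4, 5], 8, [-1, 0, 1, -1, 1, 0, 1], [74, 94, 78, 70, 64, 21, 105], [(true, 9), (false, 2), (true, 12), (true, 8), (true, 13), (false, 4)]⟩,
   ⟨[4, 3, 2, 1, 3, 4, 5], 9, [1, 0, 0, 0, -1, 1, 1], [96, 73, 78, 69, 67, 35, 91], [(true, 13), (false, 2), (false, 1), (false, 3), (true, 9), (true, 14)]⟩,
   ⟨[2, 3, 0, 2, 1, 3, 4, 5], 10, [0, 0, -1, 0, 1, 0, 1], [69, 93, 78, 75, 64, 15, 111], [(false, 1), (false, 2), (true, 10), (false, 0), (true, 15), (false, 4)]⟩,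
   ⟨[4, 3, 0, 2, 1, 3, 4, 5], 10, [-1, 0, 1, 0, -1, 1, 1], [75, 94, 78, 69, 67, 19, 107], [(true, 11), (false, 2), (true, 15), (false, 3), (true, 10), (true, 16)]⟩,
   ⟨[5, 4, 3, 2, 1, 3, 4, 5], 11, [1, 0, 0, 0, 0, -1, 2], [97, 73, 78, 69, 66, 35, 92], [(true, 16), (false, 2), (false, 1), (false, 3), (false, 4), (true, 11)]⟩,
   ⟨[4, 2, 3, 0, 2, 1, 3, 4, 5], 12, [0, 0, -1, 1, -1, 1, 1], [70, 93, 78, 74, 67, 13, 113], [(false, 1), (false, 2), (true, 13), (true, 17), (true, 12), (true, 18)]⟩,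
   ⟨[5, 4, 3, 0, 2, 1, 3, 4, 5], 13, [-1, 0, 1, 0, 0, -1, 2], [76, 94, 78, 69, 66, 19, 108], [(true, 14), (false, 2), (true, 18), (false, 3), (false, 4), (true, 13)]⟩,
   ⟨[3, 4, 2, 3, 0, 2, 1, 3, 4, 5], 15, [0, 1, 0, -1, 0, 1, 1], [66, 93, 79, 73, 71, 10, 116], [(false, 1), (true, 19), (false, 3), (true, 15), (false, 0), (true, 20)]⟩,
   ⟨[5, 4, 2, 3, 0, 2, 1, 3, 4, 5], 15, [0, 0, -1, 1, 0, -1, 2], [71, 93, 78, 74, 66, 13, 114], [(false, 1), (false, 2), (true, 16), (true, 20), (false, 4), (true, 15)]⟩,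
   ⟨[1, 3, 4, 2, 3, 0, 2, 1, 3, 4, 5], 17, [0, -1, 0, 0, 0, 1, 1], [66, 93, 69, 73, 81, 6, 120], [(false, 1), (true, 17), (false, 3), (false, 2), (false, 0), (true, 21)]⟩,
   ⟨[5, 3, 4, 2, 3, 0, 2, 1, 3, 4, 5], 17, [0, 1, 0, -1, 1, -1, 2], [67, 93, 79, 73, 70, 10, 117], [(false, 1), (true, 21), (false, 3), (true, 18), (true, 22), (true, 17)]⟩,
   ⟨[5, 1, 3, 4, 2, 3, 0, 2, 1, 3, 4, 5], 19, [0, -1, 0, 0, 1, -1, 2], [67, 93, 69, 73, 80, 6, 121], [(false, 1), (true, 20), (false, 3), (false, 2), (true, 23), (true, 19)]⟩,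
   ⟨[4, 5, 3, 4, 2, 3, 0, 2, 1, 3, 4, 5], 20, [0, 1, 0, 0, -1, 0, 2], [64, 93, 80, 73, 69, 10, 118], [(false, 1), (true, 23), (false, 3), (false, 4), (true, 20), (false, 0)]⟩,
   ⟨[4, 5, 1, 3, 4, 2, 3, 0, 2, 1, 3, 4, 5], 21, [0, -1, 0, 1, -1, 0, 2], [64, 93, 70, 73, 79, 6, 122], [(false, 1), (true, 22), (false, 3), (true, 24), (true, 21), (false, 0)]⟩,
   ⟨[3, 4, 5, 1, 3, 4, 2, 3, 0, 2, 1, 3, 4, 5], 23, [0, 0, 1, -1, 0, 0, 2], [64, 93, 66, 74, 78, 6, 123], [(false, 1), (false, 4), (true, 25), (true, 23), (false, 2), (false, 0)]⟩,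
   ⟨[2, 3, 4, 5, 1, 3, 4, 2, 3, 0, 2, 1, 3, 4, 5], 24, [1, 0, -1, 0, 0, 0, 2], [64, 94, 66, 69, 78, 6, 124], [(true, 26), (false, 4), (true, 24), (false, 3), (false, 2), (false, 0)]⟩,
   ⟨[0, 2, 3, 4, 5, 1, 3, 4, 2, 3, 0, 2, 1, 3, 4, 5], 25, [-1, 0, 0, 0, 0, 0, 2], [64, 73, 66, 69, 78, 6, 125], [(true, 25), (false, 4), (false, 1), (false, 3), (false, 2), (false, 0)]⟩]

/-- table -/
def weylE7L6 : List Rep :=
  [⟨[], 0, [0, 0, 0, 0, 0, 0, 1], [93, 78, 73, 69, 66, 64, 63], [(false, 0), (false, 1), (false, 2), (false, 3), (false, 4), (false, 5), (true, 1)]⟩,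
   ⟨[6], 0, [0, 0, 0, 0, 0, 1, -1], [93, 78, 73, 69, 66, 65, 62], [(false, 0), (false, 1), (false, 2), (false, 3), (false, 4), (true, 2), (true, 0)]⟩,
   ⟨[5, 6], 1, [0, 0, 0, 0, 1, -1, 0], [93, 78, 73, 69, 67, 63, 60], [(false, 0), (false, 1), (false, 2), (false, 3), (true, 3), (true, 1), (false, 5)]⟩,
   ⟨[4, 5, 6], 2, [0, 0, 0, 1, -1, 0, 0], [93, 78, 73, 70, 64, 63, 57], [(false, 0), (false, 1), (false, 2), (true, 4), (true, 2), (false, 4), (false, 5)]⟩,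
   ⟨[3, 4, 5, 6], 3, [0, 1, 1, -1, 0, 0, 0], [93, 79, 74, 66, 64, 63, 53], [(false, 0), (true, 5), (true, 6), (true, 3), (false, 3), (false, 4), (false, 5)]⟩,
   ⟨[1, 3, 4, 5, 6], 4, [0, -1, 1, 0, 0, 0, 0], [93, 69, 83, 66, 64, 63, 43], [(false, 0), (true, 4), (true, 7), (false, 1), (false, 3), (false, 4), (false, 5)]⟩,
   ⟨[2, 3, 4, 5, 6], 4, [1, 1, -1, 0, 0, 0, 0], [94, 83, 69, 66, 64, 63, 48], [(true, 8), (true, 7), (true, 4), (false, 2), (false, 3), (false, 4), (false, 5)]⟩,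
   ⟨[2, 1, 3, 4, 5, 6], 5, [1, -1, -1, 1, 0, 0, 0], [94, 74, 79, 66, 64, 63, 39], [(true, 9), (true, 6), (true, 5), (true, 10), (false, 3), (false, 4), (false, 5)]⟩,
   ⟨[0, 2, 3, 4, 5, 6], 6, [-1, 1, 0, 0, 0, 0, 0], [73, 99, 69, 66, 64, 63, 27], [(true, 6), (true, 9), (false, 0), (false, 2), (false, 3), (false, 4), (false, 5)]⟩,
   ⟨[0, 2, 1, 3, 4, 5, 6], 7, [-1, -1, 0, 1, 0, 0, 0], [73, 95, 79, 66, 64, 63, 23], [(true, 7), (true, 8), (false, 0), (true, 11), (false, 3), (false, 4), (false, 5)]⟩,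
   ⟨[3, 2, 1, 3, 4, 5, 6], 7, [1, 0, 0, -1, 1, 0, 0], [95, 73, 78, 70, 64, 63, 36], [(true, 11), (false, 2), (false, 1), (true, 7), (true, 12), (false, 4), (false, 5)]⟩,
   ⟨[3, 0, 2, 1, 3, 4, 5, 6], 9, [-1, 0, 1, -1, 1, 0, 0], [74, 94, 78, 70, 64, 63, 20], [(true, 10), (false, 2), (true, 13), (true, 9), (true, 14), (false, 4), (false, 5)]⟩,
   ⟨[4, 3, 2, 1, 3, 4, 5, 6], 10, [1, 0, 0, 0, -1, 1, 0], [96, 73, 78, 69, 67, 63, 34], [(true, 14), (false, 2), (false, 1), (false, 3), (true, 10), (true, 15), (false, 5)]⟩,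
   ⟨[2, 3, 0, 2, 1, 3, 4, 5, 6], 11, [0, 0, -1, 0, 1, 0, 0], [69, 93, 78, 75, 64, 63, 14], [(false, 1), (false, 2), (true, 11), (false, 0), (true, 16), (false, 4), (false, 5)]⟩,
   ⟨[4, 3, 0, 2, 1, 3, 4, 5, 6], 11, [-1, 0, 1, 0, -1, 1, 0], [75, 94, 78, 69, 67, 63, 18], [(true, 12), (false, 2), (true, 16), (false, 3), (true, 11), (true, 17), (false, 5)]⟩,
   ⟨[5, 4, 3, 2, 1, 3, 4, 5, 6], 12, [1, 0, 0, 0, 0, -1, 1], [97, 73, 78, 69, 66, 65, 33], [(true, 17), (false, 2), (false, 1), (false, 3), (false, 4), (true, 12), (true, 18)]⟩,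
   ⟨[4, 2, 3, 0, 2, 1, 3, 4, 5, 6], 13, [0, 0, -1, 1, -1, 1, 0], [70, 93, 78, 74, 67, 63, 12], [(false, 1), (false, 2), (true, 14), (true, 19), (true, 13), (true, 20), (false, 5)]⟩,
   ⟨[5, 4, 3, 0, 2, 1, 3, 4, 5, 6], 14, [-1, 0, 1, 0, 0, -1, 1], [76, 94, 78, 69, 66, 65, 17], [(true, 15), (false, 2), (true, 20), (false, 3), (false, 4), (true, 14), (true, 21)]⟩,
   ⟨[6, 5, 4, 3, 2, 1, 3, 4, 5, 6], 15, [1, 0, 0, 0, 0, 0, -1], [98, 73, 78, 69, 66, 64, 33], [(true, 21), (false, 2), (false, 1), (false, 3), (false, 4), (false, 5), (true, 15)]⟩,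
   ⟨[3, 4, 2, 3, 0, 2, 1, 3, 4, 5, 6], 16, [0, 1, 0, -1, 0, 1, 0], [66, 93, 79, 73, 71, 63, 9], [(false, 1), (true, 22), (false, 3), (true, 16), (false, 0), (true, 23), (false, 5)]⟩,
   ⟨[5, 4, 2, 3, 0, 2, 1, 3, 4, 5, 6], 16, [0, 0, -1, 1, 0, -1, 1], [71, 93, 78, 74, 66, 65, 11], [(false, 1), (false, 2), (true, 17), (true, 23), (false, 4), (true, 16), (true, 24)]⟩,
   ⟨[6, 5, 4, 3, 0, 2, 1, 3, 4, 5, 6], 17, [-1, 0, 1, 0, 0, 0, -1], [77, 94, 78, 69, 66, 64, 17], [(true, 18), (false, 2), (true, 24), (false, 3), (false, 4), (false, 5), (true, 17)]⟩,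
   ⟨[1, 3, 4, 2, 3, 0, 2, 1, 3, 4, 5, 6], 19, [0, -1, 0, 0, 0, 1, 0], [66, 93, 69, 73, 81, 63, 5], [(false, 1), (true, 19), (false, 3), (false, 2), (false, 0), (true, 25), (false, 5)]⟩,
   ⟨[5, 3, 4, 2, 3, 0, 2, 1, 3, 4, 5, 6], 19, [0, 1, 0, -1, 1, -1, 1], [67, 93, 79, 73, 70, 65, 8], [(false, 1), (true, 25), (false, 3), (true, 20), (true, 26), (true, 19), (true, 27)]⟩,
   ⟨[6, 5, 4, 2, 3, 0, 2, 1, 3, 4, 5, 6], 20, [0, 0, -1, 1, 0, 0, -1], [72, 93, 78, 74, 66, 64, 11], [(false, 1), (false, 2), (true, 21), (true, 27), (false, 4), (false, 5), (true, 20)]⟩,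
   ⟨[5, 1, 3, 4, 2, 3, 0, 2, 1, 3, 4, 5, 6], 22, [0, -1, 0, 0, 1, -1, 1], [67, 93, 69, 73, 80, 65, 4], [(false, 1), (true, 23), (false, 3), (false, 2), (true, 28), (true, 22), (true, 29)]⟩,
   ⟨[4, 5, 3, 4, 2, 3, 0, 2, 1, 3, 4, 5, 6], 23, [0, 1, 0, 0, -1, 0, 1], [64, 93, 80, 73, 69, 68, 7], [(false, 1), (true, 28), (false, 3), (false, 4), (true, 23), (false, 0), (true, 30)]⟩,
   ⟨[6, 5, 3, 4, 2, 3, 0, 2, 1, 3, 4, 5, 6], 23, [0, 1, 0, -1, 1, 0, -1], [68, 93, 79, 73, 70, 64, 8], [(false, 1), (true, 29), (false, 3), (true, 24), (true, 30), (false, 5), (true, 23)]⟩,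
   ⟨[4, 5, 1, 3, 4, 2, 3, 0, 2, 1, 3, 4, 5, 6], 25, [0, -1, 0, 1, -1, 0, 1], [64, 93, 70, 73, 79, 68, 3], [(false, 1), (true, 26), (false, 3), (true, 31), (true, 25), (false, 0), (true, 32)]⟩,
   ⟨[6, 5, 1, 3, 4, 2, 3, 0, 2, 1, 3, 4, 5, 6], 25, [0, -1, 0, 0, 1, 0, -1], [68, 93, 69, 73, 80, 64, 4], [(false, 1), (true, 27), (false, 3), (false, 2), (true, 32), (false, 5), (true, 25)]⟩,
   ⟨[6, 4, 5, 3, 4, 2, 3, 0, 2, 1, 3, 4, 5, 6], 26, [0, 1, 0, 0, -1, 1, -1], [65, 93, 80, 73, 69, 67, 7], [(false, 1), (true, 32), (false, 3), (false, 4), (true, 27), (true, 33), (true, 26)]⟩,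
   ⟨[3, 4, 5, 1, 3, 4, 2, 3, 0, 2, 1, 3, 4, 5, 6], 28, [0, 0, 1, -1, 0, 0, 1], [64, 93, 66, 74, 78, 72, 2], [(false, 1), (false, 4), (true, 34), (true, 28), (false, 2), (false, 0), (true, 35)]⟩,
   ⟨[6, 4, 5, 1, 3, 4, 2, 3, 0, 2, 1, 3, 4, 5, 6], 28, [0, -1, 0, 1, -1, 1, -1], [65, 93, 70, 73, 79, 67, 3], [(false, 1), (true, 30), (false, 3), (true, 35), (true, 29), (true, 36), (true, 28)]⟩,
   ⟨[5, 6, 4, 5, 3, 4, 2, 3, 0, 2, 1, 3, 4, 5, 6], 30, [0, 1, 0, 0, 0, -1, 0], [63, 93, 81, 73, 69, 66, 7], [(false, 1), (true, 36), (false, 3), (false, 4), (false, 5), (true, 30), (false, 0)]⟩,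
   ⟨[2, 3, 4, 5, 1, 3, 4, 2, 3, 0, 2, 1, 3, 4, 5, 6], 31, [1, 0, -1, 0, 0, 0, 1], [64, 94, 66, 69, 78, 77, 1], [(true, 37), (false, 4), (true, 31), (false, 3), (false, 2), (false, 0), (true, 38)]⟩,
   ⟨[6, 3, 4, 5, 1, 3, 4, 2, 3, 0, 2, 1, 3, 4, 5, 6], 31, [0, 0, 1, -1, 0, 1, -1], [65, 93, 66, 74, 78, 71, 2], [(false, 1), (false, 4), (true, 38), (true, 32), (false, 2), (true, 39), (true, 31)]⟩,
   ⟨[5, 6, 4, 5, 1, 3, 4, 2, 3, 0, 2, 1, 3, 4, 5, 6], 32, [0, -1, 0, 1, 0, -1, 0], [63, 93, 71, 73, 79, 66, 3], [(false, 1), (true, 33), (false, 3), (true, 39), (false, 5), (true, 32), (false, 0)]⟩,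
   ⟨[0, 2, 3, 4, 5, 1, 3, 4, 2, 3, 0, 2, 1, 3, 4, 5, 6], 34, [-1, 0, 0, 0, 0, 0, 1], [64, 73, 66, 69, 78, 98, 0], [(true, 34), (false, 4), (false, 1), (false, 3), (false, 2), (false, 0), (true, 40)]⟩,
   ⟨[6, 2, 3, 4, 5, 1, 3, 4, 2, 3, 0, 2, 1, 3, 4, 5, 6], 34, [1, 0, -1, 0, 0, 1, -1], [65, 94, 66, 69, 78, 76, 1], [(true, 40), (false, 4), (true, 35), (false, 3), (false, 2), (true, 41), (true, 34)]⟩,
   ⟨[5, 6, 3, 4, 5, 1, 3, 4, 2, 3, 0, 2, 1, 3, 4, 5, 6], 35, [0, 0, 1, -1, 1, -1, 0], [63, 93, 67, 74, 78, 70, 2], [(false, 1), (false, 4), (true, 41), (true, 36), (true, 42), (true, 35), (false, 0)]⟩,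
   ⟨[6, 0, 2, 3, 4, 5, 1, 3, 4, 2, 3, 0, 2, 1, 3, 4, 5, 6], 37, [-1, 0, 0, 0, 0, 1, -1], [65, 73, 66, 69, 78, 97, 0], [(true, 38), (false, 4), (false, 1), (false, 3), (false, 2), (true, 43), (true, 37)]⟩,
   ⟨[5, 6, 2, 3, 4, 5, 1, 3, 4, 2, 3, 0, 2, 1, 3, 4, 5, 6], 38, [1, 0, -1, 0, 1, -1, 0], [63, 94, 67, 69, 78, 75, 1], [(true, 43), (false, 4), (true, 39), (false, 3), (true, 44), (true, 38), (false, 0)]⟩,
   ⟨[4, 5, 6, 3, 4, 5, 1, 3, 4, 2, 3, 0, 2, 1, 3, 4, 5, 6], 39, [0, 0, 1, 0, -1, 0, 0], [63, 93, 64, 75, 78, 69, 2], [(false, 1), (false, 4), (true, 44), (false, 5), (true, 39), (false, 2), (false, 0)]⟩,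
   ⟨[5, 6, 0, 2, 3, 4, 5, 1, 3, 4, 2, 3, 0, 2, 1, 3, 4, 5, 6], 40, [-1, 0, 0, 0, 1, -1, 0], [63, 73, 67, 69, 78, 96, 0], [(true, 41), (false, 4), (false, 1), (false, 3), (true, 45), (true, 40), (false, 0)]⟩,
   ⟨[4, 5, 6, 2, 3, 4, 5, 1, 3, 4, 2, 3, 0, 2, 1, 3, 4, 5, 6], 41, [1, 0, -1, 1, -1, 0, 0], [63, 94, 64, 70, 78, 74, 1], [(true, 45), (false, 4), (true, 42), (true, 46), (true, 41), (false, 2), (false, 0)]⟩,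
   ⟨[4, 5, 6, 0, 2, 3, 4, 5, 1, 3, 4, 2, 3, 0, 2, 1, 3, 4, 5, 6], 43, [-1, 0, 0, 1, -1, 0, 0], [63, 73, 64, 70, 78, 95, 0], [(true, 44), (false, 4), (false, 1), (true, 47), (true, 43), (false, 2), (false, 0)]⟩,
   ⟨[3, 4, 5, 6, 2, 3, 4, 5, 1, 3, 4, 2, 3, 0, 2, 1, 3, 4, 5, 6], 44, [1, 1, 0, -1, 0, 0, 0], [63, 95, 64, 66, 79, 73, 1], [(true, 47), (true, 48), (false, 5), (true, 44), (false, 3), (false, 2), (false, 0)]⟩,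
   ⟨[3, 4, 5, 6, 0, 2, 3, 4, 5, 1, 3, 4, 2, 3, 0, 2, 1, 3, 4, 5, 6], 45, [-1, 1, 1, -1, 0, 0, 0], [63, 74, 64, 66, 79, 94, 0], [(true, 46), (true, 49), (true, 50), (true, 45), (false, 3), (false, 2), (false, 0)]⟩,
   ⟨[1, 3, 4, 5, 6, 2, 3, 4, 5, 1, 3, 4, 2, 3, 0, 2, 1, 3, 4, 5, 6], 46, [1, -1, 0, 0, 0, 0, 0], [63, 99, 64, 66, 69, 73, 1], [(true, 49), (true, 46), (false, 5), (false, 4), (false, 3), (false, 2), (false, 0)]⟩,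
   ⟨[1, 3, 4, 5, 6, 0, 2, 3, 4, 5, 1, 3, 4, 2, 3, 0, 2, 1, 3, 4, 5, 6], 47, [-1, -1, 1, 0, 0, 0, 0], [63, 83, 64, 66, 69, 94, 0], [(true, 48), (true, 47), (true, 51), (false, 4), (false, 3), (false, 2), (false, 0)]⟩,
   ⟨[2, 3, 4, 5, 6, 0, 2, 3, 4, 5, 1, 3, 4, 2, 3, 0, 2, 1, 3, 4, 5, 6], 47, [0, 1, -1, 0, 0, 0, 0], [63, 69, 64, 66, 83, 93, 0], [(false, 5), (true, 51), (true, 47), (false, 1), (false, 3), (false, 2), (false, 0)]⟩,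
   ⟨[2, 1, 3, 4, 5, 6, 0, 2, 3, 4, 5, 1, 3, 4, 2, 3, 0, 2, 1, 3, 4, 5, 6], 49, [0, -1, -1, 1, 0, 0, 0], [63, 79, 64, 66, 74, 93, 0], [(false, 5), (true, 50), (true, 49), (true, 52), (false, 3), (false, 2), (false, 0)]⟩,
   ⟨[3, 2, 1, 3, 4, 5, 6, 0, 2, 3, 4, 5, 1, 3, 4, 2, 3, 0, 2, 1, 3, 4, 5, 6], 51, [0, 0, 0, -1, 1, 0, 0], [63, 78, 64, 70, 73, 93, 0], [(false, 5), (false, 1), (false, 4), (true, 51), (true, 53), (false, 2), (false, 0)]⟩,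
   ⟨[4, 3, 2, 1, 3, 4, 5, 6, 0, 2, 3, 4, 5, 1, 3, 4, 2, 3, 0, 2, 1, 3, 4, 5, 6], 52, [0, 0, 0, 0, -1, 1, 0], [63, 78, 67, 69, 73, 93, 0], [(false, 5), (false, 1), (false, 4), (false, 3), (true, 52), (true, 54), (false, 0)]⟩,
   ⟨[5, 4, 3, 2, 1, 3, 4, 5, 6, 0, 2, 3, 4, 5, 1, 3, 4, 2, 3, 0, 2, 1, 3, 4, 5, 6], 53, [0, 0, 0, 0, 0, -1, 1], [65, 78, 66, 69, 73, 93, 0], [(false, 5), (false, 1), (false, 4), (false, 3), (false, 2), (true, 53), (true, 55)]⟩,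
   ⟨[6, 5, 4, 3, 2, 1, 3, 4, 5, 6, 0, 2, 3, 4, 5, 1, 3, 4, 2, 3, 0, 2, 1, 3, 4, 5, 6], 54, [0, 0, 0, 0, 0, 0, -1], [64, 78, 66, 69, 73, 93, 0], [(false, 5), (false, 1), (false, 4), (false, 3), (false, 2), (false, 0), (true, 54)]⟩]

/-- table -/
def weylE7 : List (List Rep) :=
  [weylE7L0, weylE7L1, weylE7L2, weylE7L3, weylE7L4, weylE7L5, weylE7L6]

end CfsgLib.Chev
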