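import Cfsg.Agent.Lib.Chev.WeylDef
/-! Generated coset representatives for the Weyl group of type E8. -/

set_option autoImplicit false
set_option maxRecDepth 100000

namespace CfsgLib.Chev

/-- table -/
def weylE8L0 : List Rep :=
  [⟨[], 0, [1, 0, 0, 0, 0, 0, 0, 0], [162, 141, 135, 130, 126, 123, 121, 120], [(true, 1)]⟩,
   ⟨[0], 0, [-1, 0, 1, 0, 0, 0, 0, 0], [77, 141, 163, 130, 126, 123, 121, 120], [(true, 0)]⟩]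

/-- table -/
def weylE8L1 : List Rep :=
  [⟨[], 0, [0, 1, 0, 0, 0, 0, 0, 0], [162, 141, 135, 130, 126, 123, 121, 120], [(false, 0), (true, 1)]⟩,
   ⟨[1], 0, [0, -1, 0, 1, 0, 0, 0, 0], [162, 98, 135, 142, 126, 123, 121, 120], [(false, 0), (true, 0)]⟩]

/-- table -/
def weylE8L2 : List Rep :=
  [⟨[], 0, [0, 0, 1, 0, 0, 0, 0, 0], [162, 141, 135, 130, 126, 123, 121, 120], [(false, 0), (false, 1), (true, 1)]⟩,
   ⟨[2], 0, [1, 0, -1, 1, 0, 0, 0, 0], [163, 141, 104, 136, 126, 123, 121, 120], [(true, 2), (false, 1), (true, 0)]⟩,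
   ⟨[0, 2], 1, [-1, 0, 0, 1, 0, 0, 0, 0], [135, 141, 76, 164, 126, 123, 121, 120], [(true, 1), (false, 1), (false, 0)]⟩]

/-- table -/
def weylE8L3 : List Rep :=
  [⟨[], 0, [0, 0, 0, 1, 0, 0, 0, 0], [162, 141, 135, 130, 126, 123, 121, 120], [(false, 0), (false, 1), (false, 2), (true, 1)]⟩,
   ⟨[3], 0, [0, 1, 1, -1, 1, 0, 0, 0], [162, 142, 136, 109, 131, 123, 121, 120], [(false, 0), (true, 2), (true, 3), (true, 0)]⟩,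
   ⟨[1, 3], 1, [0, -1, 1, 0, 1, 0, 0, 0], [162, 130, 147, 97, 143, 123, 121, 120], [(false, 0), (true, 1), (true, 4), (false, 1)]⟩,
   ⟨[2, 3], 1, [1, 1, -1, 0, 1, 0, 0, 0], [163, 147, 130, 103, 137, 123, 121, 120], [(true, 5), (true, 4), (true, 1), (false, 2)]⟩,
   ⟨[2, 1, 3], 2, [1, -1, -1, 1, 1, 0, 0, 0], [163, 136, 142, 92, 148, 123, 121, 120], [(true, 6), (true, 3), (true, 2), (true, 7)]⟩,
   ⟨[0, 2, 3], 3, [-1, 1, 0, 0, 1, 0, 0, 0], [135, 169, 130, 75, 165, 123, 121, 120], [(true, 3), (true, 6), (false, 0), (false, 2)]⟩,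
   ⟨[0, 2, 1, 3], 4, [-1, -1, 0, 1, 1, 0, 0, 0], [135, 164, 142, 70, 170, 123, 121, 120], [(true, 4), (true, 5), (false, 0), (true, 8)]⟩,
   ⟨[3, 2, 1, 3], 4, [1, 0, 0, -1, 2, 0, 0, 0], [164, 135, 141, 92, 152, 123, 121, 120], [(true, 8), (false, 2), (false, 1), (true, 4)]⟩,
   ⟨[3, 0, 2, 1, 3], 6, [-1, 0, 1, -1, 2, 0, 0, 0], [136, 163, 141, 70, 174, 123, 121, 120], [(true, 7), (false, 2), (true, 9), (true, 6)]⟩,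
   ⟨[2, 3, 0, 2, 1, 3], 8, [0, 0, -1, 0, 2, 0, 0, 0], [130, 162, 141, 70, 184, 123, 121, 120], [(false, 1), (false, 2), (true, 8), (false, 0)]⟩]

/-- table -/
def weylE8L4 : List Rep :=
  [⟨[], 0, [0, 0, 0, 0, 1, 0, 0, 0], [162, 141, 135, 130, 126, 123, 121, 120], [(false, 0), (false, 1), (false, 2), (false, 3), (true, 1)]⟩,
   ⟨[4], 0, [0, 0, 0, 1, -1, 1, 0, 0], [162, 141, 135, 131, 113, 127, 121, 120], [(false, 0), (false, 1), (false, 2), (true, 2), (true, 0)]⟩,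
   ⟨[3, 4], 1, [0, 1, 1, -1, 0, 1, 0, 0], [162, 142, 136, 126, 108, 132, 121, 120], [(false, 0), (true, 3), (true, 4), (true, 1), (false, 3)]⟩,
   ⟨[1, 3, 4], 2, [0, -1, 1, 0, 0, 1, 0, 0], [162, 130, 147, 126, 96, 144, 121, 120], [(false, 0), (true, 2), (true, 5), (false, 1), (false, 3)]⟩,
   ⟨[2, 3, 4], 2, [1, 1, -1, 0, 0, 1, 0, 0], [163, 147, 130, 126, 102, 138, 121, 120], [(true, 6), (true, 5), (true, 2), (false, 2), (false, 3)]⟩,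
   ⟨[2, 1, 3, 4], 3, [1, -1, -1, 1, 0, 1, 0, 0], [163, 136, 142, 126, 91, 149, 121, 120], [(true, 7), (true, 4), (true, 3), (true, 8), (false, 3)]⟩,
   ⟨[0, 2, 3, 4], 4, [-1, 1, 0, 0, 0, 1, 0, 0], [135, 169, 130, 126, 74, 166, 121, 120], [(true, 4), (true, 7), (false, 0), (false, 2), (false, 3)]⟩,
   ⟨[0, 2, 1, 3, 4], 5, [-1, -1, 0, 1, 0, 1, 0, 0], [135, 164, 142, 126, 69, 171, 121, 120], [(true, 5), (true, 6), (false, 0), (true, 9), (false, 3)]⟩,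
   ⟨[3, 2, 1, 3, 4], 5, [1, 0, 0, -1, 1, 1, 0, 0], [164, 135, 141, 131, 87, 153, 121, 120], [(true, 9), (false, 2), (false, 1), (true, 5), (true, 10)]⟩,
   ⟨[3, 0, 2, 1, 3, 4], 7, [-1, 0, 1, -1, 1, 1, 0, 0], [136, 163, 141, 131, 65, 175, 121, 120], [(true, 8), (false, 2), (true, 11), (true, 7), (true, 12)]⟩,
   ⟨[4, 3, 2, 1, 3, 4], 8, [1, 0, 0, 0, -1, 2, 0, 0], [165, 135, 141, 130, 87, 156, 121, 120], [(true, 12), (false, 2), (false, 1), (false, 3), (true, 8)]⟩,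
   ⟨[2, 3, 0, 2, 1, 3, 4], 9, [0, 0, -1, 0, 1, 1, 0, 0], [130, 162, 141, 137, 55, 185, 121, 120], [(false, 1), (false, 2), (true, 9), (false, 0), (true, 13)]⟩,
   ⟨[4, 3, 0, 2, 1, 3, 4], 9, [-1, 0, 1, 0, -1, 2, 0, 0], [137, 163, 141, 130, 65, 178, 121, 120], [(true, 10), (false, 2), (true, 13), (false, 3), (true, 9)]⟩,
   ⟨[4, 2, 3, 0, 2, 1, 3, 4], 11, [0, 0, -1, 1, -1, 2, 0, 0], [131, 162, 141, 136, 55, 188, 121, 120], [(false, 1), (false, 2), (true, 12), (true, 14), (true, 11)]⟩,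
   ⟨[3, 4, 2, 3, 0, 2, 1, 3, 4], 13, [0, 1, 0, -1, 0, 2, 0, 0], [126, 162, 142, 135, 55, 194, 121, 120], [(false, 1), (true, 15), (false, 3), (true, 13), (false, 0)]⟩,
   ⟨[1, 3, 4, 2, 3, 0, 2, 1, 3, 4], 14, [0, -1, 0, 0, 0, 2, 0, 0], [126, 162, 130, 135, 55, 204, 121, 120], [(false, 1), (true, 14), (false, 3), (false, 2), (false, 0)]⟩]

/-- table -/
def weylE8L5 : List Rep :=
  [⟨[], 0, [0, 0, 0, 0, 0, 1, 0, 0], [162, 141, 135, 130, 126, 123, 121, 120], [(false, 0), (false, 1), (false, 2), (false, 3), (false, 4), (true, 1)]⟩,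
   ⟨[5], 0, [0, 0, 0, 0, 1, -1, 1, 0], [162, 141, 135, 130, 127, 116, 124, 120], [(false, 0), (false, 1), (false, 2), (false, 3), (true, 2), (true, 0)]⟩,
   ⟨[4, 5], 1, [0, 0, 0, 1, -1, 0, 1, 0], [162, 141, 135, 131, 123, 112, 128, 120], [(false, 0), (false, 1), (false, 2), (true, 3), (true, 1), (false, 4)]⟩,
   ⟨[3, 4, 5], 2, [0, 1, 1, -1, 0, 0, 1, 0], [162, 142, 136, 126, 123, 107, 133, 120], [(false, 0), (true, 4), (true, 5), (true, 2), (false, 3), (false, 4)]⟩,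
   ⟨[1, 3, 4, 5], 3, [0, -1, 1, 0, 0, 0, 1, 0], [162, 130, 147, 126, 123, 95, 145, 120], [(false, 0), (true, 3), (true, 6), (false, 1), (false, 3), (false, 4)]⟩,
   ⟨[2, 3, 4, 5], 3, [1, 1, -1, 0, 0, 0, 1, 0], [163, 147, 130, 126, 123, 101, 139, 120], [(true, 7), (true, 6), (true, 3), (false, 2), (false, 3), (false, 4)]⟩,
   ⟨[2, 1, 3, 4, 5], 4, [1, -1, -1, 1, 0, 0, 1, 0], [163, 136, 142, 126, 123, 90, 150, 120], [(true, 8), (true, 5), (true, 4), (true, 9), (false, 3), (false, 4)]⟩,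
   ⟨[0, 2, 3, 4, 5], 5, [-1, 1, 0, 0, 0, 0, 1, 0], [135, 169, 130, 126, 123, 73, 167, 120], [(true, 5), (true, 8), (false, 0), (false, 2), (false, 3), (false, 4)]⟩,
   ⟨[0, 2, 1, 3, 4, 5], 6, [-1, -1, 0, 1, 0, 0, 1, 0], [135, 164, 142, 126, 123, 68, 172, 120], [(true, 6), (true, 7), (false, 0), (true, 10), (false, 3), (false, 4)]⟩,
   ⟨[3, 2, 1, 3, 4, 5], 6, [1, 0, 0, -1, 1, 0, 1, 0], [164, 135, 141, 131, 123, 86, 154, 120], [(true, 10), (false, 2), (false, 1), (true, 6), (true, 11), (false, 4)]⟩,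
   ⟨[3, 0, 2, 1, 3, 4, 5], 8, [-1, 0, 1, -1, 1, 0, 1, 0], [136, 163, 141, 131, 123, 64, 176, 120], [(true, 9), (false, 2), (true, 12), (true, 8), (true, 13), (false, 4)]⟩,
   ⟨[4, 3, 2, 1, 3, 4, 5], 9, [1, 0, 0, 0, -1, 1, 1, 0], [165, 135, 141, 130, 127, 83, 157, 120], [(true, 13), (false, 2), (false, 1), (false, 3), (true, 9), (true, 14)]⟩,
   ⟨[2, 3, 0, 2, 1, 3, 4, 5], 10, [0, 0, -1, 0, 1, 0, 1, 0], [130, 162, 141, 137, 123, 54, 186, 120], [(false, 1), (false, 2), (true, 10), (false, 0), (true, 15), (false, 4)]⟩,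
   ⟨[4, 3, 0, 2, 1, 3, 4, 5], 10, [-1, 0, 1, 0, -1, 1, 1, 0], [137, 163, 141, 130, 127, 61, 179, 120], [(true, 11), (false, 2), (true, 15), (false, 3), (true, 10), (true, 16)]⟩,
   ⟨[5, 4, 3, 2, 1, 3, 4, 5], 11, [1, 0, 0, 0, 0, -1, 2, 0], [166, 135, 141, 130, 126, 83, 159, 120], [(true, 16), (false, 2), (false, 1), (false, 3), (false, 4), (true, 11)]⟩,
   ⟨[4, 2, 3, 0, 2, 1, 3, 4, 5], 12, [0, 0, -1, 1, -1, 1, 1, 0], [131, 162, 141, 136, 127, 51, 189, 120], [(false, 1), (false, 2), (true, 13), (true, 17), (true, 12), (true, 18)]⟩,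
   ⟨[5, 4, 3, 0, 2, 1, 3, 4, 5], 13, [-1, 0, 1, 0, 0, -1, 2, 0], [138, 163, 141, 130, 126, 61, 181, 120], [(true, 14), (false, 2), (true, 18), (false, 3), (false, 4), (true, 13)]⟩,
   ⟨[3, 4, 2, 3, 0, 2, 1, 3, 4, 5], 15, [0, 1, 0, -1, 0, 1, 1, 0], [126, 162, 142, 135, 132, 45, 195, 120], [(false, 1), (true, 19), (false, 3), (true, 15), (false, 0), (true, 20)]⟩,
   ⟨[5, 4, 2, 3, 0, 2, 1, 3, 4, 5], 15, [0, 0, -1, 1, 0, -1, 2, 0], [132, 162, 141, 136, 126, 51, 191, 120], [(false, 1), (false, 2), (true, 16), (true, 20), (false, 4), (true, 15)]⟩,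
   ⟨[1, 3, 4, 2, 3, 0, 2, 1, 3, 4, 5], 17, [0, -1, 0, 0, 0, 1, 1, 0], [126, 162, 130, 135, 144, 35, 205, 120], [(false, 1), (true, 17), (false, 3), (false, 2), (false, 0), (true, 21)]⟩,
   ⟨[5, 3, 4, 2, 3, 0, 2, 1, 3, 4, 5], 17, [0, 1, 0, -1, 1, -1, 2, 0], [127, 162, 142, 135, 131, 45, 197, 120], [(false, 1), (true, 21), (false, 3), (true, 18), (true, 22), (true, 17)]⟩,
   ⟨[5, 1, 3, 4, 2, 3, 0, 2, 1, 3, 4, 5], 19, [0, -1, 0, 0, 1, -1, 2, 0], [127, 162, 130, 135, 143, 35, 207, 120], [(false, 1), (true, 20), (false, 3), (false, 2), (true, 23), (true, 19)]⟩,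
   ⟨[4, 5, 3, 4, 2, 3, 0, 2, 1, 3, 4, 5], 20, [0, 1, 0, 0, -1, 0, 2, 0], [123, 162, 143, 135, 130, 45, 200, 120], [(false, 1), (true, 23), (false, 3), (false, 4), (true, 20), (false, 0)]⟩,
   ⟨[4, 5, 1, 3, 4, 2, 3, 0, 2, 1, 3, 4, 5], 21, [0, -1, 0, 1, -1, 0, 2, 0], [123, 162, 131, 135, 142, 35, 210, 120], [(false, 1), (true, 22), (false, 3), (true, 24), (true, 21), (false, 0)]⟩,
   ⟨[3, 4, 5, 1, 3, 4, 2, 3, 0, 2, 1, 3, 4, 5], 23, [0, 0, 1, -1, 0, 0, 2, 0], [123, 162, 126, 136, 141, 35, 214, 120], [(false, 1), (false, 4), (true, 25), (true, 23), (false, 2), (false, 0)]⟩,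
   ⟨[2, 3, 4, 5, 1, 3, 4, 2, 3, 0, 2, 1, 3, 4, 5], 24, [1, 0, -1, 0, 0, 0, 2, 0], [123, 163, 126, 130, 141, 35, 219, 120], [(true, 26), (false, 4), (true, 24), (false, 3), (false, 2), (false, 0)]⟩,
   ⟨[0, 2, 3, 4, 5, 1, 3, 4, 2, 3, 0, 2, 1, 3, 4, 5], 25, [-1, 0, 0, 0, 0, 0, 2, 0], [123, 135, 126, 130, 141, 35, 226, 120], [(true, 25), (false, 4), (false, 1), (false, 3), (false, 2), (false, 0)]⟩]

/-- table -/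
def weylE8L6 : List Rep :=
  [⟨[], 0, [0, 0, 0, 0, 0, 0, 1, 0], [162, 141, 135, 130, 126, 123, 121, 120], [(false, 0), (false, 1), (false, 2), (false, 3), (false, 4), (false, 5), (true, 1)]⟩,
   ⟨[6], 0, [0, 0, 0, 0, 0, 1, -1, 1], [162, 141, 135, 130, 126, 124, 118, 122], [(false, 0), (false, 1), (false, 2), (false, 3), (false, 4), (true, 2), (true, 0)]⟩,
   ⟨[5, 6], 1, [0, 0, 0, 0, 1, -1, 0, 1], [162, 141, 135, 130, 127, 121, 115, 125], [(false, 0), (false, 1), (false, 2), (false, 3), (true, 3), (true, 1), (false, 5)]⟩,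
   ⟨[4, 5, 6], 2, [0, 0, 0, 1, -1, 0, 0, 1], [162, 141, 135, 131, 123, 121, 111, 129], [(false, 0), (false, 1), (false, 2), (true, 4), (true, 2), (false, 4), (false, 5)]⟩,
   ⟨[3, 4, 5, 6], 3, [0, 1, 1, -1, 0, 0, 0, 1], [162, 142, 136, 126, 123, 121, 106, 134], [(false, 0), (true, 5), (true, 6), (true, 3), (false, 3), (false, 4), (false, 5)]⟩,
   ⟨[1, 3, 4, 5, 6], 4, [0, -1, 1, 0, 0, 0, 0, 1], [162, 130, 147, 126, 123, 121, 94, 146], [(false, 0), (true, 4), (true, 7), (false, 1), (false, 3), (false, 4), (false, 5)]⟩,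
   ⟨[2, 3, 4, 5, 6], 4, [1, 1, -1, 0, 0, 0, 0, 1], [163, 147, 130, 126, 123, 121, 100, 140], [(true, 8), (true, 7), (true, 4), (false, 2), (false, 3), (false, 4), (false, 5)]⟩,
   ⟨[2, 1, 3, 4, 5, 6], 5, [1, -1, -1, 1, 0, 0, 0, 1], [163, 136, 142, 126, 123, 121, 89, 151], [(true, 9), (true, 6), (true, 5), (true, 10), (false, 3), (false, 4), (false, 5)]⟩,
   ⟨[0, 2, 3, 4, 5, 6], 6, [-1, 1, 0, 0, 0, 0, 0, 1], [135, 169, 130, 126, 123, 121, 72, 168], [(true, 6), (true, 9), (false, 0), (false, 2), (false, 3), (false, 4), (false, 5)]⟩,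
   ⟨[0, 2, 1, 3, 4, 5, 6], 7, [-1, -1, 0, 1, 0, 0, 0, 1], [135, 164, 142, 126, 123, 121, 67, 173], [(true, 7), (true, 8), (false, 0), (true, 11), (false, 3), (false, 4), (false, 5)]⟩,
   ⟨[3, 2, 1, 3, 4, 5, 6], 7, [1, 0, 0, -1, 1, 0, 0, 1], [164, 135, 141, 131, 123, 121, 85, 155], [(true, 11), (false, 2), (false, 1), (true, 7), (true, 12), (false, 4), (false, 5)]⟩,
   ⟨[3, 0, 2, 1, 3, 4, 5, 6], 9, [-1, 0, 1, -1, 1, 0, 0, 1], [136, 163, 141, 131, 123, 121, 63, 177], [(true, 10), (false, 2), (true, 13), (true, 9), (true, 14), (false, 4), (false, 5)]⟩,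
   ⟨[4, 3, 2, 1, 3, 4, 5, 6], 10, [1, 0, 0, 0, -1, 1, 0, 1], [165, 135, 141, 130, 127, 121, 82, 158], [(true, 14), (false, 2), (false, 1), (false, 3), (true, 10), (true, 15), (false, 5)]⟩,
   ⟨[2, 3, 0, 2, 1, 3, 4, 5, 6], 11, [0, 0, -1, 0, 1, 0, 0, 1], [130, 162, 141, 137, 123, 121, 53, 187], [(false, 1), (false, 2), (true, 11), (false, 0), (true, 16), (false, 4), (false, 5)]⟩,
   ⟨[4, 3, 0, 2, 1, 3, 4, 5, 6], 11, [-1, 0, 1, 0, -1, 1, 0, 1], [137, 163, 141, 130, 127, 121, 60, 180], [(true, 12), (false, 2), (true, 16), (false, 3), (true, 11), (true, 17), (false, 5)]⟩,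
   ⟨[5, 4, 3, 2, 1, 3, 4, 5, 6], 12, [1, 0, 0, 0, 0, -1, 1, 1], [166, 135, 141, 130, 126, 124, 80, 160], [(true, 17), (false, 2), (false, 1), (false, 3), (false, 4), (true, 12), (true, 18)]⟩,
   ⟨[4, 2, 3, 0, 2, 1, 3, 4, 5, 6], 13, [0, 0, -1, 1, -1, 1, 0, 1], [131, 162, 141, 136, 127, 121, 50, 190], [(false, 1), (false, 2), (true, 14), (true, 19), (true, 13), (true, 20), (false, 5)]⟩,
   ⟨[5, 4, 3, 0, 2, 1, 3, 4, 5, 6], 14, [-1, 0, 1, 0, 0, -1, 1, 1], [138, 163, 141, 130, 126, 124, 58, 182], [(true, 15), (false, 2), (true, 20), (false, 3), (false, 4), (true, 14), (true, 21)]⟩,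
   ⟨[6, 5, 4, 3, 2, 1, 3, 4, 5, 6], 15, [1, 0, 0, 0, 0, 0, -1, 2], [167, 135, 141, 130, 126, 123, 80, 161], [(true, 21), (false, 2), (false, 1), (false, 3), (false, 4), (false, 5), (true, 15)]⟩,
   ⟨[3, 4, 2, 3, 0, 2, 1, 3, 4, 5, 6], 16, [0, 1, 0, -1, 0, 1, 0, 1], [126, 162, 142, 135, 132, 121, 44, 196], [(false, 1), (true, 22), (false, 3), (true, 16), (false, 0), (true, 23), (false, 5)]⟩,
   ⟨[5, 4, 2, 3, 0, 2, 1, 3, 4, 5, 6], 16, [0, 0, -1, 1, 0, -1, 1, 1], [132, 162, 141, 136, 126, 124, 48, 192], [(false, 1), (false, 2), (true, 17), (true, 23), (false, 4), (true, 16), (true, 24)]⟩,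
   ⟨[6, 5, 4, 3, 0, 2, 1, 3, 4, 5, 6], 17, [-1, 0, 1, 0, 0, 0, -1, 2], [139, 163, 141, 130, 126, 123, 58, 183], [(true, 18), (false, 2), (true, 24), (false, 3), (false, 4), (false, 5), (true, 17)]⟩,
   ⟨[1, 3, 4, 2, 3, 0, 2, 1, 3, 4, 5, 6], 19, [0, -1, 0, 0, 0, 1, 0, 1], [126, 162, 130, 135, 144, 121, 34, 206], [(false, 1), (true, 19), (false, 3), (false, 2), (false, 0), (true, 25), (false, 5)]⟩,
   ⟨[5, 3, 4, 2, 3, 0, 2, 1, 3, 4, 5, 6], 19, [0, 1, 0, -1, 1, -1, 1, 1], [127, 162, 142, 135, 131, 124, 42, 198], [(false, 1), (true, 25), (false, 3), (true, 20), (true, 26), (true, 19), (true, 27)]⟩,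
   ⟨[6, 5, 4, 2, 3, 0, 2, 1, 3, 4, 5, 6], 20, [0, 0, -1, 1, 0, 0, -1, 2], [133, 162, 141, 136, 126, 123, 48, 193], [(false, 1), (false, 2), (true, 21), (true, 27), (false, 4), (false, 5), (true, 20)]⟩,
   ⟨[5, 1, 3, 4, 2, 3, 0, 2, 1, 3, 4, 5, 6], 22, [0, -1, 0, 0, 1, -1, 1, 1], [127, 162, 130, 135, 143, 124, 32, 208], [(false, 1), (true, 23), (false, 3), (false, 2), (true, 28), (true, 22), (true, 29)]⟩,
   ⟨[4, 5, 3, 4, 2, 3, 0, 2, 1, 3, 4, 5, 6], 23, [0, 1, 0, 0, -1, 0, 1, 1], [123, 162, 143, 135, 130, 128, 39, 201], [(false, 1), (true, 28), (false, 3), (false, 4), (true, 23), (false, 0), (true, 30)]⟩,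
   ⟨[6, 5, 3, 4, 2, 3, 0, 2, 1, 3, 4, 5, 6], 23, [0, 1, 0, -1, 1, 0, -1, 2], [128, 162, 142, 135, 131, 123, 42, 199], [(false, 1), (true, 29), (false, 3), (true, 24), (true, 30), (false, 5), (true, 23)]⟩,
   ⟨[4, 5, 1, 3, 4, 2, 3, 0, 2, 1, 3, 4, 5, 6], 25, [0, -1, 0, 1, -1, 0, 1, 1], [123, 162, 131, 135, 142, 128, 29, 211], [(false, 1), (true, 26), (false, 3), (true, 31), (true, 25), (false, 0), (true, 32)]⟩,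
   ⟨[6, 5, 1, 3, 4, 2, 3, 0, 2, 1, 3, 4, 5, 6], 25, [0, -1, 0, 0, 1, 0, -1, 2], [128, 162, 130, 135, 143, 123, 32, 209], [(false, 1), (true, 27), (false, 3), (false, 2), (true, 32), (false, 5), (true, 25)]⟩,
   ⟨[6, 4, 5, 3, 4, 2, 3, 0, 2, 1, 3, 4, 5, 6], 26, [0, 1, 0, 0, -1, 1, -1, 2], [124, 162, 143, 135, 130, 127, 39, 202], [(false, 1), (true, 32), (false, 3), (false, 4), (true, 27), (true, 33), (true, 26)]⟩,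
   ⟨[3, 4, 5, 1, 3, 4, 2, 3, 0, 2, 1, 3, 4, 5, 6], 28, [0, 0, 1, -1, 0, 0, 1, 1], [123, 162, 126, 136, 141, 133, 25, 215], [(false, 1), (false, 4), (true, 34), (true, 28), (false, 2), (false, 0), (true, 35)]⟩,
   ⟨[6, 4, 5, 1, 3, 4, 2, 3, 0, 2, 1, 3, 4, 5, 6], 28, [0, -1, 0, 1, -1, 1, -1, 2], [124, 162, 131, 135, 142, 127, 29, 212], [(false, 1), (true, 30), (false, 3), (true, 35), (true, 29), (true, 36), (true, 28)]⟩,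
   ⟨[5, 6, 4, 5, 3, 4, 2, 3, 0, 2, 1, 3, 4, 5, 6], 30, [0, 1, 0, 0, 0, -1, 0, 2], [121, 162, 144, 135, 130, 126, 39, 203], [(false, 1), (true, 36), (false, 3), (false, 4), (false, 5), (true, 30), (false, 0)]⟩,
   ⟨[2, 3, 4, 5, 1, 3, 4, 2, 3, 0, 2, 1, 3, 4, 5, 6], 31, [1, 0, -1, 0, 0, 0, 1, 1], [123, 163, 126, 130, 141, 139, 20, 220], [(true, 37), (false, 4), (true, 31), (false, 3), (false, 2), (false, 0), (true, 38)]⟩,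
   ⟨[6, 3, 4, 5, 1, 3, 4, 2, 3, 0, 2, 1, 3, 4, 5, 6], 31, [0, 0, 1, -1, 0, 1, -1, 2], [124, 162, 126, 136, 141, 132, 25, 216], [(false, 1), (false, 4), (true, 38), (true, 32), (false, 2), (true, 39), (true, 31)]⟩,
   ⟨[5, 6, 4, 5, 1, 3, 4, 2, 3, 0, 2, 1, 3, 4, 5, 6], 32, [0, -1, 0, 1, 0, -1, 0, 2], [121, 162, 132, 135, 142, 126, 29, 213], [(false, 1), (true, 33), (false, 3), (true, 39), (false, 5), (true, 32), (false, 0)]⟩,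
   ⟨[0, 2, 3, 4, 5, 1, 3, 4, 2, 3, 0, 2, 1, 3, 4, 5, 6], 34, [-1, 0, 0, 0, 0, 0, 1, 1], [123, 135, 126, 130, 141, 167, 13, 227], [(true, 34), (false, 4), (false, 1), (false, 3), (false, 2), (false, 0), (true, 40)]⟩,
   ⟨[6, 2, 3, 4, 5, 1, 3, 4, 2, 3, 0, 2, 1, 3, 4, 5, 6], 34, [1, 0, -1, 0, 0, 1, -1, 2], [124, 163, 126, 130, 141, 138, 20, 221], [(true, 40), (false, 4), (true, 35), (false, 3), (false, 2), (true, 41), (true, 34)]⟩,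
   ⟨[5, 6, 3, 4, 5, 1, 3, 4, 2, 3, 0, 2, 1, 3, 4, 5, 6], 35, [0, 0, 1, -1, 1, -1, 0, 2], [121, 162, 127, 136, 141, 131, 25, 217], [(false, 1), (false, 4), (true, 41), (true, 36), (true, 42), (true, 35), (false, 0)]⟩,
   ⟨[6, 0, 2, 3, 4, 5, 1, 3, 4, 2, 3, 0, 2, 1, 3, 4, 5, 6], 37, [-1, 0, 0, 0, 0, 1, -1, 2], [124, 135, 126, 130, 141, 166, 13, 228], [(true, 38), (false, 4), (false, 1), (false, 3), (false, 2), (true, 43), (true, 37)]⟩,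
   ⟨[5, 6, 2, 3, 4, 5, 1, 3, 4, 2, 3, 0, 2, 1, 3, 4, 5, 6], 38, [1, 0, -1, 0, 1, -1, 0, 2], [121, 163, 127, 130, 141, 137, 20, 222], [(true, 43), (false, 4), (true, 39), (false, 3), (true, 44), (true, 38), (false, 0)]⟩,
   ⟨[4, 5, 6, 3, 4, 5, 1, 3, 4, 2, 3, 0, 2, 1, 3, 4, 5, 6], 39, [0, 0, 1, 0, -1, 0, 0, 2], [121, 162, 123, 137, 141, 130, 25, 218], [(false, 1), (false, 4), (true, 44), (false, 5), (true, 39), (false, 2), (false, 0)]⟩,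
   ⟨[5, 6, 0, 2, 3, 4, 5, 1, 3, 4, 2, 3, 0, 2, 1, 3, 4, 5, 6], 40, [-1, 0, 0, 0, 1, -1, 0, 2], [121, 135, 127, 130, 141, 165, 13, 229], [(true, 41), (false, 4), (false, 1), (false, 3), (true, 45), (true, 40), (false, 0)]⟩,
   ⟨[4, 5, 6, 2, 3, 4, 5, 1, 3, 4, 2, 3, 0, 2, 1, 3, 4, 5, 6], 41, [1, 0, -1, 1, -1, 0, 0, 2], [121, 163, 123, 131, 141, 136, 20, 223], [(true, 45), (false, 4), (true, 42), (true, 46), (true, 41), (false, 2), (false, 0)]⟩,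
   ⟨[4, 5, 6, 0, 2, 3, 4, 5, 1, 3, 4, 2, 3, 0, 2, 1, 3, 4, 5, 6], 43, [-1, 0, 0, 1, -1, 0, 0, 2], [121, 135, 123, 131, 141, 164, 13, 230], [(true, 44), (false, 4), (false, 1), (true, 47), (true, 43), (false, 2), (false, 0)]⟩,
   ⟨[3, 4, 5, 6, 2, 3, 4, 5, 1, 3, 4, 2, 3, 0, 2, 1, 3, 4, 5, 6], 44, [1, 1, 0, -1, 0, 0, 0, 2], [121, 164, 123, 126, 142, 135, 20, 224], [(true, 47), (true, 48), (false, 5), (true, 44), (false, 3), (false, 2), (false, 0)]⟩,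
   ⟨[3, 4, 5, 6, 0, 2, 3, 4, 5, 1, 3, 4, 2, 3, 0, 2, 1, 3, 4, 5, 6], 45, [-1, 1, 1, -1, 0, 0, 0, 2], [121, 136, 123, 126, 142, 163, 13, 231], [(true, 46), (true, 49), (true, 50), (true, 45), (false, 3), (false, 2), (false, 0)]⟩,
   ⟨[1, 3, 4, 5, 6, 2, 3, 4, 5, 1, 3, 4, 2, 3, 0, 2, 1, 3, 4, 5, 6], 46, [1, -1, 0, 0, 0, 0, 0, 2], [121, 169, 123, 126, 130, 135, 20, 225], [(true, 49), (true, 46), (false, 5), (false, 4), (false, 3), (false, 2), (false, 0)]⟩,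
   ⟨[1, 3, 4, 5, 6, 0, 2, 3, 4, 5, 1, 3, 4, 2, 3, 0, 2, 1, 3, 4, 5, 6], 47, [-1, -1, 1, 0, 0, 0, 0, 2], [121, 147, 123, 126, 130, 163, 13, 233], [(true, 48), (true, 47), (true, 51), (false, 4), (false, 3), (false, 2), (false, 0)]⟩,
   ⟨[2, 3, 4, 5, 6, 0, 2, 3, 4, 5, 1, 3, 4, 2, 3, 0, 2, 1, 3, 4, 5, 6], 47, [0, 1, -1, 0, 0, 0, 0, 2], [121, 130, 123, 126, 147, 162, 13, 232], [(false, 5), (true, 51), (true, 47), (false, 1), (false, 3), (false, 2), (false, 0)]⟩,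
   ⟨[2, 1, 3, 4, 5, 6, 0, 2, 3, 4, 5, 1, 3, 4, 2, 3, 0, 2, 1, 3, 4, 5, 6], 49, [0, -1, -1, 1, 0, 0, 0, 2], [121, 142, 123, 126, 136, 162, 13, 234], [(false, 5), (true, 50), (true, 49), (true, 52), (false, 3), (false, 2), (false, 0)]⟩,
   ⟨[3, 2, 1, 3, 4, 5, 6, 0, 2, 3, 4, 5, 1, 3, 4, 2, 3, 0, 2, 1, 3, 4, 5, 6], 51, [0, 0, 0, -1, 1, 0, 0, 2], [121, 141, 123, 131, 135, 162, 13, 235], [(false, 5), (false, 1), (false, 4), (true, 51), (true, 53), (false, 2), (false, 0)]⟩,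
   ⟨[4, 3, 2, 1, 3, 4, 5, 6, 0, 2, 3, 4, 5, 1, 3, 4, 2, 3, 0, 2, 1, 3, 4, 5, 6], 52, [0, 0, 0, 0, -1, 1, 0, 2], [121, 141, 127, 130, 135, 162, 13, 236], [(false, 5), (false, 1), (false, 4), (false, 3), (true, 52), (true, 54), (false, 0)]⟩,
   ⟨[5, 4, 3, 2, 1, 3, 4, 5, 6, 0, 2, 3, 4, 5, 1, 3, 4, 2, 3, 0, 2, 1, 3, 4, 5, 6], 53, [0, 0, 0, 0, 0, -1, 1, 2], [124, 141, 126, 130, 135, 162, 13, 237], [(false, 5), (false, 1), (false, 4), (false, 3), (false, 2), (true, 53), (true, 55)]⟩,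
   ⟨[6, 5, 4, 3, 2, 1, 3, 4, 5, 6, 0, 2, 3, 4, 5, 1, 3, 4, 2, 3, 0, 2, 1, 3, 4, 5, 6], 54, [0, 0, 0, 0, 0, 0, -1, 3], [123, 141, 126, 130, 135, 162, 13, 238], [(false, 5), (false, 1), (false, 4), (false, 3), (false, 2), (false, 0), (true, 54)]⟩]

/-- table -/
def weylE8L7 : List Rep :=
  [⟨[], 0, [0, 0, 0, 0, 0, 0, 0, 1], [162, 141, 135, 130, 126, 123, 121, 120], [(false, 0), (false, 1), (false, 2), (false, 3), (false, 4), (false, 5), (false, 6), (true, 1)]⟩,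
   ⟨[7], 0, [0, 0, 0, 0, 0, 0, 1, -1], [162, 141, 135, 130, 126, 123, 122, 119], [(false, 0), (false, 1), (false, 2), (false, 3), (false, 4), (false, 5), (true, 2), (true, 0)]⟩,
   ⟨[6, 7], 1, [0, 0, 0, 0, 0, 1, -1, 0], [162, 141, 135, 130, 126, 124, 120, 117], [(false, 0), (false, 1), (false, 2), (false, 3), (false, 4), (true, 3), (true, 1), (false, 6)]⟩,
   ⟨[5, 6, 7], 2, [0, 0, 0, 0, 1, -1, 0, 0], [162, 141, 135, 130, 127, 121, 120, 114], [(false, 0), (false, 1), (false, 2), (false, 3), (true, 4), (true, 2), (false, 5), (false, 6)]⟩,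
   ⟨[4, 5, 6, 7], 3, [0, 0, 0, 1, -1, 0, 0, 0], [162, 141, 135, 131, 123, 121, 120, 110], [(false, 0), (false, 1), (false, 2), (true, 5), (true, 3), (false, 4), (false, 5), (false, 6)]⟩,
   ⟨[3, 4, 5, 6, 7], 4, [0, 1, 1, -1, 0, 0, 0, 0], [162, 142, 136, 126, 123, 121, 120, 105], [(false, 0), (true, 6), (true, 7), (true, 4), (false, 3), (false, 4), (false, 5), (false, 6)]⟩,
   ⟨[1, 3, 4, 5, 6, 7], 5, [0, -1, 1, 0, 0, 0, 0, 0], [162, 130, 147, 126, 123, 121, 120, 93], [(false, 0), (true, 5), (true, 8), (false, 1), (false, 3), (false, 4), (false, 5), (false, 6)]⟩,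
   ⟨[2, 3, 4, 5, 6, 7], 5, [1, 1, -1, 0, 0, 0, 0, 0], [163, 147, 130, 126, 123, 121, 120, 99], [(true, 9), (true, 8), (true, 5), (false, 2), (false, 3), (false, 4), (false, 5), (false, 6)]⟩,
   ⟨[2, 1, 3, 4, 5, 6, 7], 6, [1, -1, -1, 1, 0, 0, 0, 0], [163, 136, 142, 126, 123, 121, 120, 88], [(true, 10), (true, 7), (true, 6), (true, 11), (false, 3), (false, 4), (false, 5), (false, 6)]⟩,
   ⟨[0, 2, 3, 4, 5, 6, 7], 7, [-1, 1, 0, 0, 0, 0, 0, 0], [135, 169, 130, 126, 123, 121, 120, 71], [(true, 7), (true, 10), (false, 0), (false, 2), (false, 3), (false, 4), (false, 5), (false, 6)]⟩,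
   ⟨[0, 2, 1, 3, 4, 5, 6, 7], 8, [-1, -1, 0, 1, 0, 0, 0, 0], [135, 164, 142, 126, 123, 121, 120, 66], [(true, 8), (true, 9), (false, 0), (true, 12), (false, 3), (false, 4), (false, 5), (false, 6)]⟩,
   ⟨[3, 2, 1, 3, 4, 5, 6, 7], 8, [1, 0, 0, -1, 1, 0, 0, 0], [164, 135, 141, 131, 123, 121, 120, 84], [(true, 12), (false, 2), (false, 1), (true, 8), (true, 13), (false, 4), (false, 5), (false, 6)]⟩,
   ⟨[3, 0, 2, 1, 3, 4, 5, 6, 7], 10, [-1, 0, 1, -1, 1, 0, 0, 0], [136, 163, 141, 131, 123, 121, 120, 62], [(true, 11), (false, 2), (true, 14), (true, 10), (true, 15), (false, 4), (false, 5), (false, 6)]⟩,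
   ⟨[4, 3, 2, 1, 3, 4, 5, 6, 7], 11, [1, 0, 0, 0, -1, 1, 0, 0], [165, 135, 141, 130, 127, 121, 120, 81], [(true, 15), (false, 2), (false, 1), (false, 3), (true, 11), (true, 16), (false, 5), (false, 6)]⟩,
   ⟨[2, 3, 0, 2, 1, 3, 4, 5, 6, 7], 12, [0, 0, -1, 0, 1, 0, 0, 0], [130, 162, 141, 137, 123, 121, 120, 52], [(false, 1), (false, 2), (true, 12), (false, 0), (true, 17), (false, 4), (false, 5), (false, 6)]⟩,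
   ⟨[4, 3, 0, 2, 1, 3, 4, 5, 6, 7], 12, [-1, 0, 1, 0, -1, 1, 0, 0], [137, 163, 141, 130, 127, 121, 120, 59], [(true, 13), (false, 2), (true, 17), (false, 3), (true, 12), (true, 18), (false, 5), (false, 6)]⟩,
   ⟨[5, 4, 3, 2, 1, 3, 4, 5, 6, 7], 13, [1, 0, 0, 0, 0, -1, 1, 0], [166, 135, 141, 130, 126, 124, 120, 79], [(true, 18), (false, 2), (false, 1), (false, 3), (false, 4), (true, 13), (true, 19), (false, 6)]⟩,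
   ⟨[4, 2, 3, 0, 2, 1, 3, 4, 5, 6, 7], 14, [0, 0, -1, 1, -1, 1, 0, 0], [131, 162, 141, 136, 127, 121, 120, 49], [(false, 1), (false, 2), (true, 15), (true, 20), (true, 14), (true, 21), (false, 5), (false, 6)]⟩,
   ⟨[5, 4, 3, 0, 2, 1, 3, 4, 5, 6, 7], 15, [-1, 0, 1, 0, 0, -1, 1, 0], [138, 163, 141, 130, 126, 124, 120, 57], [(true, 16), (false, 2), (true, 21), (false, 3), (false, 4), (true, 15), (true, 22), (false, 6)]⟩,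
   ⟨[6, 5, 4, 3, 2, 1, 3, 4, 5, 6, 7], 16, [1, 0, 0, 0, 0, 0, -1, 1], [167, 135, 141, 130, 126, 123, 122, 78], [(true, 22), (false, 2), (false, 1), (false, 3), (false, 4), (false, 5), (true, 16), (true, 23)]⟩,
   ⟨[3, 4, 2, 3, 0, 2, 1, 3, 4, 5, 6, 7], 17, [0, 1, 0, -1, 0, 1, 0, 0], [126, 162, 142, 135, 132, 121, 120, 43], [(false, 1), (true, 24), (false, 3), (true, 17), (false, 0), (true, 25), (false, 5), (false, 6)]⟩,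
   ⟨[5, 4, 2, 3, 0, 2, 1, 3, 4, 5, 6, 7], 17, [0, 0, -1, 1, 0, -1, 1, 0], [132, 162, 141, 136, 126, 124, 120, 47], [(false, 1), (false, 2), (true, 18), (true, 25), (false, 4), (true, 17), (true, 26), (false, 6)]⟩,
   ⟨[6, 5, 4, 3, 0, 2, 1, 3, 4, 5, 6, 7], 18, [-1, 0, 1, 0, 0, 0, -1, 1], [139, 163, 141, 130, 126, 123, 122, 56], [(true, 19), (false, 2), (true, 26), (false, 3), (false, 4), (false, 5), (true, 18), (true, 27)]⟩,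
   ⟨[7, 6, 5, 4, 3, 2, 1, 3, 4, 5, 6, 7], 19, [1, 0, 0, 0, 0, 0, 0, -1], [168, 135, 141, 130, 126, 123, 121, 78], [(true, 27), (false, 2), (false, 1), (false, 3), (false, 4), (false, 5), (false, 6), (true, 19)]⟩,
   ⟨[1, 3, 4, 2, 3, 0, 2, 1, 3, 4, 5, 6, 7], 20, [0, -1, 0, 0, 0, 1, 0, 0], [126, 162, 130, 135, 144, 121, 120, 33], [(false, 1), (true, 20), (false, 3), (false, 2), (false, 0), (true, 28), (false, 5), (false, 6)]⟩,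
   ⟨[5, 3, 4, 2, 3, 0, 2, 1, 3, 4, 5, 6, 7], 20, [0, 1, 0, -1, 1, -1, 1, 0], [127, 162, 142, 135, 131, 124, 120, 41], [(false, 1), (true, 28), (false, 3), (true, 21), (true, 29), (true, 20), (true, 30), (false, 6)]⟩,
   ⟨[6, 5, 4, 2, 3, 0, 2, 1, 3, 4, 5, 6, 7], 21, [0, 0, -1, 1, 0, 0, -1, 1], [133, 162, 141, 136, 126, 123, 122, 46], [(false, 1), (false, 2), (true, 22), (true, 30), (false, 4), (false, 5), (true, 21), (true, 31)]⟩,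
   ⟨[7, 6, 5, 4, 3, 0, 2, 1, 3, 4, 5, 6, 7], 22, [-1, 0, 1, 0, 0, 0, 0, -1], [140, 163, 141, 130, 126, 123, 121, 56], [(true, 23), (false, 2), (true, 31), (false, 3), (false, 4), (false, 5), (false, 6), (true, 22)]⟩,
   ⟨[5, 1, 3, 4, 2, 3, 0, 2, 1, 3, 4, 5, 6, 7], 24, [0, -1, 0, 0, 1, -1, 1, 0], [127, 162, 130, 135, 143, 124, 120, 31], [(false, 1), (true, 25), (false, 3), (false, 2), (true, 32), (true, 24), (true, 33), (false, 6)]⟩,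
   ⟨[4, 5, 3, 4, 2, 3, 0, 2, 1, 3, 4, 5, 6, 7], 25, [0, 1, 0, 0, -1, 0, 1, 0], [123, 162, 143, 135, 130, 128, 120, 38], [(false, 1), (true, 32), (false, 3), (false, 4), (true, 25), (false, 0), (true, 34), (false, 6)]⟩,
   ⟨[6, 5, 3, 4, 2, 3, 0, 2, 1, 3, 4, 5, 6, 7], 25, [0, 1, 0, -1, 1, 0, -1, 1], [128, 162, 142, 135, 131, 123, 122, 40], [(false, 1), (true, 33), (false, 3), (true, 26), (true, 34), (false, 5), (true, 25), (true, 35)]⟩,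
   ⟨[7, 6, 5, 4, 2, 3, 0, 2, 1, 3, 4, 5, 6, 7], 26, [0, 0, -1, 1, 0, 0, 0, -1], [134, 162, 141, 136, 126, 123, 121, 46], [(false, 1), (false, 2), (true, 27), (true, 35), (false, 4), (false, 5), (false, 6), (true, 26)]⟩,
   ⟨[4, 5, 1, 3, 4, 2, 3, 0, 2, 1, 3, 4, 5, 6, 7], 28, [0, -1, 0, 1, -1, 0, 1, 0], [123, 162, 131, 135, 142, 128, 120, 28], [(false, 1), (true, 29), (false, 3), (true, 36), (true, 28), (false, 0), (true, 37), (false, 6)]⟩,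
   ⟨[6, 5, 1, 3, 4, 2, 3, 0, 2, 1, 3, 4, 5, 6, 7], 28, [0, -1, 0, 0, 1, 0, -1, 1], [128, 162, 130, 135, 143, 123, 122, 30], [(false, 1), (true, 30), (false, 3), (false, 2), (true, 37), (false, 5), (true, 28), (true, 38)]⟩,
   ⟨[6, 4, 5, 3, 4, 2, 3, 0, 2, 1, 3, 4, 5, 6, 7], 29, [0, 1, 0, 0, -1, 1, -1, 1], [124, 162, 143, 135, 130, 127, 122, 37], [(false, 1), (true, 37), (false, 3), (false, 4), (true, 30), (true, 39), (true, 29), (true, 40)]⟩,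
   ⟨[7, 6, 5, 3, 4, 2, 3, 0, 2, 1, 3, 4, 5, 6, 7], 30, [0, 1, 0, -1, 1, 0, 0, -1], [129, 162, 142, 135, 131, 123, 121, 40], [(false, 1), (true, 38), (false, 3), (true, 31), (true, 40), (false, 5), (false, 6), (true, 30)]⟩,
   ⟨[3, 4, 5, 1, 3, 4, 2, 3, 0, 2, 1, 3, 4, 5, 6, 7], 32, [0, 0, 1, -1, 0, 0, 1, 0], [123, 162, 126, 136, 141, 133, 120, 24], [(false, 1), (false, 4), (true, 41), (true, 32), (false, 2), (false, 0), (true, 42), (false, 6)]⟩,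
   ⟨[6, 4, 5, 1, 3, 4, 2, 3, 0, 2, 1, 3, 4, 5, 6, 7], 32, [0, -1, 0, 1, -1, 1, -1, 1], [124, 162, 131, 135, 142, 127, 122, 27], [(false, 1), (true, 34), (false, 3), (true, 42), (true, 33), (true, 43), (true, 32), (true, 44)]⟩,
   ⟨[7, 6, 5, 1, 3, 4, 2, 3, 0, 2, 1, 3, 4, 5, 6, 7], 33, [0, -1, 0, 0, 1, 0, 0, -1], [129, 162, 130, 135, 143, 123, 121, 30], [(false, 1), (true, 35), (false, 3), (false, 2), (true, 44), (false, 5), (false, 6), (true, 33)]⟩,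
   ⟨[5, 6, 4, 5, 3, 4, 2, 3, 0, 2, 1, 3, 4, 5, 6, 7], 34, [0, 1, 0, 0, 0, -1, 0, 1], [121, 162, 144, 135, 130, 126, 125, 36], [(false, 1), (true, 43), (false, 3), (false, 4), (false, 5), (true, 34), (false, 0), (true, 45)]⟩,
   ⟨[7, 6, 4, 5, 3, 4, 2, 3, 0, 2, 1, 3, 4, 5, 6, 7], 34, [0, 1, 0, 0, -1, 1, 0, -1], [125, 162, 143, 135, 130, 127, 121, 37], [(false, 1), (true, 44), (false, 3), (false, 4), (true, 35), (true, 45), (false, 6), (true, 34)]⟩,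
   ⟨[2, 3, 4, 5, 1, 3, 4, 2, 3, 0, 2, 1, 3, 4, 5, 6, 7], 36, [1, 0, -1, 0, 0, 0, 1, 0], [123, 163, 126, 130, 141, 139, 120, 19], [(true, 46), (false, 4), (true, 36), (false, 3), (false, 2), (false, 0), (true, 47), (false, 6)]⟩,
   ⟨[6, 3, 4, 5, 1, 3, 4, 2, 3, 0, 2, 1, 3, 4, 5, 6, 7], 36, [0, 0, 1, -1, 0, 1, -1, 1], [124, 162, 126, 136, 141, 132, 122, 23], [(false, 1), (false, 4), (true, 47), (true, 37), (false, 2), (true, 48), (true, 36), (true, 49)]⟩,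
   ⟨[5, 6, 4, 5, 1, 3, 4, 2, 3, 0, 2, 1, 3, 4, 5, 6, 7], 37, [0, -1, 0, 1, 0, -1, 0, 1], [121, 162, 132, 135, 142, 126, 125, 26], [(false, 1), (true, 39), (false, 3), (true, 48), (false, 5), (true, 37), (false, 0), (true, 50)]⟩,
   ⟨[7, 6, 4, 5, 1, 3, 4, 2, 3, 0, 2, 1, 3, 4, 5, 6, 7], 37, [0, -1, 0, 1, -1, 1, 0, -1], [125, 162, 131, 135, 142, 127, 121, 27], [(false, 1), (true, 40), (false, 3), (true, 49), (true, 38), (true, 50), (false, 6), (true, 37)]⟩,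
   ⟨[7, 5, 6, 4, 5, 3, 4, 2, 3, 0, 2, 1, 3, 4, 5, 6, 7], 39, [0, 1, 0, 0, 0, -1, 1, -1], [122, 162, 144, 135, 130, 126, 124, 36], [(false, 1), (true, 50), (false, 3), (false, 4), (false, 5), (true, 40), (true, 51), (true, 39)]⟩,
   ⟨[0, 2, 3, 4, 5, 1, 3, 4, 2, 3, 0, 2, 1, 3, 4, 5, 6, 7], 41, [-1, 0, 0, 0, 0, 0, 1, 0], [123, 135, 126, 130, 141, 167, 120, 12], [(true, 41), (false, 4), (false, 1), (false, 3), (false, 2), (false, 0), (true, 52), (false, 6)]⟩,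
   ⟨[6, 2, 3, 4, 5, 1, 3, 4, 2, 3, 0, 2, 1, 3, 4, 5, 6, 7], 41, [1, 0, -1, 0, 0, 1, -1, 1], [124, 163, 126, 130, 141, 138, 122, 18], [(true, 52), (false, 4), (true, 42), (false, 3), (false, 2), (true, 53), (true, 41), (true, 54)]⟩,
   ⟨[5, 6, 3, 4, 5, 1, 3, 4, 2, 3, 0, 2, 1, 3, 4, 5, 6, 7], 42, [0, 0, 1, -1, 1, -1, 0, 1], [121, 162, 127, 136, 141, 131, 125, 22], [(false, 1), (false, 4), (true, 53), (true, 43), (true, 55), (true, 42), (false, 0), (true, 56)]⟩,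
   ⟨[7, 6, 3, 4, 5, 1, 3, 4, 2, 3, 0, 2, 1, 3, 4, 5, 6, 7], 42, [0, 0, 1, -1, 0, 1, 0, -1], [125, 162, 126, 136, 141, 132, 121, 23], [(false, 1), (false, 4), (true, 54), (true, 44), (false, 2), (true, 56), (false, 6), (true, 42)]⟩,
   ⟨[7, 5, 6, 4, 5, 1, 3, 4, 2, 3, 0, 2, 1, 3, 4, 5, 6, 7], 43, [0, -1, 0, 1, 0, -1, 1, -1], [122, 162, 132, 135, 142, 126, 124, 26], [(false, 1), (true, 45), (false, 3), (true, 56), (false, 5), (true, 44), (true, 57), (true, 43)]⟩,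
   ⟨[6, 7, 5, 6, 4, 5, 3, 4, 2, 3, 0, 2, 1, 3, 4, 5, 6, 7], 45, [0, 1, 0, 0, 0, 0, -1, 0], [120, 162, 145, 135, 130, 126, 123, 36], [(false, 1), (true, 57), (false, 3), (false, 4), (false, 5), (false, 6), (true, 45), (false, 0)]⟩,
   ⟨[6, 0, 2, 3, 4, 5, 1, 3, 4, 2, 3, 0, 2, 1, 3, 4, 5, 6, 7], 46, [-1, 0, 0, 0, 0, 1, -1, 1], [124, 135, 126, 130, 141, 166, 122, 11], [(true, 47), (false, 4), (false, 1), (false, 3), (false, 2), (true, 58), (true, 46), (true, 59)]⟩,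
   ⟨[5, 6, 2, 3, 4, 5, 1, 3, 4, 2, 3, 0, 2, 1, 3, 4, 5, 6, 7], 47, [1, 0, -1, 0, 1, -1, 0, 1], [121, 163, 127, 130, 141, 137, 125, 17], [(true, 58), (false, 4), (true, 48), (false, 3), (true, 60), (true, 47), (false, 0), (true, 61)]⟩,
   ⟨[7, 6, 2, 3, 4, 5, 1, 3, 4, 2, 3, 0, 2, 1, 3, 4, 5, 6, 7], 47, [1, 0, -1, 0, 0, 1, 0, -1], [125, 163, 126, 130, 141, 138, 121, 18], [(true, 59), (false, 4), (true, 49), (false, 3), (false, 2), (true, 61), (false, 6), (true, 47)]⟩,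
   ⟨[4, 5, 6, 3, 4, 5, 1, 3, 4, 2, 3, 0, 2, 1, 3, 4, 5, 6, 7], 48, [0, 0, 1, 0, -1, 0, 0, 1], [121, 162, 123, 137, 141, 130, 129, 21], [(false, 1), (false, 4), (true, 60), (false, 5), (true, 48), (false, 2), (false, 0), (true, 62)]⟩,
   ⟨[7, 5, 6, 3, 4, 5, 1, 3, 4, 2, 3, 0, 2, 1, 3, 4, 5, 6, 7], 48, [0, 0, 1, -1, 1, -1, 1, -1], [122, 162, 127, 136, 141, 131, 124, 22], [(false, 1), (false, 4), (true, 61), (true, 50), (true, 62), (true, 49), (true, 63), (true, 48)]⟩,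
   ⟨[6, 7, 5, 6, 4, 5, 1, 3, 4, 2, 3, 0, 2, 1, 3, 4, 5, 6, 7], 50, [0, -1, 0, 1, 0, 0, -1, 0], [120, 162, 133, 135, 142, 126, 123, 26], [(false, 1), (true, 51), (false, 3), (true, 63), (false, 5), (false, 6), (true, 50), (false, 0)]⟩,
   ⟨[5, 6, 0, 2, 3, 4, 5, 1, 3, 4, 2, 3, 0, 2, 1, 3, 4, 5, 6, 7], 52, [-1, 0, 0, 0, 1, -1, 0, 1], [121, 135, 127, 130, 141, 165, 125, 10], [(true, 53), (false, 4), (false, 1), (false, 3), (true, 64), (true, 52), (false, 0), (true, 65)]⟩,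
   ⟨[7, 6, 0, 2, 3, 4, 5, 1, 3, 4, 2, 3, 0, 2, 1, 3, 4, 5, 6, 7], 52, [-1, 0, 0, 0, 0, 1, 0, -1], [125, 135, 126, 130, 141, 166, 121, 11], [(true, 54), (false, 4), (false, 1), (false, 3), (false, 2), (true, 65), (false, 6), (true, 52)]⟩,
   ⟨[4, 5, 6, 2, 3, 4, 5, 1, 3, 4, 2, 3, 0, 2, 1, 3, 4, 5, 6, 7], 53, [1, 0, -1, 1, -1, 0, 0, 1], [121, 163, 123, 131, 141, 136, 129, 16], [(true, 64), (false, 4), (true, 55), (true, 66), (true, 53), (false, 2), (false, 0), (true, 67)]⟩,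
   ⟨[7, 5, 6, 2, 3, 4, 5, 1, 3, 4, 2, 3, 0, 2, 1, 3, 4, 5, 6, 7], 53, [1, 0, -1, 0, 1, -1, 1, -1], [122, 163, 127, 130, 141, 137, 124, 17], [(true, 65), (false, 4), (true, 56), (false, 3), (true, 67), (true, 54), (true, 68), (true, 53)]⟩,
   ⟨[7, 4, 5, 6, 3, 4, 5, 1, 3, 4, 2, 3, 0, 2, 1, 3, 4, 5, 6, 7], 55, [0, 0, 1, 0, -1, 0, 1, -1], [122, 162, 123, 137, 141, 130, 128, 21], [(false, 1), (false, 4), (true, 67), (false, 5), (true, 56), (false, 2), (true, 69), (true, 55)]⟩,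
   ⟨[6, 7, 5, 6, 3, 4, 5, 1, 3, 4, 2, 3, 0, 2, 1, 3, 4, 5, 6, 7], 56, [0, 0, 1, -1, 1, 0, -1, 0], [120, 162, 128, 136, 141, 131, 123, 22], [(false, 1), (false, 4), (true, 68), (true, 57), (true, 69), (false, 6), (true, 56), (false, 0)]⟩,
   ⟨[4, 5, 6, 0, 2, 3, 4, 5, 1, 3, 4, 2, 3, 0, 2, 1, 3, 4, 5, 6, 7], 58, [-1, 0, 0, 1, -1, 0, 0, 1], [121, 135, 123, 131, 141, 164, 129, 9], [(true, 60), (false, 4), (false, 1), (true, 70), (true, 58), (false, 2), (false, 0), (true, 71)]⟩,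
   ⟨[7, 5, 6, 0, 2, 3, 4, 5, 1, 3, 4, 2, 3, 0, 2, 1, 3, 4, 5, 6, 7], 58, [-1, 0, 0, 0, 1, -1, 1, -1], [122, 135, 127, 130, 141, 165, 124, 10], [(true, 61), (false, 4), (false, 1), (false, 3), (true, 71), (true, 59), (true, 72), (true, 58)]⟩,
   ⟨[3, 4, 5, 6, 2, 3, 4, 5, 1, 3, 4, 2, 3, 0, 2, 1, 3, 4, 5, 6, 7], 60, [1, 1, 0, -1, 0, 0, 0, 1], [121, 164, 123, 126, 142, 135, 134, 15], [(true, 70), (true, 73), (false, 5), (true, 60), (false, 3), (false, 2), (false, 0), (true, 74)]⟩,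
   ⟨[7, 4, 5, 6, 2, 3, 4, 5, 1, 3, 4, 2, 3, 0, 2, 1, 3, 4, 5, 6, 7], 60, [1, 0, -1, 1, -1, 0, 1, -1], [122, 163, 123, 131, 141, 136, 128, 16], [(true, 71), (false, 4), (true, 62), (true, 74), (true, 61), (false, 2), (true, 75), (true, 60)]⟩,
   ⟨[6, 7, 5, 6, 2, 3, 4, 5, 1, 3, 4, 2, 3, 0, 2, 1, 3, 4, 5, 6, 7], 61, [1, 0, -1, 0, 1, 0, -1, 0], [120, 163, 128, 130, 141, 137, 123, 17], [(true, 72), (false, 4), (true, 63), (false, 3), (true, 75), (false, 6), (true, 61), (false, 0)]⟩,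
   ⟨[6, 7, 4, 5, 6, 3, 4, 5, 1, 3, 4, 2, 3, 0, 2, 1, 3, 4, 5, 6, 7], 62, [0, 0, 1, 0, -1, 1, -1, 0], [120, 162, 124, 137, 141, 130, 127, 21], [(false, 1), (false, 4), (true, 75), (false, 5), (true, 63), (true, 76), (true, 62), (false, 0)]⟩,
   ⟨[3, 4, 5, 6, 0, 2, 3, 4, 5, 1, 3, 4, 2, 3, 0, 2, 1, 3, 4, 5, 6, 7], 64, [-1, 1, 1, -1, 0, 0, 0, 1], [121, 136, 123, 126, 142, 163, 134, 8], [(true, 66), (true, 77), (true, 78), (true, 64), (false, 3), (false, 2), (false, 0), (true, 79)]⟩,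
   ⟨[7, 4, 5, 6, 0, 2, 3, 4, 5, 1, 3, 4, 2, 3, 0, 2, 1, 3, 4, 5, 6, 7], 64, [-1, 0, 0, 1, -1, 0, 1, -1], [122, 135, 123, 131, 141, 164, 128, 9], [(true, 67), (false, 4), (false, 1), (true, 79), (true, 65), (false, 2), (true, 80), (true, 64)]⟩,
   ⟨[6, 7, 5, 6, 0, 2, 3, 4, 5, 1, 3, 4, 2, 3, 0, 2, 1, 3, 4, 5, 6, 7], 65, [-1, 0, 0, 0, 1, 0, -1, 0], [120, 135, 128, 130, 141, 165, 123, 10], [(true, 68), (false, 4), (false, 1), (false, 3), (true, 80), (false, 6), (true, 65), (false, 0)]⟩,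
   ⟨[1, 3, 4, 5, 6, 2, 3, 4, 5, 1, 3, 4, 2, 3, 0, 2, 1, 3, 4, 5, 6, 7], 66, [1, -1, 0, 0, 0, 0, 0, 1], [121, 169, 123, 126, 130, 135, 146, 14], [(true, 77), (true, 66), (false, 5), (false, 4), (false, 3), (false, 2), (false, 0), (true, 81)]⟩,
   ⟨[7, 3, 4, 5, 6, 2, 3, 4, 5, 1, 3, 4, 2, 3, 0, 2, 1, 3, 4, 5, 6, 7], 66, [1, 1, 0, -1, 0, 0, 1, -1], [122, 164, 123, 126, 142, 135, 133, 15], [(true, 79), (true, 81), (false, 5), (true, 67), (false, 3), (false, 2), (true, 82), (true, 66)]⟩,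
   ⟨[6, 7, 4, 5, 6, 2, 3, 4, 5, 1, 3, 4, 2, 3, 0, 2, 1, 3, 4, 5, 6, 7], 67, [1, 0, -1, 1, -1, 1, -1, 0], [120, 163, 124, 131, 141, 136, 127, 16], [(true, 80), (false, 4), (true, 69), (true, 82), (true, 68), (true, 83), (true, 67), (false, 0)]⟩,
   ⟨[5, 6, 7, 4, 5, 6, 3, 4, 5, 1, 3, 4, 2, 3, 0, 2, 1, 3, 4, 5, 6, 7], 69, [0, 0, 1, 0, 0, -1, 0, 0], [120, 162, 121, 138, 141, 130, 126, 21], [(false, 1), (false, 4), (true, 83), (false, 5), (false, 6), (true, 69), (false, 2), (false, 0)]⟩,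
   ⟨[1, 3, 4, 5, 6, 0, 2, 3, 4, 5, 1, 3, 4, 2, 3, 0, 2, 1, 3, 4, 5, 6, 7], 70, [-1, -1, 1, 0, 0, 0, 0, 1], [121, 147, 123, 126, 130, 163, 146, 6], [(true, 73), (true, 70), (true, 84), (false, 4), (false, 3), (false, 2), (false, 0), (true, 85)]⟩,
   ⟨[2, 3, 4, 5, 6, 0, 2, 3, 4, 5, 1, 3, 4, 2, 3, 0, 2, 1, 3, 4, 5, 6, 7], 70, [0, 1, -1, 0, 0, 0, 0, 1], [121, 130, 123, 126, 147, 162, 140, 7], [(false, 5), (true, 84), (true, 70), (false, 1), (false, 3), (false, 2), (false, 0), (true, 86)]⟩,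
   ⟨[7, 3, 4, 5, 6, 0, 2, 3, 4, 5, 1, 3, 4, 2, 3, 0, 2, 1, 3, 4, 5, 6, 7], 70, [-1, 1, 1, -1, 0, 0, 1, -1], [122, 136, 123, 126, 142, 163, 133, 8], [(true, 74), (true, 85), (true, 86), (true, 71), (false, 3), (false, 2), (true, 87), (true, 70)]⟩,
   ⟨[6, 7, 4, 5, 6, 0, 2, 3, 4, 5, 1, 3, 4, 2, 3, 0, 2, 1, 3, 4, 5, 6, 7], 71, [-1, 0, 0, 1, -1, 1, -1, 0], [120, 135, 124, 131, 141, 164, 127, 9], [(true, 75), (false, 4), (false, 1), (true, 87), (true, 72), (true, 88), (true, 71), (false, 0)]⟩,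
   ⟨[7, 1, 3, 4, 5, 6, 2, 3, 4, 5, 1, 3, 4, 2, 3, 0, 2, 1, 3, 4, 5, 6, 7], 73, [1, -1, 0, 0, 0, 0, 1, -1], [122, 169, 123, 126, 130, 135, 145, 14], [(true, 85), (true, 74), (false, 5), (false, 4), (false, 3), (false, 2), (true, 89), (true, 73)]⟩,
   ⟨[6, 7, 3, 4, 5, 6, 2, 3, 4, 5, 1, 3, 4, 2, 3, 0, 2, 1, 3, 4, 5, 6, 7], 74, [1, 1, 0, -1, 0, 1, -1, 0], [120, 164, 124, 126, 142, 135, 132, 15], [(true, 87), (true, 89), (false, 5), (true, 75), (false, 3), (true, 90), (true, 74), (false, 0)]⟩,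
   ⟨[5, 6, 7, 4, 5, 6, 2, 3, 4, 5, 1, 3, 4, 2, 3, 0, 2, 1, 3, 4, 5, 6, 7], 75, [1, 0, -1, 1, 0, -1, 0, 0], [120, 163, 121, 132, 141, 136, 126, 16], [(true, 88), (false, 4), (true, 76), (true, 90), (false, 6), (true, 75), (false, 2), (false, 0)]⟩,
   ⟨[2, 1, 3, 4, 5, 6, 0, 2, 3, 4, 5, 1, 3, 4, 2, 3, 0, 2, 1, 3, 4, 5, 6, 7], 77, [0, -1, -1, 1, 0, 0, 0, 1], [121, 142, 123, 126, 136, 162, 151, 5], [(false, 5), (true, 78), (true, 77), (true, 91), (false, 3), (false, 2), (false, 0), (true, 92)]⟩,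
   ⟨[7, 1, 3, 4, 5, 6, 0, 2, 3, 4, 5, 1, 3, 4, 2, 3, 0, 2, 1, 3, 4, 5, 6, 7], 77, [-1, -1, 1, 0, 0, 0, 1, -1], [122, 147, 123, 126, 130, 163, 145, 6], [(true, 81), (true, 79), (true, 92), (false, 4), (false, 3), (false, 2), (true, 93), (true, 77)]⟩,
   ⟨[7, 2, 3, 4, 5, 6, 0, 2, 3, 4, 5, 1, 3, 4, 2, 3, 0, 2, 1, 3, 4, 5, 6, 7], 78, [0, 1, -1, 0, 0, 0, 1, -1], [122, 130, 123, 126, 147, 162, 139, 7], [(false, 5), (true, 92), (true, 79), (false, 1), (false, 3), (false, 2), (true, 94), (true, 78)]⟩,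
   ⟨[6, 7, 3, 4, 5, 6, 0, 2, 3, 4, 5, 1, 3, 4, 2, 3, 0, 2, 1, 3, 4, 5, 6, 7], 79, [-1, 1, 1, -1, 0, 1, -1, 0], [120, 136, 124, 126, 142, 163, 132, 8], [(true, 82), (true, 93), (true, 94), (true, 80), (false, 3), (true, 95), (true, 79), (false, 0)]⟩,
   ⟨[5, 6, 7, 4, 5, 6, 0, 2, 3, 4, 5, 1, 3, 4, 2, 3, 0, 2, 1, 3, 4, 5, 6, 7], 80, [-1, 0, 0, 1, 0, -1, 0, 0], [120, 135, 121, 132, 141, 164, 126, 9], [(true, 83), (false, 4), (false, 1), (true, 95), (false, 6), (true, 80), (false, 2), (false, 0)]⟩,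
   ⟨[6, 7, 1, 3, 4, 5, 6, 2, 3, 4, 5, 1, 3, 4, 2, 3, 0, 2, 1, 3, 4, 5, 6, 7], 81, [1, -1, 0, 0, 0, 1, -1, 0], [120, 169, 124, 126, 130, 135, 144, 14], [(true, 93), (true, 82), (false, 5), (false, 4), (false, 3), (true, 96), (true, 81), (false, 0)]⟩,
   ⟨[5, 6, 7, 3, 4, 5, 6, 2, 3, 4, 5, 1, 3, 4, 2, 3, 0, 2, 1, 3, 4, 5, 6, 7], 82, [1, 1, 0, -1, 1, -1, 0, 0], [120, 164, 121, 127, 142, 135, 131, 15], [(true, 95), (true, 96), (false, 5), (true, 83), (true, 97), (true, 82), (false, 2), (false, 0)]⟩,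
   ⟨[3, 2, 1, 3, 4, 5, 6, 0, 2, 3, 4, 5, 1, 3, 4, 2, 3, 0, 2, 1, 3, 4, 5, 6, 7], 84, [0, 0, 0, -1, 1, 0, 0, 1], [121, 141, 123, 131, 135, 162, 155, 4], [(false, 5), (false, 1), (false, 4), (true, 84), (true, 98), (false, 2), (false, 0), (true, 99)]⟩,
   ⟨[7, 2, 1, 3, 4, 5, 6, 0, 2, 3, 4, 5, 1, 3, 4, 2, 3, 0, 2, 1, 3, 4, 5, 6, 7], 84, [0, -1, -1, 1, 0, 0, 1, -1], [122, 142, 123, 126, 136, 162, 150, 5], [(false, 5), (true, 86), (true, 85), (true, 99), (false, 3), (false, 2), (true, 100), (true, 84)]⟩,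
   ⟨[6, 7, 1, 3, 4, 5, 6, 0, 2, 3, 4, 5, 1, 3, 4, 2, 3, 0, 2, 1, 3, 4, 5, 6, 7], 85, [-1, -1, 1, 0, 0, 1, -1, 0], [120, 147, 124, 126, 130, 163, 144, 6], [(true, 89), (true, 87), (true, 100), (false, 4), (false, 3), (true, 101), (true, 85), (false, 0)]⟩,
   ⟨[6, 7, 2, 3, 4, 5, 6, 0, 2, 3, 4, 5, 1, 3, 4, 2, 3, 0, 2, 1, 3, 4, 5, 6, 7], 86, [0, 1, -1, 0, 0, 1, -1, 0], [120, 130, 124, 126, 147, 162, 138, 7], [(false, 5), (true, 100), (true, 87), (false, 1), (false, 3), (true, 102), (true, 86), (false, 0)]⟩,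
   ⟨[5, 6, 7, 3, 4, 5, 6, 0, 2, 3, 4, 5, 1, 3, 4, 2, 3, 0, 2, 1, 3, 4, 5, 6, 7], 87, [-1, 1, 1, -1, 1, -1, 0, 0], [120, 136, 121, 127, 142, 163, 131, 8], [(true, 90), (true, 101), (true, 102), (true, 88), (true, 103), (true, 87), (false, 2), (false, 0)]⟩,
   ⟨[5, 6, 7, 1, 3, 4, 5, 6, 2, 3, 4, 5, 1, 3, 4, 2, 3, 0, 2, 1, 3, 4, 5, 6, 7], 89, [1, -1, 0, 0, 1, -1, 0, 0], [120, 169, 121, 127, 130, 135, 143, 14], [(true, 101), (true, 90), (false, 5), (false, 4), (true, 104), (true, 89), (false, 2), (false, 0)]⟩,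
   ⟨[4, 5, 6, 7, 3, 4, 5, 6, 2, 3, 4, 5, 1, 3, 4, 2, 3, 0, 2, 1, 3, 4, 5, 6, 7], 90, [1, 1, 0, 0, -1, 0, 0, 0], [120, 165, 121, 123, 143, 135, 130, 15], [(true, 103), (true, 104), (false, 5), (false, 6), (true, 90), (false, 3), (false, 2), (false, 0)]⟩,
   ⟨[4, 3, 2, 1, 3, 4, 5, 6, 0, 2, 3, 4, 5, 1, 3, 4, 2, 3, 0, 2, 1, 3, 4, 5, 6, 7], 91, [0, 0, 0, 0, -1, 1, 0, 1], [121, 141, 127, 130, 135, 162, 158, 3], [(false, 5), (false, 1), (false, 4), (false, 3), (true, 91), (true, 105), (false, 0), (true, 106)]⟩,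
   ⟨[7, 3, 2, 1, 3, 4, 5, 6, 0, 2, 3, 4, 5, 1, 3, 4, 2, 3, 0, 2, 1, 3, 4, 5, 6, 7], 91, [0, 0, 0, -1, 1, 0, 1, -1], [122, 141, 123, 131, 135, 162, 154, 4], [(false, 5), (false, 1), (false, 4), (true, 92), (true, 106), (false, 2), (true, 107), (true, 91)]⟩,
   ⟨[6, 7, 2, 1, 3, 4, 5, 6, 0, 2, 3, 4, 5, 1, 3, 4, 2, 3, 0, 2, 1, 3, 4, 5, 6, 7], 92, [0, -1, -1, 1, 0, 1, -1, 0], [120, 142, 124, 126, 136, 162, 149, 5], [(false, 5), (true, 94), (true, 93), (true, 107), (false, 3), (true, 108), (true, 92), (false, 0)]⟩,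
   ⟨[5, 6, 7, 1, 3, 4, 5, 6, 0, 2, 3, 4, 5, 1, 3, 4, 2, 3, 0, 2, 1, 3, 4, 5, 6, 7], 93, [-1, -1, 1, 0, 1, -1, 0, 0], [120, 147, 121, 127, 130, 163, 143, 6], [(true, 96), (true, 95), (true, 108), (false, 4), (true, 109), (true, 93), (false, 2), (false, 0)]⟩,
   ⟨[5, 6, 7, 2, 3, 4, 5, 6, 0, 2, 3, 4, 5, 1, 3, 4, 2, 3, 0, 2, 1, 3, 4, 5, 6, 7], 94, [0, 1, -1, 0, 1, -1, 0, 0], [120, 130, 121, 127, 147, 162, 137, 7], [(false, 5), (true, 108), (true, 95), (false, 1), (true, 110), (true, 94), (false, 2), (false, 0)]⟩,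
   ⟨[4, 5, 6, 7, 3, 4, 5, 6, 0, 2, 3, 4, 5, 1, 3, 4, 2, 3, 0, 2, 1, 3, 4, 5, 6, 7], 95, [-1, 1, 1, 0, -1, 0, 0, 0], [120, 137, 121, 123, 143, 163, 130, 8], [(true, 97), (true, 109), (true, 110), (false, 6), (true, 95), (false, 3), (false, 2), (false, 0)]⟩,
   ⟨[4, 5, 6, 7, 1, 3, 4, 5, 6, 2, 3, 4, 5, 1, 3, 4, 2, 3, 0, 2, 1, 3, 4, 5, 6, 7], 96, [1, -1, 0, 1, -1, 0, 0, 0], [120, 170, 121, 123, 131, 135, 142, 14], [(true, 109), (true, 97), (false, 5), (true, 111), (true, 96), (false, 3), (false, 2), (false, 0)]⟩,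
   ⟨[5, 4, 3, 2, 1, 3, 4, 5, 6, 0, 2, 3, 4, 5, 1, 3, 4, 2, 3, 0, 2, 1, 3, 4, 5, 6, 7], 98, [0, 0, 0, 0, 0, -1, 1, 1], [124, 141, 126, 130, 135, 162, 160, 2], [(false, 5), (false, 1), (false, 4), (false, 3), (false, 2), (true, 98), (true, 112), (true, 113)]⟩,
   ⟨[7, 4, 3, 2, 1, 3, 4, 5, 6, 0, 2, 3, 4, 5, 1, 3, 4, 2, 3, 0, 2, 1, 3, 4, 5, 6, 7], 98, [0, 0, 0, 0, -1, 1, 1, -1], [122, 141, 127, 130, 135, 162, 157, 3], [(false, 5), (false, 1), (false, 4), (false, 3), (true, 99), (true, 113), (true, 114), (true, 98)]⟩,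
   ⟨[6, 7, 3, 2, 1, 3, 4, 5, 6, 0, 2, 3, 4, 5, 1, 3, 4, 2, 3, 0, 2, 1, 3, 4, 5, 6, 7], 99, [0, 0, 0, -1, 1, 1, -1, 0], [120, 141, 124, 131, 135, 162, 153, 4], [(false, 5), (false, 1), (false, 4), (true, 100), (true, 114), (true, 115), (true, 99), (false, 0)]⟩,
   ⟨[5, 6, 7, 2, 1, 3, 4, 5, 6, 0, 2, 3, 4, 5, 1, 3, 4, 2, 3, 0, 2, 1, 3, 4, 5, 6, 7], 100, [0, -1, -1, 1, 1, -1, 0, 0], [120, 142, 121, 127, 136, 162, 148, 5], [(false, 5), (true, 102), (true, 101), (true, 115), (true, 116), (true, 100), (false, 2), (false, 0)]⟩,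
   ⟨[4, 5, 6, 7, 1, 3, 4, 5, 6, 0, 2, 3, 4, 5, 1, 3, 4, 2, 3, 0, 2, 1, 3, 4, 5, 6, 7], 101, [-1, -1, 1, 1, -1, 0, 0, 0], [120, 148, 121, 123, 131, 163, 142, 6], [(true, 104), (true, 103), (true, 116), (true, 117), (true, 101), (false, 3), (false, 2), (false, 0)]⟩,
   ⟨[4, 5, 6, 7, 2, 3, 4, 5, 6, 0, 2, 3, 4, 5, 1, 3, 4, 2, 3, 0, 2, 1, 3, 4, 5, 6, 7], 102, [0, 1, -1, 1, -1, 0, 0, 0], [120, 131, 121, 123, 148, 162, 136, 7], [(false, 5), (true, 116), (true, 103), (true, 118), (true, 102), (false, 3), (false, 2), (false, 0)]⟩,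
   ⟨[3, 4, 5, 6, 7, 1, 3, 4, 5, 6, 2, 3, 4, 5, 1, 3, 4, 2, 3, 0, 2, 1, 3, 4, 5, 6, 7], 104, [1, 0, 1, -1, 0, 0, 0, 0], [120, 174, 121, 123, 126, 136, 141, 14], [(true, 117), (false, 6), (true, 119), (true, 104), (false, 4), (false, 3), (false, 2), (false, 0)]⟩,
   ⟨[6, 5, 4, 3, 2, 1, 3, 4, 5, 6, 0, 2, 3, 4, 5, 1, 3, 4, 2, 3, 0, 2, 1, 3, 4, 5, 6, 7], 105, [0, 0, 0, 0, 0, 0, -1, 2], [123, 141, 126, 130, 135, 162, 161, 1], [(false, 5), (false, 1), (false, 4), (false, 3), (false, 2), (false, 0), (true, 105), (true, 120)]⟩,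
   ⟨[7, 5, 4, 3, 2, 1, 3, 4, 5, 6, 0, 2, 3, 4, 5, 1, 3, 4, 2, 3, 0, 2, 1, 3, 4, 5, 6, 7], 105, [0, 0, 0, 0, 0, -1, 2, -1], [125, 141, 126, 130, 135, 162, 159, 2], [(false, 5), (false, 1), (false, 4), (false, 3), (false, 2), (true, 106), (true, 121), (true, 105)]⟩,
   ⟨[6, 7, 4, 3, 2, 1, 3, 4, 5, 6, 0, 2, 3, 4, 5, 1, 3, 4, 2, 3, 0, 2, 1, 3, 4, 5, 6, 7], 106, [0, 0, 0, 0, -1, 2, -1, 0], [120, 141, 128, 130, 135, 162, 156, 3], [(false, 5), (false, 1), (false, 4), (false, 3), (true, 107), (true, 122), (true, 106), (false, 0)]⟩,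
   ⟨[5, 6, 7, 3, 2, 1, 3, 4, 5, 6, 0, 2, 3, 4, 5, 1, 3, 4, 2, 3, 0, 2, 1, 3, 4, 5, 6, 7], 107, [0, 0, 0, -1, 2, -1, 0, 0], [120, 141, 121, 132, 135, 162, 152, 4], [(false, 5), (false, 1), (false, 4), (true, 108), (true, 123), (true, 107), (false, 2), (false, 0)]⟩,
   ⟨[4, 5, 6, 7, 2, 1, 3, 4, 5, 6, 0, 2, 3, 4, 5, 1, 3, 4, 2, 3, 0, 2, 1, 3, 4, 5, 6, 7], 108, [0, -1, -1, 2, -1, 0, 0, 0], [120, 143, 121, 123, 137, 162, 147, 5], [(false, 5), (true, 110), (true, 109), (true, 124), (true, 108), (false, 3), (false, 2), (false, 0)]⟩,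
   ⟨[3, 4, 5, 6, 7, 1, 3, 4, 5, 6, 0, 2, 3, 4, 5, 1, 3, 4, 2, 3, 0, 2, 1, 3, 4, 5, 6, 7], 109, [-1, 0, 2, -1, 0, 0, 0, 0], [120, 152, 121, 123, 126, 164, 141, 6], [(true, 111), (false, 6), (true, 125), (true, 109), (false, 4), (false, 3), (false, 2), (false, 0)]⟩,
   ⟨[3, 4, 5, 6, 7, 2, 3, 4, 5, 6, 0, 2, 3, 4, 5, 1, 3, 4, 2, 3, 0, 2, 1, 3, 4, 5, 6, 7], 110, [0, 2, 0, -1, 0, 0, 0, 0], [120, 126, 121, 123, 152, 162, 135, 7], [(false, 5), (true, 126), (false, 6), (true, 110), (false, 1), (false, 3), (false, 2), (false, 0)]⟩,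
   ⟨[2, 3, 4, 5, 6, 7, 1, 3, 4, 5, 6, 2, 3, 4, 5, 1, 3, 4, 2, 3, 0, 2, 1, 3, 4, 5, 6, 7], 111, [2, 0, -1, 0, 0, 0, 0, 0], [120, 184, 121, 123, 126, 130, 141, 14], [(true, 127), (false, 6), (true, 111), (false, 5), (false, 4), (false, 3), (false, 2), (false, 0)]⟩,
   ⟨[7, 6, 5, 4, 3, 2, 1, 3, 4, 5, 6, 0, 2, 3, 4, 5, 1, 3, 4, 2, 3, 0, 2, 1, 3, 4, 5, 6, 7], 112, [0, 0, 0, 0, 0, 0, 1, -2], [123, 141, 126, 130, 135, 162, 161, 0], [(false, 5), (false, 1), (false, 4), (false, 3), (false, 2), (false, 0), (true, 128), (true, 112)]⟩,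
   ⟨[6, 7, 5, 4, 3, 2, 1, 3, 4, 5, 6, 0, 2, 3, 4, 5, 1, 3, 4, 2, 3, 0, 2, 1, 3, 4, 5, 6, 7], 113, [0, 0, 0, 0, 0, 1, -2, 1], [125, 141, 126, 130, 135, 162, 159, 1], [(false, 5), (false, 1), (false, 4), (false, 3), (false, 2), (true, 129), (true, 113), (true, 128)]⟩,
   ⟨[5, 6, 7, 4, 3, 2, 1, 3, 4, 5, 6, 0, 2, 3, 4, 5, 1, 3, 4, 2, 3, 0, 2, 1, 3, 4, 5, 6, 7], 114, [0, 0, 0, 0, 1, -2, 1, 0], [120, 141, 128, 130, 135, 162, 156, 2], [(false, 5), (false, 1), (false, 4), (false, 3), (true, 130), (true, 114), (true, 129), (false, 0)]⟩,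
   ⟨[4, 5, 6, 7, 3, 2, 1, 3, 4, 5, 6, 0, 2, 3, 4, 5, 1, 3, 4, 2, 3, 0, 2, 1, 3, 4, 5, 6, 7], 115, [0, 0, 0, 1, -2, 1, 0, 0], [120, 141, 121, 132, 135, 162, 152, 3], [(false, 5), (false, 1), (false, 4), (true, 131), (true, 115), (true, 130), (false, 2), (false, 0)]⟩,
   ⟨[3, 4, 5, 6, 7, 2, 1, 3, 4, 5, 6, 0, 2, 3, 4, 5, 1, 3, 4, 2, 3, 0, 2, 1, 3, 4, 5, 6, 7], 116, [0, 1, 1, -2, 1, 0, 0, 0], [120, 143, 121, 123, 137, 162, 147, 4], [(false, 5), (true, 132), (true, 133), (true, 116), (true, 131), (false, 3), (false, 2), (false, 0)]⟩,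
   ⟨[2, 3, 4, 5, 6, 7, 1, 3, 4, 5, 6, 0, 2, 3, 4, 5, 1, 3, 4, 2, 3, 0, 2, 1, 3, 4, 5, 6, 7], 117, [1, 0, -2, 1, 0, 0, 0, 0], [120, 152, 121, 123, 126, 164, 141, 5], [(true, 134), (false, 6), (true, 117), (true, 133), (false, 4), (false, 3), (false, 2), (false, 0)]⟩,
   ⟨[1, 3, 4, 5, 6, 7, 2, 3, 4, 5, 6, 0, 2, 3, 4, 5, 1, 3, 4, 2, 3, 0, 2, 1, 3, 4, 5, 6, 7], 118, [0, -2, 0, 1, 0, 0, 0, 0], [120, 126, 121, 123, 152, 162, 135, 5], [(false, 5), (true, 118), (false, 6), (true, 132), (false, 1), (false, 3), (false, 2), (false, 0)]⟩,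
   ⟨[0, 2, 3, 4, 5, 6, 7, 1, 3, 4, 5, 6, 2, 3, 4, 5, 1, 3, 4, 2, 3, 0, 2, 1, 3, 4, 5, 6, 7], 119, [-2, 0, 1, 0, 0, 0, 0, 0], [120, 184, 121, 123, 126, 130, 141, 6], [(true, 119), (false, 6), (true, 134), (false, 5), (false, 4), (false, 3), (false, 2), (false, 0)]⟩,
   ⟨[6, 7, 6, 5, 4, 3, 2, 1, 3, 4, 5, 6, 0, 2, 3, 4, 5, 1, 3, 4, 2, 3, 0, 2, 1, 3, 4, 5, 6, 7], 120, [0, 0, 0, 0, 0, 1, -1, -1], [124, 141, 126, 130, 135, 162, 160, 0], [(false, 5), (false, 1), (false, 4), (false, 3), (false, 2), (true, 135), (true, 120), (true, 121)]⟩,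
   ⟨[5, 6, 7, 5, 4, 3, 2, 1, 3, 4, 5, 6, 0, 2, 3, 4, 5, 1, 3, 4, 2, 3, 0, 2, 1, 3, 4, 5, 6, 7], 121, [0, 0, 0, 0, 1, -1, -1, 1], [122, 141, 127, 130, 135, 162, 157, 1], [(false, 5), (false, 1), (false, 4), (false, 3), (true, 136), (true, 121), (true, 122), (true, 135)]⟩,
   ⟨[4, 5, 6, 7, 4, 3, 2, 1, 3, 4, 5, 6, 0, 2, 3, 4, 5, 1, 3, 4, 2, 3, 0, 2, 1, 3, 4, 5, 6, 7], 122, [0, 0, 0, 1, -1, -1, 1, 0], [120, 141, 124, 131, 135, 162, 153, 2], [(false, 5), (false, 1), (false, 4), (true, 137), (true, 122), (true, 123), (true, 136), (false, 0)]⟩,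
   ⟨[3, 4, 5, 6, 7, 3, 2, 1, 3, 4, 5, 6, 0, 2, 3, 4, 5, 1, 3, 4, 2, 3, 0, 2, 1, 3, 4, 5, 6, 7], 123, [0, 1, 1, -1, -1, 1, 0, 0], [120, 142, 121, 127, 136, 162, 148, 3], [(false, 5), (true, 138), (true, 139), (true, 123), (true, 124), (true, 137), (false, 2), (false, 0)]⟩,
   ⟨[1, 3, 4, 5, 6, 7, 2, 1, 3, 4, 5, 6, 0, 2, 3, 4, 5, 1, 3, 4, 2, 3, 0, 2, 1, 3, 4, 5, 6, 7], 124, [0, -1, 1, -1, 1, 0, 0, 0], [120, 131, 121, 123, 148, 162, 136, 4], [(false, 5), (true, 124), (true, 140), (true, 126), (true, 138), (false, 3), (false, 2), (false, 0)]⟩,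
   ⟨[2, 3, 4, 5, 6, 7, 2, 1, 3, 4, 5, 6, 0, 2, 3, 4, 5, 1, 3, 4, 2, 3, 0, 2, 1, 3, 4, 5, 6, 7], 124, [1, 1, -1, -1, 1, 0, 0, 0], [120, 148, 121, 123, 131, 163, 142, 4], [(true, 141), (true, 140), (true, 124), (true, 125), (true, 139), (false, 3), (false, 2), (false, 0)]⟩,
   ⟨[0, 2, 3, 4, 5, 6, 7, 1, 3, 4, 5, 6, 0, 2, 3, 4, 5, 1, 3, 4, 2, 3, 0, 2, 1, 3, 4, 5, 6, 7], 125, [-1, 0, -1, 1, 0, 0, 0, 0], [120, 174, 121, 123, 126, 136, 141, 5], [(true, 125), (false, 6), (true, 127), (true, 141), (false, 4), (false, 3), (false, 2), (false, 0)]⟩,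
   ⟨[5, 6, 7, 6, 5, 4, 3, 2, 1, 3, 4, 5, 6, 0, 2, 3, 4, 5, 1, 3, 4, 2, 3, 0, 2, 1, 3, 4, 5, 6, 7], 128, [0, 0, 0, 0, 1, -1, 0, -1], [121, 141, 127, 130, 135, 162, 158, 0], [(false, 5), (false, 1), (false, 4), (false, 3), (true, 142), (true, 128), (false, 0), (true, 129)]⟩,
   ⟨[4, 5, 6, 7, 5, 4, 3, 2, 1, 3, 4, 5, 6, 0, 2, 3, 4, 5, 1, 3, 4, 2, 3, 0, 2, 1, 3, 4, 5, 6, 7], 129, [0, 0, 0, 1, -1, 0, -1, 1], [122, 141, 123, 131, 135, 162, 154, 1], [(false, 5), (false, 1), (false, 4), (true, 143), (true, 129), (false, 2), (true, 130), (true, 142)]⟩,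
   ⟨[3, 4, 5, 6, 7, 4, 3, 2, 1, 3, 4, 5, 6, 0, 2, 3, 4, 5, 1, 3, 4, 2, 3, 0, 2, 1, 3, 4, 5, 6, 7], 130, [0, 1, 1, -1, 0, -1, 1, 0], [120, 142, 124, 126, 136, 162, 149, 2], [(false, 5), (true, 144), (true, 145), (true, 130), (false, 3), (true, 131), (true, 143), (false, 0)]⟩,
   ⟨[1, 3, 4, 5, 6, 7, 3, 2, 1, 3, 4, 5, 6, 0, 2, 3, 4, 5, 1, 3, 4, 2, 3, 0, 2, 1, 3, 4, 5, 6, 7], 131, [0, -1, 1, 0, -1, 1, 0, 0], [120, 130, 121, 127, 147, 162, 137, 3], [(false, 5), (true, 131), (true, 146), (false, 1), (true, 132), (true, 144), (false, 2), (false, 0)]⟩,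
   ⟨[2, 3, 4, 5, 6, 7, 3, 2, 1, 3, 4, 5, 6, 0, 2, 3, 4, 5, 1, 3, 4, 2, 3, 0, 2, 1, 3, 4, 5, 6, 7], 131, [1, 1, -1, 0, -1, 1, 0, 0], [120, 147, 121, 127, 130, 163, 143, 3], [(true, 147), (true, 146), (true, 131), (false, 4), (true, 133), (true, 145), (false, 2), (false, 0)]⟩,
   ⟨[2, 1, 3, 4, 5, 6, 7, 2, 1, 3, 4, 5, 6, 0, 2, 3, 4, 5, 1, 3, 4, 2, 3, 0, 2, 1, 3, 4, 5, 6, 7], 132, [1, -1, -1, 0, 1, 0, 0, 0], [120, 137, 121, 123, 143, 163, 130, 4], [(true, 148), (true, 133), (true, 132), (false, 6), (true, 146), (false, 3), (false, 2), (false, 0)]⟩,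
   ⟨[0, 2, 3, 4, 5, 6, 7, 2, 1, 3, 4, 5, 6, 0, 2, 3, 4, 5, 1, 3, 4, 2, 3, 0, 2, 1, 3, 4, 5, 6, 7], 133, [-1, 1, 0, -1, 1, 0, 0, 0], [120, 170, 121, 123, 131, 135, 142, 4], [(true, 133), (true, 148), (false, 5), (true, 134), (true, 147), (false, 3), (false, 2), (false, 0)]⟩,
   ⟨[4, 5, 6, 7, 6, 5, 4, 3, 2, 1, 3, 4, 5, 6, 0, 2, 3, 4, 5, 1, 3, 4, 2, 3, 0, 2, 1, 3, 4, 5, 6, 7], 135, [0, 0, 0, 1, -1, 0, 0, -1], [121, 141, 123, 131, 135, 162, 155, 0], [(false, 5), (false, 1), (false, 4), (true, 149), (true, 135), (false, 2), (false, 0), (true, 136)]⟩,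
   ⟨[3, 4, 5, 6, 7, 5, 4, 3, 2, 1, 3, 4, 5, 6, 0, 2, 3, 4, 5, 1, 3, 4, 2, 3, 0, 2, 1, 3, 4, 5, 6, 7], 136, [0, 1, 1, -1, 0, 0, -1, 1], [122, 142, 123, 126, 136, 162, 150, 1], [(false, 5), (true, 150), (true, 151), (true, 136), (false, 3), (false, 2), (true, 137), (true, 149)]⟩,
   ⟨[1, 3, 4, 5, 6, 7, 4, 3, 2, 1, 3, 4, 5, 6, 0, 2, 3, 4, 5, 1, 3, 4, 2, 3, 0, 2, 1, 3, 4, 5, 6, 7], 137, [0, -1, 1, 0, 0, -1, 1, 0], [120, 130, 124, 126, 147, 162, 138, 2], [(false, 5), (true, 137), (true, 152), (false, 1), (false, 3), (true, 138), (true, 150), (false, 0)]⟩,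
   ⟨[2, 3, 4, 5, 6, 7, 4, 3, 2, 1, 3, 4, 5, 6, 0, 2, 3, 4, 5, 1, 3, 4, 2, 3, 0, 2, 1, 3, 4, 5, 6, 7], 137, [1, 1, -1, 0, 0, -1, 1, 0], [120, 147, 124, 126, 130, 163, 144, 2], [(true, 153), (true, 152), (true, 137), (false, 4), (false, 3), (true, 139), (true, 151), (false, 0)]⟩,
   ⟨[2, 1, 3, 4, 5, 6, 7, 3, 2, 1, 3, 4, 5, 6, 0, 2, 3, 4, 5, 1, 3, 4, 2, 3, 0, 2, 1, 3, 4, 5, 6, 7], 138, [1, -1, -1, 1, -1, 1, 0, 0], [120, 136, 121, 127, 142, 163, 131, 3], [(true, 154), (true, 139), (true, 138), (true, 155), (true, 140), (true, 152), (false, 2), (false, 0)]⟩,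
   ⟨[0, 2, 3, 4, 5, 6, 7, 3, 2, 1, 3, 4, 5, 6, 0, 2, 3, 4, 5, 1, 3, 4, 2, 3, 0, 2, 1, 3, 4, 5, 6, 7], 139, [-1, 1, 0, 0, -1, 1, 0, 0], [120, 169, 121, 127, 130, 135, 143, 3], [(true, 139), (true, 154), (false, 5), (false, 4), (true, 141), (true, 153), (false, 2), (false, 0)]⟩,
   ⟨[0, 2, 1, 3, 4, 5, 6, 7, 2, 1, 3, 4, 5, 6, 0, 2, 3, 4, 5, 1, 3, 4, 2, 3, 0, 2, 1, 3, 4, 5, 6, 7], 140, [-1, -1, 0, 0, 1, 0, 0, 0], [120, 165, 121, 123, 143, 135, 130, 4], [(true, 140), (true, 141), (false, 5), (false, 6), (true, 154), (false, 3), (false, 2), (false, 0)]⟩,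
   ⟨[3, 4, 5, 6, 7, 6, 5, 4, 3, 2, 1, 3, 4, 5, 6, 0, 2, 3, 4, 5, 1, 3, 4, 2, 3, 0, 2, 1, 3, 4, 5, 6, 7], 142, [0, 1, 1, -1, 0, 0, 0, -1], [121, 142, 123, 126, 136, 162, 151, 0], [(false, 5), (true, 156), (true, 157), (true, 142), (false, 3), (false, 2), (false, 0), (true, 143)]⟩,
   ⟨[1, 3, 4, 5, 6, 7, 5, 4, 3, 2, 1, 3, 4, 5, 6, 0, 2, 3, 4, 5, 1, 3, 4, 2, 3, 0, 2, 1, 3, 4, 5, 6, 7], 143, [0, -1, 1, 0, 0, 0, -1, 1], [122, 130, 123, 126, 147, 162, 139, 1], [(false, 5), (true, 143), (true, 158), (false, 1), (false, 3), (false, 2), (true, 144), (true, 156)]⟩,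
   ⟨[2, 3, 4, 5, 6, 7, 5, 4, 3, 2, 1, 3, 4, 5, 6, 0, 2, 3, 4, 5, 1, 3, 4, 2, 3, 0, 2, 1, 3, 4, 5, 6, 7], 143, [1, 1, -1, 0, 0, 0, -1, 1], [122, 147, 123, 126, 130, 163, 145, 1], [(true, 159), (true, 158), (true, 143), (false, 4), (false, 3), (false, 2), (true, 145), (true, 157)]⟩,
   ⟨[2, 1, 3, 4, 5, 6, 7, 4, 3, 2, 1, 3, 4, 5, 6, 0, 2, 3, 4, 5, 1, 3, 4, 2, 3, 0, 2, 1, 3, 4, 5, 6, 7], 144, [1, -1, -1, 1, 0, -1, 1, 0], [120, 136, 124, 126, 142, 163, 132, 2], [(true, 160), (true, 145), (true, 144), (true, 161), (false, 3), (true, 146), (true, 158), (false, 0)]⟩,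
   ⟨[0, 2, 3, 4, 5, 6, 7, 4, 3, 2, 1, 3, 4, 5, 6, 0, 2, 3, 4, 5, 1, 3, 4, 2, 3, 0, 2, 1, 3, 4, 5, 6, 7], 145, [-1, 1, 0, 0, 0, -1, 1, 0], [120, 169, 124, 126, 130, 135, 144, 2], [(true, 145), (true, 160), (false, 5), (false, 4), (false, 3), (true, 147), (true, 159), (false, 0)]⟩,
   ⟨[0, 2, 1, 3, 4, 5, 6, 7, 3, 2, 1, 3, 4, 5, 6, 0, 2, 3, 4, 5, 1, 3, 4, 2, 3, 0, 2, 1, 3, 4, 5, 6, 7], 146, [-1, -1, 0, 1, -1, 1, 0, 0], [120, 164, 121, 127, 142, 135, 131, 3], [(true, 146), (true, 147), (false, 5), (true, 162), (true, 148), (true, 160), (false, 2), (false, 0)]⟩,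
   ⟨[3, 2, 1, 3, 4, 5, 6, 7, 3, 2, 1, 3, 4, 5, 6, 0, 2, 3, 4, 5, 1, 3, 4, 2, 3, 0, 2, 1, 3, 4, 5, 6, 7], 146, [1, 0, 0, -1, 0, 1, 0, 0], [120, 135, 121, 132, 141, 164, 126, 3], [(true, 162), (false, 4), (false, 1), (true, 146), (false, 6), (true, 161), (false, 2), (false, 0)]⟩,
   ⟨[1, 3, 4, 5, 6, 7, 6, 5, 4, 3, 2, 1, 3, 4, 5, 6, 0, 2, 3, 4, 5, 1, 3, 4, 2, 3, 0, 2, 1, 3, 4, 5, 6, 7], 149, [0, -1, 1, 0, 0, 0, 0, -1], [121, 130, 123, 126, 147, 162, 140, 0], [(false, 5), (true, 149), (true, 163), (false, 1), (false, 3), (false, 2), (false, 0), (true, 150)]⟩,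
   ⟨[2, 3, 4, 5, 6, 7, 6, 5, 4, 3, 2, 1, 3, 4, 5, 6, 0, 2, 3, 4, 5, 1, 3, 4, 2, 3, 0, 2, 1, 3, 4, 5, 6, 7], 149, [1, 1, -1, 0, 0, 0, 0, -1], [121, 147, 123, 126, 130, 163, 146, 0], [(true, 164), (true, 163), (true, 149), (false, 4), (false, 3), (false, 2), (false, 0), (true, 151)]⟩,
   ⟨[2, 1, 3, 4, 5, 6, 7, 5, 4, 3, 2, 1, 3, 4, 5, 6, 0, 2, 3, 4, 5, 1, 3, 4, 2, 3, 0, 2, 1, 3, 4, 5, 6, 7], 150, [1, -1, -1, 1, 0, 0, -1, 1], [122, 136, 123, 126, 142, 163, 133, 1], [(true, 165), (true, 151), (true, 150), (true, 166), (false, 3), (false, 2), (true, 152), (true, 163)]⟩,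
   ⟨[0, 2, 3, 4, 5, 6, 7, 5, 4, 3, 2, 1, 3, 4, 5, 6, 0, 2, 3, 4, 5, 1, 3, 4, 2, 3, 0, 2, 1, 3, 4, 5, 6, 7], 151, [-1, 1, 0, 0, 0, 0, -1, 1], [122, 169, 123, 126, 130, 135, 145, 1], [(true, 151), (true, 165), (false, 5), (false, 4), (false, 3), (false, 2), (true, 153), (true, 164)]⟩,
   ⟨[0, 2, 1, 3, 4, 5, 6, 7, 4, 3, 2, 1, 3, 4, 5, 6, 0, 2, 3, 4, 5, 1, 3, 4, 2, 3, 0, 2, 1, 3, 4, 5, 6, 7], 152, [-1, -1, 0, 1, 0, -1, 1, 0], [120, 164, 124, 126, 142, 135, 132, 2], [(true, 152), (true, 153), (false, 5), (true, 167), (false, 3), (true, 154), (true, 165), (false, 0)]⟩,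
   ⟨[3, 2, 1, 3, 4, 5, 6, 7, 4, 3, 2, 1, 3, 4, 5, 6, 0, 2, 3, 4, 5, 1, 3, 4, 2, 3, 0, 2, 1, 3, 4, 5, 6, 7], 152, [1, 0, 0, -1, 1, -1, 1, 0], [120, 135, 124, 131, 141, 164, 127, 2], [(true, 167), (false, 4), (false, 1), (true, 152), (true, 168), (true, 155), (true, 166), (false, 0)]⟩,
   ⟨[3, 0, 2, 1, 3, 4, 5, 6, 7, 3, 2, 1, 3, 4, 5, 6, 0, 2, 3, 4, 5, 1, 3, 4, 2, 3, 0, 2, 1, 3, 4, 5, 6, 7], 154, [-1, 0, 1, -1, 0, 1, 0, 0], [120, 163, 121, 132, 141, 136, 126, 3], [(true, 155), (false, 4), (true, 169), (true, 154), (false, 6), (true, 167), (false, 2), (false, 0)]⟩,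
   ⟨[2, 1, 3, 4, 5, 6, 7, 6, 5, 4, 3, 2, 1, 3, 4, 5, 6, 0, 2, 3, 4, 5, 1, 3, 4, 2, 3, 0, 2, 1, 3, 4, 5, 6, 7], 156, [1, -1, -1, 1, 0, 0, 0, -1], [121, 136, 123, 126, 142, 163, 134, 0], [(true, 170), (true, 157), (true, 156), (true, 171), (false, 3), (false, 2), (false, 0), (true, 158)]⟩,
   ⟨[0, 2, 3, 4, 5, 6, 7, 6, 5, 4, 3, 2, 1, 3, 4, 5, 6, 0, 2, 3, 4, 5, 1, 3, 4, 2, 3, 0, 2, 1, 3, 4, 5, 6, 7], 157, [-1, 1, 0, 0, 0, 0, 0, -1], [121, 169, 123, 126, 130, 135, 146, 0], [(true, 157), (true, 170), (false, 5), (false, 4), (false, 3), (false, 2), (false, 0), (true, 159)]⟩,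
   ⟨[0, 2, 1, 3, 4, 5, 6, 7, 5, 4, 3, 2, 1, 3, 4, 5, 6, 0, 2, 3, 4, 5, 1, 3, 4, 2, 3, 0, 2, 1, 3, 4, 5, 6, 7], 158, [-1, -1, 0, 1, 0, 0, -1, 1], [122, 164, 123, 126, 142, 135, 133, 1], [(true, 158), (true, 159), (false, 5), (true, 172), (false, 3), (false, 2), (true, 160), (true, 170)]⟩,
   ⟨[3, 2, 1, 3, 4, 5, 6, 7, 5, 4, 3, 2, 1, 3, 4, 5, 6, 0, 2, 3, 4, 5, 1, 3, 4, 2, 3, 0, 2, 1, 3, 4, 5, 6, 7], 158, [1, 0, 0, -1, 1, 0, -1, 1], [122, 135, 123, 131, 141, 164, 128, 1], [(true, 172), (false, 4), (false, 1), (true, 158), (true, 173), (false, 2), (true, 161), (true, 171)]⟩,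
   ⟨[3, 0, 2, 1, 3, 4, 5, 6, 7, 4, 3, 2, 1, 3, 4, 5, 6, 0, 2, 3, 4, 5, 1, 3, 4, 2, 3, 0, 2, 1, 3, 4, 5, 6, 7], 160, [-1, 0, 1, -1, 1, -1, 1, 0], [120, 163, 124, 131, 141, 136, 127, 2], [(true, 161), (false, 4), (true, 174), (true, 160), (true, 175), (true, 162), (true, 172), (false, 0)]⟩,
   ⟨[4, 3, 2, 1, 3, 4, 5, 6, 7, 4, 3, 2, 1, 3, 4, 5, 6, 0, 2, 3, 4, 5, 1, 3, 4, 2, 3, 0, 2, 1, 3, 4, 5, 6, 7], 161, [1, 0, 0, 0, -1, 0, 1, 0], [120, 135, 128, 130, 141, 165, 123, 2], [(true, 175), (false, 4), (false, 1), (false, 3), (true, 161), (false, 6), (true, 173), (false, 0)]⟩,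
   ⟨[2, 3, 0, 2, 1, 3, 4, 5, 6, 7, 3, 2, 1, 3, 4, 5, 6, 0, 2, 3, 4, 5, 1, 3, 4, 2, 3, 0, 2, 1, 3, 4, 5, 6, 7], 162, [0, 0, -1, 0, 0, 1, 0, 0], [120, 162, 121, 138, 141, 130, 126, 3], [(false, 1), (false, 4), (true, 162), (false, 5), (false, 6), (true, 174), (false, 2), (false, 0)]⟩,
   ⟨[0, 2, 1, 3, 4, 5, 6, 7, 6, 5, 4, 3, 2, 1, 3, 4, 5, 6, 0, 2, 3, 4, 5, 1, 3, 4, 2, 3, 0, 2, 1, 3, 4, 5, 6, 7], 163, [-1, -1, 0, 1, 0, 0, 0, -1], [121, 164, 123, 126, 142, 135, 134, 0], [(true, 163), (true, 164), (false, 5), (true, 176), (false, 3), (false, 2), (false, 0), (true, 165)]⟩,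
   ⟨[3, 2, 1, 3, 4, 5, 6, 7, 6, 5, 4, 3, 2, 1, 3, 4, 5, 6, 0, 2, 3, 4, 5, 1, 3, 4, 2, 3, 0, 2, 1, 3, 4, 5, 6, 7], 163, [1, 0, 0, -1, 1, 0, 0, -1], [121, 135, 123, 131, 141, 164, 129, 0], [(true, 176), (false, 4), (false, 1), (true, 163), (true, 177), (false, 2), (false, 0), (true, 166)]⟩,
   ⟨[3, 0, 2, 1, 3, 4, 5, 6, 7, 5, 4, 3, 2, 1, 3, 4, 5, 6, 0, 2, 3, 4, 5, 1, 3, 4, 2, 3, 0, 2, 1, 3, 4, 5, 6, 7], 165, [-1, 0, 1, -1, 1, 0, -1, 1], [122, 163, 123, 131, 141, 136, 128, 1], [(true, 166), (false, 4), (true, 178), (true, 165), (true, 179), (false, 2), (true, 167), (true, 176)]⟩,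
   ⟨[4, 3, 2, 1, 3, 4, 5, 6, 7, 5, 4, 3, 2, 1, 3, 4, 5, 6, 0, 2, 3, 4, 5, 1, 3, 4, 2, 3, 0, 2, 1, 3, 4, 5, 6, 7], 166, [1, 0, 0, 0, -1, 1, -1, 1], [122, 135, 127, 130, 141, 165, 124, 1], [(true, 179), (false, 4), (false, 1), (false, 3), (true, 166), (true, 180), (true, 168), (true, 177)]⟩,
   ⟨[2, 3, 0, 2, 1, 3, 4, 5, 6, 7, 4, 3, 2, 1, 3, 4, 5, 6, 0, 2, 3, 4, 5, 1, 3, 4, 2, 3, 0, 2, 1, 3, 4, 5, 6, 7], 167, [0, 0, -1, 0, 1, -1, 1, 0], [120, 162, 124, 137, 141, 130, 127, 2], [(false, 1), (false, 4), (true, 167), (false, 5), (true, 181), (true, 169), (true, 178), (false, 0)]⟩,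
   ⟨[4, 3, 0, 2, 1, 3, 4, 5, 6, 7, 4, 3, 2, 1, 3, 4, 5, 6, 0, 2, 3, 4, 5, 1, 3, 4, 2, 3, 0, 2, 1, 3, 4, 5, 6, 7], 167, [-1, 0, 1, 0, -1, 0, 1, 0], [120, 163, 128, 130, 141, 137, 123, 2], [(true, 168), (false, 4), (true, 181), (false, 3), (true, 167), (false, 6), (true, 179), (false, 0)]⟩,
   ⟨[3, 0, 2, 1, 3, 4, 5, 6, 7, 6, 5, 4, 3, 2, 1, 3, 4, 5, 6, 0, 2, 3, 4, 5, 1, 3, 4, 2, 3, 0, 2, 1, 3, 4, 5, 6, 7], 170, [-1, 0, 1, -1, 1, 0, 0, -1], [121, 163, 123, 131, 141, 136, 129, 0], [(true, 171), (false, 4), (true, 182), (true, 170), (true, 183), (false, 2), (false, 0), (true, 172)]⟩,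
   ⟨[4, 3, 2, 1, 3, 4, 5, 6, 7, 6, 5, 4, 3, 2, 1, 3, 4, 5, 6, 0, 2, 3, 4, 5, 1, 3, 4, 2, 3, 0, 2, 1, 3, 4, 5, 6, 7], 171, [1, 0, 0, 0, -1, 1, 0, -1], [121, 135, 127, 130, 141, 165, 125, 0], [(true, 183), (false, 4), (false, 1), (false, 3), (true, 171), (true, 184), (false, 0), (true, 173)]⟩,
   ⟨[2, 3, 0, 2, 1, 3, 4, 5, 6, 7, 5, 4, 3, 2, 1, 3, 4, 5, 6, 0, 2, 3, 4, 5, 1, 3, 4, 2, 3, 0, 2, 1, 3, 4, 5, 6, 7], 172, [0, 0, -1, 0, 1, 0, -1, 1], [122, 162, 123, 137, 141, 130, 128, 1], [(false, 1), (false, 4), (true, 172), (false, 5), (true, 185), (false, 2), (true, 174), (true, 182)]⟩,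
   ⟨[4, 3, 0, 2, 1, 3, 4, 5, 6, 7, 5, 4, 3, 2, 1, 3, 4, 5, 6, 0, 2, 3, 4, 5, 1, 3, 4, 2, 3, 0, 2, 1, 3, 4, 5, 6, 7], 172, [-1, 0, 1, 0, -1, 1, -1, 1], [122, 163, 127, 130, 141, 137, 124, 1], [(true, 173), (false, 4), (true, 185), (false, 3), (true, 172), (true, 186), (true, 175), (true, 183)]⟩,
   ⟨[5, 4, 3, 2, 1, 3, 4, 5, 6, 7, 5, 4, 3, 2, 1, 3, 4, 5, 6, 0, 2, 3, 4, 5, 1, 3, 4, 2, 3, 0, 2, 1, 3, 4, 5, 6, 7], 173, [1, 0, 0, 0, 0, -1, 0, 1], [125, 135, 126, 130, 141, 166, 121, 1], [(true, 186), (false, 4), (false, 1), (false, 3), (false, 2), (true, 173), (false, 6), (true, 184)]⟩,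
   ⟨[4, 2, 3, 0, 2, 1, 3, 4, 5, 6, 7, 4, 3, 2, 1, 3, 4, 5, 6, 0, 2, 3, 4, 5, 1, 3, 4, 2, 3, 0, 2, 1, 3, 4, 5, 6, 7], 174, [0, 0, -1, 1, -1, 0, 1, 0], [120, 162, 128, 136, 141, 131, 123, 2], [(false, 1), (false, 4), (true, 175), (true, 187), (true, 174), (false, 6), (true, 185), (false, 0)]⟩,
   ⟨[2, 3, 0, 2, 1, 3, 4, 5, 6, 7, 6, 5, 4, 3, 2, 1, 3, 4, 5, 6, 0, 2, 3, 4, 5, 1, 3, 4, 2, 3, 0, 2, 1, 3, 4, 5, 6, 7], 176, [0, 0, -1, 0, 1, 0, 0, -1], [121, 162, 123, 137, 141, 130, 129, 0], [(false, 1), (false, 4), (true, 176), (false, 5), (true, 188), (false, 2), (false, 0), (true, 178)]⟩,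
   ⟨[4, 3, 0, 2, 1, 3, 4, 5, 6, 7, 6, 5, 4, 3, 2, 1, 3, 4, 5, 6, 0, 2, 3, 4, 5, 1, 3, 4, 2, 3, 0, 2, 1, 3, 4, 5, 6, 7], 176, [-1, 0, 1, 0, -1, 1, 0, -1], [121, 163, 127, 130, 141, 137, 125, 0], [(true, 177), (false, 4), (true, 188), (false, 3), (true, 176), (true, 189), (false, 0), (true, 179)]⟩,
   ⟨[5, 4, 3, 2, 1, 3, 4, 5, 6, 7, 6, 5, 4, 3, 2, 1, 3, 4, 5, 6, 0, 2, 3, 4, 5, 1, 3, 4, 2, 3, 0, 2, 1, 3, 4, 5, 6, 7], 177, [1, 0, 0, 0, 0, -1, 1, -1], [124, 135, 126, 130, 141, 166, 122, 0], [(true, 189), (false, 4), (false, 1), (false, 3), (false, 2), (true, 177), (true, 190), (true, 180)]⟩,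
   ⟨[4, 2, 3, 0, 2, 1, 3, 4, 5, 6, 7, 5, 4, 3, 2, 1, 3, 4, 5, 6, 0, 2, 3, 4, 5, 1, 3, 4, 2, 3, 0, 2, 1, 3, 4, 5, 6, 7], 178, [0, 0, -1, 1, -1, 1, -1, 1], [122, 162, 127, 136, 141, 131, 124, 1], [(false, 1), (false, 4), (true, 179), (true, 191), (true, 178), (true, 192), (true, 181), (true, 188)]⟩,
   ⟨[5, 4, 3, 0, 2, 1, 3, 4, 5, 6, 7, 5, 4, 3, 2, 1, 3, 4, 5, 6, 0, 2, 3, 4, 5, 1, 3, 4, 2, 3, 0, 2, 1, 3, 4, 5, 6, 7], 179, [-1, 0, 1, 0, 0, -1, 0, 1], [125, 163, 126, 130, 141, 138, 121, 1], [(true, 180), (false, 4), (true, 192), (false, 3), (false, 2), (true, 179), (false, 6), (true, 189)]⟩,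
   ⟨[3, 4, 2, 3, 0, 2, 1, 3, 4, 5, 6, 7, 4, 3, 2, 1, 3, 4, 5, 6, 0, 2, 3, 4, 5, 1, 3, 4, 2, 3, 0, 2, 1, 3, 4, 5, 6, 7], 181, [0, 1, 0, -1, 0, 0, 1, 0], [120, 162, 133, 135, 142, 126, 123, 2], [(false, 1), (true, 193), (false, 3), (true, 181), (false, 5), (false, 6), (true, 191), (false, 0)]⟩,
   ⟨[4, 2, 3, 0, 2, 1, 3, 4, 5, 6, 7, 6, 5, 4, 3, 2, 1, 3, 4, 5, 6, 0, 2, 3, 4, 5, 1, 3, 4, 2, 3, 0, 2, 1, 3, 4, 5, 6, 7], 182, [0, 0, -1, 1, -1, 1, 0, -1], [121, 162, 127, 136, 141, 131, 125, 0], [(false, 1), (false, 4), (true, 183), (true, 194), (true, 182), (true, 195), (false, 0), (true, 185)]⟩,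
   ⟨[5, 4, 3, 0, 2, 1, 3, 4, 5, 6, 7, 6, 5, 4, 3, 2, 1, 3, 4, 5, 6, 0, 2, 3, 4, 5, 1, 3, 4, 2, 3, 0, 2, 1, 3, 4, 5, 6, 7], 183, [-1, 0, 1, 0, 0, -1, 1, -1], [124, 163, 126, 130, 141, 138, 122, 0], [(true, 184), (false, 4), (true, 195), (false, 3), (false, 2), (true, 183), (true, 196), (true, 186)]⟩,
   ⟨[6, 5, 4, 3, 2, 1, 3, 4, 5, 6, 7, 6, 5, 4, 3, 2, 1, 3, 4, 5, 6, 0, 2, 3, 4, 5, 1, 3, 4, 2, 3, 0, 2, 1, 3, 4, 5, 6, 7], 184, [1, 0, 0, 0, 0, 0, -1, 0], [123, 135, 126, 130, 141, 167, 120, 0], [(true, 196), (false, 4), (false, 1), (false, 3), (false, 2), (false, 0), (true, 184), (false, 6)]⟩,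
   ⟨[3, 4, 2, 3, 0, 2, 1, 3, 4, 5, 6, 7, 5, 4, 3, 2, 1, 3, 4, 5, 6, 0, 2, 3, 4, 5, 1, 3, 4, 2, 3, 0, 2, 1, 3, 4, 5, 6, 7], 185, [0, 1, 0, -1, 0, 1, -1, 1], [122, 162, 132, 135, 142, 126, 124, 1], [(false, 1), (true, 197), (false, 3), (true, 185), (false, 5), (true, 198), (true, 187), (true, 194)]⟩,
   ⟨[5, 4, 2, 3, 0, 2, 1, 3, 4, 5, 6, 7, 5, 4, 3, 2, 1, 3, 4, 5, 6, 0, 2, 3, 4, 5, 1, 3, 4, 2, 3, 0, 2, 1, 3, 4, 5, 6, 7], 185, [0, 0, -1, 1, 0, -1, 0, 1], [125, 162, 126, 136, 141, 132, 121, 1], [(false, 1), (false, 4), (true, 186), (true, 198), (false, 2), (true, 185), (false, 6), (true, 195)]⟩,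
   ⟨[1, 3, 4, 2, 3, 0, 2, 1, 3, 4, 5, 6, 7, 4, 3, 2, 1, 3, 4, 5, 6, 0, 2, 3, 4, 5, 1, 3, 4, 2, 3, 0, 2, 1, 3, 4, 5, 6, 7], 187, [0, -1, 0, 0, 0, 0, 1, 0], [120, 162, 145, 135, 130, 126, 123, 2], [(false, 1), (true, 187), (false, 3), (false, 4), (false, 5), (false, 6), (true, 197), (false, 0)]⟩,
   ⟨[3, 4, 2, 3, 0, 2, 1, 3, 4, 5, 6, 7, 6, 5, 4, 3, 2, 1, 3, 4, 5, 6, 0, 2, 3, 4, 5, 1, 3, 4, 2, 3, 0, 2, 1, 3, 4, 5, 6, 7], 188, [0, 1, 0, -1, 0, 1, 0, -1], [121, 162, 132, 135, 142, 126, 125, 0], [(false, 1), (true, 199), (false, 3), (true, 188), (false, 5), (true, 200), (false, 0), (true, 191)]⟩,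
   ⟨[5, 4, 2, 3, 0, 2, 1, 3, 4, 5, 6, 7, 6, 5, 4, 3, 2, 1, 3, 4, 5, 6, 0, 2, 3, 4, 5, 1, 3, 4, 2, 3, 0, 2, 1, 3, 4, 5, 6, 7], 188, [0, 0, -1, 1, 0, -1, 1, -1], [124, 162, 126, 136, 141, 132, 122, 0], [(false, 1), (false, 4), (true, 189), (true, 200), (false, 2), (true, 188), (true, 201), (true, 192)]⟩,
   ⟨[6, 5, 4, 3, 0, 2, 1, 3, 4, 5, 6, 7, 6, 5, 4, 3, 2, 1, 3, 4, 5, 6, 0, 2, 3, 4, 5, 1, 3, 4, 2, 3, 0, 2, 1, 3, 4, 5, 6, 7], 189, [-1, 0, 1, 0, 0, 0, -1, 0], [123, 163, 126, 130, 141, 139, 120, 0], [(true, 190), (false, 4), (true, 201), (false, 3), (false, 2), (false, 0), (true, 189), (false, 6)]⟩,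
   ⟨[1, 3, 4, 2, 3, 0, 2, 1, 3, 4, 5, 6, 7, 5, 4, 3, 2, 1, 3, 4, 5, 6, 0, 2, 3, 4, 5, 1, 3, 4, 2, 3, 0, 2, 1, 3, 4, 5, 6, 7], 191, [0, -1, 0, 0, 0, 1, -1, 1], [122, 162, 144, 135, 130, 126, 124, 1], [(false, 1), (true, 191), (false, 3), (false, 4), (false, 5), (true, 202), (true, 193), (true, 199)]⟩,
   ⟨[5, 3, 4, 2, 3, 0, 2, 1, 3, 4, 5, 6, 7, 5, 4, 3, 2, 1, 3, 4, 5, 6, 0, 2, 3, 4, 5, 1, 3, 4, 2, 3, 0, 2, 1, 3, 4, 5, 6, 7], 191, [0, 1, 0, -1, 1, -1, 0, 1], [125, 162, 131, 135, 142, 127, 121, 1], [(false, 1), (true, 202), (false, 3), (true, 192), (true, 203), (true, 191), (false, 6), (true, 200)]⟩,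
   ⟨[1, 3, 4, 2, 3, 0, 2, 1, 3, 4, 5, 6, 7, 6, 5, 4, 3, 2, 1, 3, 4, 5, 6, 0, 2, 3, 4, 5, 1, 3, 4, 2, 3, 0, 2, 1, 3, 4, 5, 6, 7], 194, [0, -1, 0, 0, 0, 1, 0, -1], [121, 162, 144, 135, 130, 126, 125, 0], [(false, 1), (true, 194), (false, 3), (false, 4), (false, 5), (true, 204), (false, 0), (true, 197)]⟩,
   ⟨[5, 3, 4, 2, 3, 0, 2, 1, 3, 4, 5, 6, 7, 6, 5, 4, 3, 2, 1, 3, 4, 5, 6, 0, 2, 3, 4, 5, 1, 3, 4, 2, 3, 0, 2, 1, 3, 4, 5, 6, 7], 194, [0, 1, 0, -1, 1, -1, 1, -1], [124, 162, 131, 135, 142, 127, 122, 0], [(false, 1), (true, 204), (false, 3), (true, 195), (true, 205), (true, 194), (true, 206), (true, 198)]⟩,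
   ⟨[6, 5, 4, 2, 3, 0, 2, 1, 3, 4, 5, 6, 7, 6, 5, 4, 3, 2, 1, 3, 4, 5, 6, 0, 2, 3, 4, 5, 1, 3, 4, 2, 3, 0, 2, 1, 3, 4, 5, 6, 7], 195, [0, 0, -1, 1, 0, 0, -1, 0], [123, 162, 126, 136, 141, 133, 120, 0], [(false, 1), (false, 4), (true, 196), (true, 206), (false, 2), (false, 0), (true, 195), (false, 6)]⟩,
   ⟨[5, 1, 3, 4, 2, 3, 0, 2, 1, 3, 4, 5, 6, 7, 5, 4, 3, 2, 1, 3, 4, 5, 6, 0, 2, 3, 4, 5, 1, 3, 4, 2, 3, 0, 2, 1, 3, 4, 5, 6, 7], 197, [0, -1, 0, 0, 1, -1, 0, 1], [125, 162, 143, 135, 130, 127, 121, 1], [(false, 1), (true, 198), (false, 3), (false, 4), (true, 207), (true, 197), (false, 6), (true, 204)]⟩,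
   ⟨[4, 5, 3, 4, 2, 3, 0, 2, 1, 3, 4, 5, 6, 7, 5, 4, 3, 2, 1, 3, 4, 5, 6, 0, 2, 3, 4, 5, 1, 3, 4, 2, 3, 0, 2, 1, 3, 4, 5, 6, 7], 198, [0, 1, 0, 0, -1, 0, 0, 1], [129, 162, 130, 135, 143, 123, 121, 1], [(false, 1), (true, 207), (false, 3), (false, 2), (true, 198), (false, 5), (false, 6), (true, 205)]⟩,
   ⟨[5, 1, 3, 4, 2, 3, 0, 2, 1, 3, 4, 5, 6, 7, 6, 5, 4, 3, 2, 1, 3, 4, 5, 6, 0, 2, 3, 4, 5, 1, 3, 4, 2, 3, 0, 2, 1, 3, 4, 5, 6, 7], 199, [0, -1, 0, 0, 1, -1, 1, -1], [124, 162, 143, 135, 130, 127, 122, 0], [(false, 1), (true, 200), (false, 3), (false, 4), (true, 208), (true, 199), (true, 209), (true, 202)]⟩,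
   ⟨[4, 5, 3, 4, 2, 3, 0, 2, 1, 3, 4, 5, 6, 7, 6, 5, 4, 3, 2, 1, 3, 4, 5, 6, 0, 2, 3, 4, 5, 1, 3, 4, 2, 3, 0, 2, 1, 3, 4, 5, 6, 7], 200, [0, 1, 0, 0, -1, 0, 1, -1], [128, 162, 130, 135, 143, 123, 122, 0], [(false, 1), (true, 208), (false, 3), (false, 2), (true, 200), (false, 5), (true, 210), (true, 203)]⟩,
   ⟨[6, 5, 3, 4, 2, 3, 0, 2, 1, 3, 4, 5, 6, 7, 6, 5, 4, 3, 2, 1, 3, 4, 5, 6, 0, 2, 3, 4, 5, 1, 3, 4, 2, 3, 0, 2, 1, 3, 4, 5, 6, 7], 200, [0, 1, 0, -1, 1, 0, -1, 0], [123, 162, 131, 135, 142, 128, 120, 0], [(false, 1), (true, 209), (false, 3), (true, 201), (true, 210), (false, 0), (true, 200), (false, 6)]⟩,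
   ⟨[4, 5, 1, 3, 4, 2, 3, 0, 2, 1, 3, 4, 5, 6, 7, 5, 4, 3, 2, 1, 3, 4, 5, 6, 0, 2, 3, 4, 5, 1, 3, 4, 2, 3, 0, 2, 1, 3, 4, 5, 6, 7], 202, [0, -1, 0, 1, -1, 0, 0, 1], [129, 162, 142, 135, 131, 123, 121, 1], [(false, 1), (true, 203), (false, 3), (true, 211), (true, 202), (false, 5), (false, 6), (true, 208)]⟩,
   ⟨[4, 5, 1, 3, 4, 2, 3, 0, 2, 1, 3, 4, 5, 6, 7, 6, 5, 4, 3, 2, 1, 3, 4, 5, 6, 0, 2, 3, 4, 5, 1, 3, 4, 2, 3, 0, 2, 1, 3, 4, 5, 6, 7], 204, [0, -1, 0, 1, -1, 0, 1, -1], [128, 162, 142, 135, 131, 123, 122, 0], [(false, 1), (true, 205), (false, 3), (true, 212), (true, 204), (false, 5), (true, 213), (true, 207)]⟩,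
   ⟨[6, 5, 1, 3, 4, 2, 3, 0, 2, 1, 3, 4, 5, 6, 7, 6, 5, 4, 3, 2, 1, 3, 4, 5, 6, 0, 2, 3, 4, 5, 1, 3, 4, 2, 3, 0, 2, 1, 3, 4, 5, 6, 7], 204, [0, -1, 0, 0, 1, 0, -1, 0], [123, 162, 143, 135, 130, 128, 120, 0], [(false, 1), (true, 206), (false, 3), (false, 4), (true, 213), (false, 0), (true, 204), (false, 6)]⟩,
   ⟨[6, 4, 5, 3, 4, 2, 3, 0, 2, 1, 3, 4, 5, 6, 7, 6, 5, 4, 3, 2, 1, 3, 4, 5, 6, 0, 2, 3, 4, 5, 1, 3, 4, 2, 3, 0, 2, 1, 3, 4, 5, 6, 7], 205, [0, 1, 0, 0, -1, 1, -1, 0], [127, 162, 130, 135, 143, 124, 120, 0], [(false, 1), (true, 213), (false, 3), (false, 2), (true, 206), (true, 214), (true, 205), (false, 6)]⟩,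
   ⟨[3, 4, 5, 1, 3, 4, 2, 3, 0, 2, 1, 3, 4, 5, 6, 7, 5, 4, 3, 2, 1, 3, 4, 5, 6, 0, 2, 3, 4, 5, 1, 3, 4, 2, 3, 0, 2, 1, 3, 4, 5, 6, 7], 207, [0, 0, 1, -1, 0, 0, 0, 1], [134, 162, 141, 136, 126, 123, 121, 1], [(false, 1), (false, 2), (true, 215), (true, 207), (false, 4), (false, 5), (false, 6), (true, 212)]⟩,
   ⟨[3, 4, 5, 1, 3, 4, 2, 3, 0, 2, 1, 3, 4, 5, 6, 7, 6, 5, 4, 3, 2, 1, 3, 4, 5, 6, 0, 2, 3, 4, 5, 1, 3, 4, 2, 3, 0, 2, 1, 3, 4, 5, 6, 7], 208, [0, 0, 1, -1, 0, 0, 1, -1], [133, 162, 141, 136, 126, 123, 122, 0], [(false, 1), (false, 2), (true, 216), (true, 208), (false, 4), (false, 5), (true, 217), (true, 211)]⟩,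
   ⟨[6, 4, 5, 1, 3, 4, 2, 3, 0, 2, 1, 3, 4, 5, 6, 7, 6, 5, 4, 3, 2, 1, 3, 4, 5, 6, 0, 2, 3, 4, 5, 1, 3, 4, 2, 3, 0, 2, 1, 3, 4, 5, 6, 7], 208, [0, -1, 0, 1, -1, 1, -1, 0], [127, 162, 142, 135, 131, 124, 120, 0], [(false, 1), (true, 210), (false, 3), (true, 217), (true, 209), (true, 218), (true, 208), (false, 6)]⟩,
   ⟨[5, 6, 4, 5, 3, 4, 2, 3, 0, 2, 1, 3, 4, 5, 6, 7, 6, 5, 4, 3, 2, 1, 3, 4, 5, 6, 0, 2, 3, 4, 5, 1, 3, 4, 2, 3, 0, 2, 1, 3, 4, 5, 6, 7], 210, [0, 1, 0, 0, 0, -1, 0, 0], [126, 162, 130, 135, 144, 121, 120, 0], [(false, 1), (true, 218), (false, 3), (false, 2), (false, 0), (true, 210), (false, 5), (false, 6)]⟩,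
   ⟨[2, 3, 4, 5, 1, 3, 4, 2, 3, 0, 2, 1, 3, 4, 5, 6, 7, 5, 4, 3, 2, 1, 3, 4, 5, 6, 0, 2, 3, 4, 5, 1, 3, 4, 2, 3, 0, 2, 1, 3, 4, 5, 6, 7], 211, [1, 0, -1, 0, 0, 0, 0, 1], [140, 163, 141, 130, 126, 123, 121, 1], [(true, 219), (false, 2), (true, 211), (false, 3), (false, 4), (false, 5), (false, 6), (true, 216)]⟩,
   ⟨[2, 3, 4, 5, 1, 3, 4, 2, 3, 0, 2, 1, 3, 4, 5, 6, 7, 6, 5, 4, 3, 2, 1, 3, 4, 5, 6, 0, 2, 3, 4, 5, 1, 3, 4, 2, 3, 0, 2, 1, 3, 4, 5, 6, 7], 212, [1, 0, -1, 0, 0, 0, 1, -1], [139, 163, 141, 130, 126, 123, 122, 0], [(true, 220), (false, 2), (true, 212), (false, 3), (false, 4), (false, 5), (true, 221), (true, 215)]⟩,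
   ⟨[6, 3, 4, 5, 1, 3, 4, 2, 3, 0, 2, 1, 3, 4, 5, 6, 7, 6, 5, 4, 3, 2, 1, 3, 4, 5, 6, 0, 2, 3, 4, 5, 1, 3, 4, 2, 3, 0, 2, 1, 3, 4, 5, 6, 7], 212, [0, 0, 1, -1, 0, 1, -1, 0], [132, 162, 141, 136, 126, 124, 120, 0], [(false, 1), (false, 2), (true, 221), (true, 213), (false, 4), (true, 222), (true, 212), (false, 6)]⟩,
   ⟨[5, 6, 4, 5, 1, 3, 4, 2, 3, 0, 2, 1, 3, 4, 5, 6, 7, 6, 5, 4, 3, 2, 1, 3, 4, 5, 6, 0, 2, 3, 4, 5, 1, 3, 4, 2, 3, 0, 2, 1, 3, 4, 5, 6, 7], 213, [0, -1, 0, 1, 0, -1, 0, 0], [126, 162, 142, 135, 132, 121, 120, 0], [(false, 1), (true, 214), (false, 3), (true, 222), (false, 0), (true, 213), (false, 5), (false, 6)]⟩,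
   ⟨[0, 2, 3, 4, 5, 1, 3, 4, 2, 3, 0, 2, 1, 3, 4, 5, 6, 7, 5, 4, 3, 2, 1, 3, 4, 5, 6, 0, 2, 3, 4, 5, 1, 3, 4, 2, 3, 0, 2, 1, 3, 4, 5, 6, 7], 215, [-1, 0, 0, 0, 0, 0, 0, 1], [168, 135, 141, 130, 126, 123, 121, 1], [(true, 215), (false, 2), (false, 1), (false, 3), (false, 4), (false, 5), (false, 6), (true, 220)]⟩,
   ⟨[0, 2, 3, 4, 5, 1, 3, 4, 2, 3, 0, 2, 1, 3, 4, 5, 6, 7, 6, 5, 4, 3, 2, 1, 3, 4, 5, 6, 0, 2, 3, 4, 5, 1, 3, 4, 2, 3, 0, 2, 1, 3, 4, 5, 6, 7], 216, [-1, 0, 0, 0, 0, 0, 1, -1], [167, 135, 141, 130, 126, 123, 122, 0], [(true, 216), (false, 2), (false, 1), (false, 3), (false, 4), (false, 5), (true, 223), (true, 219)]⟩,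
   ⟨[6, 2, 3, 4, 5, 1, 3, 4, 2, 3, 0, 2, 1, 3, 4, 5, 6, 7, 6, 5, 4, 3, 2, 1, 3, 4, 5, 6, 0, 2, 3, 4, 5, 1, 3, 4, 2, 3, 0, 2, 1, 3, 4, 5, 6, 7], 216, [1, 0, -1, 0, 0, 1, -1, 0], [138, 163, 141, 130, 126, 124, 120, 0], [(true, 223), (false, 2), (true, 217), (false, 3), (false, 4), (true, 224), (true, 216), (false, 6)]⟩,
   ⟨[5, 6, 3, 4, 5, 1, 3, 4, 2, 3, 0, 2, 1, 3, 4, 5, 6, 7, 6, 5, 4, 3, 2, 1, 3, 4, 5, 6, 0, 2, 3, 4, 5, 1, 3, 4, 2, 3, 0, 2, 1, 3, 4, 5, 6, 7], 217, [0, 0, 1, -1, 1, -1, 0, 0], [131, 162, 141, 136, 127, 121, 120, 0], [(false, 1), (false, 2), (true, 224), (true, 218), (true, 225), (true, 217), (false, 5), (false, 6)]⟩,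
   ⟨[6, 0, 2, 3, 4, 5, 1, 3, 4, 2, 3, 0, 2, 1, 3, 4, 5, 6, 7, 6, 5, 4, 3, 2, 1, 3, 4, 5, 6, 0, 2, 3, 4, 5, 1, 3, 4, 2, 3, 0, 2, 1, 3, 4, 5, 6, 7], 220, [-1, 0, 0, 0, 0, 1, -1, 0], [166, 135, 141, 130, 126, 124, 120, 0], [(true, 221), (false, 2), (false, 1), (false, 3), (false, 4), (true, 226), (true, 220), (false, 6)]⟩,
   ⟨[5, 6, 2, 3, 4, 5, 1, 3, 4, 2, 3, 0, 2, 1, 3, 4, 5, 6, 7, 6, 5, 4, 3, 2, 1, 3, 4, 5, 6, 0, 2, 3, 4, 5, 1, 3, 4, 2, 3, 0, 2, 1, 3, 4, 5, 6, 7], 221, [1, 0, -1, 0, 1, -1, 0, 0], [137, 163, 141, 130, 127, 121, 120, 0], [(true, 226), (false, 2), (true, 222), (false, 3), (true, 227), (true, 221), (false, 5), (false, 6)]⟩,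
   ⟨[4, 5, 6, 3, 4, 5, 1, 3, 4, 2, 3, 0, 2, 1, 3, 4, 5, 6, 7, 6, 5, 4, 3, 2, 1, 3, 4, 5, 6, 0, 2, 3, 4, 5, 1, 3, 4, 2, 3, 0, 2, 1, 3, 4, 5, 6, 7], 222, [0, 0, 1, 0, -1, 0, 0, 0], [130, 162, 141, 137, 123, 121, 120, 0], [(false, 1), (false, 2), (true, 227), (false, 0), (true, 222), (false, 4), (false, 5), (false, 6)]⟩,
   ⟨[5, 6, 0, 2, 3, 4, 5, 1, 3, 4, 2, 3, 0, 2, 1, 3, 4, 5, 6, 7, 6, 5, 4, 3, 2, 1, 3, 4, 5, 6, 0, 2, 3, 4, 5, 1, 3, 4, 2, 3, 0, 2, 1, 3, 4, 5, 6, 7], 223, [-1, 0, 0, 0, 1, -1, 0, 0], [165, 135, 141, 130, 127, 121, 120, 0], [(true, 224), (false, 2), (false, 1), (false, 3), (true, 228), (true, 223), (false, 5), (false, 6)]⟩,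
   ⟨[4, 5, 6, 2, 3, 4, 5, 1, 3, 4, 2, 3, 0, 2, 1, 3, 4, 5, 6, 7, 6, 5, 4, 3, 2, 1, 3, 4, 5, 6, 0, 2, 3, 4, 5, 1, 3, 4, 2, 3, 0, 2, 1, 3, 4, 5, 6, 7], 224, [1, 0, -1, 1, -1, 0, 0, 0], [136, 163, 141, 131, 123, 121, 120, 0], [(true, 228), (false, 2), (true, 225), (true, 229), (true, 224), (false, 4), (false, 5), (false, 6)]⟩,
   ⟨[4, 5, 6, 0, 2, 3, 4, 5, 1, 3, 4, 2, 3, 0, 2, 1, 3, 4, 5, 6, 7, 6, 5, 4, 3, 2, 1, 3, 4, 5, 6, 0, 2, 3, 4, 5, 1, 3, 4, 2, 3, 0, 2, 1, 3, 4, 5, 6, 7], 226, [-1, 0, 0, 1, -1, 0, 0, 0], [164, 135, 141, 131, 123, 121, 120, 0], [(true, 227), (false, 2), (false, 1), (true, 230), (true, 226), (false, 4), (false, 5), (false, 6)]⟩,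
   ⟨[3, 4, 5, 6, 2, 3, 4, 5, 1, 3, 4, 2, 3, 0, 2, 1, 3, 4, 5, 6, 7, 6, 5, 4, 3, 2, 1, 3, 4, 5, 6, 0, 2, 3, 4, 5, 1, 3, 4, 2, 3, 0, 2, 1, 3, 4, 5, 6, 7], 227, [1, 1, 0, -1, 0, 0, 0, 0], [135, 164, 142, 126, 123, 121, 120, 0], [(true, 230), (true, 231), (false, 0), (true, 227), (false, 3), (false, 4), (false, 5), (false, 6)]⟩,
   ⟨[3, 4, 5, 6, 0, 2, 3, 4, 5, 1, 3, 4, 2, 3, 0, 2, 1, 3, 4, 5, 6, 7, 6, 5, 4, 3, 2, 1, 3, 4, 5, 6, 0, 2, 3, 4, 5, 1, 3, 4, 2, 3, 0, 2, 1, 3, 4, 5, 6, 7], 228, [-1, 1, 1, -1, 0, 0, 0, 0], [163, 136, 142, 126, 123, 121, 120, 0], [(true, 229), (true, 232), (true, 233), (true, 228), (false, 3), (false, 4), (false, 5), (false, 6)]⟩,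
   ⟨[1, 3, 4, 5, 6, 2, 3, 4, 5, 1, 3, 4, 2, 3, 0, 2, 1, 3, 4, 5, 6, 7, 6, 5, 4, 3, 2, 1, 3, 4, 5, 6, 0, 2, 3, 4, 5, 1, 3, 4, 2, 3, 0, 2, 1, 3, 4, 5, 6, 7], 229, [1, -1, 0, 0, 0, 0, 0, 0], [135, 169, 130, 126, 123, 121, 120, 0], [(true, 232), (true, 229), (false, 0), (false, 2), (false, 3), (false, 4), (false, 5), (false, 6)]⟩,
   ⟨[1, 3, 4, 5, 6, 0, 2, 3, 4, 5, 1, 3, 4, 2, 3, 0, 2, 1, 3, 4, 5, 6, 7, 6, 5, 4, 3, 2, 1, 3, 4, 5, 6, 0, 2, 3, 4, 5, 1, 3, 4, 2, 3, 0, 2, 1, 3, 4, 5, 6, 7], 230, [-1, -1, 1, 0, 0, 0, 0, 0], [163, 147, 130, 126, 123, 121, 120, 0], [(true, 231), (true, 230), (true, 234), (false, 2), (false, 3), (false, 4), (false, 5), (false, 6)]⟩,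
   ⟨[2, 3, 4, 5, 6, 0, 2, 3, 4, 5, 1, 3, 4, 2, 3, 0, 2, 1, 3, 4, 5, 6, 7, 6, 5, 4, 3, 2, 1, 3, 4, 5, 6, 0, 2, 3, 4, 5, 1, 3, 4, 2, 3, 0, 2, 1, 3, 4, 5, 6, 7], 230, [0, 1, -1, 0, 0, 0, 0, 0], [162, 130, 147, 126, 123, 121, 120, 0], [(false, 0), (true, 234), (true, 230), (false, 1), (false, 3), (false, 4), (false, 5), (false, 6)]⟩,
   ⟨[2, 1, 3, 4, 5, 6, 0, 2, 3, 4, 5, 1, 3, 4, 2, 3, 0, 2, 1, 3, 4, 5, 6, 7, 6, 5, 4, 3, 2, 1, 3, 4, 5, 6, 0, 2, 3, 4, 5, 1, 3, 4, 2, 3, 0, 2, 1, 3, 4, 5, 6, 7], 232, [0, -1, -1, 1, 0, 0, 0, 0], [162, 142, 136, 126, 123, 121, 120, 0], [(false, 0), (true, 233), (true, 232), (true, 235), (false, 3), (false, 4), (false, 5), (false, 6)]⟩,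
   ⟨[3, 2, 1, 3, 4, 5, 6, 0, 2, 3, 4, 5, 1, 3, 4, 2, 3, 0, 2, 1, 3, 4, 5, 6, 7, 6, 5, 4, 3, 2, 1, 3, 4, 5, 6, 0, 2, 3, 4, 5, 1, 3, 4, 2, 3, 0, 2, 1, 3, 4, 5, 6, 7], 234, [0, 0, 0, -1, 1, 0, 0, 0], [162, 141, 135, 131, 123, 121, 120, 0], [(false, 0), (false, 1), (false, 2), (true, 234), (true, 236), (false, 4), (false, 5), (false, 6)]⟩,
   ⟨[4, 3, 2, 1, 3, 4, 5, 6, 0, 2, 3, 4, 5, 1, 3, 4, 2, 3, 0, 2, 1, 3, 4, 5, 6, 7, 6, 5, 4, 3, 2, 1, 3, 4, 5, 6, 0, 2, 3, 4, 5, 1, 3, 4, 2, 3, 0, 2, 1, 3, 4, 5, 6, 7], 235, [0, 0, 0, 0, -1, 1, 0, 0], [162, 141, 135, 130, 127, 121, 120, 0], [(false, 0), (false, 1), (false, 2), (false, 3), (true, 235), (true, 237), (false, 5), (false, 6)]⟩,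
   ⟨[5, 4, 3, 2, 1, 3, 4, 5, 6, 0, 2, 3, 4, 5, 1, 3, 4, 2, 3, 0, 2, 1, 3, 4, 5, 6, 7, 6, 5, 4, 3, 2, 1, 3, 4, 5, 6, 0, 2, 3, 4, 5, 1, 3, 4, 2, 3, 0, 2, 1, 3, 4, 5, 6, 7], 236, [0, 0, 0, 0, 0, -1, 1, 0], [162, 141, 135, 130, 126, 124, 120, 0], [(false, 0), (false, 1), (false, 2), (false, 3), (false, 4), (true, 236), (true, 238), (false, 6)]⟩,
   ⟨[6, 5, 4, 3, 2, 1, 3, 4, 5, 6, 0, 2, 3, 4, 5, 1, 3, 4, 2, 3, 0, 2, 1, 3, 4, 5, 6, 7, 6, 5, 4, 3, 2, 1, 3, 4, 5, 6, 0, 2, 3, 4, 5, 1, 3, 4, 2, 3, 0, 2, 1, 3, 4, 5, 6, 7], 237, [0, 0, 0, 0, 0, 0, -1, 1], [162, 141, 135, 130, 126, 123, 122, 0], [(false, 0), (false, 1), (false, 2), (false, 3), (false, 4), (false, 5), (true, 237), (true, 239)]⟩,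
   ⟨[7, 6, 5, 4, 3, 2, 1, 3, 4, 5, 6, 0, 2, 3, 4, 5, 1, 3, 4, 2, 3, 0, 2, 1, 3, 4, 5, 6, 7, 6, 5, 4, 3, 2, 1, 3, 4, 5, 6, 0, 2, 3, 4, 5, 1, 3, 4, 2, 3, 0, 2, 1, 3, 4, 5, 6, 7], 238, [0, 0, 0, 0, 0, 0, 0, -1], [162, 141, 135, 130, 126, 123, 121, 1], [(false, 0), (false, 1), (false, 2), (false, 3), (false, 4), (false, 5), (false, 6), (true, 238)]⟩]

/-- table -/
def weylE8 : List (List Rep) :=
  [weylE8L0, weylE8L1, weylE8L2, weylE8L3, weylE8L4, weylE8L5, weylE8L6, weylE8L7]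

end CfsgLib.Chev
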